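import Mathlib.CategoryTheory.Subobject.Lattice
import Mathlib.CategoryTheory.Subobject.Limits
import Mathlib.CategoryTheory.Abelian.Refinements
import Mathlib.CategoryTheory.Abelian.Basic
import Mathlib.CategoryTheory.Subobject.NoetherianObject
import Mathlib.CategoryTheory.Subobject.ArtinianObject
import Mathlib.CategoryTheory.Simple
import Mathlib.Order.JordanHolder
import Mathlib.Order.ModularLattice
import Mathlib.Order.OrderIsoNat

set_option autoImplicit false
universe v u
open CategoryTheory CategoryTheory.Limits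

namespace Groth.Agent.Lib.Helper89.SubobjectModular

variable {A : Type u} [Category.{v} A] [Abelian A] {X : A}

/-- Factoring through a subobject can be checked after precomposing with an epimorphism. -/
lemma factors_of_epi_comp {T' T : A} (π : T' ⟶ T) [Epi π] (a : T ⟶ X) (P : Subobject X)
    (h : P.Factors (π ≫ a)) : P.Factors a := by
  have h0 : a ≫ cokernel.π P.arrow = 0 := by
    rw [← cancel_epi π, comp_zero, ← Category.assoc, ← P.factorThru_arrow _ h, Category.assoc,
      cokernel.condition, comp_zero]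
  rw [← Abelian.monoLift_comp P.arrow a h0]
  exact P.factors_comp_arrow _

lemma sup_eq_imageSubobject (x y : Subobject X) :
    x ⊔ y = imageSubobject (biprod.desc x.arrow y.arrow) := by
  apply le_antisymm
  · apply sup_le
    · apply Subobject.le_of_factors
      have := imageSubobject_factors_comp_self (biprod.desc x.arrow y.arrow) biprod.inl
      simpa using this
    · apply Subobject.le_of_factors
      have := imageSubobject_factors_comp_self (biprod.desc x.arrow y.arrow) biprod.inr
      simpa using this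
  · refine imageSubobject_le _ (biprod.desc (Subobject.ofLE x (x ⊔ y) le_sup_left)
      (Subobject.ofLE y (x ⊔ y) le_sup_right)) ?_
    apply biprod.hom_ext' <;> simp

/-- An "element" of `x ⊔ y` is locally a sum of an element of `x` and an element of `y`. -/
lemma exists_of_factors_sup (x y : Subobject X) {T : A} (a : T ⟶ X) (h : (x ⊔ y).Factors a) :
    ∃ (T' : A) (π : T' ⟶ T) (_ : Epi π) (a₁ : T' ⟶ (x : A)) (a₂ : T' ⟶ (y : A)),
      π ≫ a = a₁ ≫ x.arrow + a₂ ≫ y.arrow := by
  rw [sup_eq_imageSubobject] at h
  set f := biprod.desc x.arrow y.arrow with hf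
  obtain ⟨T', π, hπ, c, hc⟩ := surjective_up_to_refinements_of_epi
    (factorThruImageSubobject f) ((imageSubobject f).factorThru a h)
  refine ⟨T', π, hπ, c ≫ biprod.fst, c ≫ biprod.snd, ?_⟩
  have h1 : π ≫ a = c ≫ f := by
    rw [← (imageSubobject f).factorThru_arrow a h, ← Category.assoc, hc, Category.assoc,
      imageSubobject_arrow_comp]
  rw [h1, hf]
  have : c = c ≫ biprod.fst ≫ biprod.inl + c ≫ biprod.snd ≫ biprod.inr := by
    rw [← Preadditive.comp_add, biprod.total, Category.comp_id]
  conv_lhs => rw [this]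
  simp

lemma factors_sup_of_add (x y : Subobject X) {T : A} (a₁ a₂ : T ⟶ X) (h₁ : x.Factors a₁)
    (h₂ : y.Factors a₂) : (x ⊔ y).Factors (a₁ + a₂) :=
  Subobject.factors_add _ _ (Subobject.sup_factors_of_factors_left h₁)
    (Subobject.sup_factors_of_factors_right h₂)

instance : IsModularLattice (Subobject X) where
  sup_inf_le_assoc_of_le {x} y {z} hxz := by
    apply Subobject.le_of_factors
    have h := Subobject.factors_self ((x ⊔ y) ⊓ z)
    rw [Subobject.inf_factors] at h
    obtain ⟨h1, h2⟩ := h
    obtain ⟨T', π, hπ, a₁, a₂, ha⟩ := exists_of_factors_sup x y _ h1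
    apply factors_of_epi_comp π
    rw [ha]
    apply factors_sup_of_add
    · exact x.factors_comp_arrow a₁
    · rw [Subobject.inf_factors]
      refine ⟨y.factors_comp_arrow a₂, ?_⟩
      have : a₂ ≫ y.arrow = π ≫ ((x ⊔ y) ⊓ z).arrow - a₁ ≫ x.arrow := by
        rw [ha]; abel
      rw [this, sub_eq_add_neg]
      apply Subobject.factors_add
      · exact Subobject.factors_of_factors_right _ h2
      · rw [← Preadditive.neg_comp]
        exact Subobject.factors_of_le _ hxz (x.factors_comp_arrow _)

section Simple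

variable {x y : Subobject X} (h : x ≤ y)

/-- Lifting through `ofLE`: the mono `ofLE x y h` is the kernel of its cokernel. -/
lemma exists_lift_ofLE {T : A} (b : T ⟶ (y : A))
    (hb : b ≫ cokernel.π (Subobject.ofLE x y h) = 0) :
    ∃ d : T ⟶ (x : A), d ≫ Subobject.ofLE x y h = b :=
  ⟨Abelian.monoLift _ b hb, Abelian.monoLift_comp _ b hb⟩

lemma not_isZero_cokernel_ofLE_of_lt (hlt : x < y) :
    ¬ IsZero (cokernel (Subobject.ofLE x y hlt.le)) := by
  intro hz
  have h0 : cokernel.π (Subobject.ofLE x y hlt.le) = 0 := hz.eq_of_tgt _ _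
  obtain ⟨d, hd⟩ := exists_lift_ofLE hlt.le (𝟙 _) (by rw [h0, comp_zero])
  have : y ≤ x := by
    apply Subobject.le_of_comm d
    rw [← Subobject.ofLE_arrow hlt.le, ← Category.assoc, hd, Category.id_comp]
  exact absurd hlt (not_lt_of_ge this)

lemma covBy_of_simple [hs : Simple (cokernel (Subobject.ofLE x y h))] : x ⋖ y := by
  have hne : x ≠ y := by
    rintro rfl
    have : IsIso (Subobject.ofLE x x h) := by
      rw [Subobject.ofLE_refl]; infer_instance
    exact Simple.not_isZero (cokernel (Subobject.ofLE x x h))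
      (isZero_cokernel_of_epi (Subobject.ofLE x x h))
  refine ⟨lt_of_le_of_ne h hne, ?_⟩
  intro s hxs hsy
  set i := Subobject.ofLE x y h with hi
  set p := cokernel.π i with hp
  set j := Subobject.ofLE s y hsy.le with hj
  by_cases hg : j ≫ p = 0
  · obtain ⟨l, hl⟩ := exists_lift_ofLE h j hg
    have : s ≤ x := by
      apply Subobject.le_of_comm l
      rw [← Subobject.ofLE_arrow h, ← Category.assoc, hl, Subobject.ofLE_arrow]
    exact absurd hxs (not_lt_of_ge this)
  · have hepi : Epi (j ≫ p) := epi_of_nonzero_to_simple hg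
    have : y ≤ s := by
      apply Subobject.le_of_factors
      obtain ⟨T', π, hπ, c, hc⟩ := surjective_up_to_refinements_of_epi (j ≫ p) p
      apply factors_of_epi_comp π
      obtain ⟨d, hd⟩ := exists_lift_ofLE h (π - c ≫ j) (by
        rw [Preadditive.sub_comp, Category.assoc, hc, sub_self])
      have : π ≫ y.arrow = c ≫ s.arrow + d ≫ x.arrow := by
        have e1 : π = c ≫ j + d ≫ i := by rw [hd]; abel
        rw [e1, Preadditive.add_comp, Category.assoc, Category.assoc, Subobject.ofLE_arrow,
          Subobject.ofLE_arrow]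
      rw [this]
      apply Subobject.factors_add
      · exact s.factors_comp_arrow c
      · exact Subobject.factors_of_le _ hxs.le (x.factors_comp_arrow d)
    exact absurd hsy (not_lt_of_ge this)

lemma simple_of_covBy (hc : x ⋖ y) : Simple (cokernel (Subobject.ofLE x y hc.le)) := by
  set i := Subobject.ofLE x y hc.le with hi
  set p := cokernel.π i with hp
  have hQ := not_isZero_cokernel_ofLE_of_lt hc.lt
  constructor
  intro S f hf
  constructor
  · intro hiso hf0
    apply hQ
    subst hf0
    rw [IsZero.iff_id_eq_zero]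
    have := IsIso.inv_hom_id (0 : S ⟶ cokernel i)
    rw [comp_zero] at this
    exact this.symm
  · intro hf0
    let s : Subobject X := Subobject.mk (pullback.fst p f ≫ y.arrow)
    have hxs : x ≤ s := by
      apply Subobject.le_mk_of_comm (pullback.lift i 0 (by rw [hp, cokernel.condition, zero_comp]))
      rw [← Category.assoc, pullback.lift_fst, Subobject.ofLE_arrow]
    have hsy : s ≤ y := Subobject.mk_le_of_comm (pullback.fst p f) rfl
    rcases hc.eq_or_eq hxs hsy with hs | hs
    · exfalso
      apply hf0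
      have hle : s ≤ x := hs.le
      have hfac : x.Factors (pullback.fst p f ≫ y.arrow) := by
        have := Subobject.factors_of_le (pullback.fst p f ≫ y.arrow) hle
          (by
            show (Subobject.mk (pullback.fst p f ≫ y.arrow)).Factors _
            exact Subobject.mk_factors_self _)
        exact this
      have h1 : pullback.fst p f = x.factorThru _ hfac ≫ i := by
        rw [← cancel_mono y.arrow, Category.assoc, Subobject.ofLE_arrow, Subobject.factorThru_arrow]
      have h2 : pullback.snd p f ≫ f = 0 := by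
        calc pullback.snd p f ≫ f = pullback.fst p f ≫ p := pullback.condition.symm
          _ = (x.factorThru _ hfac ≫ i) ≫ p := congrArg (· ≫ p) h1
          _ = 0 := by rw [Category.assoc, cokernel.condition, comp_zero]
      rw [← cancel_epi (pullback.snd p f), h2, comp_zero]
    · have hle : y ≤ s := hs.ge
      have hfac : s.Factors y.arrow := Subobject.factors_of_le _ hle y.factors_self
      let k : (y : A) ⟶ pullback p f := s.factorThru _ hfac ≫ (Subobject.underlyingIso _).hom
      have hk : k ≫ pullback.fst p f = 𝟙 _ := by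
        rw [← cancel_mono y.arrow]
        simp only [k, Category.assoc, Category.id_comp]
        rw [Subobject.underlyingIso_hom_comp_eq_mk, Subobject.factorThru_arrow]
      have h3 : p = (k ≫ pullback.snd p f) ≫ f := by
        rw [Category.assoc, ← pullback.condition, ← Category.assoc, hk, Category.id_comp]
      have : Epi ((k ≫ pullback.snd p f) ≫ f) := by rw [← h3]; infer_instance
      have : Epi f := epi_of_epi (k ≫ pullback.snd p f) f
      exact isIso_of_mono_of_epi f

end Simple

section SecondIso

/-- Transport of cokernels of `ofLE` along equalities of subobjects. -/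
noncomputable def cokernelOfLEIso {a a' b b' : Subobject X} (ha : a = a') (hb : b = b')
    (h : a ≤ b) (h' : a' ≤ b') :
    cokernel (Subobject.ofLE a b h) ≅ cokernel (Subobject.ofLE a' b' h') := by
  subst ha hb
  exact Iso.refl _

/-- The quotient `b / (a ⊓ b)`, defined for all pairs of subobjects. -/
noncomputable def quot (a b : Subobject X) : A :=
  cokernel (Subobject.ofLE (a ⊓ b) b inf_le_right)

noncomputable def quotIso {a b : Subobject X} (h : a ≤ b) :
    quot a b ≅ cokernel (Subobject.ofLE a b h) :=
  cokernelOfLEIso (inf_eq_left.mpr h) rfl _ _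

variable (x y : Subobject X)

lemma secondIso_zero :
    Subobject.ofLE (x ⊓ y) y inf_le_right ≫
      Subobject.ofLE y (x ⊔ y) le_sup_right ≫ cokernel.π (Subobject.ofLE x (x ⊔ y) le_sup_left)
        = 0 := by
  have : Subobject.ofLE (x ⊓ y) y inf_le_right ≫ Subobject.ofLE y (x ⊔ y) le_sup_right =
      Subobject.ofLE (x ⊓ y) x inf_le_left ≫ Subobject.ofLE x (x ⊔ y) le_sup_left := by
    rw [Subobject.ofLE_comp_ofLE, Subobject.ofLE_comp_ofLE]
  rw [← Category.assoc, this, Category.assoc, cokernel.condition, comp_zero]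

lemma secondIso_epi :
    Epi (Subobject.ofLE y (x ⊔ y) le_sup_right ≫
      cokernel.π (Subobject.ofLE x (x ⊔ y) le_sup_left)) := by
  rw [epi_iff_surjective_up_to_refinements]
  intro T b
  obtain ⟨T', π, hπ, c, hc⟩ := surjective_up_to_refinements_of_epi
    (cokernel.π (Subobject.ofLE x (x ⊔ y) le_sup_left)) b
  obtain ⟨T'', π', hπ', a₁, a₂, ha⟩ := exists_of_factors_sup x y (c ≫ (x ⊔ y).arrow)
    ((x ⊔ y).factors_comp_arrow c)
  refine ⟨T'', π' ≫ π, epi_comp _ _, a₂, ?_⟩
  have h1 : π' ≫ c = a₁ ≫ Subobject.ofLE x (x ⊔ y) le_sup_left +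
      a₂ ≫ Subobject.ofLE y (x ⊔ y) le_sup_right := by
    rw [← cancel_mono (x ⊔ y).arrow, Preadditive.add_comp, Category.assoc, Category.assoc,
      Category.assoc, Subobject.ofLE_arrow, Subobject.ofLE_arrow, ha]
  rw [Category.assoc, hc, ← Category.assoc, h1, Preadditive.add_comp, Category.assoc,
    cokernel.condition, comp_zero, zero_add, Category.assoc]

lemma secondIso_exact :
    (ShortComplex.mk _ _ (secondIso_zero x y)).Exact := by
  rw [ShortComplex.exact_iff_exact_up_to_refinements]
  intro T b hb
  dsimp at b hb ⊢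
  obtain ⟨d, hd⟩ := exists_lift_ofLE (le_sup_left : x ≤ x ⊔ y)
    (b ≫ Subobject.ofLE y (x ⊔ y) le_sup_right) (by rw [Category.assoc]; exact hb)
  have h1 : b ≫ y.arrow = d ≫ x.arrow := by
    rw [← Subobject.ofLE_arrow (le_sup_right : y ≤ x ⊔ y), ← Category.assoc, ← hd, Category.assoc,
      Subobject.ofLE_arrow]
  have hfac : (x ⊓ y).Factors (b ≫ y.arrow) := by
    rw [Subobject.inf_factors]
    exact ⟨h1 ▸ x.factors_comp_arrow d, y.factors_comp_arrow b⟩
  refine ⟨T, 𝟙 T, inferInstance, (x ⊓ y).factorThru _ hfac, ?_⟩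
  rw [Category.id_comp, ← cancel_mono y.arrow, Category.assoc, Subobject.ofLE_arrow,
    Subobject.factorThru_arrow]

/-- The second isomorphism theorem for subobjects in an abelian category. -/
noncomputable def secondIso :
    cokernel (Subobject.ofLE (x ⊓ y) y inf_le_right) ≅
      cokernel (Subobject.ofLE x (x ⊔ y) le_sup_left) :=
  have := secondIso_epi x y
  IsColimit.coconePointUniqueUpToIso (cokernelIsCokernel _) (secondIso_exact x y).gIsCokernel

end SecondIso

section JH

lemma nonempty_quot_iso_of_iso {p q : Subobject X × Subobject X}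
    (h : JordanHolderLattice.Iso p q) :
    Nonempty (quot p.1 p.2 ≅ quot q.1 q.2) := by
  refine JordanHolderLattice.Iso.rel
    (fun p q => Nonempty (quot p.1 p.2 ≅ quot q.1 q.2)) ⟨CategoryTheory.Iso.refl _⟩
    (fun ⟨e⟩ => ⟨e.symm⟩) (fun ⟨e⟩ ⟨e'⟩ => ⟨e ≪≫ e'⟩) ?_ h
  intro x y _
  exact ⟨quotIso (le_sup_left : x ≤ x ⊔ y) ≪≫ (secondIso x y).symm ≪≫
    (quotIso (inf_le_right : x ⊓ y ≤ y)).symm⟩

end JH

section Lattice

variable {α : Type*} [Lattice α] [IsModularLattice α]

lemma wf_Iic_of_covBy {a b : α} (hab : a ⋖ b)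
    (h1 : WellFoundedLT (Set.Iic a)) (h2 : WellFoundedGT (Set.Iic a)) :
    WellFoundedLT (Set.Iic b) ∧ WellFoundedGT (Set.Iic b) := by
  have hfin : Finite (Set.Icc a b) := by
    have : Set.Icc a b = {a, b} := by
      ext c
      simp only [Set.mem_Icc, Set.mem_insert_iff, Set.mem_singleton_iff]
      constructor
      · rintro ⟨h1, h2⟩
        exact hab.eq_or_eq h1 h2
      · rintro (rfl | rfl)
        · exact ⟨le_rfl, hab.le⟩
        · exact ⟨hab.le, le_rfl⟩
    rw [this]
    exact Set.finite_coe_iff.mpr (Set.toFinite _)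
  let φ : Set.Iic b → Set.Iic a × Set.Icc a b := fun c =>
    (⟨(c : α) ⊓ a, inf_le_right⟩, ⟨(c : α) ⊔ a, le_sup_right, sup_le c.2 hab.le⟩)
  have hφ : StrictMono φ := by
    intro c d hcd
    have := strictMono_inf_prod_sup (z := a) (show (c : α) < d from hcd)
    rw [lt_iff_le_not_ge] at this ⊢
    exact this
  exact ⟨hφ.wellFoundedLT, hφ.wellFoundedGT⟩

lemma wf_of_covBy_chain [OrderBot α] : ∀ (n : ℕ) (F : Fin (n + 1) → α), F 0 = ⊥ →
    (∀ i : Fin n, F i.castSucc ⋖ F i.succ) →
    WellFoundedLT (Set.Iic (F (Fin.last n))) ∧ WellFoundedGT (Set.Iic (F (Fin.last n))) := by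
  intro n
  induction n with
  | zero =>
    intro F h0 _
    have : Subsingleton (Set.Iic (F (Fin.last 0))) := by
      constructor
      rintro ⟨c, hc⟩ ⟨d, hd⟩
      have hl : F (Fin.last 0) = ⊥ := h0
      rw [Set.mem_Iic, hl, le_bot_iff] at hc hd
      exact Subtype.ext (hc.trans hd.symm)
    exact ⟨inferInstance, inferInstance⟩
  | succ n ih =>
    intro F h0 hF
    obtain ⟨h1, h2⟩ := ih (F ∘ Fin.castSucc) h0 (fun i => by
      have := hF i.castSucc
      rw [Fin.succ_castSucc] at this
      exact this)
    have hab : F (Fin.last n).castSucc ⋖ F (Fin.last (n + 1)) := by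
      have := hF (Fin.last n)
      rw [Fin.succ_last] at this
      exact this
    exact wf_Iic_of_covBy hab h1 h2

end Lattice

section FiniteLength

theorem finiteLength_iff (X : A) :
    (IsArtinianObject X ∧ IsNoetherianObject X) ↔
      ∃ (n : ℕ) (F : Fin (n + 1) → Subobject X) (hF : Monotone F), F 0 = ⊥ ∧ F (Fin.last n) = ⊤ ∧
        ∀ i : Fin n, Simple (cokernel (Subobject.ofLE (F (Fin.castSucc i)) (F (Fin.succ i))
          (hF (Fin.castSucc_lt_succ (i := i)).le))) := by
  constructor
  · rintro ⟨hA, hN⟩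
    obtain ⟨a, h0, n, hn, hcov⟩ := exists_covBy_seq_of_wellFoundedLT_wellFoundedGT (Subobject X)
    refine ⟨n, fun i => a i, ?_, isMin_iff_eq_bot.mp h0, isMax_iff_eq_top.mp hn, ?_⟩
    · rw [Fin.monotone_iff_le_succ]
      intro i
      exact (hcov i i.2).le
    · intro i
      exact simple_of_covBy (hcov i i.2)
  · rintro ⟨n, F, hF, h0, hn, hs⟩
    have hcov : ∀ i : Fin n, F i.castSucc ⋖ F i.succ := fun i => covBy_of_simple _ (hs := hs i)
    obtain ⟨h1, h2⟩ := wf_of_covBy_chain n F h0 hcov
    have hφ : StrictMono (fun c : Subobject X =>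
        (⟨c, by rw [Set.mem_Iic, hn]; exact le_top⟩ : Set.Iic (F (Fin.last n)))) :=
      fun c d hcd => hcd
    exact ⟨ObjectProperty.is_of_prop _ hφ.wellFoundedLT, ObjectProperty.is_of_prop _ hφ.wellFoundedGT⟩

end FiniteLength

end Groth.Agent.Lib.Helper89.SubobjectModular
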