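import Mathlib

/-!
# Helper89: pretriangulated categories — coproducts / retracts of distinguished triangles

* `Helper89.Pretri.sigmaTriangle_distinguished` : coproduct (`∐`) of distinguished triangles.
* `Helper89.Pretri.cofanTriangle_distinguished` : same for arbitrary colimit cofans.
* `Helper89.Pretri.distinguished_of_retract` : a retract of a distinguished triangle is distinguished.
* `Helper89.Pretri.biprodTriangle_distinguished` : binary biproduct of distinguished triangles.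
-/

set_option autoImplicit false
universe w v u
open CategoryTheory CategoryTheory.Limits CategoryTheory.Pretriangulated

namespace Helper89.Pretri

variable {D : Type u} [Category.{v} D] [Preadditive D] [HasZeroObject D] [HasShift D ℤ]
    [∀ n : ℤ, (shiftFunctor D n).Additive] [Pretriangulated D]

set_option backward.defeqAttrib.useBackward true in
set_option backward.isDefEq.respectTransparency false in
theorem sigmaTriangle_distinguished
    {J : Type w} (T : J → Triangle D) (hT : ∀ j, T j ∈ distinguishedTriangles)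
    [HasCoproduct (fun j => (T j).obj₁)] [HasCoproduct (fun j => (T j).obj₂)] [HasCoproduct (fun j => (T j).obj₃)] :
    Triangle.mk (Limits.Sigma.map (fun j => (T j).mor₁)) (Limits.Sigma.map (fun j => (T j).mor₂))
      (Sigma.desc (fun j => (T j).mor₃ ≫ (shiftFunctor D (1 : ℤ)).map (Sigma.ι (fun j => (T j).obj₁) j))) ∈ distinguishedTriangles := by
  classical
  -- the shifted cocones are colimit cocones
  have hc₁ : IsColimit ((shiftFunctor D (1 : ℤ)).mapCocone (Cofan.mk _ (Sigma.ι (fun j => (T j).obj₁)))) :=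
    isColimitOfPreserves _ (coproductIsCoproduct _)
  have hc₂ : IsColimit ((shiftFunctor D (1 : ℤ)).mapCocone (Cofan.mk _ (Sigma.ι (fun j => (T j).obj₂)))) :=
    isColimitOfPreserves _ (coproductIsCoproduct _)
  -- descent from shifted coproducts
  have desc₁ : ∀ {A : D} (b : ∀ j, ((T j).obj₁)⟦(1 : ℤ)⟧ ⟶ A),
      ∃ β : (∐ fun j => (T j).obj₁)⟦(1 : ℤ)⟧ ⟶ A,
        ∀ j, (shiftFunctor D (1 : ℤ)).map (Sigma.ι (fun j => (T j).obj₁) j) ≫ β = b j := by
    intro A b
    refine ⟨hc₁.desc (Cocone.mk A (Discrete.natTrans (fun j => b j.as))), fun j => ?_⟩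
    exact hc₁.fac _ ⟨j⟩
  have desc₂ : ∀ {A : D} (b : ∀ j, ((T j).obj₂)⟦(1 : ℤ)⟧ ⟶ A),
      ∃ β : (∐ fun j => (T j).obj₂)⟦(1 : ℤ)⟧ ⟶ A,
        ∀ j, (shiftFunctor D (1 : ℤ)).map (Sigma.ι (fun j => (T j).obj₂) j) ≫ β = b j := by
    intro A b
    refine ⟨hc₂.desc (Cocone.mk A (Discrete.natTrans (fun j => b j.as))), fun j => ?_⟩
    exact hc₂.fac _ ⟨j⟩
  have ext₁ : ∀ {A : D} (a b : (∐ fun j => (T j).obj₁)⟦(1 : ℤ)⟧ ⟶ A),
      (∀ j, (shiftFunctor D (1 : ℤ)).map (Sigma.ι (fun j => (T j).obj₁) j) ≫ a =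
        (shiftFunctor D (1 : ℤ)).map (Sigma.ι (fun j => (T j).obj₁) j) ≫ b) → a = b := by
    intro A a b h
    exact hc₁.hom_ext (fun j => h j.as)
  set f₁ := Limits.Sigma.map (fun j => (T j).mor₁) with hf₁
  set g₁ := Limits.Sigma.map (fun j => (T j).mor₂) with hg₁
  set h₁ := (Sigma.desc (fun j => (T j).mor₃ ≫ (shiftFunctor D (1 : ℤ)).map (Sigma.ι (fun j => (T j).obj₁) j))) with hh₁
  obtain ⟨Z, f₂, f₃, hT'⟩ := distinguished_cocone_triangle f₁
  let T' := Triangle.mk f₁ f₂ f₃
  change T' ∈ distTriang D at hT'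
  let φ : ∀ j, T j ⟶ T' := fun j => completeDistinguishedTriangleMorphism _ _
    (hT j) hT' (Sigma.ι (fun j => (T j).obj₁) j) (Sigma.ι (fun j => (T j).obj₂) j) (Sigma.ι_map (fun j => (T j).mor₁) j).symm
  let ψ : (∐ fun j => (T j).obj₃) ⟶ Z := Sigma.desc (fun j => (φ j).hom₃)
  have ιψ : ∀ j, Sigma.ι (fun j => (T j).obj₃) j ≫ ψ = (φ j).hom₃ := fun j => Sigma.ι_desc _ _
  have c2 : g₁ ≫ ψ = f₂ := by
    apply Sigma.hom_ext
    intro j
    have := (φ j).comm₂
    rw [← Category.assoc, Sigma.ι_map, Category.assoc, ιψ]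
    exact this
  have c3 : h₁ = ψ ≫ f₃ := by
    apply Sigma.hom_ext
    intro j
    have := (φ j).comm₃
    rw [Sigma.ι_desc, ← Category.assoc, ιψ]
    exact this
  suffices hψ : IsIso ψ by
    refine isomorphic_distinguished _ hT' _ ?_
    exact Triangle.isoMk _ _ (Iso.refl _) (Iso.refl _) (@asIso _ _ _ _ ψ hψ)
      (by dsimp [T']; rw [Category.comp_id, Category.id_comp])
      (by dsimp [T']; rw [Category.id_comp, c2])
      (by dsimp [T']; rw [CategoryTheory.Functor.map_id, Category.comp_id, c3])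
  refine isIso_of_coyoneda_map_bijective _ (fun A => ⟨?_, ?_⟩)
  · suffices Epi ψ by
      intro a₁ a₂ ha
      simpa only [cancel_epi] using ha
    rw [Preadditive.epi_iff_cancel_zero]
    intro A a ha
    have ha' : T'.mor₂ ≫ a = 0 := by
      change f₂ ≫ a = 0
      rw [← c2, Category.assoc, ha, comp_zero]
    obtain ⟨(b : (shiftFunctor D (1 : ℤ)).obj (∐ fun j => (T j).obj₁) ⟶ A), (hb : a = f₃ ≫ b)⟩ :=
      T'.yoneda_exact₃ hT' a ha'
    have hb' : ∀ j, (T j).mor₃ ≫ ((shiftFunctor D (1 : ℤ)).map (Sigma.ι (fun j => (T j).obj₁) j) ≫ b) = 0 := by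
      intro j
      have e1 : Sigma.ι _ j ≫ ψ ≫ a = 0 := by rw [ha, comp_zero]
      have e2 := ιψ j
      rw [← Category.assoc, e2, hb] at e1
      have e3 : (T j).mor₃ ≫ (shiftFunctor D (1 : ℤ)).map (Sigma.ι (fun j => (T j).obj₁) j) =
          (φ j).hom₃ ≫ f₃ := (φ j).comm₃
      rw [← Category.assoc, ← e3, Category.assoc] at e1
      exact e1
    have hb'' := fun j => Triangle.yoneda_exact₂ _ (rot_of_distTriang _ (rot_of_distTriang _ (hT j))) _ (hb' j)
    choose β' hβ' using hb''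
    obtain ⟨β, hβ⟩ := desc₂ (fun j => - β' j)
    have hbb : b = (shiftFunctor D (1 : ℤ)).map f₁ ≫ β := by
      apply ext₁
      intro j
      rw [hβ' j, ← Category.assoc, ← Functor.map_comp]
      have : Sigma.ι (fun j => (T j).obj₁) j ≫ f₁ = (T j).mor₁ ≫ Sigma.ι (fun j => (T j).obj₂) j := by
        simp [f₁, Sigma.ι_map]
      rw [this, Functor.map_comp, Category.assoc, hβ]
      simp
    rw [hb, hbb]
    have := comp_distTriang_mor_zero₃₁ _ hT'
    rw [← Category.assoc]
    change (f₃ ≫ (shiftFunctor D (1 : ℤ)).map f₁) ≫ β = 0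
    change f₃ ≫ (shiftFunctor D (1 : ℤ)).map f₁ = 0 at this
    rw [this, zero_comp]
  · intro a
    dsimp only
    have z : T'.mor₁ ≫ (g₁ ≫ a) = 0 := by
      change f₁ ≫ g₁ ≫ a = 0
      rw [← Category.assoc]
      have : f₁ ≫ g₁ = 0 := by
        apply Sigma.hom_ext
        intro j
        rw [← Category.assoc, Sigma.ι_map, Category.assoc, Sigma.ι_map, ← Category.assoc,
          comp_distTriang_mor_zero₁₂ _ (hT j), zero_comp, comp_zero]
      rw [this, zero_comp]
    obtain ⟨(a' : Z ⟶ A), (ha' : g₁ ≫ a = f₂ ≫ a')⟩ := T'.yoneda_exact₂ hT' (g₁ ≫ a) z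
    have ha'' := fun j => (T j).yoneda_exact₃ (hT j) (Sigma.ι (fun j => (T j).obj₃) j ≫ (a - ψ ≫ a')) (by
      have : g₁ ≫ (a - ψ ≫ a') = 0 := by
        rw [Preadditive.comp_sub, ← Category.assoc, c2, ha']
        exact sub_self _
      have e : (T j).mor₂ ≫ Sigma.ι (fun j => (T j).obj₃) j = Sigma.ι (fun j => (T j).obj₂) j ≫ g₁ := by
        simp [g₁, Sigma.ι_map]
      rw [← Category.assoc, e, Category.assoc, this, comp_zero])
    choose b' hb' using ha''
    obtain ⟨b, hb⟩ := desc₁ b'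
    have key : a - ψ ≫ a' = h₁ ≫ b := by
      apply Sigma.hom_ext
      intro j
      rw [hb' j]
      simp [h₁, hb]
    refine ⟨a' + f₃ ≫ b, ?_⟩
    rw [Preadditive.comp_add, ← Category.assoc, ← c3, ← key]
    abel

set_option backward.defeqAttrib.useBackward true in
set_option backward.isDefEq.respectTransparency false in
/-- Coproduct of distinguished triangles, for arbitrary colimit cofans. -/
theorem cofanTriangle_distinguished {J : Type w} (T : J → Triangle D)
    (hT : ∀ j, T j ∈ distinguishedTriangles)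
    (c₁ : Cofan (fun j => (T j).obj₁)) (hc₁ : IsColimit c₁)
    (c₂ : Cofan (fun j => (T j).obj₂)) (hc₂ : IsColimit c₂)
    (c₃ : Cofan (fun j => (T j).obj₃)) (hc₃ : IsColimit c₃)
    (f : c₁.pt ⟶ c₂.pt) (g : c₂.pt ⟶ c₃.pt) (h : c₃.pt ⟶ (c₁.pt)⟦(1 : ℤ)⟧)
    (hf : ∀ j, c₁.inj j ≫ f = (T j).mor₁ ≫ c₂.inj j)
    (hg : ∀ j, c₂.inj j ≫ g = (T j).mor₂ ≫ c₃.inj j)
    (hh : ∀ j, c₃.inj j ≫ h = (T j).mor₃ ≫ (shiftFunctor D (1 : ℤ)).map (c₁.inj j)) :
    Triangle.mk f g h ∈ distinguishedTriangles := by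
  have : HasCoproduct (fun j => (T j).obj₁) := ⟨⟨⟨c₁, hc₁⟩⟩⟩
  have : HasCoproduct (fun j => (T j).obj₂) := ⟨⟨⟨c₂, hc₂⟩⟩⟩
  have : HasCoproduct (fun j => (T j).obj₃) := ⟨⟨⟨c₃, hc₃⟩⟩⟩
  refine isomorphic_distinguished _ (sigmaTriangle_distinguished T hT) _ ?_
  let e₁ : c₁.pt ≅ ∐ (fun j => (T j).obj₁) := hc₁.coconePointUniqueUpToIso (coproductIsCoproduct _)
  let e₂ : c₂.pt ≅ ∐ (fun j => (T j).obj₂) := hc₂.coconePointUniqueUpToIso (coproductIsCoproduct _)
  let e₃ : c₃.pt ≅ ∐ (fun j => (T j).obj₃) := hc₃.coconePointUniqueUpToIso (coproductIsCoproduct _)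
  have he₁ : ∀ j, c₁.inj j ≫ e₁.hom = Sigma.ι (fun j => (T j).obj₁) j := fun j =>
    hc₁.comp_coconePointUniqueUpToIso_hom (coproductIsCoproduct _) ⟨j⟩
  have he₂ : ∀ j, c₂.inj j ≫ e₂.hom = Sigma.ι (fun j => (T j).obj₂) j := fun j =>
    hc₂.comp_coconePointUniqueUpToIso_hom (coproductIsCoproduct _) ⟨j⟩
  have he₃ : ∀ j, c₃.inj j ≫ e₃.hom = Sigma.ι (fun j => (T j).obj₃) j := fun j =>
    hc₃.comp_coconePointUniqueUpToIso_hom (coproductIsCoproduct _) ⟨j⟩
  refine Triangle.isoMk _ _ e₁ e₂ e₃ ?_ ?_ ?_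
  · refine Cofan.IsColimit.hom_ext hc₁ _ _ (fun j => ?_)
    dsimp
    rw [← Category.assoc, hf, Category.assoc, he₂, ← Category.assoc, he₁, Sigma.ι_map]
  · refine Cofan.IsColimit.hom_ext hc₂ _ _ (fun j => ?_)
    dsimp
    rw [← Category.assoc, hg, Category.assoc, he₃, ← Category.assoc, he₂, Sigma.ι_map]
  · refine Cofan.IsColimit.hom_ext hc₃ _ _ (fun j => ?_)
    dsimp
    rw [← Category.assoc, hh, Category.assoc, ← Functor.map_comp, he₁, ← Category.assoc, he₃,
      Sigma.ι_desc]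

set_option backward.defeqAttrib.useBackward true in
set_option backward.isDefEq.respectTransparency false in
/-- A retract of a distinguished triangle is distinguished. -/
theorem distinguished_of_retract (S R : Triangle D) (hR : R ∈ distinguishedTriangles)
    (i : S ⟶ R) (p : R ⟶ S) (hip : i ≫ p = 𝟙 S) : S ∈ distinguishedTriangles := by
  have h₁ : i.hom₁ ≫ p.hom₁ = 𝟙 _ := congrArg TriangleMorphism.hom₁ hip
  have h₂ : i.hom₂ ≫ p.hom₂ = 𝟙 _ := congrArg TriangleMorphism.hom₂ hip
  have h₃ : i.hom₃ ≫ p.hom₃ = 𝟙 _ := congrArg TriangleMorphism.hom₃ hip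
  have h₁s : (shiftFunctor D (1 : ℤ)).map i.hom₁ ≫ (shiftFunctor D (1 : ℤ)).map p.hom₁ = 𝟙 _ := by
    rw [← Functor.map_comp, h₁, CategoryTheory.Functor.map_id]
  have h₂s : (shiftFunctor D (1 : ℤ)).map i.hom₂ ≫ (shiftFunctor D (1 : ℤ)).map p.hom₂ = 𝟙 _ := by
    rw [← Functor.map_comp, h₂, CategoryTheory.Functor.map_id]
  -- exactness properties of `S` inherited from `R`
  have E2 : ∀ {W : D} (y : W ⟶ S.obj₂), y ≫ S.mor₂ = 0 → ∃ x : W ⟶ S.obj₁, y = x ≫ S.mor₁ := by
    intro W y hy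
    obtain ⟨x, hx⟩ := R.coyoneda_exact₂ hR (y ≫ i.hom₂) (by
      rw [Category.assoc, ← i.comm₂, ← Category.assoc, hy, zero_comp])
    refine ⟨x ≫ p.hom₁, ?_⟩
    rw [Category.assoc, ← p.comm₁, ← Category.assoc, ← hx, Category.assoc, h₂, Category.comp_id]
  have E3 : ∀ {W : D} (z : W ⟶ S.obj₃), z ≫ S.mor₃ = 0 → ∃ y : W ⟶ S.obj₂, z = y ≫ S.mor₂ := by
    intro W z hz
    obtain ⟨y, hy⟩ := R.coyoneda_exact₃ hR (z ≫ i.hom₃) (by
      rw [Category.assoc, ← i.comm₃, ← Category.assoc, hz, zero_comp])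
    refine ⟨y ≫ p.hom₂, ?_⟩
    rw [Category.assoc, ← p.comm₂, ← Category.assoc, ← hy, Category.assoc, h₃, Category.comp_id]
  have Z31 : S.mor₃ ≫ (shiftFunctor D (1 : ℤ)).map S.mor₁ = 0 := by
    have : S.mor₃ ≫ (shiftFunctor D (1 : ℤ)).map S.mor₁ =
        (S.mor₃ ≫ (shiftFunctor D (1 : ℤ)).map S.mor₁) ≫
          ((shiftFunctor D (1 : ℤ)).map i.hom₂ ≫ (shiftFunctor D (1 : ℤ)).map p.hom₂) := by
      rw [h₂s, Category.comp_id]
    rw [this, Category.assoc, ← Category.assoc ((shiftFunctor D (1 : ℤ)).map S.mor₁),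
      ← Functor.map_comp, i.comm₁, Functor.map_comp, Category.assoc, ← Category.assoc S.mor₃,
      i.comm₃, Category.assoc, ← Category.assoc R.mor₃, comp_distTriang_mor_zero₃₁ _ hR,
      zero_comp, comp_zero]
  obtain ⟨Q, g', h', hT'⟩ := distinguished_cocone_triangle S.mor₁
  let T' := Triangle.mk S.mor₁ g' h'
  change T' ∈ distTriang D at hT'
  obtain ⟨θ₃, c2, c3⟩ : ∃ θ₃ : Q ⟶ S.obj₃, g' ≫ θ₃ = S.mor₂ ∧ h' = θ₃ ≫ S.mor₃ := by
    let α : T' ⟶ R := completeDistinguishedTriangleMorphism T' R hT' hR i.hom₁ i.hom₂ i.comm₁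
    let θ : T' ⟶ S := α ≫ p
    have θ₁ : θ.hom₁ = 𝟙 _ := h₁
    have θ₂ : θ.hom₂ = 𝟙 _ := h₂
    refine ⟨θ.hom₃, ?_, ?_⟩
    · have := θ.comm₂
      rw [θ₂, Category.id_comp] at this
      exact this
    · have := θ.comm₃
      rw [θ₁, CategoryTheory.Functor.map_id, Category.comp_id] at this
      exact this
  suffices hθ : IsIso θ₃ by
    refine isomorphic_distinguished _ hT' _ (Iso.symm ?_)
    exact Triangle.isoMk _ _ (Iso.refl _) (Iso.refl _) (@asIso _ _ _ _ θ₃ hθ)
      (by dsimp [T']; rw [Category.comp_id, Category.id_comp])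
      (by dsimp [T']; rw [Category.id_comp, c2])
      (by dsimp [T']; rw [CategoryTheory.Functor.map_id, Category.comp_id, c3])
  refine isIso_of_yoneda_map_bijective _ (fun W => ⟨?_, ?_⟩)
  · suffices Mono θ₃ by
      intro a₁ a₂ ha
      simpa only [cancel_mono] using ha
    rw [Preadditive.mono_iff_cancel_zero]
    intro W q hq
    have hq' : q ≫ T'.mor₃ = 0 := by
      change q ≫ h' = 0
      rw [c3, ← Category.assoc, hq, zero_comp]
    obtain ⟨(y : W ⟶ S.obj₂), (hy : q = y ≫ g')⟩ := T'.coyoneda_exact₃ hT' q hq'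
    obtain ⟨x, hx⟩ := E2 y (by rw [← c2, ← Category.assoc, ← hy, hq])
    rw [hy, hx, Category.assoc]
    have := comp_distTriang_mor_zero₁₂ _ hT'
    change S.mor₁ ≫ g' = 0 at this
    rw [this, comp_zero]
  · intro z
    dsimp only
    obtain ⟨(q : W ⟶ Q), (hq : z ≫ S.mor₃ = q ≫ h')⟩ := T'.coyoneda_exact₁ hT' (z ≫ S.mor₃) (by
      change (z ≫ S.mor₃) ≫ (shiftFunctor D (1 : ℤ)).map S.mor₁ = 0
      rw [Category.assoc, Z31, comp_zero])
    obtain ⟨y, hy⟩ := E3 (z - q ≫ θ₃) (by
      rw [Preadditive.sub_comp, Category.assoc, ← c3, hq, sub_self])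
    refine ⟨q + y ≫ g', ?_⟩
    rw [Preadditive.add_comp, Category.assoc, c2, ← hy]
    abel

/-- The binary cofan on `Bool` given by a biproduct. -/
noncomputable def boolCofan (P : Bool → D) : Cofan P :=
  Cofan.mk (P true ⊞ P false) (fun j => match j with
    | true => biprod.inl
    | false => biprod.inr)

/-- `boolCofan P` is a colimit. -/
noncomputable def boolCofanIsColimit (P : Bool → D) : IsColimit (boolCofan P) :=
  Cofan.IsColimit.mk _ (fun s => biprod.desc (s.inj true) (s.inj false))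
    (fun s j => by
      cases j
      · exact biprod.inr_desc _ _
      · exact biprod.inl_desc _ _)
    (fun s m hm => by
      apply biprod.hom_ext'
      · rw [biprod.inl_desc]; exact hm true
      · rw [biprod.inr_desc]; exact hm false)

set_option backward.defeqAttrib.useBackward true in
set_option backward.isDefEq.respectTransparency false in
/-- Binary biproduct of distinguished triangles is distinguished. -/
theorem biprodTriangle_distinguished (T T' : Triangle D)
    (hT : T ∈ distinguishedTriangles) (hT' : T' ∈ distinguishedTriangles) :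
    Triangle.mk (biprod.map T.mor₁ T'.mor₁) (biprod.map T.mor₂ T'.mor₂)
        (biprod.desc (T.mor₃ ≫ (shiftFunctor D (1 : ℤ)).map biprod.inl)
          (T'.mor₃ ≫ (shiftFunctor D (1 : ℤ)).map biprod.inr)) ∈ distinguishedTriangles := by
  let F : Bool → Triangle D := fun b => cond b T T'
  have hF : ∀ j, F j ∈ distinguishedTriangles := by
    intro j
    cases j
    · exact hT'
    · exact hT
  refine cofanTriangle_distinguished F hF
    (boolCofan (fun j => (F j).obj₁)) (boolCofanIsColimit _)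
    (boolCofan (fun j => (F j).obj₂)) (boolCofanIsColimit _)
    (boolCofan (fun j => (F j).obj₃)) (boolCofanIsColimit _)
    (biprod.map T.mor₁ T'.mor₁) (biprod.map T.mor₂ T'.mor₂)
    (biprod.desc (T.mor₃ ≫ (shiftFunctor D (1 : ℤ)).map biprod.inl)
          (T'.mor₃ ≫ (shiftFunctor D (1 : ℤ)).map biprod.inr)) ?_ ?_ ?_
  · intro j
    cases j
    · exact biprod.inr_map _ _
    · exact biprod.inl_map _ _
  · intro j
    cases j
    · exact biprod.inr_map _ _
    · exact biprod.inl_map _ _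
  · intro j
    cases j
    · exact biprod.inr_desc _ _
    · exact biprod.inl_desc _ _

set_option backward.defeqAttrib.useBackward true in
set_option backward.isDefEq.respectTransparency false in
/-- The inclusion of a triangle into a biproduct triangle and the projection back. -/
theorem distinguished_of_biprodTriangle_left (T T' : Triangle D)
    (h : Triangle.mk (biprod.map T.mor₁ T'.mor₁) (biprod.map T.mor₂ T'.mor₂)
        (biprod.desc (T.mor₃ ≫ (shiftFunctor D (1 : ℤ)).map biprod.inl)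
          (T'.mor₃ ≫ (shiftFunctor D (1 : ℤ)).map biprod.inr)) ∈ distinguishedTriangles) :
    T ∈ distinguishedTriangles := by
  refine distinguished_of_retract T _ h
    { hom₁ := biprod.inl, hom₂ := biprod.inl, hom₃ := biprod.inl
      comm₁ := (biprod.inl_map _ _).symm
      comm₂ := (biprod.inl_map _ _).symm
      comm₃ := (biprod.inl_desc _ _).symm }
    { hom₁ := biprod.fst, hom₂ := biprod.fst, hom₃ := biprod.fst
      comm₁ := biprod.map_fst _ _
      comm₂ := biprod.map_fst _ _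
      comm₃ := by
        show biprod.desc (T.mor₃ ≫ (shiftFunctor D (1 : ℤ)).map biprod.inl)
          (T'.mor₃ ≫ (shiftFunctor D (1 : ℤ)).map biprod.inr) ≫
            (shiftFunctor D (1 : ℤ)).map biprod.fst = biprod.fst ≫ T.mor₃
        apply biprod.hom_ext'
        · rw [biprod.inl_desc_assoc, Category.assoc, ← Functor.map_comp, biprod.inl_fst,
            CategoryTheory.Functor.map_id, Category.comp_id, biprod.inl_fst_assoc]
        · rw [biprod.inr_desc_assoc, Category.assoc, ← Functor.map_comp, biprod.inr_fst,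
            Functor.map_zero, comp_zero, biprod.inr_fst_assoc, zero_comp] } ?_
  ext
  · exact biprod.inl_fst
  · exact biprod.inl_fst
  · exact biprod.inl_fst

set_option backward.defeqAttrib.useBackward true in
set_option backward.isDefEq.respectTransparency false in
theorem distinguished_of_biprodTriangle_right (T T' : Triangle D)
    (h : Triangle.mk (biprod.map T.mor₁ T'.mor₁) (biprod.map T.mor₂ T'.mor₂)
        (biprod.desc (T.mor₃ ≫ (shiftFunctor D (1 : ℤ)).map biprod.inl)
          (T'.mor₃ ≫ (shiftFunctor D (1 : ℤ)).map biprod.inr)) ∈ distinguishedTriangles) :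
    T' ∈ distinguishedTriangles := by
  refine distinguished_of_retract T' _ h
    { hom₁ := biprod.inr, hom₂ := biprod.inr, hom₃ := biprod.inr
      comm₁ := (biprod.inr_map _ _).symm
      comm₂ := (biprod.inr_map _ _).symm
      comm₃ := (biprod.inr_desc _ _).symm }
    { hom₁ := biprod.snd, hom₂ := biprod.snd, hom₃ := biprod.snd
      comm₁ := biprod.map_snd _ _
      comm₂ := biprod.map_snd _ _
      comm₃ := by
        show biprod.desc (T.mor₃ ≫ (shiftFunctor D (1 : ℤ)).map biprod.inl)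
          (T'.mor₃ ≫ (shiftFunctor D (1 : ℤ)).map biprod.inr) ≫
            (shiftFunctor D (1 : ℤ)).map biprod.snd = biprod.snd ≫ T'.mor₃
        apply biprod.hom_ext'
        · rw [biprod.inl_desc_assoc, Category.assoc, ← Functor.map_comp, biprod.inl_snd,
            Functor.map_zero, comp_zero, biprod.inl_snd_assoc, zero_comp]
        · rw [biprod.inr_desc_assoc, Category.assoc, ← Functor.map_comp, biprod.inr_snd,
            CategoryTheory.Functor.map_id, Category.comp_id, biprod.inr_snd_assoc] } ?_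
  ext
  · exact biprod.inr_snd
  · exact biprod.inr_snd
  · exact biprod.inr_snd

end Helper89.Pretri
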