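import Mathlib
import Groth.Prelude.Def_CohDer
import Groth.Agent.Lib.Helper40.Compact

/-!
# Helper89: compact objects (Prelude `CohDer.IsCompactObject`) form a triangulated subcategory

Builds on `Groth.Agent.Lib.Helper40.Compact` (`FinSum` formalism, shifts).
-/

set_option autoImplicit false
universe v u
open CategoryTheory CategoryTheory.Limits CategoryTheory.Pretriangulated ZeroObject
open Groth.Agent.Lib.Helper40.Cpt

namespace Helper89.Compact

section Basic

variable {D : Type u} [Category.{v} D] [Preadditive D]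

/-- finite sums of `FinSum` maps -/
lemma finSum_sum {ι : Type*} {K : D} {Z : ι → D} {W : D} (t : ∀ i, Z i ⟶ W)
    {J : Type*} (s : Finset J) (m : J → (K ⟶ W)) (h : ∀ j ∈ s, FinSum K t (m j)) :
    FinSum K t (∑ j ∈ s, m j) := by
  classical
  induction s using Finset.induction_on with
  | empty =>
    refine ⟨∅, fun _ => 0, fun _ _ => rfl, ?_⟩
    simp
  | insert a s ha ih =>
    rw [Finset.sum_insert ha]
    exact (h a (Finset.mem_insert_self a s)).add
      (ih (fun j hj => h j (Finset.mem_insert_of_mem hj)))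

lemma finSum_zero {ι : Type*} {K : D} {Z : ι → D} {W : D} (t : ∀ i, Z i ⟶ W) :
    FinSum K t (0 : K ⟶ W) :=
  ⟨∅, fun _ => 0, fun _ _ => rfl, by simp⟩

variable [HasCoproducts.{v} D]

/-- injectivity: a finite sum through the coproduct inclusions vanishing forces each term to
vanish. -/
lemma finSum_inj' {ι : Type v} {K : D} (X : ι → D) (F : Finset ι) (g : ∀ i, K ⟶ X i)
    (hg0 : ∀ i, i ∉ F → g i = 0) (h : ∑ i ∈ F, g i ≫ Sigma.ι X i = 0) : ∀ i, g i = 0 := by
  have := finSum_inj X (𝟭 D) F g hg0 (by simpa using h)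
  exact this

lemma isCompact_of_isZero {K : D} (hK : IsZero K) : CohDer.IsCompactObject K := by
  apply isCompact_of_finSum
  intro ι X m
  rw [hK.eq_of_src m 0]
  exact finSum_zero _

/-- universe-general `biproduct.lift_desc` -/
lemma biproduct_lift_desc [HasFiniteBiproducts D] {J : Type*} [Fintype J] (A : J → D)
    {T U : D} (g : ∀ j, T ⟶ A j) (h : ∀ j, A j ⟶ U) :
    biproduct.lift g ≫ biproduct.desc h = ∑ j : J, g j ≫ h j := by
  classical
  have ht : ∑ j : J, biproduct.π A j ≫ biproduct.ι A j = 𝟙 (⨁ A) :=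
    IsBilimit.total (biproduct.isBilimit A)
  calc biproduct.lift g ≫ biproduct.desc h
      = biproduct.lift g ≫ 𝟙 _ ≫ biproduct.desc h := by rw [Category.id_comp]
    _ = biproduct.lift g ≫ (∑ j : J, biproduct.π A j ≫ biproduct.ι A j) ≫ biproduct.desc h := by
        rw [ht]
    _ = _ := by
        rw [Preadditive.sum_comp, Preadditive.comp_sum]
        refine Finset.sum_congr rfl (fun j _ => ?_)
        simp

/-- A finite biproduct of compact objects is compact. -/
lemma isCompact_biproduct [HasFiniteBiproducts D] {J : Type*} [Fintype J] (A : J → D)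
    (hA : ∀ j, CohDer.IsCompactObject (A j)) : CohDer.IsCompactObject (⨁ A) := by
  classical
  apply isCompact_of_finSum
  intro ι X m
  have h1 : m = ∑ j : J, biproduct.π A j ≫ (biproduct.ι A j ≫ m) := by
    calc m = 𝟙 _ ≫ m := (Category.id_comp m).symm
      _ = (∑ j : J, biproduct.π A j ≫ biproduct.ι A j) ≫ m := by
          rw [← IsBilimit.total (biproduct.isBilimit A)]
      _ = _ := by rw [Preadditive.sum_comp]; simp
  rw [h1]
  exact finSum_sum _ _ _ (fun j _ => (finSum_of_compact (hA j) X _).precomp _)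

end Basic

section Tri

variable {D : Type u} [Category.{v} D] [Preadditive D] [HasZeroObject D] [HasShift D ℤ]
    [∀ n : ℤ, (shiftFunctor D n).Additive] [Pretriangulated D] [HasCoproducts.{v} D]

set_option backward.defeqAttrib.useBackward true in
set_option backward.isDefEq.respectTransparency false in
/-- 2-out-of-3: the middle term of a distinguished triangle with compact ends is compact. -/
lemma isCompact_of_distTriang₂ (T : Triangle D) (hT : T ∈ distinguishedTriangles)
    (h₁ : CohDer.IsCompactObject T.obj₁) (h₃ : CohDer.IsCompactObject T.obj₃) :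
    CohDer.IsCompactObject T.obj₂ := by
  classical
  apply isCompact_of_finSum
  intro ι X m
  obtain ⟨F, a, ha0, ha⟩ := finSum_of_compact h₁ X (T.mor₁ ≫ m)
  -- the inverse rotation
  have hT' := inv_rot_of_distTriang _ hT
  obtain ⟨u, hu, hex⟩ : ∃ (u : (shiftFunctor D (-1 : ℤ)).obj T.obj₃ ⟶ T.obj₁), u ≫ T.mor₁ = 0 ∧
      ∀ {Y : D} (x : T.obj₁ ⟶ Y), u ≫ x = 0 → ∃ b : T.obj₂ ⟶ Y, x = T.mor₁ ≫ b :=
    ⟨T.invRotate.mor₁, comp_distTriang_mor_zero₁₂ _ hT',
      fun x hx => Triangle.yoneda_exact₂ _ hT' x hx⟩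
  have hua : ∀ i, u ≫ a i = 0 := by
    apply finSum_inj' X F (fun i => u ≫ a i)
    · intro i hi
      change u ≫ a i = 0
      rw [ha0 i hi, comp_zero]
    · have : u ≫ (T.mor₁ ≫ m) = 0 := by rw [← Category.assoc, hu, zero_comp]
      rw [ha, Preadditive.comp_sum] at this
      simpa only [Category.assoc] using this
  have hb : ∀ i, ∃ b : T.obj₂ ⟶ X i, a i = T.mor₁ ≫ b := fun i => hex (a i) (hua i)
  choose b hb using hb
  have hm' : T.mor₁ ≫ (m - ∑ i ∈ F, b i ≫ Sigma.ι X i) = 0 := by
    rw [Preadditive.comp_sub, ha, Preadditive.comp_sum, sub_eq_zero]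
    refine Finset.sum_congr rfl (fun i _ => ?_)
    rw [hb i, Category.assoc]
  obtain ⟨c, hc⟩ := Triangle.yoneda_exact₂ _ hT _ hm'
  have h2 : m = T.mor₂ ≫ c + ∑ i ∈ F, b i ≫ Sigma.ι X i := by
    rw [← hc]; abel
  rw [h2]
  exact ((finSum_of_compact h₃ X c).precomp T.mor₂).add (FinSum.of_sum _ F b)

instance : ObjectProperty.IsClosedUnderIsomorphisms
    (fun K : D => CohDer.IsCompactObject K) where
  of_iso e h := isCompact_of_iso e h

theorem isTriangulated_isCompact :
    ObjectProperty.IsTriangulated (fun K : D => CohDer.IsCompactObject K) :=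
  { exists_zero := ⟨0, isZero_zero D, isCompact_of_isZero (isZero_zero D)⟩
    isStableUnderShiftBy := fun n =>
      { le_shift := fun K hK => isCompact_shift hK n }
    ext₂' := fun T hT h₁ h₃ =>
      ObjectProperty.le_isoClosure _ _ (isCompact_of_distTriang₂ T hT h₁ h₃) }

/-- 2-out-of-3: first term. -/
lemma isCompact_of_distTriang₁ (T : Triangle D) (hT : T ∈ distinguishedTriangles)
    (h₂ : CohDer.IsCompactObject T.obj₂) (h₃ : CohDer.IsCompactObject T.obj₃) :
    CohDer.IsCompactObject T.obj₁ := by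
  have := isCompact_of_distTriang₂ _ (inv_rot_of_distTriang _ hT) (isCompact_shift h₃ (-1)) h₂
  exact this

/-- 2-out-of-3: third term. -/
lemma isCompact_of_distTriang₃ (T : Triangle D) (hT : T ∈ distinguishedTriangles)
    (h₁ : CohDer.IsCompactObject T.obj₁) (h₂ : CohDer.IsCompactObject T.obj₂) :
    CohDer.IsCompactObject T.obj₃ := by
  have := isCompact_of_distTriang₂ _ (rot_of_distTriang _ hT) h₂ (isCompact_shift h₁ 1)
  exact this

end Tri

end Helper89.Compact
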