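import Mathlib
import Groth.Prelude.Def_CohDer
import Groth.Agent.Lib.Helper89.Compact

/-!
# Helper89: Stacks 09SN — maps from compact objects into iterated cones of sums of shifts of
compact objects factor through the triangulated envelope of finitely many of them.
-/

set_option autoImplicit false
set_option linter.unusedSectionVars false
set_option linter.style.haveILetI false
set_option linter.unusedVariables false
universe v u
open CategoryTheory CategoryTheory.Limits CategoryTheory.Pretriangulated ZeroObject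
open Groth.Agent.Lib.Helper40.Cpt Helper89.Compact

namespace Helper89.CompactFactor

variable {D : Type u} [Category.{v} D] [Preadditive D] [HasZeroObject D] [HasShift D ℤ]
    [∀ n : ℤ, (shiftFunctor D n).Additive] [Pretriangulated D] [IsTriangulated D]
    [HasCoproducts.{v} D] {ι : Type v} (E : ι → D)

/-- The triangulated envelope of the finite subfamily indexed by `s`. -/
abbrev Env (s : Finset ι) : ObjectProperty D :=
  ObjectProperty.triangEnvelope (fun Y : D => ∃ i ∈ s, Y = E i)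

lemma env_mono {s t : Finset ι} (h : s ⊆ t) : Env E s ≤ Env E t :=
  ObjectProperty.monotone_triangEnvelope (fun _ ⟨i, hi, hY⟩ => ⟨i, h hi, hY⟩)

lemma env_nonempty {s : Finset ι} {i : ι} (hi : i ∈ s) :
    ObjectProperty.Nonempty (fun Y : D => ∃ i ∈ s, Y = E i) :=
  ⟨E i, i, hi, rfl⟩

lemma env_of_mem {s : Finset ι} {i : ι} (hi : i ∈ s) : Env E s (E i) :=
  ObjectProperty.le_triangEnvelope _ _ ⟨i, hi, rfl⟩

lemma env_shift {s : Finset ι} {X : D} (h : Env E s X) (n : ℤ) : Env E s (X⟦n⟧) :=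
  (Env E s).le_shift n _ h

lemma env_ext₂ {s : Finset ι} {i₀ : ι} (hi₀ : i₀ ∈ s) (T : Triangle D)
    (hT : T ∈ distinguishedTriangles) (h₁ : Env E s T.obj₁) (h₃ : Env E s T.obj₃) :
    Env E s T.obj₂ := by
  haveI := env_nonempty E hi₀
  exact (Env E s).ext_of_isTriangulatedClosed₂ T hT h₁ h₃

lemma env_zero {s : Finset ι} {i₀ : ι} (hi₀ : i₀ ∈ s) {Z : D} (hZ : IsZero Z) : Env E s Z := by
  haveI := env_nonempty E hi₀
  exact (Env E s).prop_of_isZero hZ

lemma env_biprod {s : Finset ι} {i₀ : ι} (hi₀ : i₀ ∈ s) {X Y : D} (hX : Env E s X)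
    (hY : Env E s Y) : Env E s (X ⊞ Y) :=
  env_ext₂ E hi₀ _ (binaryBiproductTriangle_distinguished X Y) hX hY

lemma env_biproduct {s : Finset ι} {i₀ : ι} (hi₀ : i₀ ∈ s) {J : Type*} [Finite J] (A : J → D)
    (hA : ∀ j, Env E s (A j)) : Env E s (⨁ A) := by
  haveI := env_nonempty E hi₀
  exact (Env E s).prop_of_isLimit_fan (biproduct.isLimit A) hA

/-- The conclusion: `φ` factors through an object of the envelope of finitely many `E i`. -/
def Fact {C X : D} (φ : C ⟶ X) : Prop :=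
  ∃ (s : Finset ι) (E' : D) (g : C ⟶ E') (h : E' ⟶ X), Env E s E' ∧ g ≫ h = φ

variable {E}

lemma Fact.comp {C X X' : D} {φ : C ⟶ X} (h : Fact E φ) (e : X ⟶ X') : Fact E (φ ≫ e) := by
  obtain ⟨s, E', g, h, hE', hgh⟩ := h
  exact ⟨s, E', g, h ≫ e, hE', by rw [← Category.assoc, hgh]⟩

/-- A `FinSum` map from `C` to `W` through a family of objects in envelopes factors through a
finite biproduct (which is compact if the family consists of compact objects). -/
lemma exists_factor_of_finSum [Nonempty ι] {κ : Type v} {C W : D} (X : κ → D) (a : κ → ι)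
    (hX : ∀ k, Env E {a k} (X k)) (t : ∀ k, X k ⟶ W) (φ : C ⟶ W) (hφ : FinSum C t φ) :
    ∃ (s : Finset ι) (E₁ : D) (g : C ⟶ E₁) (h : E₁ ⟶ W), s.Nonempty ∧ Env E s E₁ ∧ g ≫ h = φ ∧
      ((∀ k, CohDer.IsCompactObject (X k)) → CohDer.IsCompactObject E₁) := by
  classical
  obtain ⟨F, g, -, hg⟩ := hφ
  obtain ⟨i₀⟩ := ‹Nonempty ι›
  refine ⟨insert i₀ (F.image a), ⨁ (fun k : F => X k), biproduct.lift (fun k => g k),
    biproduct.desc (fun k => t k), ⟨i₀, Finset.mem_insert_self _ _⟩, ?_, ?_, ?_⟩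
  · refine env_biproduct E (Finset.mem_insert_self i₀ _) _ (fun k => ?_)
    refine env_mono E ?_ _ (hX k)
    intro i hi
    rw [Finset.mem_singleton] at hi
    subst hi
    exact Finset.mem_insert_of_mem (Finset.mem_image_of_mem a k.2)
  · rw [biproduct_lift_desc, hg]
    exact Finset.sum_coe_sort F (fun k => g k ≫ t k)
  · intro hc
    exact isCompact_biproduct _ (fun k => hc k)

set_option backward.defeqAttrib.useBackward true in
set_option backward.isDefEq.respectTransparency false in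
/-- maps from a compact object to a shifted coproduct are finite sums -/
lemma finSum_shift {C : D} (hC : CohDer.IsCompactObject C) {κ : Type v} (X : κ → D) (n : ℤ)
    (φ : C ⟶ (∐ X)⟦n⟧) : FinSum C (fun k => (Sigma.ι X k)⟦n⟧') φ := by
  have hiso : IsIso (sigmaComparison (shiftFunctor D n) X) := inferInstance
  refine finSum_transfer _ (Sigma.ι (fun k => (X k)⟦n⟧)) (fun k => Iso.refl _)
    (asIso (sigmaComparison (shiftFunctor D n) X)).symm (fun k => ?_) φ
    (finSum_of_compact hC _ _)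
  dsimp
  rw [Category.id_comp, IsIso.comp_inv_eq, ι_comp_sigmaComparison]

variable (E)

set_option backward.defeqAttrib.useBackward true in
set_option backward.isDefEq.respectTransparency false in
theorem factor [Nonempty ι] (hc : ∀ i, CohDer.IsCompactObject (E i))
    (K : ℕ → D) (f : ∀ n, K n ⟶ K (n + 1))
    (h0 : ∃ (κ : Type v) (a : κ → ι) (m : κ → ℤ),
      Nonempty (K 0 ≅ ∐ (fun k => (shiftFunctor D (m k)).obj (E (a k)))))
    (hstep : ∀ n, ∃ (κ : Type v) (a : κ → ι) (m : κ → ℤ)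
      (y : (∐ fun k => (shiftFunctor D (m k)).obj (E (a k))) ⟶ K n)
      (z : K (n + 1) ⟶ (shiftFunctor D (1 : ℤ)).obj (∐ fun k => (shiftFunctor D (m k)).obj (E (a k)))),
      Triangle.mk y (f n) z ∈ distinguishedTriangles) :
    ∀ (n : ℕ) (C : D), CohDer.IsCompactObject C → ∀ φ : C ⟶ K n, Fact E φ := by
  classical
  intro n
  induction n with
  | zero =>
    intro C hC φ
    obtain ⟨κ, a, m, ⟨e⟩⟩ := h0
    obtain ⟨s, E₁, g, h, -, hE₁, hgh, -⟩ := exists_factor_of_finSum (E := E)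
      (fun k => (shiftFunctor D (m k)).obj (E (a k))) a
      (fun k => env_shift E (env_of_mem E (Finset.mem_singleton_self _)) _)
      (Sigma.ι _) (φ ≫ e.hom) (finSum_of_compact hC _ _)
    refine ⟨s, E₁, g, h ≫ e.inv, hE₁, ?_⟩
    rw [← Category.assoc, hgh, Category.assoc, e.hom_inv_id, Category.comp_id]
  | succ n ih =>
    intro C hC φ
    obtain ⟨κ, a, m, y, z, hT⟩ := hstep n
    have hT₂ := rot_of_distTriang _ hT
    -- step 1: factor `φ ≫ z` through a finite sum of shifts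
    obtain ⟨s₁, E₁, gE, hE, ⟨i₁, hi₁⟩, hE₁, hgE, hE₁c⟩ := exists_factor_of_finSum (E := E)
      (fun k => ((shiftFunctor D (m k)).obj (E (a k)))⟦(1 : ℤ)⟧) a
      (fun k => env_shift E (env_shift E (env_of_mem E (Finset.mem_singleton_self _)) _) _)
      (fun k => (Sigma.ι (fun k => (shiftFunctor D (m k)).obj (E (a k))) k)⟦(1 : ℤ)⟧')
      (φ ≫ z) (finSum_shift hC _ _ _)
    have hE₁c' : CohDer.IsCompactObject E₁ :=
      hE₁c (fun k => isCompact_shift (isCompact_shift (hc _) _) _)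
    -- the cocone of `gE`
    obtain ⟨C', u, w, hT₁⟩ := distinguished_cocone_triangle₁ gE
    have hC' : CohDer.IsCompactObject C' := isCompact_of_distTriang₁ _ hT₁ hC hE₁c'
    obtain ⟨ψ, hψ₁, hψ₃⟩ := complete_distinguished_triangle_morphism₁ _ _ hT₁ hT₂ φ hE hgE
    dsimp at ψ hψ₁ hψ₃
    -- induction for ψ
    obtain ⟨s₂, E₂, g₂, h₂, hE₂, hgh₂⟩ := ih C' hC' ψ
    -- the object E₃
    obtain ⟨E₃, p, q, hT₃⟩ := distinguished_cocone_triangle₂ (w ≫ g₂⟦(1 : ℤ)⟧')
    have hi₁' : i₁ ∈ s₁ ∪ s₂ := Finset.mem_union_left _ hi₁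
    have hE₃ : Env E (s₁ ∪ s₂) E₃ :=
      env_ext₂ E hi₁' _ hT₃ (env_mono E Finset.subset_union_right _ hE₂)
        (env_mono E Finset.subset_union_left _ hE₁)
    obtain ⟨b, hb₁, hb₂⟩ := complete_distinguished_triangle_morphism₂ _ _ hT₁ hT₃ g₂ (𝟙 E₁)
      (by dsimp; rw [Category.id_comp])
    dsimp at b hb₁ hb₂
    rw [Category.comp_id] at hb₂
    obtain ⟨b', hb'₁, hb'₂⟩ := complete_distinguished_triangle_morphism₂ _ _ hT₃ hT₂ h₂ hE (by
      dsimp
      rw [Category.assoc, ← Functor.map_comp, hgh₂]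
      exact hψ₃)
    dsimp at b' hb'₁ hb'₂
    -- compare
    have hz : (φ - b ≫ b') ≫ z = 0 := by
      rw [Preadditive.sub_comp, Category.assoc, ← hb'₂, ← Category.assoc, ← hb₂, hgE, sub_self]
    obtain ⟨δ, hδ⟩ := Triangle.coyoneda_exact₃ _ hT (φ - b ≫ b') hz
    dsimp at δ hδ
    obtain ⟨s₄, E₄, g₄, h₄, hE₄, hgh₄⟩ := ih C hC δ
    have hi₁'' : i₁ ∈ s₁ ∪ s₂ ∪ s₄ := Finset.mem_union_left _ hi₁'
    refine ⟨s₁ ∪ s₂ ∪ s₄, E₃ ⊞ E₄, biprod.lift b g₄, biprod.desc b' (h₄ ≫ f n), ?_, ?_⟩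
    · exact env_biprod E hi₁'' (env_mono E Finset.subset_union_left _ hE₃)
        (env_mono E Finset.subset_union_right _ hE₄)
    · rw [biprod.lift_desc, ← Category.assoc, hgh₄, ← hδ]
      abel

end Helper89.CompactFactor
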