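import Mathlib
import Groth.Prelude.Def_DerLim

set_option autoImplicit false
universe v u
open CategoryTheory CategoryTheory.Limits CategoryTheory.Pretriangulated

namespace Groth.Agent.Lib.Helper89.HocolimSubseq

section General

variable {D : Type u} [Category.{v} D] [Preadditive D] [HasZeroObject D] [HasShift D ℤ]
    [∀ n : ℤ, (shiftFunctor D n).Additive] [Pretriangulated D]

/-- An endomorphism of a distinguished triangle whose first two components are homotopic to the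
identity (via `h : Y ⟶ X`) has invertible third component. -/
lemma isIso_hom₃_of_homotopy_id (T : Triangle D) (hT : T ∈ distTriang D) (φ : T ⟶ T)
    (h : T.obj₂ ⟶ T.obj₁) (h1 : φ.hom₁ = 𝟙 _ + T.mor₁ ≫ h) (h2 : φ.hom₂ = 𝟙 _ + h ≫ T.mor₁) :
    IsIso φ.hom₃ := by
  have c2 : T.mor₂ ≫ φ.hom₃ = 𝟙 _ ≫ T.mor₂ := by
    rw [φ.comm₂, h2, Preadditive.add_comp, Category.assoc, comp_distTriang_mor_zero₁₂ _ hT,
      comp_zero, add_zero]
  have c3 : T.mor₃ ≫ (𝟙 T.obj₁)⟦(1 : ℤ)⟧' = φ.hom₃ ≫ T.mor₃ := by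
    rw [← φ.comm₃, h1, Functor.map_add, Functor.map_comp, Preadditive.comp_add,
      ← Category.assoc, comp_distTriang_mor_zero₃₁ _ hT, zero_comp, add_zero]
  let ψ : T ⟶ T :=
    { hom₁ := 𝟙 _, hom₂ := 𝟙 _, hom₃ := φ.hom₃
      comm₁ := by simp
      comm₂ := c2
      comm₃ := c3 }
  exact isIso₃_of_isIso₁₂ ψ hT hT (by dsimp [ψ]; infer_instance) (by dsimp [ψ]; infer_instance)

/-- A morphism of distinguished triangles whose first two components form a homotopy equivalence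
of the 2-term complexes `X ⟶ Y` has invertible third component. -/
lemma isIso_hom₃_of_homotopyEquiv (T T' : Triangle D) (hT : T ∈ distTriang D)
    (hT' : T' ∈ distTriang D) (φ : T' ⟶ T)
    (e : T.obj₁ ⟶ T'.obj₁) (d : T.obj₂ ⟶ T'.obj₂) (comm : T.mor₁ ≫ d = e ≫ T'.mor₁)
    (h : T.obj₂ ⟶ T.obj₁) (h' : T'.obj₂ ⟶ T'.obj₁)
    (ea : e ≫ φ.hom₁ = 𝟙 _ + T.mor₁ ≫ h) (db : d ≫ φ.hom₂ = 𝟙 _ + h ≫ T.mor₁)
    (ae : φ.hom₁ ≫ e = 𝟙 _ + T'.mor₁ ≫ h') (bd : φ.hom₂ ≫ d = 𝟙 _ + h' ≫ T'.mor₁) :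
    IsIso φ.hom₃ := by
  obtain ⟨c', hc'1, hc'2⟩ := complete_distinguished_triangle_morphism T T' hT hT' e d comm
  let ψ : T ⟶ T' := { hom₁ := e, hom₂ := d, hom₃ := c', comm₁ := comm, comm₂ := hc'1, comm₃ := hc'2 }
  have i1 : IsIso (φ ≫ ψ).hom₃ :=
    isIso_hom₃_of_homotopy_id T' hT' (φ ≫ ψ) h' (by simpa [ψ] using ae) (by simpa [ψ] using bd)
  have i2 : IsIso (ψ ≫ φ).hom₃ :=
    isIso_hom₃_of_homotopy_id T hT (ψ ≫ φ) h (by simpa [ψ] using ea) (by simpa [ψ] using db)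
  have i1' : IsIso (φ.hom₃ ≫ c') := by simpa [ψ] using i1
  have i2' : IsIso (c' ≫ φ.hom₃) := by simpa [ψ] using i2
  have hm : Mono φ.hom₃ := mono_of_mono _ c'
  have : IsSplitEpi φ.hom₃ := ⟨⟨inv (c' ≫ φ.hom₃) ≫ c', by simp⟩⟩
  exact isIso_of_mono_of_isSplitEpi _

end General

section Concrete

variable {D : Type u} [Category.{v} D] [Preadditive D] (F : ℕ ⥤ D)

/-- transition map `F m ⟶ F k`, zero when not `m ≤ k`. -/
noncomputable def tr (m k : ℕ) : F.obj m ⟶ F.obj k :=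
  if h : m ≤ k then F.map (homOfLE h) else 0

lemma tr_of_le {m k : ℕ} (h : m ≤ k) : tr F m k = F.map (homOfLE h) := dif_pos h

lemma tr_self (m : ℕ) : tr F m m = 𝟙 _ := by
  rw [tr_of_le F le_rfl]; exact F.map_id _

lemma tr_comp {m k l : ℕ} (h : m ≤ k) (h' : k ≤ l) : tr F m k ≫ tr F k l = tr F m l := by
  rw [tr_of_le F h, tr_of_le F h', tr_of_le F (h.trans h'), ← F.map_comp]; rfl

variable [HasCoproduct (fun m : ℕ => F.obj m)]

/-- the big coproduct -/
noncomputable abbrev S : D := ∐ (fun m : ℕ => F.obj m)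

noncomputable abbrev ιS (m : ℕ) : F.obj m ⟶ S F := Sigma.ι (fun m : ℕ => F.obj m) m

/-- partial telescope -/
noncomputable def tel (m m' : ℕ) : F.obj m ⟶ S F :=
  ∑ k ∈ Finset.Ico m m', tr F m k ≫ ιS F k

/-- `1 - shift` -/
noncomputable abbrev uS : S F ⟶ S F :=
  𝟙 _ - DerLim.shiftMap (fun m => F.obj m) (fun m => F.map (homOfLE (Nat.le_succ m)))

lemma ι_uS (m : ℕ) : ιS F m ≫ uS F = ιS F m - tr F m (m + 1) ≫ ιS F (m + 1) := by
  rw [uS, Preadditive.comp_sub, Category.comp_id, DerLim.shiftMap, Sigma.ι_desc,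
    tr_of_le F (Nat.le_succ m)]

lemma tel_self (m : ℕ) : tel F m m = 0 := by simp [tel]

lemma tel_succ {m m' : ℕ} (h : m ≤ m') : tel F m (m' + 1) = tel F m m' + tr F m m' ≫ ιS F m' := by
  rw [tel, tel, Finset.sum_Ico_succ_top h]

lemma tel_uS {m m' : ℕ} (h : m ≤ m') :
    tel F m m' ≫ uS F = ιS F m - tr F m m' ≫ ιS F m' := by
  induction m', h using Nat.le_induction with
  | base => rw [tel_self, zero_comp, tr_self, Category.id_comp, sub_self]
  | succ m' h ih =>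
    rw [tel_succ F h, Preadditive.add_comp, ih, Category.assoc, ι_uS, Preadditive.comp_sub,
      ← Category.assoc (tr F m m'), tr_comp F h (Nat.le_succ m')]
    abel

lemma tel_head {m m' : ℕ} (h : m < m') :
    tel F m m' = ιS F m + tr F m (m + 1) ≫ tel F (m + 1) m' := by
  rw [tel, Finset.sum_eq_sum_Ico_succ_bot h, tr_self, Category.id_comp, tel, Preadditive.comp_sum]
  congr 1
  apply Finset.sum_congr rfl
  intro k hk
  rw [Finset.mem_Ico] at hk
  rw [← Category.assoc, tr_comp F (Nat.le_succ m) hk.1]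

end Concrete

section Index

variable {n : ℕ → ℕ} (hn : StrictMono n)

/-- smallest `i` with `m ≤ n i` -/
noncomputable def r (m : ℕ) : ℕ := by
  classical exact Nat.find (⟨m, hn.le_apply⟩ : ∃ i, m ≤ n i)

lemma r_spec (m : ℕ) : m ≤ n (r hn m) := by
  classical exact Nat.find_spec (⟨m, hn.le_apply⟩ : ∃ i, m ≤ n i)

lemma r_min {m j : ℕ} (h : j < r hn m) : n j < m := by
  classical exact not_le.1 (Nat.find_min (⟨m, hn.le_apply⟩ : ∃ i, m ≤ n i) h)

lemma r_eq {m i : ℕ} (h1 : m ≤ n i) (h2 : ∀ j < i, n j < m) : r hn m = i := by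
  classical
  exact (Nat.find_eq_iff (⟨m, hn.le_apply⟩ : ∃ i, m ≤ n i)).2 ⟨h1, fun j hj => not_le.2 (h2 j hj)⟩

lemma r_n (i : ℕ) : r hn (n i) = i := r_eq hn le_rfl (fun _ hj => hn hj)

lemma r_succ_of_lt {m : ℕ} (h : m < n (r hn m)) : r hn (m + 1) = r hn m :=
  r_eq hn h (fun _ hj => (r_min hn hj).trans (Nat.lt_succ_self _))

lemma r_succ_n (i : ℕ) : r hn (n i + 1) = i + 1 :=
  r_eq hn (hn (Nat.lt_succ_self i)) (fun j hj => by
    have := hn.monotone (Nat.le_of_lt_succ hj); omega)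

end Index

section Maps

variable {D : Type u} [Category.{v} D] [Preadditive D] (F : ℕ ⥤ D) {n : ℕ → ℕ} (hn : StrictMono n)
  [HasCoproduct (fun m : ℕ => F.obj m)] [HasCoproduct (fun i : ℕ => F.obj (n i))]

/-- the small coproduct -/
noncomputable abbrev S' (n : ℕ → ℕ) [HasCoproduct (fun i : ℕ => F.obj (n i))] : D :=
  ∐ (fun i : ℕ => F.obj (n i))

noncomputable abbrev ιS' (i : ℕ) : F.obj (n i) ⟶ S' F n := Sigma.ι (fun i : ℕ => F.obj (n i)) i

noncomputable abbrev uS' : S' F n ⟶ S' F n :=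
  𝟙 _ - DerLim.shiftMap (fun i => F.obj (n i))
    (fun i => F.map (homOfLE (hn.monotone (Nat.le_succ i))))

lemma ι_uS' (i : ℕ) :
    ιS' F i ≫ uS' F hn = ιS' F i - tr F (n i) (n (i + 1)) ≫ ιS' F (i + 1) := by
  rw [uS', Preadditive.comp_sub, Category.comp_id, DerLim.shiftMap, Sigma.ι_desc,
    tr_of_le F (hn.monotone (Nat.le_succ i))]

/-- `F m ⟶ F (n j) ⟶ S'` -/
noncomputable def ψ (m j : ℕ) : F.obj m ⟶ S' F n := tr F m (n j) ≫ ιS' F j

lemma ψ_self {i j : ℕ} (h : j = i) : ψ F (n i) j = ιS' F i := by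
  subst h; rw [ψ, tr_self, Category.id_comp]

noncomputable def mapA : S' F n ⟶ S F := Sigma.desc (fun i => tel F (n i) (n (i + 1)))
noncomputable def mapB : S' F n ⟶ S F := Sigma.desc (fun i => ιS F (n i))
noncomputable def mapD : S F ⟶ S' F n := Sigma.desc (fun m => ψ F m (r hn m))
open Classical in
noncomputable def mapE : S F ⟶ S' F n :=
  Sigma.desc (fun m => if m = n (r hn m) then ψ F m (r hn m) else 0)
noncomputable def mapH : S F ⟶ S F := Sigma.desc (fun m => - tel F m (n (r hn m)))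

lemma comm_ab : uS' F hn ≫ mapB F = mapA F ≫ uS F := by
  apply Sigma.hom_ext
  intro i
  rw [← Category.assoc, ι_uS', Preadditive.sub_comp, Category.assoc, mapB, Sigma.ι_desc,
    Sigma.ι_desc, mapA, ← Category.assoc, Sigma.ι_desc, tel_uS F (hn.monotone (Nat.le_succ i))]

lemma comm_de : uS F ≫ mapD F hn = mapE F hn ≫ uS' F hn := by
  apply Sigma.hom_ext
  intro m
  rw [← Category.assoc, ι_uS, Preadditive.sub_comp, Category.assoc, mapD, Sigma.ι_desc,
    Sigma.ι_desc, mapE, ← Category.assoc, Sigma.ι_desc]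
  by_cases hm : m = n (r hn m)
  · rw [if_pos hm]
    have h1 : r hn (m + 1) = r hn m + 1 := by
      conv_lhs => rw [hm]
      exact r_succ_n hn _
    rw [h1, ψ, Category.assoc, ι_uS', Preadditive.comp_sub, ψ, ← Category.assoc (tr F m (m+1)),
      tr_comp F (Nat.le_succ m) (by rw [← h1]; exact r_spec hn (m+1)),
      ← Category.assoc (tr F m (n (r hn m))), tr_comp F (r_spec hn m) (hn.monotone (Nat.le_succ _))]
  · rw [if_neg hm, zero_comp]
    have hlt : m < n (r hn m) := lt_of_le_of_ne (r_spec hn m) hm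
    rw [r_succ_of_lt hn hlt, ψ, ψ, ← Category.assoc, tr_comp F (Nat.le_succ m) hlt, sub_self]

lemma ea : mapE F hn ≫ mapA F = 𝟙 _ + uS F ≫ mapH F hn := by
  apply Sigma.hom_ext
  intro m
  rw [Preadditive.comp_add, Category.comp_id, ← Category.assoc (ιS F m) (uS F), ι_uS,
    Preadditive.sub_comp, Category.assoc, mapH, Sigma.ι_desc, Sigma.ι_desc, mapE, Sigma.ι_desc_assoc]
  by_cases hm : m = n (r hn m)
  · rw [if_pos hm]
    have h1 : r hn (m + 1) = r hn m + 1 := by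
      conv_lhs => rw [hm]
      exact r_succ_n hn _
    have h2 : tel F m (n (r hn m)) = 0 := by
      conv_lhs => rw [← hm]
      exact tel_self F m
    have h3 : m < n (r hn m + 1) := by
      conv_lhs => rw [hm]
      exact hn (Nat.lt_succ_self _)
    rw [h1, h2, ψ, Category.assoc, mapA, Sigma.ι_desc]
    have h4 : tr F m (n (r hn m)) ≫ tel F (n (r hn m)) (n (r hn m + 1)) =
        tel F m (n (r hn m + 1)) := by
      have : ∀ k, k = m → tr F m k ≫ tel F k (n (r hn m + 1)) = tel F m (n (r hn m + 1)) := by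
        rintro k rfl; rw [tr_self, Category.id_comp]
      exact this _ hm.symm
    rw [h4, tel_head F h3]
    simp
  · rw [if_neg hm, zero_comp]
    have hlt : m < n (r hn m) := lt_of_le_of_ne (r_spec hn m) hm
    rw [r_succ_of_lt hn hlt, tel_head F hlt]
    simp

lemma db : mapD F hn ≫ mapB F = 𝟙 _ + mapH F hn ≫ uS F := by
  apply Sigma.hom_ext
  intro m
  rw [Preadditive.comp_add, Category.comp_id, mapD, ← Category.assoc, Sigma.ι_desc, mapH,
    ← Category.assoc, Sigma.ι_desc, Preadditive.neg_comp, tel_uS F (r_spec hn m), ψ, Category.assoc,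
    mapB, Sigma.ι_desc]
  abel

lemma bd : mapB F ≫ mapD F hn = 𝟙 _ := by
  apply Sigma.hom_ext
  intro i
  rw [Category.comp_id, mapB, ← Category.assoc, Sigma.ι_desc, mapD, Sigma.ι_desc,
    ψ_self F (r_n hn i)]

lemma ae : mapA F ≫ mapE F hn = 𝟙 _ := by
  classical
  apply Sigma.hom_ext
  intro i
  rw [Category.comp_id, mapA, ← Category.assoc, Sigma.ι_desc, tel, Preadditive.sum_comp,
    Finset.sum_eq_single (n i)]
  · rw [Category.assoc, mapE, Sigma.ι_desc, if_pos (by rw [r_n hn i]), tr_self, Category.id_comp,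
      ψ_self F (r_n hn i)]
  · intro k hk hne
    rw [Finset.mem_Ico] at hk
    rw [Category.assoc, mapE, Sigma.ι_desc, if_neg, comp_zero]
    intro hk'
    have h1 : n i < n (r hn k) := by rw [← hk']; exact lt_of_le_of_ne hk.1 (Ne.symm hne)
    have h2 : n (r hn k) < n (i + 1) := by rw [← hk']; exact hk.2
    have h1' := hn.lt_iff_lt.1 h1
    have h2' := hn.lt_iff_lt.1 h2
    omega
  · intro hni
    exact absurd (Finset.mem_Ico.2 ⟨le_rfl, hn (Nat.lt_succ_self i)⟩) hni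

end Maps

section Main

variable {D : Type u} [Category.{v} D] [Preadditive D] [HasZeroObject D] [HasShift D ℤ]
    [∀ n : ℤ, (shiftFunctor D n).Additive] [Pretriangulated D]

/-- Stacks 0CRJ: the homotopy colimit of a subsequence agrees with the homotopy colimit of the
sequence. -/
theorem hocolim_subsequence_iso
    (F : ℕ ⥤ D) (n : ℕ → ℕ) (hn : StrictMono n)
    [HasCoproduct (fun m : ℕ => F.obj m)] [HasCoproduct (fun i : ℕ => F.obj (n i))]
    (L : D) (ι : ∀ m : ℕ, F.obj m ⟶ L)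
    (hL : DerLim.IsHocolim (fun m : ℕ => F.obj m)
      (fun m : ℕ => F.map (homOfLE (Nat.le_succ m))) L ι)
    (L' : D) (ι' : ∀ i : ℕ, F.obj (n i) ⟶ L')
    (hL' : DerLim.IsHocolim (fun i : ℕ => F.obj (n i))
      (fun i : ℕ => F.map (homOfLE (hn.monotone (Nat.le_succ i)))) L' ι') :
    ∃ e : L' ≅ L, ∀ i : ℕ, ι' i ≫ e.hom = ι (n i) := by
  obtain ⟨c, hc⟩ := hL
  obtain ⟨c', hc'⟩ := hL'
  obtain ⟨(γ : L' ⟶ L), (hγ1 : Sigma.desc ι' ≫ γ = mapB F ≫ Sigma.desc ι), hγ2⟩ :=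
    complete_distinguished_triangle_morphism _ _ hc' hc (mapA F) (mapB F) (comm_ab F hn)
  let φ : Triangle.mk (uS' F hn) (Sigma.desc ι') c' ⟶ Triangle.mk (uS F) (Sigma.desc ι) c :=
    { hom₁ := mapA F, hom₂ := mapB F, hom₃ := γ, comm₁ := comm_ab F hn, comm₂ := hγ1, comm₃ := hγ2 }
  have hae : mapA F ≫ mapE F hn = 𝟙 (S' F n) + uS' F hn ≫ (0 : S' F n ⟶ S' F n) := by
    rw [comp_zero, add_zero]; exact ae F hn
  have hbd : mapB F ≫ mapD F hn = 𝟙 (S' F n) + (0 : S' F n ⟶ S' F n) ≫ uS' F hn := by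
    rw [zero_comp, add_zero]; exact bd F hn
  have hiso : IsIso γ :=
    isIso_hom₃_of_homotopyEquiv _ _ hc hc' φ (mapE F hn) (mapD F hn) (comm_de F hn) (mapH F hn)
      (0 : S' F n ⟶ S' F n) (ea F hn) (db F hn) hae hbd
  refine ⟨@asIso _ _ _ _ γ hiso, fun i => ?_⟩
  calc ι' i ≫ γ = Sigma.ι (fun i : ℕ => F.obj (n i)) i ≫ Sigma.desc ι' ≫ γ := by
        rw [Sigma.ι_desc_assoc]
  _ = _ := by rw [hγ1, mapB, Sigma.ι_desc_assoc, Sigma.ι_desc]

end Main


end Groth.Agent.Lib.Helper89.HocolimSubseq
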