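import Mathlib
import Groth.Prelude.Def_DerLim
import Groth.Agent.Lib.Helper89.HocolimSubseq

set_option autoImplicit false
universe v u
open CategoryTheory CategoryTheory.Limits

namespace Groth.Agent.Lib.Helper89.HocolimAb

open Groth.Agent.Lib.Helper89.HocolimSubseq

section Preadd

variable {A : Type u} [Category.{v} A] [Preadditive A] (F : ℕ ⥤ A) [HasCoproduct F.obj]

/-- "sum everything up to `N` into `F N`" -/
noncomputable def σ (N : ℕ) : ∐ F.obj ⟶ F.obj N := Sigma.desc (fun n => tr F n N)

open Classical in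
/-- projection onto the `N`-th summand -/
noncomputable def π (N : ℕ) : ∐ F.obj ⟶ F.obj N :=
  Sigma.desc (fun n => if h : n = N then eqToHom (by rw [h]) else 0)

lemma ι_π_self (N : ℕ) : Sigma.ι F.obj N ≫ π F N = 𝟙 _ := by
  rw [π, Sigma.ι_desc, dif_pos rfl, eqToHom_refl]

lemma ι_π_ne {n N : ℕ} (h : n ≠ N) : Sigma.ι F.obj n ≫ π F N = 0 := by
  rw [π, Sigma.ι_desc, dif_neg h]

lemma tr_of_not_le {m k : ℕ} (h : ¬ m ≤ k) : tr F m k = 0 := dif_neg h

lemma uS_σ (N : ℕ) : uS F ≫ σ F N = π F N := by
  apply Sigma.hom_ext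
  intro n
  rw [← Category.assoc]
  erw [ι_uS F n]
  rw [Preadditive.sub_comp, Category.assoc]
  erw [Sigma.ι_desc, Sigma.ι_desc]
  rcases lt_trichotomy n N with h | h | h
  · rw [tr_comp F (Nat.le_succ n) h, sub_self, ι_π_ne F (ne_of_lt h)]
  · subst h
    rw [tr_self, tr_of_not_le F (Nat.not_succ_le_self n), comp_zero, sub_zero, ι_π_self]
  · rw [tr_of_not_le F (not_le.2 h), tr_of_not_le F (not_le.2 (h.trans (Nat.lt_succ_self n))),
      comp_zero, sub_zero, ι_π_ne F (ne_of_gt h)]

end Preadd

section Ab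

attribute [local instance] Abelian.hasFiniteBiproducts

variable {A : Type u} [Category.{v} A] [Abelian A] (F : ℕ ⥤ A)

/-- the ℕ-diagram of finite partial sums -/
noncomputable def G : ℕ ⥤ A where
  obj N := ⨁ (fun i : Fin N => F.obj i.val)
  map {M N} h := biproduct.desc (fun i : Fin M =>
    (biproduct.ι (fun i : Fin N => F.obj i.val) (Fin.castLE (leOfHom h) i) :
      F.obj i.val ⟶ ⨁ (fun i : Fin N => F.obj i.val)))
  map_id N := by
    apply biproduct.hom_ext'
    intro i
    rw [biproduct.ι_desc, Category.comp_id]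
    rfl
  map_comp {M N P} f g := by
    apply biproduct.hom_ext'
    intro i
    rw [biproduct.ι_desc, biproduct.ι_desc_assoc]
    erw [biproduct.ι_desc]
    rfl

/-- inclusion of the `n`-th summand in the `N`-th partial sum -/
noncomputable def ιG (N n : ℕ) (h : n < N) : F.obj n ⟶ (G F).obj N :=
  biproduct.ι (fun i : Fin N => F.obj i.val) ⟨n, h⟩

/-- projection of the `N`-th partial sum to the `n`-th summand -/
noncomputable def πG (N n : ℕ) (h : n < N) : (G F).obj N ⟶ F.obj n :=
  biproduct.π (fun i : Fin N => F.obj i.val) ⟨n, h⟩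

lemma G_hom_ext {N : ℕ} {Z : A} {f g : (G F).obj N ⟶ Z}
    (w : ∀ (n : ℕ) (h : n < N), ιG F N n h ≫ f = ιG F N n h ≫ g) : f = g := by
  apply biproduct.hom_ext'
  intro i
  exact w i.val i.isLt

lemma G_hom_ext' {N : ℕ} {Z : A} {f g : Z ⟶ (G F).obj N}
    (w : ∀ (n : ℕ) (h : n < N), f ≫ πG F N n h = g ≫ πG F N n h) : f = g := by
  apply biproduct.hom_ext
  intro i
  exact w i.val i.isLt

lemma ιG_map {M N : ℕ} (f : M ⟶ N) (n : ℕ) (h : n < M) :
    ιG F M n h ≫ (G F).map f = ιG F N n (lt_of_lt_of_le h (leOfHom f)) := by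
  dsimp only [ιG, G]
  rw [biproduct.ι_desc]
  rfl

lemma ιG_πG_self (N n : ℕ) (h : n < N) : ιG F N n h ≫ πG F N n h = 𝟙 _ := by
  dsimp only [ιG, πG]
  exact biproduct.ι_π_self _ _

lemma ιG_πG_ne (N n n' : ℕ) (h : n < N) (h' : n' < N) (hne : n ≠ n') :
    ιG F N n h ≫ πG F N n' h' = 0 := by
  dsimp only [ιG, πG]
  exact biproduct.ι_π_ne _ (fun e => hne (congrArg Fin.val e))

variable [HasCoproduct F.obj]

noncomputable def j (N : ℕ) : (G F).obj N ⟶ ∐ F.obj :=
  biproduct.desc (fun i : Fin N => Sigma.ι F.obj i.val)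

lemma ιG_j (N n : ℕ) (h : n < N) : ιG F N n h ≫ j F N = Sigma.ι F.obj n := by
  dsimp only [ιG, j]
  exact biproduct.ι_desc _ _

lemma G_map_j {M N : ℕ} (h : M ⟶ N) : (G F).map h ≫ j F N = j F M := by
  apply G_hom_ext
  intro n hn
  rw [← Category.assoc, ιG_map, ιG_j, ιG_j]

/-- the cocone of partial sums -/
noncomputable def cocone : Cocone (G F) where
  pt := ∐ F.obj
  ι := { app := fun N => j F N
         naturality := fun M N h => by
          rw [G_map_j F h]
          exact (Category.comp_id _).symm }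

noncomputable def isColimitCocone : IsColimit (cocone F) where
  desc s := Sigma.desc (fun n => ιG F (n + 1) n (Nat.lt_succ_self n) ≫ s.ι.app (n + 1))
  fac s N := by
    apply G_hom_ext
    intro n hn
    change ιG F N n hn ≫ j F N ≫ _ = _
    rw [← Category.assoc, ιG_j, Sigma.ι_desc, ← s.w (homOfLE (Nat.succ_le_of_lt hn)),
      ← Category.assoc, ιG_map]
  uniq s m hm := by
    have key : ∀ (m' : ∐ F.obj ⟶ s.pt), (∀ N, j F N ≫ m' = s.ι.app N) →
        m' = Sigma.desc (fun n => ιG F (n + 1) n (Nat.lt_succ_self n) ≫ s.ι.app (n + 1)) := by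
      intro m' hm'
      apply Sigma.hom_ext
      intro n
      rw [Sigma.ι_desc, ← hm' (n + 1), ← Category.assoc, ιG_j]
    exact key m hm

lemma j_π (N n : ℕ) (h : n < N) : j F N ≫ π F n = πG F N n h := by
  apply G_hom_ext
  intro k hk
  rw [← Category.assoc, ιG_j]
  by_cases e : k = n
  · subst e
    rw [ι_π_self, ιG_πG_self]
  · rw [ι_π_ne F e, ιG_πG_ne F N k n hk h e]

end Ab

section Main

variable {A : Type u} [Category.{v} A] [Abelian A] [HasColimitsOfShape ℕ A]
  [HasExactColimitsOfShape ℕ A] (F : ℕ ⥤ A) [HasCoproduct F.obj]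

attribute [local instance] IsFiltered.isConnected in
/-- if all projections of `x` vanish then `x = 0` (uses exactness of `ℕ`-colimits) -/
lemma eq_zero_of_π {X : A} (x : X ⟶ ∐ F.obj) (hx : ∀ n, x ≫ π F n = 0) : x = 0 := by
  let q := cokernel.π x
  let β : G F ⟶ (Functor.const ℕ).obj (cokernel x) :=
    { app := fun N => j F N ≫ q
      naturality := fun M N h => by
        dsimp
        rw [Category.comp_id, ← Category.assoc, G_map_j] }
  have hmono : ∀ N, Mono (β.app N) := by
    intro N
    apply Preadditive.mono_of_cancel_zero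
    intro P g hg
    have h1 : (g ≫ j F N) ≫ cokernel.π x = 0 := by rw [Category.assoc]; exact hg
    have h2 : ∀ n, kernel.ι (cokernel.π x) ≫ π F n = 0 := by
      intro n
      rw [← cancel_epi (Abelian.factorThruImage x), ← Category.assoc]
      erw [Abelian.image.fac]
      rw [hx, comp_zero]
    have h3 : ∀ n, (g ≫ j F N) ≫ π F n = 0 := by
      intro n
      rw [← kernel.lift_ι (cokernel.π x) (g ≫ j F N) h1, Category.assoc, h2 n, comp_zero]
    apply G_hom_ext'
    intro n hn
    rw [zero_comp, ← j_π F N n hn, ← Category.assoc, h3]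
  have : Mono β := NatTrans.mono_of_mono_app β
  have : Mono q := colim.map_mono' β (isColimitCocone F) (isColimitConstCocone ℕ (cokernel x)) q
    (fun N => (Category.comp_id (j F N ≫ q)).symm)
  rw [← cancel_mono q, cokernel.condition, zero_comp]

lemma mono_uS : Mono (uS F) := by
  apply Preadditive.mono_of_cancel_zero
  intro P g hg
  apply eq_zero_of_π F g
  intro n
  rw [← uS_σ, ← Category.assoc]
  erw [hg]
  rw [zero_comp]

omit [HasColimitsOfShape ℕ A] [HasExactColimitsOfShape ℕ A] in
/-- cocone from a map killing `1 - shift` -/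
lemma cocone_of_uS_comp {Z : A} (k : ∐ F.obj ⟶ Z) (hk : uS F ≫ k = 0) {M N : ℕ} (h : M ≤ N) :
    F.map (homOfLE h) ≫ Sigma.ι F.obj N ≫ k = Sigma.ι F.obj M ≫ k := by
  have h1 := tel_uS F h
  have h2 : (tel F M N ≫ uS F) ≫ k = 0 := by rw [Category.assoc, hk, comp_zero]
  rw [h1, Preadditive.sub_comp, sub_eq_zero, tr_of_le F h, Category.assoc] at h2
  exact h2.symm

/-- S0986 -/
theorem shortExact_one_sub_shift :
    ∃ w : (𝟙 (∐ F.obj) - DerLim.shiftMap F.obj (fun n => F.map (homOfLE (Nat.le_succ n)))) ≫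
        Sigma.desc (fun n => colimit.ι F n) = 0,
      (ShortComplex.mk _ _ w).ShortExact := by
  have w : uS F ≫ Sigma.desc (fun n => colimit.ι F n) = 0 := by
    apply Sigma.hom_ext
    intro n
    rw [comp_zero, ← Category.assoc]
    erw [ι_uS F n]
    rw [Preadditive.sub_comp, Category.assoc]
    erw [Sigma.ι_desc, Sigma.ι_desc]
    rw [tr_of_le F (Nat.le_succ n), colimit.w, sub_self]
  refine ⟨w, ?_⟩
  have hmono : Mono (uS F) := mono_uS F
  have hepi : Epi (Sigma.desc (fun n => colimit.ι F n)) := by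
    constructor
    intro Z g₁ g₂ h
    apply colimit.hom_ext
    intro n
    have := congrArg (fun t => Sigma.ι F.obj n ≫ t) h
    simpa using this
  have hex : (ShortComplex.mk _ _ w).Exact := by
    apply ShortComplex.exact_of_g_is_cokernel
    exact CokernelCofork.IsColimit.ofπ' _ _ (fun {Z} k hk =>
      ⟨colimit.desc F ⟨Z, { app := fun n => Sigma.ι F.obj n ≫ k
                            naturality := fun M N f => by
                              dsimp
                              rw [Category.comp_id]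
                              exact cocone_of_uS_comp F k hk (leOfHom f) }⟩, by
        apply Sigma.hom_ext
        intro n
        simp⟩)
  exact ShortComplex.ShortExact.mk' hex hmono hepi

end Main

end Groth.Agent.Lib.Helper89.HocolimAb
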