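import Mathlib
import Groth.Prelude.Def_CohDer
import Groth.Prelude.Def_DerLim
import Groth.Agent.Lib.Helper89.CompactFactor
import Groth.Agent.Lib.Helper89.HocolimAb

set_option autoImplicit false
set_option linter.unusedSectionVars false
universe v u
open CategoryTheory CategoryTheory.Limits CategoryTheory.Pretriangulated ZeroObject
open Groth.Agent.Lib.Helper40.Cpt Helper89.Compact Helper89.CompactFactor
open Groth.Agent.Lib.Helper89.HocolimSubseq Groth.Agent.Lib.Helper89.HocolimAb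

namespace Helper89.Tower

section FinSumNat

variable {D : Type u} [Category.{v} D] [Preadditive D]

/-- transfer `FinSum` from `ULift ℕ`-indexed families to `ℕ`-indexed families -/
lemma FinSum.of_ulift {C W : D} {Z : ℕ → D} (t : ∀ n, Z n ⟶ W) (m : C ⟶ W)
    (h : FinSum C (fun i : ULift.{v} ℕ => t i.down) m) : FinSum C t m := by
  obtain ⟨F', g', hg0', hg'⟩ := h
  refine ⟨F'.map ⟨ULift.down, ULift.down_injective⟩, fun n => g' ⟨n⟩, fun n hn => ?_, ?_⟩
  · apply hg0'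
    intro h'
    apply hn
    rw [Finset.mem_map]
    exact ⟨⟨n⟩, h', rfl⟩
  · rw [hg', Finset.sum_map]
    rfl

variable [HasZeroObject D] [HasShift D ℤ] [∀ n : ℤ, (shiftFunctor D n).Additive]
  [Pretriangulated D] [IsTriangulated D] [HasCoproducts.{v} D]

/-- the reindexing iso `∐_{ULift ℕ} ≅ ∐_ℕ` -/
noncomputable def reindexIso (K : ℕ → D) [HasCoproduct K] :
    (∐ fun i : ULift.{v} ℕ => K i.down) ≅ ∐ K where
  hom := Sigma.desc (fun i => Sigma.ι K i.down)
  inv := Sigma.desc (fun n => Sigma.ι (fun i : ULift.{v} ℕ => K i.down) ⟨n⟩)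
  hom_inv_id := by
    apply Sigma.hom_ext
    intro i
    rw [Sigma.ι_desc_assoc, Sigma.ι_desc, Category.comp_id]
  inv_hom_id := by
    apply Sigma.hom_ext
    intro n
    rw [Sigma.ι_desc_assoc, Sigma.ι_desc, Category.comp_id]

/-- maps from a compact object to a shifted `ℕ`-coproduct are finite sums -/
lemma finSum_shift_nat {C : D} (hC : CohDer.IsCompactObject C) (K : ℕ → D) [HasCoproduct K]
    (n : ℤ) (φ : C ⟶ (∐ K)⟦n⟧) : FinSum C (fun k => (Sigma.ι K k)⟦n⟧') φ := by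
  apply FinSum.of_ulift
  refine finSum_transfer _ (fun i : ULift.{v} ℕ => (Sigma.ι (fun i : ULift.{v} ℕ => K i.down) i)⟦n⟧')
    (fun i => Iso.refl _) ((shiftFunctor D n).mapIso (reindexIso K).symm) (fun i => ?_) φ
    (finSum_shift hC _ n _)
  dsimp [reindexIso]
  rw [Category.id_comp, ← Functor.map_comp, Sigma.ι_desc]

/-- maps from a compact object to an `ℕ`-coproduct are finite sums -/
lemma finSum_nat {C : D} (hC : CohDer.IsCompactObject C) (K : ℕ → D) [HasCoproduct K]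
    (φ : C ⟶ ∐ K) : FinSum C (Sigma.ι K) φ := by
  apply FinSum.of_ulift
  refine finSum_transfer _ (Sigma.ι (fun i : ULift.{v} ℕ => K i.down))
    (fun i => Iso.refl _) (reindexIso K).symm (fun i => ?_) φ
    (finSum_of_compact hC _ _)
  dsimp [reindexIso]
  rw [Category.id_comp, Sigma.ι_desc]

end FinSumNat

section CompactFactorHocolim

variable {D : Type u} [Category.{v} D] [Preadditive D]

/-- preadditive version of `cocone_of_uS_comp` -/
lemma ι_eq_tr_comp (F : ℕ ⥤ D) [HasCoproduct F.obj] {Z : D} (k : ∐ F.obj ⟶ Z)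
    (hk : uS F ≫ k = 0) {M N : ℕ} (h : M ≤ N) :
    Sigma.ι F.obj M ≫ k = tr F M N ≫ Sigma.ι F.obj N ≫ k := by
  have h1 := tel_uS F h
  have h2 : (tel F M N ≫ uS F) ≫ k = 0 := by rw [Category.assoc, hk, comp_zero]
  rw [h1, Preadditive.sub_comp, sub_eq_zero, Category.assoc] at h2
  exact h2

variable [HasZeroObject D] [HasShift D ℤ] [∀ n : ℤ, (shiftFunctor D n).Additive]
  [Pretriangulated D] [IsTriangulated D] [HasCoproducts.{v} D]

/-- A map from a compact object to a homotopy colimit factors through a finite stage. -/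
theorem compact_factor_hocolim (F : ℕ ⥤ D) [HasCoproduct F.obj] (L : D) (ι : ∀ n, F.obj n ⟶ L)
    (hL : DerLim.IsHocolim F.obj (fun n => F.map (homOfLE (Nat.le_succ n))) L ι)
    {C : D} (hC : CohDer.IsCompactObject C) (φ : C ⟶ L) :
    ∃ (n : ℕ) (a : C ⟶ F.obj n), a ≫ ι n = φ := by
  obtain ⟨c, hc⟩ := hL
  have hA : φ ≫ c = 0 := by
    obtain ⟨S, g, hg0, hg⟩ := finSum_shift_nat hC F.obj 1 (φ ≫ c)
    have h1 : (φ ≫ c) ≫ (uS F)⟦(1 : ℤ)⟧' = 0 := by
      have : c ≫ (uS F)⟦(1 : ℤ)⟧' = 0 := comp_distTriang_mor_zero₃₁ _ hc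
      rw [Category.assoc, this, comp_zero]
    have h2 : ∀ N, g N = 0 := by
      intro N
      have h3 := congrArg (fun x => x ≫ (σ F N)⟦(1 : ℤ)⟧') h1
      simp only [zero_comp] at h3
      rw [Category.assoc, ← Functor.map_comp, uS_σ, hg, Preadditive.sum_comp] at h3
      rw [Finset.sum_eq_single N] at h3
      · rw [Category.assoc, ← Functor.map_comp, ι_π_self, CategoryTheory.Functor.map_id, Category.comp_id] at h3
        exact h3
      · intro k _ hk
        rw [Category.assoc, ← Functor.map_comp, ι_π_ne F hk, Functor.map_zero, comp_zero]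
      · intro hN
        rw [hg0 N hN, zero_comp, zero_comp]
    rw [hg]
    apply Finset.sum_eq_zero
    intro k _
    rw [h2 k, zero_comp]
  obtain ⟨(ψ : C ⟶ ∐ F.obj), (hψ : φ = ψ ≫ Sigma.desc ι)⟩ := Triangle.coyoneda_exact₃ _ hc φ hA
  obtain ⟨S, g, hg0, hg⟩ := finSum_nat hC F.obj ψ
  refine ⟨S.sup id, ∑ k ∈ S, g k ≫ tr F k (S.sup id), ?_⟩
  rw [hψ, hg, Preadditive.sum_comp, Preadditive.sum_comp]
  apply Finset.sum_congr rfl
  intro k hk
  have hkN : k ≤ S.sup id := Finset.le_sup (f := id) hk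
  have h12 : uS F ≫ Sigma.desc ι = 0 := comp_distTriang_mor_zero₁₂ _ hc
  have := ι_eq_tr_comp F (Sigma.desc ι) h12 hkN
  rw [Sigma.ι_desc, Sigma.ι_desc] at this
  rw [Category.assoc, Category.assoc, Sigma.ι_desc, this]

end CompactFactorHocolim

section TowerConstruction

variable {D : Type u} [Category.{v} D] [Preadditive D] [HasZeroObject D] [HasShift D ℤ]
  [∀ n : ℤ, (shiftFunctor D n).Additive] [Pretriangulated D] [HasCoproducts.{v} D]
  {κ : Type v} (G : κ → D) (X : D)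

/-- a stage of the tower: an object with a map to `X` -/
structure Stage where
  K : D
  t : K ⟶ X

lemma exists_next (s : Stage X) : ∃ (s' : Stage X) (f : s.K ⟶ s'.K), f ≫ s'.t = s.t ∧
    (∃ (A : Type v) (k : A → κ) (y : (∐ fun a => G (k a)) ⟶ s.K)
      (z : s'.K ⟶ (∐ fun a => G (k a))⟦(1 : ℤ)⟧), Triangle.mk y f z ∈ distTriang D) ∧
    (∀ (k : κ) (g : G k ⟶ s.K), g ≫ s.t = 0 → g ≫ f = 0) := by
  let A := {p : Σ k, (G k ⟶ s.K) // p.2 ≫ s.t = 0}
  let y : (∐ fun a : A => G a.1.1) ⟶ s.K := Sigma.desc (fun a => a.1.2)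
  have hy : y ≫ s.t = 0 := by
    apply Sigma.hom_ext
    intro a
    rw [Sigma.ι_desc_assoc, comp_zero]
    exact a.2
  obtain ⟨K', f, z, hT⟩ := distinguished_cocone_triangle y
  obtain ⟨t', ht'⟩ := Triangle.yoneda_exact₂ _ hT s.t hy
  refine ⟨⟨K', t'⟩, f, ht'.symm, ⟨A, fun a => a.1.1, y, z, hT⟩, ?_⟩
  intro k g hg
  have h1 : g = Sigma.ι (fun a : A => G a.1.1) ⟨⟨k, g⟩, hg⟩ ≫ y := by
    rw [Sigma.ι_desc]
  have h2 : y ≫ f = 0 := comp_distTriang_mor_zero₁₂ _ hT
  rw [h1, Category.assoc, h2, comp_zero]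

noncomputable def next (s : Stage X) : Stage X := (exists_next G X s).choose

lemma next_spec (s : Stage X) : ∃ (f : s.K ⟶ (next G X s).K), f ≫ (next G X s).t = s.t ∧
    (∃ (A : Type v) (k : A → κ) (y : (∐ fun a => G (k a)) ⟶ s.K)
      (z : (next G X s).K ⟶ (∐ fun a => G (k a))⟦(1 : ℤ)⟧), Triangle.mk y f z ∈ distTriang D) ∧
    (∀ (k : κ) (g : G k ⟶ s.K), g ≫ s.t = 0 → g ≫ f = 0) :=
  (exists_next G X s).choose_spec

noncomputable def stage0 : Stage X :=
  ⟨∐ (fun p : Σ k, (G k ⟶ X) => G p.1), Sigma.desc (fun p => p.2)⟩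

noncomputable def tower : ℕ → Stage X
  | 0 => stage0 G X
  | n + 1 => next G X (tower n)

/-- Stacks 09SM (construction part): the tower over `X` built from the family `G`. -/
theorem exists_tower : ∃ (K : ℕ → D) (f : ∀ n, K n ⟶ K (n + 1)) (t : ∀ n, K n ⟶ X),
    (∀ n, f n ≫ t (n + 1) = t n) ∧
    (∃ (A : Type v) (k : A → κ), Nonempty (K 0 ≅ ∐ fun a => G (k a))) ∧
    (∀ n, ∃ (A : Type v) (k : A → κ) (y : (∐ fun a => G (k a)) ⟶ K n)
      (z : K (n + 1) ⟶ (∐ fun a => G (k a))⟦(1 : ℤ)⟧), Triangle.mk y (f n) z ∈ distTriang D) ∧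
    (∀ (k : κ) (g : G k ⟶ X), ∃ g' : G k ⟶ K 0, g' ≫ t 0 = g) ∧
    (∀ (n : ℕ) (k : κ) (g : G k ⟶ K n), g ≫ t n = 0 → g ≫ f n = 0) := by
  refine ⟨fun n => (tower G X n).K, fun n => (next_spec G X (tower G X n)).choose,
    fun n => (tower G X n).t, ?_, ?_, ?_, ?_, ?_⟩
  · intro n
    exact (next_spec G X (tower G X n)).choose_spec.1
  · exact ⟨Σ k, (G k ⟶ X), fun p => p.1, ⟨Iso.refl _⟩⟩
  · intro n
    exact (next_spec G X (tower G X n)).choose_spec.2.1
  · intro k g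
    exact ⟨Sigma.ι (fun p : Σ k, (G k ⟶ X) => G p.1) ⟨k, g⟩, Sigma.ι_desc _ _⟩
  · intro n
    exact (next_spec G X (tower G X n)).choose_spec.2.2

end TowerConstruction

section HocolimTower

variable {D : Type u} [Category.{v} D] [Preadditive D] [HasZeroObject D] [HasShift D ℤ]
  [∀ n : ℤ, (shiftFunctor D n).Additive] [Pretriangulated D]

lemma hocolim_ι_succ (K : ℕ → D) (f : ∀ n, K n ⟶ K (n + 1)) [HasCoproduct K] (L : D)
    (ι : ∀ n, K n ⟶ L) (hL : DerLim.IsHocolim K f L ι) (n : ℕ) : f n ≫ ι (n + 1) = ι n := by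
  obtain ⟨c, hc⟩ := hL
  have h12 : (𝟙 (∐ K) - DerLim.shiftMap K f) ≫ Sigma.desc ι = 0 :=
    comp_distTriang_mor_zero₁₂ _ hc
  have h := congrArg (fun x => Sigma.ι K n ≫ x) h12
  simp only [comp_zero, Preadditive.sub_comp, Preadditive.comp_sub, Category.id_comp,
    Sigma.ι_desc, DerLim.shiftMap, Sigma.ι_desc_assoc, Category.assoc] at h
  exact (sub_eq_zero.1 h).symm

theorem exists_hocolim_map {X : D} (K : ℕ → D) (f : ∀ n, K n ⟶ K (n + 1)) (t : ∀ n, K n ⟶ X)
    (hft : ∀ n, f n ≫ t (n + 1) = t n) [HasCoproduct K] (L : D) (ι : ∀ n, K n ⟶ L)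
    (hL : DerLim.IsHocolim K f L ι) : ∃ τ : L ⟶ X, ∀ n, ι n ≫ τ = t n := by
  obtain ⟨c, hc⟩ := hL
  have h0 : (𝟙 (∐ K) - DerLim.shiftMap K f) ≫ Sigma.desc t = 0 := by
    apply Sigma.hom_ext
    intro n
    simp only [comp_zero, Preadditive.sub_comp, Preadditive.comp_sub, Category.id_comp,
      Sigma.ι_desc, DerLim.shiftMap, Sigma.ι_desc_assoc, Category.assoc, hft, sub_self]
  obtain ⟨(τ : L ⟶ X), (hτ : Sigma.desc t = Sigma.desc ι ≫ τ)⟩ :=
    Triangle.yoneda_exact₂ _ hc (Sigma.desc t) h0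
  refine ⟨τ, fun n => ?_⟩
  have := congrArg (fun x => Sigma.ι K n ≫ x) hτ
  simp only [Sigma.ι_desc, Sigma.ι_desc_assoc] at this
  exact this.symm

variable [IsTriangulated D] [HasCoproducts.{v} D] {κ : Type v} (G : κ → D)

theorem hocolim_map_bijective {X : D} (hG : ∀ k, CohDer.IsCompactObject (G k))
    (K : ℕ → D) (f : ∀ n, K n ⟶ K (n + 1)) (t : ∀ n, K n ⟶ X)
    (P1 : ∀ (k : κ) (g : G k ⟶ X), ∃ g' : G k ⟶ K 0, g' ≫ t 0 = g)
    (P2 : ∀ (n : ℕ) (k : κ) (g : G k ⟶ K n), g ≫ t n = 0 → g ≫ f n = 0)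
    [HasCoproduct K] (L : D) (ι : ∀ n, K n ⟶ L) (hL : DerLim.IsHocolim K f L ι)
    (τ : L ⟶ X) (hτ : ∀ n, ι n ≫ τ = t n) (k : κ) :
    (∀ g : G k ⟶ X, ∃ g' : G k ⟶ L, g' ≫ τ = g) ∧ (∀ g' : G k ⟶ L, g' ≫ τ = 0 → g' = 0) := by
  constructor
  · intro g
    obtain ⟨g', hg'⟩ := P1 k g
    exact ⟨g' ≫ ι 0, by rw [Category.assoc, hτ, hg']⟩
  · intro g' hg'
    let F : ℕ ⥤ D := Functor.ofSequence f
    have hF : (fun n => F.map (homOfLE (Nat.le_succ n))) = f :=
      funext (fun n => Functor.ofSequence_map_homOfLE_succ f n)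
    have : HasCoproduct F.obj := (inferInstance : HasCoproduct K)
    have hL' : DerLim.IsHocolim F.obj (fun n => F.map (homOfLE (Nat.le_succ n))) L ι := by
      show DerLim.IsHocolim K (fun n => F.map (homOfLE (Nat.le_succ n))) L ι
      rw [hF]
      exact hL
    obtain ⟨n, (a : G k ⟶ K n), (ha : a ≫ ι n = g')⟩ :=
      compact_factor_hocolim F L ι hL' (hG k) g'
    have h1 : a ≫ t n = 0 := by rw [← hτ, ← Category.assoc, ha, hg']
    have h2 := P2 n k a h1
    rw [← ha, ← hocolim_ι_succ K f L ι hL n, ← Category.assoc, h2, zero_comp]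

end HocolimTower

section IsoOfBijective

variable {D : Type u} [Category.{v} D] [Preadditive D] [HasZeroObject D] [HasShift D ℤ]
  [∀ n : ℤ, (shiftFunctor D n).Additive] [Pretriangulated D]

/-- adjunction `[-n] ⊣ [n]` -/
noncomputable abbrev shAdj (n : ℤ) : shiftFunctor D (-n) ⊣ shiftFunctor D n :=
  (shiftEquiv' D (-n) n (by simp)).toAdjunction

lemma shAdj_symm_eq_zero_iff (n : ℤ) {A B : D} (h : A ⟶ B⟦n⟧) :
    ((shAdj n).homEquiv A B).symm h = 0 ↔ h = 0 := by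
  constructor
  · intro h0
    have := congrArg ((shAdj n).homEquiv A B) h0
    rw [Equiv.apply_symm_apply] at this
    rw [this, Adjunction.homEquiv_unit, Functor.map_zero, comp_zero]
  · intro h0
    rw [h0, Adjunction.homEquiv_counit, Functor.map_zero, zero_comp]

/-- If `τ` induces bijections on `Hom(C, -)` and `Hom(C⟦-1⟧, -)` then every map from `C` to the
cone of `τ` vanishes. -/
lemma eq_zero_of_bijective {L X Z : D} (τ : L ⟶ X) (b : X ⟶ Z) (c : Z ⟶ L⟦(1 : ℤ)⟧)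
    (hT : Triangle.mk τ b c ∈ distTriang D) (C : D)
    (hs : ∀ g : C ⟶ X, ∃ g' : C ⟶ L, g' ≫ τ = g)
    (hi : ∀ g' : C⟦(-1 : ℤ)⟧ ⟶ L, g' ≫ τ = 0 → g' = 0) (h : C ⟶ Z) : h = 0 := by
  have h1 : h ≫ c = 0 := by
    rw [← shAdj_symm_eq_zero_iff]
    apply hi
    rw [← Adjunction.homEquiv_naturality_right_symm, Category.assoc]
    have : c ≫ τ⟦(1 : ℤ)⟧' = 0 := comp_distTriang_mor_zero₃₁ _ hT
    rw [this, comp_zero, shAdj_symm_eq_zero_iff]
  obtain ⟨(h'' : C ⟶ X), (hh'' : h = h'' ≫ b)⟩ := Triangle.coyoneda_exact₃ _ hT h h1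
  obtain ⟨h''', rfl⟩ := hs h''
  have : τ ≫ b = 0 := comp_distTriang_mor_zero₁₂ _ hT
  rw [hh'', Category.assoc, this, comp_zero]

theorem isIso_of_bijective_on_shifts {ι' : Type*} (E : ι' → D) (hgen : CohDer.Generates E)
    {L X : D} (τ : L ⟶ X)
    (hs : ∀ (i : ι') (m : ℤ) (g : (E i)⟦m⟧ ⟶ X), ∃ g' : (E i)⟦m⟧ ⟶ L, g' ≫ τ = g)
    (hi : ∀ (i : ι') (m : ℤ) (g' : (E i)⟦m⟧ ⟶ L), g' ≫ τ = 0 → g' = 0) : IsIso τ := by
  obtain ⟨Z, b, c, hT⟩ := distinguished_cocone_triangle τ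
  have hZ : IsZero Z := by
    apply hgen
    intro i n h
    rw [← shAdj_symm_eq_zero_iff]
    apply eq_zero_of_bijective τ b c hT _ (hs i (-n))
    intro g' hg'
    -- transport along `(E i)⟦-n + -1⟧ ≅ (E i)⟦-n⟧⟦-1⟧`
    let e : (E i)⟦(-n + -1 : ℤ)⟧ ≅ ((E i)⟦(-n : ℤ)⟧)⟦(-1 : ℤ)⟧ :=
      (shiftFunctorAdd D (-n) (-1)).app (E i)
    have h2 : (e.hom ≫ g') ≫ τ = 0 := by rw [Category.assoc, hg', comp_zero]
    have h3 := hi i _ _ h2
    rw [← cancel_epi e.hom, h3, comp_zero]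
  exact (Triangle.isZero₃_iff_isIso₁ _ hT).1 hZ

end IsoOfBijective

section Main

variable {D : Type u} [Category.{v} D] [Preadditive D] [HasZeroObject D] [HasShift D ℤ]
  [∀ n : ℤ, (shiftFunctor D n).Additive] [Pretriangulated D] [IsTriangulated D]
  [HasCoproducts.{v} D]

/-- sequence version of `compact_factor_hocolim` -/
theorem compact_factor_hocolim_seq (K : ℕ → D) (f : ∀ n, K n ⟶ K (n + 1)) [HasCoproduct K]
    (L : D) (ι : ∀ n, K n ⟶ L) (hL : DerLim.IsHocolim K f L ι)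
    {C : D} (hC : CohDer.IsCompactObject C) (φ : C ⟶ L) :
    ∃ (n : ℕ) (a : C ⟶ K n), a ≫ ι n = φ := by
  let F : ℕ ⥤ D := Functor.ofSequence f
  have hF : (fun n => F.map (homOfLE (Nat.le_succ n))) = f :=
    funext (fun n => Functor.ofSequence_map_homOfLE_succ f n)
  have : HasCoproduct F.obj := (inferInstance : HasCoproduct K)
  have hL' : DerLim.IsHocolim F.obj (fun n => F.map (homOfLE (Nat.le_succ n))) L ι := by
    show DerLim.IsHocolim K (fun n => F.map (homOfLE (Nat.le_succ n))) L ι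
    rw [hF]
    exact hL
  exact compact_factor_hocolim F L ι hL' hC φ

/-- existence of homotopy colimits -/
lemma exists_hocolim (K : ℕ → D) (f : ∀ n, K n ⟶ K (n + 1)) [HasCoproduct K] :
    ∃ (L : D) (ι : ∀ n, K n ⟶ L), DerLim.IsHocolim K f L ι := by
  obtain ⟨L, v, c, hT⟩ := distinguished_cocone_triangle (𝟙 (∐ K) - DerLim.shiftMap K f)
  refine ⟨L, fun n => Sigma.ι K n ≫ v, c, ?_⟩
  have : Sigma.desc (fun n => Sigma.ι K n ≫ v) = v := by
    apply Sigma.hom_ext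
    intro n
    rw [Sigma.ι_desc]
  rw [this]
  exact hT

/-- the left orthogonal of all shifts of `K` -/
def leftOrth (K : D) : ObjectProperty D := fun Y => ∀ (n : ℤ) (f : Y ⟶ K⟦n⟧), f = 0

instance (K : D) : (leftOrth K).IsStableUnderRetracts where
  of_retract := by
    intro Y Y' r hY' n f
    have : f = r.i ≫ (r.r ≫ f) := by rw [← Category.assoc, r.retract, Category.id_comp]
    rw [this, hY' n (r.r ≫ f), comp_zero]

instance (K : D) : (leftOrth K).IsClosedUnderIsomorphisms where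
  of_iso := by
    intro Y Y' e hY n f
    have : f = e.inv ≫ (e.hom ≫ f) := by rw [Iso.inv_hom_id_assoc]
    rw [this, hY n (e.hom ≫ f), comp_zero]

instance (K : D) : (leftOrth K).ContainsZero where
  exists_zero := ⟨0, isZero_zero D, fun n f => (isZero_zero D).eq_of_src _ _⟩

instance (K : D) : (leftOrth K).IsStableUnderShift ℤ where
  isStableUnderShiftBy a := ObjectProperty.IsStableUnderShiftBy.mk <| by
    intro Y hY
    rw [ObjectProperty.prop_shift_iff]
    intro n f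
    -- adjunction `[a] ⊣ [-a]`
    let adj : shiftFunctor D a ⊣ shiftFunctor D (-a) :=
      (shiftEquiv' D a (-a) (by simp)).toAdjunction
    let e : (K⟦n⟧)⟦(-a : ℤ)⟧ ≅ K⟦(n + -a : ℤ)⟧ := ((shiftFunctorAdd D n (-a)).app K).symm
    have h1 : adj.homEquiv Y (K⟦n⟧) f ≫ e.hom = 0 := hY _ _
    have h2 : adj.homEquiv Y (K⟦n⟧) f = 0 := by
      rw [← cancel_mono e.hom, h1, zero_comp]
    have h3 := congrArg (adj.homEquiv Y (K⟦n⟧)).symm h2
    rw [Equiv.symm_apply_apply] at h3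
    rw [h3, Adjunction.homEquiv_counit, Functor.map_zero, zero_comp]

instance (K : D) : (leftOrth K).IsTriangulatedClosed₂ :=
  ObjectProperty.IsTriangulatedClosed₂.mk' (fun T hT h₁ h₃ n f => by
    have h1 : T.mor₁ ≫ f = 0 := h₁ n _
    obtain ⟨g, hg⟩ := Triangle.yoneda_exact₂ _ hT f h1
    rw [hg, h₃ n g, comp_zero])

instance (K : D) : (leftOrth K).IsTriangulated where

variable [HasColimitsOfShape (Discrete ℕ) D]

theorem generator_iff (E : D) (hE : CohDer.IsCompactObject E) :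
    CohDer.Generates (fun _ : Unit => E) ↔
      (CohDer.IsCompactlyGenerated D ∧ ∀ X : D, CohDer.IsCompactObject X →
        ObjectProperty.triangEnvelope (fun Y : D => Y = E) X) := by
  constructor
  · intro hgen
    refine ⟨⟨PUnit.{v + 1}, fun _ => E, fun _ => hE,
      fun K hK => hgen K (fun _ n f => hK PUnit.unit n f)⟩, ?_⟩
    intro X hX
    let G : ULift.{v} ℤ → D := fun k => E⟦k.down⟧
    have hG : ∀ k, CohDer.IsCompactObject (G k) := fun k => isCompact_shift hE k.down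
    obtain ⟨K, f, t, hft, h0, hstep, P1, P2⟩ := exists_tower G X
    obtain ⟨L, ι, hL⟩ := exists_hocolim K f
    obtain ⟨τ, hτ⟩ := exists_hocolim_map K f t hft L ι hL
    have hbij := hocolim_map_bijective G hG K f t P1 P2 L ι hL τ hτ
    have hiso : IsIso τ := isIso_of_bijective_on_shifts (fun _ : Unit => E) hgen τ
      (fun _ m g => (hbij ⟨m⟩).1 g) (fun _ m g' hg' => (hbij ⟨m⟩).2 g' hg')
    obtain ⟨n, a, ha⟩ := compact_factor_hocolim_seq K f L ι hL hX (inv τ)
    have h0' : ∃ (κ : Type v) (a : κ → PUnit.{v + 1}) (m : κ → ℤ),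
        Nonempty (K 0 ≅ ∐ (fun k => (shiftFunctor D (m k)).obj ((fun _ : PUnit.{v + 1} => E) (a k)))) := by
      obtain ⟨A, k, ⟨e⟩⟩ := h0
      exact ⟨A, fun _ => PUnit.unit, fun a => (k a).down, ⟨e⟩⟩
    have hstep' : ∀ n, ∃ (κ : Type v) (a : κ → PUnit.{v + 1}) (m : κ → ℤ)
        (y : (∐ fun k => (shiftFunctor D (m k)).obj ((fun _ : PUnit.{v + 1} => E) (a k))) ⟶ K n)
        (z : K (n + 1) ⟶ (shiftFunctor D (1 : ℤ)).obj
          (∐ fun k => (shiftFunctor D (m k)).obj ((fun _ : PUnit.{v + 1} => E) (a k)))),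
        Triangle.mk y (f n) z ∈ distinguishedTriangles := by
      intro n
      obtain ⟨A, k, y, z, hT⟩ := hstep n
      exact ⟨A, fun _ => PUnit.unit, fun a => (k a).down, y, z, hT⟩
    obtain ⟨s, E', g, h, hE', hgh⟩ := factor (fun _ : PUnit.{v + 1} => E) (fun _ => hE) K f h0' hstep'
      n X hX a
    have hE'' : ObjectProperty.triangEnvelope (fun Y : D => Y = E) E' :=
      ObjectProperty.monotone_triangEnvelope (fun Y ⟨_, _, hY⟩ => hY) _ hE'
    let r : Retract X E' :=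
      { i := g
        r := h ≫ ι n ≫ τ
        retract := by rw [← Category.assoc, hgh, ← Category.assoc, ha, IsIso.inv_hom_id] }
    exact ObjectProperty.IsStableUnderRetracts.of_retract r hE''
  · rintro ⟨⟨ι', E', hc, hgen'⟩, henv⟩ K hK
    apply hgen'
    intro i n f
    have h1 : (fun Y : D => Y = E) ≤ leftOrth K := by
      rintro Y rfl m f
      exact hK () m f
    have h2 := (ObjectProperty.triangEnvelope_le_iff _).2 h1
    exact h2 _ (henv _ (hc i)) n f

end Main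

end Helper89.Tower
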