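import Mathlib
import Groth.Prelude.Def_CohDer
import Groth.Prelude.Def_DerLim
import Groth.Agent.Lib.Helper89.Tower
import Groth.Agent.Lib.Helper89.Pretri

set_option autoImplicit false
set_option linter.unusedSectionVars false
set_option linter.unusedVariables false
universe v u
open CategoryTheory CategoryTheory.Limits CategoryTheory.Pretriangulated ZeroObject Opposite

namespace Helper89.Brown

section Calculus

variable {D : Type u} [Category.{v} D] [Preadditive D] [HasZeroObject D] [HasShift D ℤ]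
  [∀ n : ℤ, (shiftFunctor D n).Additive] [Pretriangulated D]
  (H : Dᵒᵖ ⥤ AddCommGrpCat.{v})

/-- pullback of an element of `H` along a morphism -/
def pull {X Y : D} (g : X ⟶ Y) (y : H.obj (op Y)) : H.obj (op X) := H.map g.op y

lemma pull_id {X : D} (x : H.obj (op X)) : pull H (𝟙 X) x = x := by
  simp [pull]

lemma pull_comp {X Y Z : D} (f : X ⟶ Y) (g : Y ⟶ Z) (z : H.obj (op Z)) :
    pull H (f ≫ g) z = pull H f (pull H g z) := by
  simp [pull]

lemma pull_map_add {X Y : D} (f : X ⟶ Y) (z z' : H.obj (op Y)) :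
    pull H f (z + z') = pull H f z + pull H f z' := by
  simp [pull]

lemma pull_map_zero {X Y : D} (f : X ⟶ Y) : pull H f (0 : H.obj (op Y)) = 0 := by
  simp [pull]

lemma pull_map_neg {X Y : D} (f : X ⟶ Y) (z : H.obj (op Y)) :
    pull H f (-z) = - pull H f z := by
  simp [pull]

lemma pull_map_sub {X Y : D} (f : X ⟶ Y) (z z' : H.obj (op Y)) :
    pull H f (z - z') = pull H f z - pull H f z' := by
  simp [pull]

variable [H.IsHomological]

lemma pull_zero {X Y : D} (z : H.obj (op Y)) : pull H (0 : X ⟶ Y) z = 0 := by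
  simp [pull]

lemma pull_add {X Y : D} (f g : X ⟶ Y) (z : H.obj (op Y)) :
    pull H (f + g) z = pull H f z + pull H g z := by
  simp [pull, Functor.map_add]

lemma pull_neg {X Y : D} (f : X ⟶ Y) (z : H.obj (op Y)) :
    pull H (-f) z = - pull H f z := by
  simp [pull, Functor.map_neg]

lemma pull_sub {X Y : D} (f g : X ⟶ Y) (z : H.obj (op Y)) :
    pull H (f - g) z = pull H f z - pull H g z := by
  simp [pull, Functor.map_sub]

/-- exactness of `H` on a distinguished triangle -/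
lemma exact_pull (T : Triangle D) (hT : T ∈ distTriang D) (z : H.obj (op T.obj₂))
    (hz : pull H T.mor₁ z = 0) : ∃ w : H.obj (op T.obj₃), pull H T.mor₂ w = z := by
  have h := H.map_distinguished_op_exact T hT
  rw [ShortComplex.ab_exact_iff] at h
  exact h z hz

end Calculus

section Products

variable {D : Type u} [Category.{v} D] [Preadditive D] [HasZeroObject D] [HasShift D ℤ]
  [∀ n : ℤ, (shiftFunctor D n).Additive] [Pretriangulated D]
  (H : Dᵒᵖ ⥤ AddCommGrpCat.{v}) [∀ (κ : Type v), PreservesLimitsOfShape (Discrete κ) H]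

/-- the limit cone in `Type` obtained from a coproduct -/
lemma prod_bij {κ : Type v} (Y : κ → D) [HasCoproduct Y] :
    Function.Bijective (fun (z : H.obj (op (∐ Y))) (a : κ) => pull H (Sigma.ι Y a) z) := by
  let c : Cofan Y := Cofan.mk (∐ Y) (Sigma.ι Y)
  have hc : IsColimit c := coproductIsCoproduct Y
  have h1 : IsLimit (H.mapCone c.op) := isLimitOfPreserves H (Cofan.IsColimit.op hc)
  have h2 : IsLimit ((forget AddCommGrpCat.{v}).mapCone (H.mapCone c.op)) :=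
    isLimitOfPreserves _ h1
  have h3 := (Types.isLimit_iff_bijective_sectionOfCone _).1 ⟨h2⟩
  constructor
  · intro z z' hzz'
    apply h3.1
    apply Subtype.ext
    funext ⟨a⟩
    exact congrFun hzz' a
  · intro y
    obtain ⟨z, hz⟩ := h3.2 ⟨fun a => y a.as, by
      rintro ⟨a⟩ ⟨b⟩ f
      have hab : a = b := Discrete.eq_of_hom f
      subst hab
      have : f = 𝟙 _ := Subsingleton.elim _ _
      subst this
      simp⟩
    refine ⟨z, ?_⟩
    funext a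
    have := congrArg (fun s => s.1 ⟨a⟩) hz
    exact this

lemma prod_ext {κ : Type v} (Y : κ → D) [HasCoproduct Y] (z z' : H.obj (op (∐ Y)))
    (h : ∀ a, pull H (Sigma.ι Y a) z = pull H (Sigma.ι Y a) z') : z = z' :=
  (prod_bij H Y).1 (funext h)

lemma prod_exists {κ : Type v} (Y : κ → D) [HasCoproduct Y] (y : ∀ a, H.obj (op (Y a))) :
    ∃ z : H.obj (op (∐ Y)), ∀ a, pull H (Sigma.ι Y a) z = y a := by
  obtain ⟨z, hz⟩ := (prod_bij H Y).2 y
  exact ⟨z, fun a => congrFun hz a⟩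

end Products

section ProductsNat

variable {D : Type u} [Category.{v} D] [Preadditive D] [HasZeroObject D] [HasShift D ℤ]
  [∀ n : ℤ, (shiftFunctor D n).Additive] [Pretriangulated D] [IsTriangulated D]
  [HasCoproducts.{v} D]
  (H : Dᵒᵖ ⥤ AddCommGrpCat.{v}) [∀ (κ : Type v), PreservesLimitsOfShape (Discrete κ) H]

open Helper89.Tower

lemma ι_reindexIso_hom (Y : ℕ → D) [HasCoproduct Y] (i : ULift.{v} ℕ) :
    Sigma.ι (fun i : ULift.{v} ℕ => Y i.down) i ≫ (reindexIso Y).hom = Sigma.ι Y i.down := by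
  simp [reindexIso]

lemma prod_ext_nat (Y : ℕ → D) [HasCoproduct Y] (z z' : H.obj (op (∐ Y)))
    (h : ∀ n, pull H (Sigma.ι Y n) z = pull H (Sigma.ι Y n) z') : z = z' := by
  have h1 : pull H (reindexIso Y).hom z = pull H (reindexIso Y).hom z' := by
    apply prod_ext
    intro i
    rw [← pull_comp, ← pull_comp, ι_reindexIso_hom]
    exact h i.down
  have h2 := congrArg (pull H (reindexIso Y).inv) h1
  rw [← pull_comp, ← pull_comp, Iso.inv_hom_id, pull_id, pull_id] at h2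
  exact h2

lemma prod_exists_nat (Y : ℕ → D) [HasCoproduct Y] (y : ∀ n, H.obj (op (Y n))) :
    ∃ z : H.obj (op (∐ Y)), ∀ n, pull H (Sigma.ι Y n) z = y n := by
  obtain ⟨z, hz⟩ := prod_exists H (fun i : ULift.{v} ℕ => Y i.down) (fun i => y i.down)
  refine ⟨pull H (reindexIso Y).inv z, fun n => ?_⟩
  rw [← pull_comp]
  have : Sigma.ι Y n ≫ (reindexIso Y).inv = Sigma.ι (fun i : ULift.{v} ℕ => Y i.down) ⟨n⟩ := by
    simp [reindexIso]
  rw [this]
  exact hz ⟨n⟩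

end ProductsNat

section TowerH

variable {D : Type u} [Category.{v} D] [Preadditive D] [HasZeroObject D] [HasShift D ℤ]
  [∀ n : ℤ, (shiftFunctor D n).Additive] [Pretriangulated D] [HasCoproducts.{v} D]
  (H : Dᵒᵖ ⥤ AddCommGrpCat.{v}) [H.IsHomological]
  [∀ (κ : Type v), PreservesLimitsOfShape (Discrete κ) H]
  {ι : Type v} (E : ι → D)

/-- a stage of the tower: an object with an element of `H` -/
structure StageH where
  K : D
  x : H.obj (op K)

lemma exists_nextH (s : StageH H) : ∃ (s' : StageH H) (f : s.K ⟶ s'.K), pull H f s'.x = s.x ∧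
    (∃ (A : Type v) (k : A → ι) (y : (∐ fun a => E (k a)) ⟶ s.K)
      (z : s'.K ⟶ (∐ fun a => E (k a))⟦(1 : ℤ)⟧), Triangle.mk y f z ∈ distTriang D) ∧
    (∀ (i : ι) (g : E i ⟶ s.K), pull H g s.x = 0 → g ≫ f = 0) := by
  let A := {p : Σ i, (E i ⟶ s.K) // pull H p.2 s.x = 0}
  let y : (∐ fun a : A => E a.1.1) ⟶ s.K := Sigma.desc (fun a => a.1.2)
  have hy : pull H y s.x = 0 := by
    apply prod_ext H (fun a : A => E a.1.1)
    intro a
    rw [← pull_comp, Sigma.ι_desc, pull_map_zero]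
    exact a.2
  obtain ⟨K', f, z, hT⟩ := distinguished_cocone_triangle y
  obtain ⟨x', hx'⟩ := exact_pull H _ hT s.x hy
  refine ⟨⟨K', x'⟩, f, hx', ⟨A, fun a => a.1.1, y, z, hT⟩, ?_⟩
  intro i g hg
  have h1 : g = Sigma.ι (fun a : A => E a.1.1) ⟨⟨i, g⟩, hg⟩ ≫ y := by
    rw [Sigma.ι_desc]
  have h2 : y ≫ f = 0 := comp_distTriang_mor_zero₁₂ _ hT
  rw [h1, Category.assoc, h2, comp_zero]

noncomputable def nextH (s : StageH H) : StageH H := (exists_nextH H E s).choose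

lemma nextH_spec (s : StageH H) : ∃ (f : s.K ⟶ (nextH H E s).K),
    pull H f (nextH H E s).x = s.x ∧
    (∃ (A : Type v) (k : A → ι) (y : (∐ fun a => E (k a)) ⟶ s.K)
      (z : (nextH H E s).K ⟶ (∐ fun a => E (k a))⟦(1 : ℤ)⟧),
      Triangle.mk y f z ∈ distTriang D) ∧
    (∀ (i : ι) (g : E i ⟶ s.K), pull H g s.x = 0 → g ≫ f = 0) :=
  (exists_nextH H E s).choose_spec

lemma exists_stage0 : ∃ x : H.obj (op (∐ (fun p : Σ i, H.obj (op (E i)) => E p.1))),
    ∀ p : Σ i, H.obj (op (E i)), pull H (Sigma.ι (fun p : Σ i, H.obj (op (E i)) => E p.1) p) x = p.2 :=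
  prod_exists H (fun p : Σ i, H.obj (op (E i)) => E p.1) (fun p => p.2)

noncomputable def stage0H : StageH H :=
  ⟨∐ (fun p : Σ i, H.obj (op (E i)) => E p.1), (exists_stage0 H E).choose⟩

noncomputable def towerH : ℕ → StageH H
  | 0 => stage0H H E
  | n + 1 => nextH H E (towerH n)

theorem exists_towerH : ∃ (K : ℕ → D) (f : ∀ n, K n ⟶ K (n + 1)) (x : ∀ n, H.obj (op (K n))),
    (∀ n, pull H (f n) (x (n + 1)) = x n) ∧
    (∃ (A : Type v) (k : A → ι), Nonempty (K 0 ≅ ∐ fun a => E (k a))) ∧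
    (∀ n, ∃ (A : Type v) (k : A → ι) (y : (∐ fun a => E (k a)) ⟶ K n)
      (z : K (n + 1) ⟶ (∐ fun a => E (k a))⟦(1 : ℤ)⟧), Triangle.mk y (f n) z ∈ distTriang D) ∧
    (∀ (i : ι) (y : H.obj (op (E i))), ∃ g : E i ⟶ K 0, pull H g (x 0) = y) ∧
    (∀ (n : ℕ) (i : ι) (g : E i ⟶ K n), pull H g (x n) = 0 → g ≫ f n = 0) := by
  refine ⟨fun n => (towerH H E n).K, fun n => (nextH_spec H E (towerH H E n)).choose,
    fun n => (towerH H E n).x, ?_, ?_, ?_, ?_, ?_⟩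
  · intro n
    exact (nextH_spec H E (towerH H E n)).choose_spec.1
  · exact ⟨Σ i, H.obj (op (E i)), fun p => p.1, ⟨Iso.refl _⟩⟩
  · intro n
    exact (nextH_spec H E (towerH H E n)).choose_spec.2.1
  · intro i y
    exact ⟨Sigma.ι (fun p : Σ i, H.obj (op (E i)) => E p.1) ⟨i, y⟩,
      (exists_stage0 H E).choose_spec ⟨i, y⟩⟩
  · intro n
    exact (nextH_spec H E (towerH H E n)).choose_spec.2.2

end TowerH

section XInf

variable {D : Type u} [Category.{v} D] [Preadditive D] [HasZeroObject D] [HasShift D ℤ]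
  [∀ n : ℤ, (shiftFunctor D n).Additive] [Pretriangulated D] [IsTriangulated D]
  [HasCoproducts.{v} D]
  (H : Dᵒᵖ ⥤ AddCommGrpCat.{v}) [H.IsHomological]
  [∀ (κ : Type v), PreservesLimitsOfShape (Discrete κ) H]

/-- the element of `H(hocolim)` glued from a compatible family -/
lemma exists_xInf (K : ℕ → D) (f : ∀ n, K n ⟶ K (n + 1)) (x : ∀ n, H.obj (op (K n)))
    (hx : ∀ n, pull H (f n) (x (n + 1)) = x n) [HasCoproduct K] (L : D) (ι : ∀ n, K n ⟶ L)
    (hL : DerLim.IsHocolim K f L ι) :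
    ∃ w : H.obj (op L), ∀ n, pull H (ι n) w = x n := by
  obtain ⟨c, hc⟩ := hL
  obtain ⟨ξ, hξ⟩ := prod_exists_nat H K x
  have h0 : pull H (𝟙 (∐ K) - DerLim.shiftMap K f) ξ = 0 := by
    apply prod_ext_nat H K
    intro n
    rw [← pull_comp, pull_map_zero, Preadditive.comp_sub, Category.comp_id, DerLim.shiftMap,
      Sigma.ι_desc, pull_sub, pull_comp, hξ, hξ, hx, sub_self]
  obtain ⟨(w : H.obj (op L)), (hw : pull H (Sigma.desc ι) w = ξ)⟩ := exact_pull H _ hc ξ h0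
  refine ⟨w, fun n => ?_⟩
  rw [← hξ n, ← hw, ← pull_comp, Sigma.ι_desc]

end XInf

section Neeman

variable {D : Type u} [Category.{v} D] [Preadditive D] [HasZeroObject D] [HasShift D ℤ]
  [∀ n : ℤ, (shiftFunctor D n).Additive] [Pretriangulated D] [IsTriangulated D]
  [HasColimitsOfShape (Discrete ℕ) D]
  {ι : Type v} (E : ι → D)

/-- hypothesis (h2) -/
def H2 : Prop := ∀ (X : ℕ → D) (i : ι) (α : E i ⟶ ∐ X), ∃ (j : ℕ → ι) (β : ∀ n, E (j n) ⟶ X n)
      (γ : E i ⟶ ∐ (fun n => E (j n))), α = γ ≫ Limits.Sigma.map β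

variable {E}

/-- Neeman's vanishing condition follows from (h2). -/
lemma neeman_vanishing (h2 : H2 E) {i : ι} (P X : ℕ → D) (β : ∀ n, P n ⟶ X n) (γ : E i ⟶ ∐ P)
    (h : γ ≫ Limits.Sigma.map β = 0) :
    ∃ (k : ℕ → ι) (ω : ∀ n, E (k n) ⟶ P n) (ε : E i ⟶ ∐ fun n => E (k n)),
      γ = ε ≫ Limits.Sigma.map ω ∧ ∀ n, ω n ≫ β n = 0 := by
  have hex : ∀ n, ∃ (W : D) (w : W ⟶ P n) (h : X n ⟶ W⟦(1 : ℤ)⟧),
      Triangle.mk w (β n) h ∈ distTriang D := fun n => distinguished_cocone_triangle₁ (β n)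
  choose W w hh hT using hex
  have hsig := Helper89.Pretri.sigmaTriangle_distinguished (fun n => Triangle.mk (w n) (β n) (hh n)) hT
  obtain ⟨(δ : E i ⟶ ∐ W), (hδ : γ = δ ≫ Limits.Sigma.map w)⟩ :=
    Triangle.coyoneda_exact₂ _ hsig γ h
  obtain ⟨k, ω', ε, hε⟩ := h2 W i δ
  refine ⟨k, fun n => ω' n ≫ w n, ε, ?_, fun n => ?_⟩
  · rw [hδ, hε, Category.assoc, Sigma.map_comp_map]
  · have : w n ≫ β n = 0 := comp_distTriang_mor_zero₁₂ _ (hT n)
    rw [Category.assoc, this, comp_zero]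

end Neeman

section ClaimJ

variable {D : Type u} [Category.{v} D] [Preadditive D] [HasZeroObject D] [HasShift D ℤ]
  [∀ n : ℤ, (shiftFunctor D n).Additive] [Pretriangulated D] [IsTriangulated D]
  [HasColimitsOfShape (Discrete ℕ) D]

/-- the shifted family: `Qobj Z 0 = 0`, `Qobj Z (n+1) = Z n` -/
noncomputable def Qobj (Z : ℕ → D) : ℕ → D
  | 0 => 0
  | n + 1 => Z n

/-- maps out of `Qobj` -/
noncomputable def Qdesc {Z T : ℕ → D} (m : ∀ n, Z n ⟶ T (n + 1)) : ∀ n, Qobj Z n ⟶ T n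
  | 0 => 0
  | n + 1 => m n

/-- maps out of `Qobj` to a fixed object -/
noncomputable def Qdesc' {Z : ℕ → D} {T : D} (m : ∀ n, Z n ⟶ T) : ∀ n, Qobj Z n ⟶ T
  | 0 => 0
  | n + 1 => m n

/-- the inclusion of `Z n = Qobj Z (n+1)` in `Z (n+1) ⊞ Qobj Z (n+1)` -/
noncomputable def inrQ (Z : ℕ → D) (n : ℕ) : Z n ⟶ Z (n + 1) ⊞ Qobj Z (n + 1) :=
  (biprod.inr : Qobj Z (n + 1) ⟶ Z (n + 1) ⊞ Qobj Z (n + 1))

lemma inrQ_desc {Z T : ℕ → D} (n : ℕ) (a : Z (n + 1) ⟶ T (n + 1)) (m : ∀ n, Z n ⟶ T (n + 1)) :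
    inrQ Z n ≫ biprod.desc a (Qdesc m (n + 1)) = m n :=
  biprod.inr_desc _ _

lemma inrQ_desc' {Z : ℕ → D} {T : D} (n : ℕ) (a : Z (n + 1) ⟶ T) (m : ∀ n, Z n ⟶ T) :
    inrQ Z n ≫ biprod.desc a (Qdesc' m (n + 1)) = m n :=
  biprod.inr_desc _ _

variable (H : Dᵒᵖ ⥤ AddCommGrpCat.{v}) [H.IsHomological]

/-- elements of `H` on a biproduct are determined by their restrictions -/
lemma biprod_ext_H {A B : D} (z z' : H.obj (op (A ⊞ B)))
    (h1 : pull H biprod.inl z = pull H biprod.inl z')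
    (h2 : pull H biprod.inr z = pull H biprod.inr z') : z = z' := by
  have key : ∀ w : H.obj (op (A ⊞ B)),
      w = pull H biprod.fst (pull H biprod.inl w) + pull H biprod.snd (pull H biprod.inr w) := by
    intro w
    rw [← pull_comp, ← pull_comp, ← pull_add, biprod.total, pull_id]
  rw [key z, key z', h1, h2]

end ClaimJ

section ClaimJMain

variable {D : Type u} [Category.{v} D] [Preadditive D] [HasZeroObject D] [HasShift D ℤ]
  [∀ n : ℤ, (shiftFunctor D n).Additive] [Pretriangulated D] [IsTriangulated D]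
  [HasColimitsOfShape (Discrete ℕ) D]
  (H : Dᵒᵖ ⥤ AddCommGrpCat.{v}) [H.IsHomological]
  {ι : Type v} {E : ι → D} (h2 : H2 E)
  (K0 : D) (x0 : H.obj (op K0)) (K' : ℕ → D) (f' : ∀ n, K' n ⟶ K' (n + 1))
  (x' : ∀ n, H.obj (op (K' n)))
  (φ : ∀ n, K0 ⟶ K' n) (hφ : ∀ n, φ (n + 1) = φ n ≫ f' n)
  (hφx : ∀ n, pull H (φ n) (x' n) = x0)
  (Q1 : ∀ (j : ι) (n : ℕ) (β : E j ⟶ K' n), ∃ b : E j ⟶ K0, pull H b x0 = pull H β (x' n))
  (Q2a : ∀ (j : ι) (b : E j ⟶ K0), pull H b x0 = 0 → b ≫ φ 0 = 0)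
  (Q2b : ∀ (n : ℕ) (j : ι) (ν : E j ⟶ K' n), pull H ν (x' n) = 0 → ν ≫ f' n = 0)

include hφ in
lemma comp_φ_eq_zero {T : D} (t : T ⟶ K0) (ht : t ≫ φ 0 = 0) (m : ℕ) : t ≫ φ m = 0 := by
  induction m with
  | zero => exact ht
  | succ m ih => rw [hφ, ← Category.assoc, ih, zero_comp]

include hφx in
lemma pull_Qdesc {Z : ℕ → D} (m : ∀ n, Z n ⟶ K0) (n : ℕ) :
    pull H (Qdesc' m n) x0 = pull H (Qdesc (fun n => m n ≫ φ (n + 1)) n) (x' n) := by
  cases n with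
  | zero =>
    show pull H (0 : Qobj Z 0 ⟶ K0) x0 = pull H (0 : Qobj Z 0 ⟶ K' 0) (x' 0)
    rw [pull_zero, pull_zero]
  | succ n =>
    show pull H (m n) x0 = pull H (m n ≫ φ (n + 1)) (x' (n + 1))
    rw [pull_comp, hφx]

include h2 hφ hφx Q1 Q2a Q2b in
/-- injectivity of `1 - shift` on `Hom(E i, ∐ K')` for the tower. -/
theorem claimJ {i : ι} (α : E i ⟶ ∐ K') (hα : α ≫ (𝟙 _ - DerLim.shiftMap K' f') = 0) :
    α = 0 := by
  obtain ⟨j, β, γ, hαγ⟩ := h2 K' i α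
  choose b hb using fun n => Q1 (j n) n (β n)
  have hβf : ∀ n, β n ≫ f' n = b n ≫ φ (n + 1) := by
    intro n
    have h1 : pull H (β n - b n ≫ φ n) (x' n) = 0 := by
      rw [pull_sub, pull_comp, hφx, hb, sub_self]
    have h2' := Q2b n (j n) _ h1
    rw [Preadditive.sub_comp, sub_eq_zero, Category.assoc, ← hφ] at h2'
    exact h2'
  let Z : ℕ → D := fun n => E (j n)
  let P : ℕ → D := fun n => Z n ⊞ Qobj Z n
  let q : ∀ n, Qobj Z n ⟶ K' n := Qdesc (fun n => (-(b n)) ≫ φ (n + 1))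
  let c : ∀ n, Qobj Z n ⟶ K0 := Qdesc' (fun n => -(b n))
  let βP : ∀ n, P n ⟶ K' n := fun n => biprod.desc (β n) (q n)
  let bP : ∀ n, P n ⟶ K0 := fun n => biprod.desc (b n) (c n)
  let σ : ∐ Z ⟶ ∐ P := Sigma.desc (fun n =>
    (biprod.inl : Z n ⟶ P n) ≫ Sigma.ι P n + inrQ Z n ≫ Sigma.ι P (n + 1))
  -- components
  have inl_βP : ∀ n, (biprod.inl : Z n ⟶ P n) ≫ βP n = β n := fun n => biprod.inl_desc _ _
  have inr_βP : ∀ n, inrQ Z n ≫ βP (n + 1) = (-(b n)) ≫ φ (n + 1) :=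
    fun n => inrQ_desc n _ _
  have inl_bP : ∀ n, (biprod.inl : Z n ⟶ P n) ≫ bP n = b n := fun n => biprod.inl_desc _ _
  have inr_bP : ∀ n, inrQ Z n ≫ bP (n + 1) = -(b n) := fun n => inrQ_desc' n _ _
  -- `γ ≫ σ` presents `α ≫ u = 0`
  have hγP : (γ ≫ σ) ≫ Limits.Sigma.map βP = 0 := by
    rw [← hα, hαγ, Category.assoc, Category.assoc]
    congr 1
    apply Sigma.hom_ext
    intro n
    rw [Sigma.ι_desc_assoc, Preadditive.add_comp, Category.assoc, Category.assoc,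
      Sigma.ι_map, Sigma.ι_map, ← Category.assoc, ← Category.assoc, inl_βP, inr_βP,
      Sigma.ι_map_assoc, Preadditive.comp_sub, Category.comp_id, DerLim.shiftMap,
      Sigma.ι_desc, Preadditive.comp_sub, ← Category.assoc (β n) (f' n), hβf,
      Preadditive.neg_comp, Preadditive.neg_comp, Category.assoc, sub_eq_add_neg]
  obtain ⟨k, ω, ε, hε, hω⟩ := neeman_vanishing h2 P K' βP (γ ≫ σ) hγP
  -- the `H`-compatibility of `bP`
  have hbP : ∀ n, pull H (bP n) x0 = pull H (βP n) (x' n) := by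
    intro n
    apply biprod_ext_H
    · rw [← pull_comp, ← pull_comp, inl_bP, inl_βP, hb]
    · rw [← pull_comp, ← pull_comp, biprod.inr_desc, biprod.inr_desc]
      exact pull_Qdesc H K0 x0 K' x' φ hφx (fun n => -(b n)) n
  -- `ω n ≫ bP n` is killed by all `φ m`
  have hωb : ∀ n m, ω n ≫ bP n ≫ φ m = 0 := by
    intro n m
    rw [← Category.assoc]
    apply comp_φ_eq_zero K0 K' f' φ hφ
    apply Q2a
    rw [pull_comp, hbP, ← pull_comp, hω, pull_zero]
  -- the map `Ψ`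
  let Ψ : ∐ P ⟶ ∐ K' := Sigma.desc (fun n =>
    (βP n - bP n ≫ φ n) ≫ Sigma.ι K' n - ∑ m ∈ Finset.range n, bP n ≫ φ m ≫ Sigma.ι K' m)
  have c1 : ∀ n, (biprod.inl : Z n ⟶ P n) ≫ ((βP n - bP n ≫ φ n) ≫ Sigma.ι K' n -
      ∑ m ∈ Finset.range n, bP n ≫ φ m ≫ Sigma.ι K' m) =
      (β n - b n ≫ φ n) ≫ Sigma.ι K' n - ∑ m ∈ Finset.range n, b n ≫ φ m ≫ Sigma.ι K' m := by
    intro n
    simp only [Preadditive.comp_sub, Preadditive.sub_comp, Preadditive.comp_sum]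
    simp only [← Category.assoc, inl_βP, inl_bP]
  have c2 : ∀ n, inrQ Z n ≫ ((βP (n + 1) - bP (n + 1) ≫ φ (n + 1)) ≫ Sigma.ι K' (n + 1) -
      ∑ m ∈ Finset.range (n + 1), bP (n + 1) ≫ φ m ≫ Sigma.ι K' m) =
      ∑ m ∈ Finset.range (n + 1), b n ≫ φ m ≫ Sigma.ι K' m := by
    intro n
    simp only [Preadditive.comp_sub, Preadditive.sub_comp, Preadditive.comp_sum]
    simp only [← Category.assoc, inr_βP, inr_bP]
    simp only [Preadditive.neg_comp, Finset.sum_neg_distrib, sub_self, zero_sub, neg_neg]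
  have hΨ1 : σ ≫ Ψ = Limits.Sigma.map β := by
    apply Sigma.hom_ext
    intro n
    rw [Sigma.ι_desc_assoc, Preadditive.add_comp, Category.assoc, Category.assoc,
      Sigma.ι_desc, Sigma.ι_desc, Sigma.ι_map, c1, c2, Finset.sum_range_succ,
      Preadditive.sub_comp, Category.assoc]
    abel
  have hΨ2 : Limits.Sigma.map ω ≫ Ψ = 0 := by
    apply Sigma.hom_ext
    intro n
    have t1 : ω n ≫ (βP n - bP n ≫ φ n) = 0 := by
      rw [Preadditive.comp_sub, hω, hωb, sub_zero]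
    rw [Sigma.ι_map_assoc, Sigma.ι_desc, comp_zero, Preadditive.comp_sub, ← Category.assoc, t1,
      zero_comp, zero_sub, neg_eq_zero, Preadditive.comp_sum]
    apply Finset.sum_eq_zero
    intro m _
    rw [reassoc_of% (hωb n m), zero_comp]
  rw [hαγ, ← hΨ1, ← Category.assoc, hε, Category.assoc, hΨ2, comp_zero]

end ClaimJMain

section BijOnE

variable {D : Type u} [Category.{v} D] [Preadditive D] [HasZeroObject D] [HasShift D ℤ]
  [∀ n : ℤ, (shiftFunctor D n).Additive] [Pretriangulated D] [IsTriangulated D]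
  [HasColimitsOfShape (Discrete ℕ) D]
  (H : Dᵒᵖ ⥤ AddCommGrpCat.{v}) [H.IsHomological]
  {ι : Type v} {E : ι → D} (h2 : H2 E)
  (SC : ∀ i, ∃ i', Nonempty (E i' ≅ (E i)⟦(-1 : ℤ)⟧))
  (K0 : D) (x0 : H.obj (op K0)) (K' : ℕ → D) (f' : ∀ n, K' n ⟶ K' (n + 1))
  (x' : ∀ n, H.obj (op (K' n)))
  (φ : ∀ n, K0 ⟶ K' n) (hφ : ∀ n, φ (n + 1) = φ n ≫ f' n)
  (hφx : ∀ n, pull H (φ n) (x' n) = x0)
  (Q1 : ∀ (j : ι) (n : ℕ) (β : E j ⟶ K' n), ∃ b : E j ⟶ K0, pull H b x0 = pull H β (x' n))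
  (Q2a : ∀ (j : ι) (b : E j ⟶ K0), pull H b x0 = 0 → b ≫ φ 0 = 0)
  (Q2b : ∀ (n : ℕ) (j : ι) (ν : E j ⟶ K' n), pull H ν (x' n) = 0 → ν ≫ f' n = 0)
  (L : D) (ιL : ∀ n, K' n ⟶ L) (hL : DerLim.IsHocolim K' f' L ιL)
  (xinf : H.obj (op L)) (hxinf : ∀ n, pull H (ιL n) xinf = x' n)

open Helper89.Tower

include hφ hL in
lemma φ_ιL (n : ℕ) : φ n ≫ ιL n = φ 0 ≫ ιL 0 := by
  induction n with
  | zero => rfl
  | succ n ih => rw [hφ, Category.assoc, hocolim_ι_succ K' f' L ιL hL n, ih]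

include h2 SC hφ hφx Q1 Q2a Q2b hL hxinf in
theorem injective_on_E (i : ι) (g : E i ⟶ L) (hg : pull H g xinf = 0) : g = 0 := by
  have hL' := hL
  obtain ⟨c, hc⟩ := hL
  -- Step 1
  have h1 : g ≫ c = 0 := by
    obtain ⟨i', ⟨e⟩⟩ := SC i
    rw [← shAdj_symm_eq_zero_iff]
    have ha : ((shAdj (1 : ℤ)).homEquiv (E i) (∐ K')).symm (g ≫ c) ≫
        (𝟙 _ - DerLim.shiftMap K' f') = 0 := by
      rw [← Adjunction.homEquiv_naturality_right_symm, Category.assoc]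
      have : c ≫ (𝟙 _ - DerLim.shiftMap K' f')⟦(1 : ℤ)⟧' = 0 := comp_distTriang_mor_zero₃₁ _ hc
      rw [this, comp_zero, shAdj_symm_eq_zero_iff]
    have h3 := claimJ H h2 K0 x0 K' f' x' φ hφ hφx Q1 Q2a Q2b
      (e.hom ≫ ((shAdj (1 : ℤ)).homEquiv (E i) (∐ K')).symm (g ≫ c))
      (by rw [Category.assoc, ha, comp_zero])
    rw [← cancel_epi e.hom, h3, comp_zero]
  -- Step 2
  obtain ⟨(ψ : E i ⟶ ∐ K'), (hψ : g = ψ ≫ Sigma.desc ιL)⟩ :=
    Triangle.coyoneda_exact₃ _ hc g h1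
  obtain ⟨j, β, γ, hψγ⟩ := h2 K' i ψ
  choose b hb using fun n => Q1 (j n) n (β n)
  have hβf : ∀ n, β n ≫ f' n = b n ≫ φ (n + 1) := by
    intro n
    have h1 : pull H (β n - b n ≫ φ n) (x' n) = 0 := by
      rw [pull_sub, pull_comp, hφx, hb, sub_self]
    have h2' := Q2b n (j n) _ h1
    rw [Preadditive.sub_comp, sub_eq_zero, Category.assoc, ← hφ] at h2'
    exact h2'
  have hβι : ∀ n, β n ≫ ιL n = b n ≫ φ 0 ≫ ιL 0 := by
    intro n
    rw [← hocolim_ι_succ K' f' L ιL hL' n, ← Category.assoc, hβf, Category.assoc,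
      φ_ιL K0 K' f' φ hφ L ιL hL' (n + 1)]
  have hg' : g = (γ ≫ Sigma.desc b) ≫ φ 0 ≫ ιL 0 := by
    rw [hψ, hψγ, Category.assoc, Category.assoc]
    congr 1
    apply Sigma.hom_ext
    intro n
    rw [Sigma.ι_map_assoc, Sigma.ι_desc, Sigma.ι_desc_assoc, hβι]
  have hx0 : pull H (φ 0 ≫ ιL 0) xinf = x0 := by rw [pull_comp, hxinf, hφx]
  have h4 : pull H (γ ≫ Sigma.desc b) x0 = 0 := by
    rw [← hx0, ← pull_comp, ← hg', hg]
  have h5 := Q2a i _ h4
  rw [hg', ← Category.assoc, h5, zero_comp]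

include hφx hxinf in
theorem surjective_on_E (i : ι) (y : H.obj (op (E i)))
    (P1 : ∀ (i : ι) (y : H.obj (op (E i))), ∃ g : E i ⟶ K0, pull H g x0 = y) :
    ∃ g : E i ⟶ L, pull H g xinf = y := by
  obtain ⟨g0, hg0⟩ := P1 i y
  exact ⟨g0 ≫ φ 0 ≫ ιL 0, by rw [pull_comp, pull_comp, hxinf, hφx, hg0]⟩

end BijOnE

section Representing

variable {D : Type u} [Category.{v} D] [Preadditive D] [HasZeroObject D] [HasShift D ℤ]
  [∀ n : ℤ, (shiftFunctor D n).Additive] [Pretriangulated D] [IsTriangulated D]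
  [HasCoproducts.{v} D] [HasColimitsOfShape (Discrete ℕ) D]

/-- classes of objects closed under isomorphisms, small coproducts and cones -/
structure IsLocClass (PP : D → Prop) : Prop where
  iso : ∀ {X Y : D}, (X ≅ Y) → PP X → PP Y
  coprod : ∀ {κ : Type v} (Y : κ → D), (∀ a, PP (Y a)) → PP (∐ Y)
  cone : ∀ (T : Triangle D), T ∈ distTriang D → PP T.obj₁ → PP T.obj₂ → PP T.obj₃

open Helper89.Tower in
lemma IsLocClass.coprodNat {PP : D → Prop} (h : IsLocClass PP) (Y : ℕ → D) (hY : ∀ n, PP (Y n)) :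
    PP (∐ Y) :=
  h.iso (reindexIso Y) (h.coprod (fun i : ULift.{v} ℕ => Y i.down) (fun i => hY i.down))

variable (H : Dᵒᵖ ⥤ AddCommGrpCat.{v}) [H.IsHomological]
  [∀ (κ : Type v), PreservesLimitsOfShape (Discrete κ) H]
  {ι : Type v} {E : ι → D} (h2 : H2 E)
  (SC : ∀ i, ∃ i', Nonempty (E i' ≅ (E i)⟦(-1 : ℤ)⟧))

/-- the bijectivity predicate -/
def Bij {L : D} (xinf : H.obj (op L)) (X : D) : Prop :=
  (∀ g : X ⟶ L, pull H g xinf = 0 → g = 0) ∧ (∀ z : H.obj (op X), ∃ g : X ⟶ L, pull H g xinf = z)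

include h2 SC in
/-- Krause's construction: an object `L` of every localizing class containing `E`, with an element
of `H L` inducing bijections `Hom(E i, L) ≃ H (E i)`. -/
theorem exists_representing : ∃ (L : D) (xinf : H.obj (op L)),
    (∀ PP : D → Prop, IsLocClass PP → (∀ i, PP (E i)) → PP L) ∧ ∀ i, Bij H xinf (E i) := by
  obtain ⟨K, f, x, hx, h0, hstep, P1, P2⟩ := exists_towerH H E
  -- the tail
  let K' : ℕ → D := fun n => K (n + 1)
  let f' : ∀ n, K' n ⟶ K' (n + 1) := fun n => f (n + 1)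
  let x' : ∀ n, H.obj (op (K' n)) := fun n => x (n + 1)
  let φ : ∀ n, K 0 ⟶ K' n := fun n => Nat.rec (f 0) (fun n φn => φn ≫ f (n + 1)) n
  have hφ : ∀ n, φ (n + 1) = φ n ≫ f' n := fun n => rfl
  have hφx : ∀ n, pull H (φ n) (x' n) = x 0 := by
    intro n
    induction n with
    | zero => exact hx 0
    | succ n ih => rw [hφ, pull_comp, hx (n + 1), ih]
  have Q1 : ∀ (j : ι) (n : ℕ) (β : E j ⟶ K' n), ∃ b : E j ⟶ K 0,
      pull H b (x 0) = pull H β (x' n) := fun j n β => P1 j _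
  have Q2a : ∀ (j : ι) (b : E j ⟶ K 0), pull H b (x 0) = 0 → b ≫ φ 0 = 0 := fun j b hb => P2 0 j b hb
  have Q2b : ∀ (n : ℕ) (j : ι) (ν : E j ⟶ K' n), pull H ν (x' n) = 0 → ν ≫ f' n = 0 :=
    fun n j ν hν => P2 (n + 1) j ν hν
  obtain ⟨L, ιL, hL⟩ := Helper89.Tower.exists_hocolim K' f'
  obtain ⟨xinf, hxinf⟩ := exists_xInf H K' f' x' (fun n => hx (n + 1)) L ιL hL
  refine ⟨L, xinf, ?_, fun i => ⟨?_, ?_⟩⟩
  · intro PP hPP hE
    have hK : ∀ n, PP (K n) := by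
      intro n
      induction n with
      | zero =>
        obtain ⟨A, k, ⟨e⟩⟩ := h0
        exact hPP.iso e.symm (hPP.coprod _ (fun a => hE (k a)))
      | succ n ih =>
        obtain ⟨A, k, y, z, hT⟩ := hstep n
        exact hPP.cone _ hT (hPP.coprod _ (fun a => hE (k a))) ih
    obtain ⟨c, hc⟩ := hL
    exact hPP.cone _ hc (hPP.coprodNat K' (fun n => hK (n + 1))) (hPP.coprodNat K' (fun n => hK (n + 1)))
  · intro g hg
    exact injective_on_E H h2 SC (K 0) (x 0) K' f' x' φ hφ hφx Q1 Q2a Q2b L ιL hL xinf hxinf i g hg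
  · intro y
    exact surjective_on_E H (K 0) (x 0) K' x' φ hφx L ιL xinf hxinf i y P1

end Representing

section Final

variable {D : Type u} [Category.{v} D] [Preadditive D] [HasZeroObject D] [HasShift D ℤ]
  [∀ n : ℤ, (shiftFunctor D n).Additive] [Pretriangulated D] [IsTriangulated D]
  [HasCoproducts.{v} D] [HasColimitsOfShape (Discrete ℕ) D]
  (H : Dᵒᵖ ⥤ AddCommGrpCat.{v}) [H.IsHomological]
  [∀ (κ : Type v), PreservesLimitsOfShape (Discrete κ) H]
  {L : D} (xinf : H.obj (op L))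

variable {H xinf} in
lemma Bij.of_iso {X Y : D} (e : X ≅ Y) (h : Bij H xinf X) : Bij H xinf Y := by
  constructor
  · intro g hg
    have h1 : pull H (e.hom ≫ g) xinf = 0 := by rw [pull_comp, hg, pull_map_zero]
    have h2 := h.1 _ h1
    rw [← cancel_epi e.hom, h2, comp_zero]
  · intro z
    obtain ⟨g, hg⟩ := h.2 (pull H e.hom z)
    exact ⟨e.inv ≫ g, by rw [pull_comp, hg, ← pull_comp, e.inv_hom_id, pull_id]⟩

lemma Bij.coprod {κ : Type v} (Y : κ → D) (h : ∀ a, Bij H xinf (Y a)) : Bij H xinf (∐ Y) := by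
  constructor
  · intro g hg
    apply Sigma.hom_ext
    intro a
    rw [comp_zero]
    apply (h a).1
    rw [pull_comp, hg, pull_map_zero]
  · intro z
    choose g hg using fun a => (h a).2 (pull H (Sigma.ι Y a) z)
    refine ⟨Sigma.desc g, ?_⟩
    apply prod_ext H Y
    intro a
    rw [← pull_comp, Sigma.ι_desc, hg]

lemma Bij.five (T : Triangle D) (hT : T ∈ distTriang D) (h1 : Bij H xinf T.obj₁)
    (h2 : Bij H xinf T.obj₂) (h1' : Bij H xinf (T.obj₁⟦(1 : ℤ)⟧))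
    (h2' : Bij H xinf (T.obj₂⟦(1 : ℤ)⟧)) : Bij H xinf T.obj₃ := by
  have hT1 := rot_of_distTriang _ hT
  have hT2 := rot_of_distTriang _ hT1
  constructor
  · intro g hg
    -- `T.mor₂ ≫ g = 0`
    have e1 : T.mor₂ ≫ g = 0 := by
      apply h2.1
      rw [pull_comp, hg, pull_map_zero]
    obtain ⟨(g' : T.obj₁⟦(1 : ℤ)⟧ ⟶ L), (hg' : g = T.mor₃ ≫ g')⟩ :=
      Triangle.yoneda_exact₃ _ hT g e1
    have e2 : pull H T.mor₃ (pull H g' xinf) = 0 := by rw [← pull_comp, ← hg', hg]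
    obtain ⟨(w : H.obj (op (T.obj₂⟦(1 : ℤ)⟧))), (hw : pull H (-T.mor₁⟦(1 : ℤ)⟧') w = pull H g' xinf)⟩ :=
      exact_pull H _ hT2 (pull H g' xinf) e2
    obtain ⟨g'', hg''⟩ := h2'.2 w
    have e3 : (-T.mor₁⟦(1 : ℤ)⟧') ≫ g'' = g' := by
      have : pull H ((-T.mor₁⟦(1 : ℤ)⟧') ≫ g'' - g') xinf = 0 := by
        rw [pull_sub, pull_comp, hg'', hw, sub_self]
      exact sub_eq_zero.1 (h1'.1 _ this)
    have e4 : T.mor₃ ≫ (-T.mor₁⟦(1 : ℤ)⟧') = 0 := comp_distTriang_mor_zero₁₂ _ hT2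
    rw [hg', ← e3, ← Category.assoc, e4, zero_comp]
  · intro z
    obtain ⟨g₂, hg₂⟩ := h2.2 (pull H T.mor₂ z)
    have e1 : T.mor₁ ≫ g₂ = 0 := by
      apply h1.1
      rw [pull_comp, hg₂, ← pull_comp, comp_distTriang_mor_zero₁₂ _ hT, pull_zero]
    obtain ⟨(g₃ : T.obj₃ ⟶ L), (hg₃ : g₂ = T.mor₂ ≫ g₃)⟩ := Triangle.yoneda_exact₂ _ hT g₂ e1
    have e2 : pull H T.mor₂ (z - pull H g₃ xinf) = 0 := by
      rw [pull_map_sub, ← pull_comp, ← hg₃, hg₂, sub_self]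
    obtain ⟨(w : H.obj (op (T.obj₁⟦(1 : ℤ)⟧))), (hw : pull H T.mor₃ w = z - pull H g₃ xinf)⟩ :=
      exact_pull H _ hT1 _ e2
    obtain ⟨g₁, hg₁⟩ := h1'.2 w
    refine ⟨g₃ + T.mor₃ ≫ g₁, ?_⟩
    rw [pull_add, pull_comp, hg₁, hw]
    abel

/-- bijectivity at all shifts -/
def BijAll (X : D) : Prop := ∀ m : ℤ, Bij H xinf (X⟦m⟧)

lemma isLocClass_BijAll : IsLocClass (BijAll H xinf) where
  iso e h m := (h m).of_iso ((shiftFunctor D m).mapIso e)
  coprod Y h m := by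
    have := Bij.coprod H xinf (fun a => (Y a)⟦m⟧) (fun a => h a m)
    exact this.of_iso (PreservesCoproduct.iso (shiftFunctor D m) Y).symm
  cone T hT h1 h2 m := by
    have hTm := Triangle.shift_distinguished T hT m
    have e1 : ∀ X : D, BijAll H xinf X → Bij H xinf ((X⟦m⟧)⟦(1 : ℤ)⟧) := fun X hX =>
      (hX (m + 1)).of_iso ((shiftFunctorAdd D m 1).app X)
    exact Bij.five H xinf _ hTm (h1 m) (h2 m) (e1 _ h1) (e1 _ h2)

end Final

section Representable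

variable {D : Type u} [Category.{v} D] [Preadditive D] [HasZeroObject D] [HasShift D ℤ]
  [∀ n : ℤ, (shiftFunctor D n).Additive] [Pretriangulated D] [IsTriangulated D]
  [HasCoproducts.{v} D] [HasColimitsOfShape (Discrete ℕ) D]
  (H : Dᵒᵖ ⥤ AddCommGrpCat.{v}) [H.IsHomological]
  [∀ (κ : Type v), PreservesLimitsOfShape (Discrete κ) H]
  {ι : Type v} {E : ι → D}

lemma pull_yoneda {X L Y : D} (g : X ⟶ L) (τ : L ⟶ Y) :
    pull (preadditiveYoneda.obj Y) g τ = g ≫ τ := rfl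

open Helper89.Tower in
/-- Brown representability for a shift-closed perfectly generating family. -/
theorem representable_of_shiftClosed
    (h1 : ∀ X : D, ¬ IsZero X → ∃ (i : ι) (f : E i ⟶ X), f ≠ 0) (h2 : H2 E)
    (SCfull : ∀ (i : ι) (m : ℤ), ∃ i', Nonempty (E i' ≅ (E i)⟦m⟧)) :
    (H ⋙ forget AddCommGrpCat.{v}).IsRepresentable := by
  have SC : ∀ i, ∃ i', Nonempty (E i' ≅ (E i)⟦(-1 : ℤ)⟧) := fun i => SCfull i (-1)
  obtain ⟨L, xinf, -, hE⟩ := exists_representing H h2 SC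
  have hloc := isLocClass_BijAll H xinf
  have hEall : ∀ i, BijAll H xinf (E i) := by
    intro i m
    obtain ⟨i', ⟨e⟩⟩ := SCfull i m
    exact (hE i').of_iso e
  have hall : ∀ Y : D, BijAll H xinf Y := by
    intro Y
    obtain ⟨L', (τ : L' ⟶ Y), hL', hE'⟩ := exists_representing (preadditiveYoneda.obj Y) h2 SC
    have hiso : IsIso τ := by
      obtain ⟨Z, b, c, hT⟩ := distinguished_cocone_triangle τ
      have hZ : IsZero Z := by
        by_contra hZ
        obtain ⟨i, f, hf⟩ := h1 Z hZ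
        apply hf
        apply eq_zero_of_bijective τ b c hT (E i)
        · intro g
          exact (hE' i).2 g
        · obtain ⟨i', ⟨e⟩⟩ := SC i
          intro g' hg'
          exact ((hE' i').of_iso e).1 g' hg'
      exact (Triangle.isZero₃_iff_isIso₁ _ hT).1 hZ
    exact hloc.iso (asIso τ) (hL' _ hloc hEall)
  have hY : ∀ Y : D, Bij H xinf Y := fun Y => (hall Y 0).of_iso ((shiftFunctorZero D ℤ).app Y)
  refine ⟨L, ⟨{ homEquiv := fun {Y} => Equiv.ofBijective (fun g : Y ⟶ L => pull H g xinf) ⟨?_, ?_⟩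
                homEquiv_comp := ?_ }⟩⟩
  · intro g₁ g₂ hg
    have : pull H (g₁ - g₂) xinf = 0 := by
      rw [pull_sub]
      exact sub_eq_zero.2 hg
    exact sub_eq_zero.1 ((hY Y).1 _ this)
  · intro z
    exact (hY Y).2 z
  · intro X X' f g
    exact pull_comp H f g xinf

end Representable

section ShiftClosure

variable {D : Type u} [Category.{v} D] [Preadditive D] [HasZeroObject D] [HasShift D ℤ]
  [∀ n : ℤ, (shiftFunctor D n).Additive] [Pretriangulated D] [IsTriangulated D]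
  [HasCoproducts.{v} D] [HasColimitsOfShape (Discrete ℕ) D]
  {ι : Type v} (E : ι → D)

/-- the shift closure of a family -/
def shiftFam : ι × ℤ → D := fun p => (E p.1)⟦p.2⟧

variable {E}

lemma h1_shift (h1 : ∀ X : D, ¬ IsZero X → ∃ (i : ι) (f : E i ⟶ X), f ≠ 0) :
    ∀ X : D, ¬ IsZero X → ∃ (p : ι × ℤ) (f : shiftFam E p ⟶ X), f ≠ 0 := by
  intro X hX
  obtain ⟨i, f, hf⟩ := h1 X hX
  refine ⟨(i, 0), (shiftFunctorZero D ℤ).hom.app (E i) ≫ f, ?_⟩
  intro h0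
  apply hf
  have : f = (shiftFunctorZero D ℤ).inv.app (E i) ≫ (shiftFunctorZero D ℤ).hom.app (E i) ≫ f := by
    simp
  have h0' : (shiftFunctorZero D ℤ).hom.app (E i) ≫ f = 0 := h0
  rw [this, h0', comp_zero]

lemma scfull_shift (p : ι × ℤ) (m : ℤ) :
    ∃ p' : ι × ℤ, Nonempty (shiftFam E p' ≅ (shiftFam E p)⟦m⟧) :=
  ⟨(p.1, p.2 + m), ⟨(shiftFunctorAdd D p.2 m).app (E p.1)⟩⟩

lemma h2_shift (h2 : H2 E) : H2 (shiftFam E) := by
  rintro X ⟨i, m⟩ α
  let adj : shiftFunctor D m ⊣ shiftFunctor D (-m) :=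
    (shiftEquiv' D m (-m) (by simp)).toAdjunction
  let cmp : (∐ fun n => (X n)⟦(-m : ℤ)⟧) ⟶ (∐ X)⟦(-m : ℤ)⟧ :=
    sigmaComparison (shiftFunctor D (-m)) X
  have hcmp : IsIso cmp := by
    show IsIso (sigmaComparison (shiftFunctor D (-m)) X)
    infer_instance
  obtain ⟨j₀, β₀, γ₀, h⟩ := h2 (fun n => (X n)⟦(-m : ℤ)⟧) i
    (adj.homEquiv (E i) (∐ X) α ≫ inv cmp)
  let cmpE : (∐ fun n => (E (j₀ n))⟦m⟧) ⟶ (∐ fun n => E (j₀ n))⟦m⟧ :=
    sigmaComparison (shiftFunctor D m) (fun n => E (j₀ n))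
  have hcmpE : IsIso cmpE := by
    show IsIso (sigmaComparison (shiftFunctor D m) (fun n => E (j₀ n)))
    infer_instance
  let g : (E i)⟦m⟧ ⟶ ∐ fun n => (E (j₀ n))⟦m⟧ := γ₀⟦m⟧' ≫ inv cmpE
  refine ⟨fun n => (j₀ n, m), fun n => (adj.homEquiv _ _).symm (β₀ n), g, ?_⟩
  show α = (γ₀⟦m⟧' ≫ inv cmpE) ≫ Limits.Sigma.map (fun n => (adj.homEquiv _ _).symm (β₀ n))
  have hα : α = (adj.homEquiv (E i) (∐ X) α)⟦m⟧' ≫ adj.counit.app (∐ X) := by
    have := (adj.homEquiv (E i) (∐ X)).symm_apply_apply α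
    rw [Adjunction.homEquiv_counit] at this
    exact this.symm
  have hα' : adj.homEquiv (E i) (∐ X) α = γ₀ ≫ Limits.Sigma.map β₀ ≫ cmp := by
    rw [← Category.assoc, ← h, Category.assoc, IsIso.inv_hom_id, Category.comp_id]
  have key : cmpE ≫ (Limits.Sigma.map β₀ ≫ cmp)⟦m⟧' ≫ adj.counit.app (∐ X) =
      Limits.Sigma.map (fun n => (adj.homEquiv _ _).symm (β₀ n)) := by
    apply Sigma.hom_ext
    intro n
    have e1 : Sigma.ι (fun n => (E (j₀ n))⟦m⟧) n ≫ cmpE =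
        (Sigma.ι (fun n => E (j₀ n)) n)⟦m⟧' := ι_comp_sigmaComparison _ _ n
    have e2 : Sigma.ι (fun n => E (j₀ n)) n ≫ Limits.Sigma.map β₀ ≫ cmp =
        β₀ n ≫ (Sigma.ι X n)⟦(-m : ℤ)⟧' := by
      rw [Sigma.ι_map_assoc]
      congr 1
      exact ι_comp_sigmaComparison _ _ n
    have e3 : ((Sigma.ι X n)⟦(-m : ℤ)⟧')⟦m⟧' ≫ adj.counit.app (∐ X) =
        adj.counit.app (X n) ≫ Sigma.ι X n := adj.counit.naturality (Sigma.ι X n)
    rw [← Category.assoc, e1, ← Category.assoc, ← Functor.map_comp, e2, Functor.map_comp,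
      Category.assoc, e3, Sigma.ι_map, Adjunction.homEquiv_counit, Category.assoc]
  rw [Category.assoc, ← key, IsIso.inv_hom_id_assoc]
  conv_lhs => rw [hα, hα', Functor.map_comp, Category.assoc]

end ShiftClosure

section MainTheorem

variable {D : Type u} [Category.{v} D] [Preadditive D] [HasZeroObject D] [HasShift D ℤ]
  [∀ n : ℤ, (shiftFunctor D n).Additive] [Pretriangulated D] [IsTriangulated D]
  [HasCoproducts.{v} D] [HasColimitsOfShape (Discrete ℕ) D]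

/-- S0974: Brown representability for perfectly generated triangulated categories (Krause). -/
theorem brown_representability {ι : Type v} (E : ι → D)
    (h1 : ∀ X : D, ¬ IsZero X → ∃ (i : ι) (f : E i ⟶ X), f ≠ 0)
    (h2 : ∀ (X : ℕ → D) (i : ι) (α : E i ⟶ ∐ X), ∃ (j : ℕ → ι) (β : ∀ n, E (j n) ⟶ X n)
      (γ : E i ⟶ ∐ (fun n => E (j n))), α = γ ≫ Limits.Sigma.map β)
    (H : Dᵒᵖ ⥤ AddCommGrpCat.{v}) [H.IsHomological]
    [∀ (κ : Type v), PreservesLimitsOfShape (Discrete κ) H] :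
    (H ⋙ forget AddCommGrpCat.{v}).IsRepresentable :=
  representable_of_shiftClosed H (E := shiftFam E) (h1_shift h1) (h2_shift h2) scfull_shift

end MainTheorem

end Helper89.Brown
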