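import Mathlib
import Groth.Agent.Lib.Helper89.Brown

set_option autoImplicit false
universe v u u'
open CategoryTheory CategoryTheory.Limits CategoryTheory.Pretriangulated Opposite

namespace Helper89.BrownAdjoint

variable {D : Type u} [Category.{v} D] [Preadditive D] [HasZeroObject D] [HasShift D ℤ]
    [∀ n : ℤ, (shiftFunctor D n).Additive] [Pretriangulated D] [IsTriangulated D]
    [HasCoproducts.{v} D] [HasColimitsOfShape (Discrete ℕ) D]
    {D' : Type u'} [Category.{v} D'] [Preadditive D'] [HasZeroObject D'] [HasShift D' ℤ]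
    [∀ n : ℤ, (shiftFunctor D' n).Additive] [Pretriangulated D'] [IsTriangulated D']
    (F : D ⥤ D') [F.CommShift ℤ] [F.IsTriangulated]

/-- the functor `Hom(F -, Y')` -/
noncomputable abbrev homF (Y' : D') : Dᵒᵖ ⥤ AddCommGrpCat.{v} := F.op ⋙ preadditiveYoneda.obj Y'

instance (Y' : D') : (homF F Y').IsHomological where
  map_zero := by
    intro X Y
    show (preadditiveYoneda.obj Y').map (F.op.map 0) = 0
    rw [Functor.map_zero, Functor.map_zero]
  exact T hT := by
    rw [ShortComplex.ab_exact_iff]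
    intro (x₂ : F.obj T.obj₂.unop ⟶ Y') (hx₂ : F.map T.mor₂.unop ≫ x₂ = 0)
    obtain ⟨x₃, hx₃⟩ := Triangle.yoneda_exact₂ _
      (F.map_distinguished _ (Pretriangulated.unop_distinguished T hT)) x₂ hx₂
    exact ⟨x₃, hx₃.symm⟩

instance (Y' : D') (κ : Type v) [PreservesColimitsOfShape (Discrete κ) F] :
    PreservesLimitsOfShape (Discrete κ) (homF F Y') := by
  have : PreservesLimitsOfShape (Discrete κ) F.op := by
    have : PreservesColimitsOfShape (Discrete κ)ᵒᵖ F :=
      preservesColimitsOfShape_of_equiv (Discrete.opposite κ).symm F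
    exact preservesLimitsOfShape_op _ _
  infer_instance

theorem isLeftAdjoint_of_brown {ι : Type v} (E : ι → D)
    (h1 : ∀ X : D, ¬ IsZero X → ∃ (i : ι) (f : E i ⟶ X), f ≠ 0)
    (h2 : ∀ (X : ℕ → D) (i : ι) (α : E i ⟶ ∐ X), ∃ (j : ℕ → ι) (β : ∀ n, E (j n) ⟶ X n)
      (γ : E i ⟶ ∐ (fun n => E (j n))), α = γ ≫ Limits.Sigma.map β)
    [∀ (κ : Type v), PreservesColimitsOfShape (Discrete κ) F] : F.IsLeftAdjoint := by
  apply Functor.isLeftAdjoint_of_rightAdjointObjIsDefined_eq_top
  ext Y'
  simp only [Pi.top_apply, Prop.top_eq_true, iff_true]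
  rw [Functor.rightAdjointObjIsDefined_iff]
  exact Helper89.Brown.brown_representability E h1 h2 (homF F Y')

end Helper89.BrownAdjoint
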