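import Mathlib
import Groth.Agent.Lib.Helper89.Brown
import Groth.Agent.Lib.Helper89.BrownAdjoint
import Groth.Agent.Lib.Helper89.Tower

set_option autoImplicit false
universe v u u'
open CategoryTheory CategoryTheory.Limits CategoryTheory.Pretriangulated Opposite
open Groth.Agent.Lib.Helper40.Cpt

namespace Helper89.BrownCompact

variable {D : Type u} [Category.{v} D] [Preadditive D] [HasZeroObject D] [HasShift D ℤ]
    [∀ n : ℤ, (shiftFunctor D n).Additive] [Pretriangulated D] [IsTriangulated D]
    [HasCoproducts.{v} D]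

lemma hasCoproductsNat : HasColimitsOfShape (Discrete ℕ) D :=
  hasColimitsOfShape_of_equivalence
    (Discrete.equivalence (Equiv.ulift : ULift.{v} ℕ ≃ ℕ))

/-- a family of compact objects satisfies condition (h2) of Brown representability -/
lemma h2_of_compact [HasColimitsOfShape (Discrete ℕ) D] {ι : Type v} (E : ι → D)
    (hc : ∀ i, CohDer.IsCompactObject (E i)) : Helper89.Brown.H2 E := by
  classical
  intro X i α
  obtain ⟨S, g, hg0, hg⟩ := Helper89.Tower.finSum_nat (hc i) X α
  refine ⟨fun _ => i, g, ∑ n ∈ S, Sigma.ι (fun _ : ℕ => E i) n, ?_⟩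
  rw [Preadditive.sum_comp, hg]
  apply Finset.sum_congr rfl
  intro n _
  rw [Sigma.ι_map]

/-- a generating family detects nonzero objects after closing under shifts -/
lemma h1_of_generates {ι : Type v} (E : ι → D) (hgen : CohDer.Generates E) :
    ∀ X : D, ¬ IsZero X → ∃ (p : ι × ℤ) (f : Helper89.Brown.shiftFam E p ⟶ X), f ≠ 0 := by
  intro X hX
  by_contra hcon
  push_neg at hcon
  apply hX
  apply hgen
  intro i n f
  have := hcon (i, -n) (((Helper89.Tower.shAdj n).homEquiv (E i) X).symm f)
  exact (Helper89.Tower.shAdj_symm_eq_zero_iff n f).1 this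

theorem representable_of_compactlyGenerated (hD : CohDer.IsCompactlyGenerated D)
    (H : Dᵒᵖ ⥤ AddCommGrpCat.{v}) [H.IsHomological]
    [∀ (ι : Type v), PreservesLimitsOfShape (Discrete ι) H] :
    (H ⋙ forget AddCommGrpCat.{v}).IsRepresentable := by
  obtain ⟨ι, E, hc, hgen⟩ := hD
  haveI : HasColimitsOfShape (Discrete ℕ) D := hasCoproductsNat
  refine Helper89.Brown.brown_representability (Helper89.Brown.shiftFam E)
    (h1_of_generates E hgen) (h2_of_compact _ ?_) H
  intro p
  exact isCompact_shift (hc p.1) p.2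

theorem isLeftAdjoint_of_compactlyGenerated
    {D' : Type u'} [Category.{v} D'] [Preadditive D'] [HasZeroObject D'] [HasShift D' ℤ]
    [∀ n : ℤ, (shiftFunctor D' n).Additive] [Pretriangulated D']
    (hD : CohDer.IsCompactlyGenerated D) (F : D ⥤ D') [F.CommShift ℤ] [F.IsTriangulated]
    [∀ (ι : Type v), PreservesColimitsOfShape (Discrete ι) F] : F.IsLeftAdjoint := by
  apply Functor.isLeftAdjoint_of_rightAdjointObjIsDefined_eq_top
  ext Y'
  simp only [Pi.top_apply, Prop.top_eq_true, iff_true]
  rw [Functor.rightAdjointObjIsDefined_iff]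
  exact representable_of_compactlyGenerated hD (Helper89.BrownAdjoint.homF F Y')

end Helper89.BrownCompact
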