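import Mathlib

set_option autoImplicit false
universe w w' v u
open CategoryTheory CategoryTheory.Limits

namespace Helper89.SigmaExact

section Homology

variable {A : Type u} [Category.{v} A] [Abelian A] [EnoughInjectives A] {J : Type w}
  [HasCoproductsOfShape J A]

/-- coproducts of monomorphisms are monomorphisms (enough injectives) -/
instance sigma_map_mono {X Y : J → A} [HasCoproduct X] [HasCoproduct Y] (f : ∀ j, X j ⟶ Y j)
    [∀ j, Mono (f j)] : Mono (Limits.Sigma.map f) := by
  let ψ : ∐ Y ⟶ Injective.under (∐ X) :=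
    Limits.Sigma.desc (fun j => Injective.factorThru (Limits.Sigma.ι X j ≫ Injective.ι (∐ X)) (f j))
  have h : Limits.Sigma.map f ≫ ψ = Injective.ι (∐ X) := by
    apply Limits.Sigma.hom_ext
    intro j
    rw [Limits.Sigma.ι_map_assoc, Limits.Sigma.ι_desc, Injective.comp_factorThru]
  exact mono_of_mono_fac h

/-- coproducts of exact sequences are exact (enough injectives) -/
lemma sigma_map_exact (S : J → ShortComplex A) (hS : ∀ j, (S j).Exact)
    [HasCoproduct (fun j => (S j).X₁)] [HasCoproduct (fun j => (S j).X₂)]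
    [HasCoproduct (fun j => (S j).X₃)] :
    (ShortComplex.mk (Limits.Sigma.map fun j => (S j).f) (Limits.Sigma.map fun j => (S j).g) (by
      rw [Limits.Sigma.map_comp_map]
      apply Limits.Sigma.hom_ext
      intro j
      simp)).Exact := by
  rw [ShortComplex.exact_iff_mono_cokernel_desc]
  dsimp
  set F := Limits.Sigma.map fun j => (S j).f
  set G := Limits.Sigma.map fun j => (S j).g
  have hFG : F ≫ G = 0 := by
    rw [Limits.Sigma.map_comp_map]
    apply Limits.Sigma.hom_ext
    intro j
    simp
  let I := Injective.under (cokernel F)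
  let φ : (∐ fun j => (S j).X₂) ⟶ I := cokernel.π F ≫ Injective.ι (cokernel F)
  have hφ : ∀ j, (S j).f ≫ Limits.Sigma.ι (fun j => (S j).X₂) j ≫ φ = 0 := by
    intro j
    have : (S j).f ≫ Limits.Sigma.ι (fun j => (S j).X₂) j = Limits.Sigma.ι (fun j => (S j).X₁) j ≫ F :=
      (Limits.Sigma.ι_map (fun j => (S j).f) j).symm
    rw [reassoc_of% this]
    simp [φ]
  have hmono : ∀ j, Mono (cokernel.desc (S j).f (S j).g (S j).zero) := fun j =>
    (S j).exact_iff_mono_cokernel_desc.1 (hS j)
  let ψ : (∐ fun j => (S j).X₃) ⟶ I :=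
    Limits.Sigma.desc (fun j => Injective.factorThru (cokernel.desc (S j).f _ (hφ j))
      (cokernel.desc (S j).f (S j).g (S j).zero))
  have hψ : G ≫ ψ = φ := by
    apply Limits.Sigma.hom_ext
    intro j
    rw [Limits.Sigma.ι_map_assoc, Limits.Sigma.ι_desc]
    rw [← cokernel.π_desc_assoc (S j).f (S j).g (S j).zero, Injective.comp_factorThru,
      cokernel.π_desc]
  have h : cokernel.desc F G hFG ≫ ψ = Injective.ι (cokernel F) := by
    rw [← cancel_epi (cokernel.π F), cokernel.π_desc_assoc, hψ]
  exact mono_of_mono_fac h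

/-- coproduct of a family of short complexes -/
noncomputable abbrev sigmaSC (S : J → ShortComplex A) : ShortComplex A :=
  ShortComplex.mk (Limits.Sigma.map fun j => (S j).f) (Limits.Sigma.map fun j => (S j).g) (by
    rw [Limits.Sigma.map_comp_map]
    apply Limits.Sigma.hom_ext
    intro j
    simp)

/-- the inclusions into the coproduct short complex -/
noncomputable abbrev sigmaSCι (S : J → ShortComplex A) (j : J) : S j ⟶ sigmaSC S where
  τ₁ := Limits.Sigma.ι (fun j => (S j).X₁) j
  τ₂ := Limits.Sigma.ι (fun j => (S j).X₂) j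
  τ₃ := Limits.Sigma.ι (fun j => (S j).X₃) j
  comm₁₂ := by simp [sigmaSC]
  comm₂₃ := by simp [sigmaSC]

/-- functoriality of the coproduct short complex -/
noncomputable abbrev sigmaSCMap {S T : J → ShortComplex A} (φ : ∀ j, S j ⟶ T j) :
    sigmaSC S ⟶ sigmaSC T where
  τ₁ := Limits.Sigma.map fun j => (φ j).τ₁
  τ₂ := Limits.Sigma.map fun j => (φ j).τ₂
  τ₃ := Limits.Sigma.map fun j => (φ j).τ₃
  comm₁₂ := by
    dsimp [sigmaSC]
    rw [Limits.Sigma.map_comp_map, Limits.Sigma.map_comp_map]
    congr 1
    funext j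
    exact (φ j).comm₁₂
  comm₂₃ := by
    dsimp [sigmaSC]
    rw [Limits.Sigma.map_comp_map, Limits.Sigma.map_comp_map]
    congr 1
    funext j
    exact (φ j).comm₂₃

variable (S : J → ShortComplex A) (h : ∀ j, (S j).LeftHomologyData)

lemma sigma_wi : (Limits.Sigma.map fun j => (h j).i) ≫ (sigmaSC S).g = 0 := by
  apply Limits.Sigma.hom_ext
  intro j
  simp

/-- the kernel property for the coproduct -/
noncomputable def sigma_hi : IsLimit (KernelFork.ofι (Limits.Sigma.map fun j => (h j).i)
    (sigma_wi S h)) := by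
  have hex := sigma_map_exact (fun j => ShortComplex.mk (h j).i (S j).g (h j).wi)
    (fun j => ShortComplex.exact_of_f_is_kernel _ (h j).hi)
  exact hex.fIsKernel

lemma sigma_f' : (sigma_hi S h).lift (KernelFork.ofι (sigmaSC S).f (sigmaSC S).zero) =
    Limits.Sigma.map fun j => (h j).f' := by
  have : Mono (Limits.Sigma.map fun j => (h j).i) := inferInstance
  rw [← cancel_mono (Limits.Sigma.map fun j => (h j).i)]
  have h1 := (sigma_hi S h).fac (KernelFork.ofι (sigmaSC S).f (sigmaSC S).zero)
    WalkingParallelPair.zero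
  dsimp at h1
  rw [h1]
  apply Limits.Sigma.hom_ext
  intro j
  simp

lemma sigma_wπ : (sigma_hi S h).lift (KernelFork.ofι (sigmaSC S).f (sigmaSC S).zero) ≫
    (Limits.Sigma.map fun j => (h j).π) = 0 := by
  rw [sigma_f']
  apply Limits.Sigma.hom_ext
  intro j
  simp

omit [EnoughInjectives A] [HasCoproductsOfShape J A] in
lemma isColimit_cokernelCofork_of_eq {X Y Z : A} {f₁ f₂ : X ⟶ Y} (hf : f₁ = f₂) (π : Y ⟶ Z)
    (w₁ : f₁ ≫ π = 0) (w₂ : f₂ ≫ π = 0) (hc : IsColimit (CokernelCofork.ofπ π w₂)) :
    Nonempty (IsColimit (CokernelCofork.ofπ π w₁)) := by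
  subst hf
  exact ⟨hc⟩

lemma sigma_f'_π : (Limits.Sigma.map fun j => (h j).f') ≫
    (Limits.Sigma.map fun j => (h j).π) = 0 := by
  apply Limits.Sigma.hom_ext
  intro j
  simp

/-- the cokernel property for the coproduct -/
noncomputable def sigma_hπ : IsColimit (CokernelCofork.ofπ (Limits.Sigma.map fun j => (h j).π)
    (sigma_wπ S h)) := by
  have hex := sigma_map_exact (fun j => ShortComplex.mk (h j).f' (h j).π (h j).f'_π)
    (fun j => ShortComplex.exact_of_g_is_cokernel _ (h j).hπ')
  have hc : IsColimit (CokernelCofork.ofπ (Limits.Sigma.map fun j => (h j).π)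
      (sigma_f'_π S h)) := hex.gIsCokernel
  exact (isColimit_cokernelCofork_of_eq (sigma_f' S h) _ _ _ hc).some

/-- left homology data of the coproduct short complex -/
noncomputable abbrev sigmaLHD : (sigmaSC S).LeftHomologyData where
  K := ∐ fun j => (h j).K
  H := ∐ fun j => (h j).H
  i := Limits.Sigma.map fun j => (h j).i
  π := Limits.Sigma.map fun j => (h j).π
  wi := sigma_wi S h
  hi := sigma_hi S h
  wπ := sigma_wπ S h
  hπ := sigma_hπ S h


lemma sigmaLHD_f' : (sigmaLHD S h).f' = Limits.Sigma.map fun j => (h j).f' := sigma_f' S h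

variable {S h} {T : J → ShortComplex A} {h' : ∀ j, (T j).LeftHomologyData}

/-- left homology map data for the coproduct of a family of morphisms -/
noncomputable abbrev sigmaLHMD {φ : ∀ j, S j ⟶ T j}
    (γ : ∀ j, ShortComplex.LeftHomologyMapData (φ j) (h j) (h' j)) :
    ShortComplex.LeftHomologyMapData (sigmaSCMap φ) (sigmaLHD S h) (sigmaLHD T h') where
  φK := Limits.Sigma.map fun j => (γ j).φK
  φH := Limits.Sigma.map fun j => (γ j).φH
  commi := by
    apply Limits.Sigma.hom_ext
    intro j
    simp [sigmaLHD, sigmaSCMap]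
  commf' := by
    rw [sigmaLHD_f', sigmaLHD_f']
    apply Limits.Sigma.hom_ext
    intro j
    rw [Limits.Sigma.ι_map_assoc, Limits.Sigma.ι_map, Limits.Sigma.ι_map_assoc, Limits.Sigma.ι_map,
      ← Category.assoc, ← Category.assoc, (γ j).commf']
  commπ := by
    apply Limits.Sigma.hom_ext
    intro j
    simp [sigmaLHD]

lemma quasiIso_sigmaSCMap (φ : ∀ j, S j ⟶ T j) (hφ : ∀ j, ShortComplex.QuasiIso (φ j)) :
    ShortComplex.QuasiIso (sigmaSCMap φ) := by
  let γ : ∀ j, ShortComplex.LeftHomologyMapData (φ j) (S j).leftHomologyData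
      (T j).leftHomologyData := fun j => ShortComplex.leftHomologyMapData _ _ _
  have hγ : ∀ j, IsIso (γ j).φH := fun j => (γ j).quasiIso_iff.1 (hφ j)
  rw [(sigmaLHMD γ).quasiIso_iff]
  refine ⟨Limits.Sigma.map fun j => inv (γ j).φH, ?_, ?_⟩
  · apply Limits.Sigma.hom_ext
    intro j
    rw [Limits.Sigma.ι_map_assoc, Limits.Sigma.ι_map, IsIso.hom_inv_id_assoc]
    exact (Category.comp_id _).symm
  · apply Limits.Sigma.hom_ext
    intro j
    rw [Limits.Sigma.ι_map_assoc, Limits.Sigma.ι_map, IsIso.inv_hom_id_assoc]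
    exact (Category.comp_id _).symm

variable (S) in
/-- left homology map data for the inclusions -/
noncomputable abbrev sigmaιLHMD (h : ∀ j, (S j).LeftHomologyData) (j : J) :
    ShortComplex.LeftHomologyMapData (sigmaSCι S j) (h j) (sigmaLHD S h) where
  φK := Limits.Sigma.ι (fun j => (h j).K) j
  φH := Limits.Sigma.ι (fun j => (h j).H) j
  commi := by simp [sigmaLHD, sigmaSCι]
  commf' := by
    rw [sigmaLHD_f']
    rw [Limits.Sigma.ι_map]
  commπ := by simp [sigmaLHD]

variable (S) in
/-- the homology of the coproduct is jointly covered by the homologies of the summands -/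
lemma homology_hom_ext {W : A} (a b : (sigmaSC S).homology ⟶ W)
    (hab : ∀ j, ShortComplex.homologyMap (sigmaSCι S j) ≫ a =
      ShortComplex.homologyMap (sigmaSCι S j) ≫ b) : a = b := by
  let h := fun j => (S j).leftHomologyData
  rw [← cancel_epi (sigmaLHD S h).homologyIso.inv]
  apply Limits.Sigma.hom_ext
  intro j
  have := hab j
  rw [(sigmaιLHMD S h j).homologyMap_eq] at this
  simp only [Category.assoc] at this
  exact (cancel_epi _).1 this

end Homology


section Complex

variable {A : Type u} [Category.{v} A] [Abelian A] [EnoughInjectives A] {J : Type w}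
  [HasCoproductsOfShape J A] {ι : Type*} {c : ComplexShape ι}

/-- the termwise coproduct of a family of complexes -/
noncomputable def sigmaCx (X : J → HomologicalComplex A c) : HomologicalComplex A c where
  X n := ∐ fun j => (X j).X n
  d n m := Limits.Sigma.map fun j => (X j).d n m
  shape n m h := by
    apply Limits.Sigma.hom_ext
    intro j
    rw [Limits.Sigma.ι_map, (X j).shape n m h, zero_comp, comp_zero]
  d_comp_d' n m k _ _ := by
    apply Limits.Sigma.hom_ext
    intro j
    rw [Limits.Sigma.ι_map_assoc, Limits.Sigma.ι_map, ← Category.assoc, (X j).d_comp_d, zero_comp,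
      comp_zero]

/-- the inclusions into the termwise coproduct -/
noncomputable def sigmaCxι (X : J → HomologicalComplex A c) (j : J) : X j ⟶ sigmaCx X where
  f n := Limits.Sigma.ι (fun j => (X j).X n) j
  comm' n m _ := by
    dsimp [sigmaCx]
    rw [Limits.Sigma.ι_map]

/-- the universal property of the termwise coproduct -/
noncomputable def sigmaCxDesc (X : J → HomologicalComplex A c) {L : HomologicalComplex A c}
    (f : ∀ j, X j ⟶ L) : sigmaCx X ⟶ L where
  f n := Limits.Sigma.desc fun j => (f j).f n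
  comm' n m _ := by
    dsimp [sigmaCx]
    apply Limits.Sigma.hom_ext
    intro j
    rw [Limits.Sigma.ι_desc_assoc, Limits.Sigma.ι_map_assoc, Limits.Sigma.ι_desc, (f j).comm]

@[reassoc (attr := simp)]
lemma sigmaCxι_desc (X : J → HomologicalComplex A c) {L : HomologicalComplex A c}
    (f : ∀ j, X j ⟶ L) (j : J) : sigmaCxι X j ≫ sigmaCxDesc X f = f j := by
  ext n
  exact Limits.Sigma.ι_desc (fun j => (f j).f n) j

/-- functoriality of the termwise coproduct -/
noncomputable def sigmaCxMap {X Y : J → HomologicalComplex A c} (φ : ∀ j, X j ⟶ Y j) :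
    sigmaCx X ⟶ sigmaCx Y where
  f n := Limits.Sigma.map fun j => (φ j).f n
  comm' n m _ := by
    dsimp [sigmaCx]
    rw [Limits.Sigma.map_comp_map, Limits.Sigma.map_comp_map]
    congr 1
    funext j
    exact (φ j).comm n m

@[reassoc (attr := simp)]
lemma sigmaCxι_map {X Y : J → HomologicalComplex A c} (φ : ∀ j, X j ⟶ Y j) (j : J) :
    sigmaCxι X j ≫ sigmaCxMap φ = φ j ≫ sigmaCxι Y j := by
  ext n
  exact Limits.Sigma.ι_map (fun j => (φ j).f n) j

lemma quasiIso_sigmaCxMap {X Y : J → HomologicalComplex A c} (φ : ∀ j, X j ⟶ Y j)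
    (hφ : ∀ j, QuasiIso (φ j)) : QuasiIso (sigmaCxMap φ) := by
  constructor
  intro n
  rw [quasiIsoAt_iff]
  exact quasiIso_sigmaSCMap (fun j => (HomologicalComplex.shortComplexFunctor A c n).map (φ j))
    (fun j => by
      have := (hφ j).quasiIsoAt n
      rwa [quasiIsoAt_iff] at this)

lemma sigmaCx_homology_hom_ext (X : J → HomologicalComplex A c) (n : ι) {W : A}
    (a b : (sigmaCx X).homology n ⟶ W)
    (hab : ∀ j, HomologicalComplex.homologyMap (sigmaCxι X j) n ≫ a =
      HomologicalComplex.homologyMap (sigmaCxι X j) n ≫ b) : a = b :=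
  homology_hom_ext (fun j => (X j).sc n) a b hab

end Complex

section Derived

open DerivedCategory CategoryTheory.Pretriangulated

variable {A : Type u} [Category.{v} A] [Abelian A] [EnoughInjectives A]
  [HasDerivedCategory.{w'} A] {J : Type w} [HasCoproductsOfShape J A]
  (X : J → CochainComplex A ℤ)

/-- existence part of the universal property of the coproduct in the derived category -/
lemma exists_desc (L : DerivedCategory A) (f : ∀ j, Q.obj (X j) ⟶ L) :
    ∃ g : Q.obj (sigmaCx X) ⟶ L, ∀ j, Q.map (sigmaCxι X j) ≫ g = f j := by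
  let e : Q.obj (Q.objPreimage L) ≅ L := Q.objObjPreimageIso L
  have hfac := fun j => right_fac (f j ≫ e.inv)
  choose X' s hs g hg using hfac
  have hqs : ∀ j, QuasiIso (s j) := fun j => (isIso_Q_map_iff_quasiIso A (s j)).1 (hs j)
  have hsig : QuasiIso (sigmaCxMap s) := quasiIso_sigmaCxMap s hqs
  have : IsIso (Q.map (sigmaCxMap s)) := (isIso_Q_map_iff_quasiIso A _).2 hsig
  refine ⟨inv (Q.map (sigmaCxMap s)) ≫ Q.map (sigmaCxDesc X' g) ≫ e.hom, ?_⟩
  intro j
  have h1 : Q.map (sigmaCxι X j) ≫ inv (Q.map (sigmaCxMap s)) =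
      inv (Q.map (s j)) ≫ Q.map (sigmaCxι X' j) := by
    have := hs j
    rw [← cancel_mono (Q.map (sigmaCxMap s)), Category.assoc, IsIso.inv_hom_id, Category.comp_id,
      Category.assoc, ← Q.map_comp, sigmaCxι_map, Q.map_comp, IsIso.inv_hom_id_assoc]
  rw [reassoc_of% h1, ← Q.map_comp_assoc, sigmaCxι_desc, ← Category.assoc, ← hg j, Category.assoc,
    e.inv_hom_id, Category.comp_id]

/-- an endomorphism of the coproduct compatible with all inclusions is an isomorphism -/
lemma isIso_of_comp_ι (e : Q.obj (sigmaCx X) ⟶ Q.obj (sigmaCx X))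
    (he : ∀ j, Q.map (sigmaCxι X j) ≫ e = Q.map (sigmaCxι X j)) : IsIso e := by
  rw [DerivedCategory.isIso_iff]
  intro n
  let θ : ∀ K : CochainComplex A ℤ, (homologyFunctor A n).obj (Q.obj K) ≅ K.homology n :=
    fun K => (homologyFunctorFactors A n).app K
  have hnat : ∀ {K L : CochainComplex A ℤ} (φ : K ⟶ L),
      (homologyFunctor A n).map (Q.map φ) ≫ (θ L).hom =
        (θ K).hom ≫ HomologicalComplex.homologyMap φ n :=
    fun φ => (homologyFunctorFactors A n).hom.naturality φ
  have key : (θ (sigmaCx X)).inv ≫ (homologyFunctor A n).map e ≫ (θ (sigmaCx X)).hom = 𝟙 _ := by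
    apply sigmaCx_homology_hom_ext X n
    intro j
    have h2 : HomologicalComplex.homologyMap (sigmaCxι X j) n ≫ (θ (sigmaCx X)).inv =
        (θ (X j)).inv ≫ (homologyFunctor A n).map (Q.map (sigmaCxι X j)) := by
      rw [← cancel_mono (θ (sigmaCx X)).hom, Category.assoc, Iso.inv_hom_id, Category.comp_id,
        Category.assoc, hnat, Iso.inv_hom_id_assoc]
    rw [reassoc_of% h2, ← Functor.map_comp_assoc, he j, hnat, Iso.inv_hom_id_assoc,
      Category.comp_id]
  have : (homologyFunctor A n).map e = 𝟙 _ := by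
    rw [← cancel_mono (θ (sigmaCx X)).hom, ← cancel_epi (θ (sigmaCx X)).inv, key,
      Category.id_comp, Iso.inv_hom_id]
  rw [this]
  infer_instance

/-- uniqueness part of the universal property of the coproduct in the derived category -/
lemma eq_zero_of_comp_ι (L : DerivedCategory A) (c : Q.obj (sigmaCx X) ⟶ L)
    (hc : ∀ j, Q.map (sigmaCxι X j) ≫ c = 0) : c = 0 := by
  obtain ⟨M, m, δ, hT⟩ := distinguished_cocone_triangle₁ c
  have hb := fun j => Triangle.coyoneda_exact₂ _ hT (Q.map (sigmaCxι X j)) (hc j)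
  choose b hb using hb
  obtain ⟨β, hβ⟩ := exists_desc X M b
  have he : ∀ j, Q.map (sigmaCxι X j) ≫ (β ≫ m) = Q.map (sigmaCxι X j) := by
    intro j
    rw [reassoc_of% hβ j]
    exact (hb j).symm
  have := isIso_of_comp_ι X (β ≫ m) he
  have h0 : (β ≫ m) ≫ c = 0 := by
    rw [Category.assoc]
    have : m ≫ c = 0 := comp_distTriang_mor_zero₁₂ _ hT
    rw [this, comp_zero]
  rw [← cancel_epi (β ≫ m), h0, comp_zero]

/-- the coproduct cofan in the derived category -/
noncomputable abbrev cofanQ : Cofan (fun j => (Q : _ ⥤ DerivedCategory A).obj (X j)) :=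
  Cofan.mk (Q.obj (sigmaCx X)) (fun j => Q.map (sigmaCxι X j))

/-- the termwise coproduct is a coproduct in the derived category -/
noncomputable def isColimitCofanQ : IsColimit (cofanQ (A := A) X) :=
  mkCofanColimit _ (fun s => (exists_desc X s.pt s.inj).choose)
    (fun s j => (exists_desc X s.pt s.inj).choose_spec j)
    (fun s m hm => by
      let m' : Q.obj (sigmaCx X) ⟶ s.pt := m
      have h0 : m' - (exists_desc X s.pt s.inj).choose = 0 := by
        apply eq_zero_of_comp_ι X
        intro j
        rw [Preadditive.comp_sub, sub_eq_zero]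
        exact (hm j).trans ((exists_desc X s.pt s.inj).choose_spec j).symm
      exact sub_eq_zero.1 h0)

instance hasCoproduct_Q_obj : HasCoproduct (fun j => (Q : _ ⥤ DerivedCategory A).obj (X j)) :=
  ⟨⟨⟨_, isColimitCofanQ X⟩⟩⟩

theorem hasCoproductsOfShape_derivedCategory : HasCoproductsOfShape J (DerivedCategory A) := by
  constructor
  intro F
  let K : J → DerivedCategory A := fun j => F.obj ⟨j⟩
  let X : J → CochainComplex A ℤ := fun j => Q.objPreimage (K j)
  have : HasColimit (Discrete.functor (fun j => (Q : _ ⥤ DerivedCategory A).obj (X j))) :=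
    hasCoproduct_Q_obj X
  have e : F ≅ Discrete.functor (fun j => (Q : _ ⥤ DerivedCategory A).obj (X j)) :=
    Discrete.natIso (fun ⟨j⟩ => (Q.objObjPreimageIso (K j)).symm)
  exact hasColimit_of_iso e

end Derived

end Helper89.SigmaExact
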