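import Mathlib.CategoryTheory.Monoidal.Cartesian.Grp
import Mathlib.CategoryTheory.Monoidal.Grp

set_option autoImplicit false

open CategoryTheory MonoidalCategory CartesianMonoidalCategory MonObj GrpObj

namespace Groth.Agent.Lib.Helper89

/-- The shear isomorphism `(t, g) ↦ (t, ψ(t) g)` in a cartesian monoidal category. -/
noncomputable def shear {C : Type*} [Category C] [CartesianMonoidalCategory C] {T G : C} [GrpObj G]
    (ψ : T ⟶ G) : T ⊗ G ≅ T ⊗ G where
  hom := lift (fst T G) (lift (fst T G ≫ ψ) (snd T G) ≫ μ)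
  inv := lift (fst T G) (lift (fst T G ≫ ψ ≫ ι) (snd T G) ≫ μ)
  hom_inv_id := by
    rw [comp_lift, lift_fst, comp_lift_assoc, lift_fst_assoc, lift_snd]
    have h : lift ((fst T G ≫ ψ) ≫ ι) (lift (fst T G ≫ ψ) (snd T G) ≫ μ) ≫ μ = snd T G :=
      (GrpObj.lift_inv_left_eq _ _ _).2 rfl
    rw [Category.assoc] at h
    rw [h, lift_fst_snd]
  inv_hom_id := by
    rw [comp_lift, lift_fst, comp_lift_assoc, lift_fst_assoc, lift_snd]
    have h : lift (fst T G ≫ ψ) (lift ((fst T G ≫ ψ) ≫ ι) (snd T G) ≫ μ) ≫ μ = snd T G :=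
      ((GrpObj.eq_lift_inv_left _ _ _).1 rfl)
    rw [Category.assoc] at h
    rw [h, lift_fst_snd]

theorem shear_hom_snd {C : Type*} [Category C] [CartesianMonoidalCategory C] {T G : C} [GrpObj G]
    (ψ : T ⟶ G) : (shear ψ).hom ≫ snd T G = ψ ▷ G ≫ μ := by
  rw [shear, lift_snd]
  congr 1
  apply CartesianMonoidalCategory.hom_ext <;> simp

end Groth.Agent.Lib.Helper89
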