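import Mathlib

/-!
# Right derivability structures from resolutions in triangulated categories

Let `C` be a triangulated category, `A B : ObjectProperty C` triangulated subcategories
(`B` closed under isomorphisms) such that every object `X` admits a morphism `s : X ⟶ Y` in
`B.trW` with `A Y`.  Then the inclusion `A.triangulatedLocalizerMorphism B` is a right
derivability structure, and a triangulated functor killing `A ⊓ B` is derived by it.
-/

set_option autoImplicit false
set_option linter.style.haveILetI false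

open CategoryTheory Category Limits Pretriangulated ZeroObject

namespace Groth.Agent.Lib.Helper89.TriRes

variable {C : Type*} [Category C] [HasZeroObject C] [HasShift C ℤ] [Preadditive C]
  [∀ (n : ℤ), (shiftFunctor C n).Additive] [Pretriangulated C] [IsTriangulated C]
  (A B : ObjectProperty C) [A.IsTriangulated] [B.IsTriangulated] [B.IsClosedUnderIsomorphisms]

/-- the resolution hypothesis -/
def HasRes : Prop := ∀ X : C, ∃ (Y : C) (s : X ⟶ Y), A Y ∧ B.trW s

variable {A B}

lemma isVerdierRightLocalizing (h : HasRes A B) : A.IsVerdierRightLocalizing B := by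
  rw [ObjectProperty.isVerdierRightLocalizing_iff]
  intro X Y s hX hs
  obtain ⟨Z, b, hZ, hb⟩ := h Y
  have hs' : B.trW (s ≫ b) := MorphismProperty.comp_mem _ _ _ hs hb
  refine ⟨Z, s ≫ b, b, hZ, ?_, rfl⟩
  obtain ⟨W, hW, e, f, hT⟩ := A.distinguished_cocone_triangle (s ≫ b) hX hZ
  have hBW : B W := (B.trW_iff_of_distinguished _ hT).1 hs'
  exact ⟨W, e, f, hT, hW, hBW⟩

variable (A B) in
/-- the localizer morphism -/
abbrev Φ : LocalizerMorphism (B.inverseImage A.ι).trW B.trW :=
  A.triangulatedLocalizerMorphism B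

/-- a right resolution from the hypothesis -/
noncomputable def rightResolution (h : HasRes A B) (X : C) : (Φ A B).RightResolution X :=
  { X₁ := ⟨(h X).choose, (h X).choose_spec.choose_spec.1⟩
    w := (h X).choose_spec.choose
    hw := (h X).choose_spec.choose_spec.2 }

/-- build a right resolution -/
def mkRes {X Y : C} (s : X ⟶ Y) (hY : A Y) (hs : B.trW s) : (Φ A B).RightResolution X :=
  { X₁ := ⟨Y, hY⟩
    w := s
    hw := hs }

lemma isConnected_rightResolution (h : HasRes A B) (X : C) :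
    IsConnected ((Φ A B).RightResolution X) := by
  haveI : Nonempty ((Φ A B).RightResolution X) := ⟨rightResolution h X⟩
  refine zigzag_isConnected (fun R R' => ?_)
  -- Ore condition
  let φ : B.trW.RightFraction R.X₁.obj R'.X₁.obj :=
    { X' := X
      s := R.w
      hs := R.hw
      f := R'.w }
  obtain ⟨ψ, hψ⟩ := φ.exists_leftFraction
  obtain ⟨Z', t, hZ', ht⟩ := h ψ.Y'
  have hcomp : B.trW (R'.w ≫ ψ.s ≫ t) :=
    MorphismProperty.comp_mem _ _ _ R'.hw (MorphismProperty.comp_mem _ _ _ ψ.hs ht)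
  let R'' : (Φ A B).RightResolution X := mkRes (R'.w ≫ ψ.s ≫ t) hZ' hcomp
  have hψ' : R'.w ≫ ψ.s = R.w ≫ ψ.f := hψ
  let a : R ⟶ R'' :=
    { f := A.homMk (ψ.f ≫ t)
      comm := by
        show R.w ≫ (ψ.f ≫ t) = R'.w ≫ ψ.s ≫ t
        rw [← Category.assoc, ← hψ', Category.assoc] }
  let b : R' ⟶ R'' :=
    { f := A.homMk (ψ.s ≫ t)
      comm := rfl }
  exact (Zigzag.of_hom a).trans (Zigzag.of_inv b)

lemma hasRightResolutions_arrow (h : HasRes A B) : (Φ A B).arrow.HasRightResolutions := by
  intro f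
  obtain ⟨Y', s', hY', hs'⟩ := h f.right
  obtain ⟨Y₀, s₀, hY₀, hs₀⟩ := h f.left
  let φ : B.trW.RightFraction Y₀ Y' :=
    { X' := f.left
      s := s₀
      hs := hs₀
      f := f.hom ≫ s' }
  obtain ⟨ψ, hψ⟩ := φ.exists_leftFraction
  obtain ⟨Z', u, hZ', hu⟩ := h ψ.Y'
  have hψ' : (f.hom ≫ s') ≫ ψ.s = s₀ ≫ ψ.f := hψ
  let X₁ : Arrow A.FullSubcategory :=
    Arrow.mk (A.homMk (ψ.f ≫ u) : (⟨Y₀, hY₀⟩ : A.FullSubcategory) ⟶ ⟨Z', hZ'⟩)
  refine ⟨{ X₁ := X₁
            w := Arrow.homMk s₀ (s' ≫ ψ.s ≫ u) ?_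
            hw := ⟨hs₀, MorphismProperty.comp_mem _ _ _ hs'
              (MorphismProperty.comp_mem _ _ _ ψ.hs hu)⟩ }⟩
  show s₀ ≫ (ψ.f ≫ u) = f.hom ≫ s' ≫ ψ.s ≫ u
  rw [← Category.assoc, ← hψ', Category.assoc, Category.assoc]

lemma essSurj (h : HasRes A B) {D : Type*} [Category D] (L : C ⥤ D) [L.IsLocalization B.trW] :
    (A.ι ⋙ L).EssSurj where
  mem_essImage X := by
    haveI := Localization.essSurj L B.trW
    obtain ⟨Y, s, hY, hs⟩ := h (L.objPreimage X)
    haveI := Localization.inverts L B.trW s hs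
    exact ⟨⟨Y, hY⟩, ⟨(asIso (L.map s)).symm ≪≫ L.objObjPreimageIso X⟩⟩

lemma isLocalizedEquivalence (h : HasRes A B) : (Φ A B).IsLocalizedEquivalence := by
  haveI := isVerdierRightLocalizing h
  haveI := essSurj h B.trW.Q
  haveI : (A.ι ⋙ B.trW.Q).IsLocalization (B.inverseImage A.ι).trW :=
    (Φ A B).isLocalization_of_isLocalizedFullyFaithful (L₂ := B.trW.Q) (L₁ := A.ι ⋙ B.trW.Q)
      (F := 𝟭 _) (Functor.rightUnitor _).symm
  exact LocalizerMorphism.IsLocalizedEquivalence.of_isLocalization_of_isLocalization (Φ A B)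
    B.trW.Q

theorem isRightDerivabilityStructure (h : HasRes A B) :
    (Φ A B).IsRightDerivabilityStructure := by
  haveI := isLocalizedEquivalence h
  haveI : ∀ X, IsConnected ((Φ A B).RightResolution X) := isConnected_rightResolution h
  haveI := hasRightResolutions_arrow h
  exact LocalizerMorphism.IsRightDerivabilityStructure.mk' (Φ A B)

section derives

variable {D : Type*} [Category D] [HasZeroObject D] [HasShift D ℤ] [Preadditive D]
  [∀ (n : ℤ), (shiftFunctor D n).Additive] [Pretriangulated D]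
  (G : C ⥤ D) [G.CommShift ℤ] [G.IsTriangulated]

lemma derives (hG : ∀ X : C, A X → B X → IsZero (G.obj X)) : (Φ A B).Derives G := by
  intro X Y f hf
  rw [ObjectProperty.trW_inverseImage_ι_iff] at hf
  obtain ⟨Z, a, b, hT, hZ⟩ := hf
  have hT' := G.map_distinguished _ hT
  have hz : IsZero (G.mapTriangle.obj (Triangle.mk f.hom a b)).obj₃ := hG Z hZ.1 hZ.2
  exact (Triangle.isZero₃_iff_isIso₁ _ hT').1 hz

theorem hasPointwiseRightDerivedFunctor (h : HasRes A B)
    (hG : ∀ X : C, A X → B X → IsZero (G.obj X)) :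
    G.HasPointwiseRightDerivedFunctor B.trW := by
  haveI := isRightDerivabilityStructure h
  exact (derives G hG).hasPointwiseRightDerivedFunctor

theorem isIso_unit (h : HasRes A B)
    (hG : ∀ X : C, A X → B X → IsZero (G.obj X))
    {D₂ : Type*} [Category D₂] (L : C ⥤ D₂) [L.IsLocalization B.trW]
    (RG : D₂ ⥤ D) (α : G ⟶ L ⋙ RG) [RG.IsRightDerivedFunctor α B.trW]
    (X : C) (hX : A X) : IsIso (α.app X) := by
  haveI := isRightDerivabilityStructure h
  exact (derives G hG).isIso_of_isRightDerivedFunctor α ⟨X, hX⟩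

theorem hasPointwiseRightDerivedFunctor' (W : MorphismProperty C) (hW : W = B.trW)
    (h : HasRes A B) (hG : ∀ X : C, A X → B X → IsZero (G.obj X)) :
    G.HasPointwiseRightDerivedFunctor W := by
  subst hW
  exact hasPointwiseRightDerivedFunctor G h hG

theorem isIso_unit' (W : MorphismProperty C) (hW : W = B.trW) (h : HasRes A B)
    (hG : ∀ X : C, A X → B X → IsZero (G.obj X))
    {D₂ : Type*} [Category D₂] (L : C ⥤ D₂) [L.IsLocalization W]
    (RG : D₂ ⥤ D) (α : G ⟶ L ⋙ RG) [RG.IsRightDerivedFunctor α W]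
    (X : C) (hX : A X) : IsIso (α.app X) := by
  subst hW
  exact isIso_unit G h hG L RG α X hX

end derives

/-- a localization functor for `B.trW` kills `B` -/
lemma isZero_obj_of_isLocalization {D : Type*} [Category D] [HasZeroObject D]
    (W : MorphismProperty C) (hW : W = B.trW)
    (L : C ⥤ D) [L.IsLocalization W] [Preadditive D] [L.Additive] (X : C) (hX : B X) :
    IsZero (L.obj X) := by
  subst hW
  have hT := contractible_distinguished₁ X
  have hmem : B.trW (0 : (0 : C) ⟶ X) := ⟨X, 𝟙 X, 0, hT, hX⟩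
  haveI := Localization.inverts L B.trW _ hmem
  exact IsZero.of_iso (L.map_isZero (isZero_zero C)) (asIso (L.map (0 : (0 : C) ⟶ X))).symm

end Groth.Agent.Lib.Helper89.TriRes
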