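import Mathlib

set_option autoImplicit false
set_option linter.unusedSectionVars false
universe v v' u u'
open CategoryTheory CategoryTheory.Limits CategoryTheory.Pretriangulated

namespace Helper89.FFDev

variable {T : Type u} [Category.{v} T] [Preadditive T] [HasZeroObject T] [HasShift T ℤ]
  [∀ n : ℤ, (shiftFunctor T n).Additive] [Pretriangulated T]
  {D : Type u'} [Category.{v'} D] [Preadditive D] [HasZeroObject D] [HasShift D ℤ]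
  [∀ n : ℤ, (shiftFunctor D n).Additive] [Pretriangulated D]
  (G : T ⥤ D) [G.CommShift ℤ] [G.IsTriangulated]

/-- `G` is injective on `Hom(K, L)` -/
def Inj (K L : T) : Prop := Function.Injective (fun f : K ⟶ L => G.map f)
/-- `G` is surjective on `Hom(K, L)` -/
def Surj (K L : T) : Prop := Function.Surjective (fun f : K ⟶ L => G.map f)
/-- `G` is bijective on `Hom(K, L)` -/
def Bij (K L : T) : Prop := Function.Bijective (fun f : K ⟶ L => G.map f)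

variable {G}

lemma Bij.inj {K L : T} (h : Bij G K L) : Inj G K L := h.1
lemma Bij.surj {K L : T} (h : Bij G K L) : Surj G K L := h.2

lemma inj_iff {K L : T} : Inj G K L ↔ ∀ f : K ⟶ L, G.map f = 0 → f = 0 := by
  constructor
  · intro h f hf
    apply h
    change G.map f = G.map 0
    rw [hf, G.map_zero]
  · intro h f f' hff'
    have : G.map (f - f') = 0 := by
      rw [G.map_sub]
      exact sub_eq_zero.2 hff'
    exact sub_eq_zero.1 (h _ this)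

lemma Inj.of_iso {K K' L L' : T} (h : Inj G K L) (eK : K ≅ K') (eL : L ≅ L') : Inj G K' L' := by
  intro f f' hff'
  have h1 : G.map (eK.hom ≫ f ≫ eL.inv) = G.map (eK.hom ≫ f' ≫ eL.inv) := by
    have : G.map f = G.map f' := hff'
    rw [G.map_comp, G.map_comp, this, ← G.map_comp, ← G.map_comp]
  have h2 := h h1
  rwa [cancel_epi, cancel_mono] at h2

lemma Surj.of_iso {K K' L L' : T} (h : Surj G K L) (eK : K ≅ K') (eL : L ≅ L') :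
    Surj G K' L' := by
  intro φ
  obtain ⟨ψ, hψ⟩ := h (G.map eK.hom ≫ φ ≫ G.map eL.inv)
  refine ⟨eK.inv ≫ ψ ≫ eL.hom, ?_⟩
  have hψ' : G.map ψ = G.map eK.hom ≫ φ ≫ G.map eL.inv := hψ
  change G.map (eK.inv ≫ ψ ≫ eL.hom) = φ
  rw [G.map_comp, G.map_comp, hψ']
  simp only [Category.assoc, ← G.map_comp, Iso.inv_hom_id, G.map_id, Category.comp_id]
  rw [← Category.assoc, ← G.map_comp, Iso.inv_hom_id, G.map_id, Category.id_comp]

lemma Bij.of_iso {K K' L L' : T} (h : Bij G K L) (eK : K ≅ K') (eL : L ≅ L') : Bij G K' L' :=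
  ⟨h.inj.of_iso eK eL, h.surj.of_iso eK eL⟩


/-! ### compatibility with shifts -/

lemma map_shift {K L : T} (f : K ⟶ L) (n : ℤ) :
    G.map (f⟦n⟧') = (G.commShiftIso n).hom.app K ≫ (G.map f)⟦n⟧' ≫ (G.commShiftIso n).inv.app L := by
  have h := G.commShiftIso_hom_naturality f n
  rw [← cancel_mono ((G.commShiftIso n).hom.app L), h]
  simp

lemma Inj.shift {K L : T} (h : Inj G K L) (n : ℤ) : Inj G (K⟦n⟧) (L⟦n⟧) := by
  intro f f' hff'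
  obtain ⟨f₀, rfl⟩ := (shiftFunctor T n).map_surjective f
  obtain ⟨f₀', rfl⟩ := (shiftFunctor T n).map_surjective f'
  have h1 : G.map (f₀⟦n⟧') = G.map (f₀'⟦n⟧') := hff'
  rw [map_shift, map_shift, cancel_epi, cancel_mono] at h1
  have h2 : G.map f₀ = G.map f₀' := (shiftFunctor D n).map_injective h1
  rw [h h2]

lemma Surj.shift {K L : T} (h : Surj G K L) (n : ℤ) : Surj G (K⟦n⟧) (L⟦n⟧) := by
  intro φ
  obtain ⟨ψ, hψ⟩ := (shiftFunctor D n).map_surjective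
    ((G.commShiftIso n).inv.app K ≫ φ ≫ (G.commShiftIso n).hom.app L)
  obtain ⟨ψ₀, hψ₀⟩ := h ψ
  have hψ₀' : G.map ψ₀ = ψ := hψ₀
  refine ⟨ψ₀⟦n⟧', ?_⟩
  change G.map (ψ₀⟦n⟧') = φ
  rw [map_shift, hψ₀', hψ]
  simp

lemma Bij.shift {K L : T} (h : Bij G K L) (n : ℤ) : Bij G (K⟦n⟧) (L⟦n⟧) :=
  ⟨h.inj.shift n, h.surj.shift n⟩

/-! ### the five lemma, covariant version -/

lemma cov_surj (K : T) (Tr : Triangle T) (hT : Tr ∈ distTriang T) (h1 : Surj G K Tr.obj₁)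
    (h3 : Surj G K Tr.obj₃) (h1' : Inj G K (Tr.obj₁⟦(1 : ℤ)⟧)) : Surj G K Tr.obj₂ := by
  intro φ
  obtain ⟨ψ, hψ⟩ := h3 (φ ≫ G.map Tr.mor₂)
  have hψ' : G.map ψ = φ ≫ G.map Tr.mor₂ := hψ
  have h0 : ψ ≫ Tr.mor₃ = 0 := by
    apply inj_iff.1 h1'
    rw [G.map_comp, hψ', Category.assoc, ← G.map_comp, comp_distTriang_mor_zero₂₃ _ hT, G.map_zero,
      comp_zero]
  obtain ⟨χ, hχ⟩ := Triangle.coyoneda_exact₃ Tr hT ψ h0
  have h2 : (φ - G.map χ) ≫ (G.mapTriangle.obj Tr).mor₂ = 0 := by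
    change (φ - G.map χ) ≫ G.map Tr.mor₂ = 0
    rw [Preadditive.sub_comp, ← G.map_comp, ← hχ, hψ', sub_self]
  obtain ⟨ω, hω⟩ : ∃ ω : G.obj K ⟶ G.obj Tr.obj₁, φ - G.map χ = ω ≫ G.map Tr.mor₁ :=
    Triangle.coyoneda_exact₂ _ (G.map_distinguished _ hT) _ h2
  obtain ⟨ω', hω'⟩ := h1 ω
  have hω'' : G.map ω' = ω := hω'
  refine ⟨χ + ω' ≫ Tr.mor₁, ?_⟩
  change G.map (χ + ω' ≫ Tr.mor₁) = φ
  rw [G.map_add, G.map_comp, hω'', ← hω]
  abel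

lemma cov_inj (K : T) (Tr : Triangle T) (hT : Tr ∈ distTriang T) (h1 : Inj G K Tr.obj₁)
    (h3 : Inj G K Tr.obj₃) (h3' : Surj G K (Tr.obj₃⟦(-1 : ℤ)⟧)) : Inj G K Tr.obj₂ := by
  rw [inj_iff]
  intro f hf
  have h0 : f ≫ Tr.mor₂ = 0 := by
    apply inj_iff.1 h3
    rw [G.map_comp, hf, zero_comp]
  obtain ⟨g, hg⟩ := Triangle.coyoneda_exact₂ Tr hT f h0
  have hT' := inv_rot_of_distTriang _ hT
  have h2 : G.map g ≫ (G.mapTriangle.obj Tr.invRotate).mor₂ = 0 := by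
    change G.map g ≫ G.map Tr.mor₁ = 0
    rw [← G.map_comp, ← hg, hf]
  let r : Tr.obj₃⟦(-1 : ℤ)⟧ ⟶ Tr.obj₁ := Tr.invRotate.mor₁
  obtain ⟨θ, hθ⟩ : ∃ θ : G.obj K ⟶ G.obj (Tr.obj₃⟦(-1 : ℤ)⟧), G.map g = θ ≫ G.map r :=
    Triangle.coyoneda_exact₂ _ (G.map_distinguished _ hT') _ h2
  obtain ⟨θ', hθ'⟩ := h3' θ
  have hθ'' : G.map θ' = θ := hθ'
  have h4 : g = θ' ≫ r := by
    apply h1
    change G.map g = G.map (θ' ≫ r)
    rw [G.map_comp, hθ'', hθ]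
  have h5 : r ≫ Tr.mor₁ = 0 := comp_distTriang_mor_zero₁₂ _ hT'
  rw [hg, h4, Category.assoc, h5, comp_zero]

/-! ### the five lemma, contravariant version -/

lemma con_surj (L : T) (Tr : Triangle T) (hT : Tr ∈ distTriang T) (h1 : Surj G Tr.obj₁ L)
    (h3 : Surj G Tr.obj₃ L) (h3' : Inj G (Tr.obj₃⟦(-1 : ℤ)⟧) L) : Surj G Tr.obj₂ L := by
  intro φ
  obtain ⟨ψ, hψ⟩ := h1 (G.map Tr.mor₁ ≫ φ)
  have hψ' : G.map ψ = G.map Tr.mor₁ ≫ φ := hψ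
  have hT' := inv_rot_of_distTriang _ hT
  let r : Tr.obj₃⟦(-1 : ℤ)⟧ ⟶ Tr.obj₁ := Tr.invRotate.mor₁
  have h5 : r ≫ Tr.mor₁ = 0 := comp_distTriang_mor_zero₁₂ _ hT'
  have h0 : r ≫ ψ = 0 := by
    apply inj_iff.1 h3'
    rw [G.map_comp, hψ', ← Category.assoc, ← G.map_comp, h5, G.map_zero, zero_comp]
  obtain ⟨χ, hχ'⟩ : ∃ χ : Tr.obj₂ ⟶ L, ψ = Tr.mor₁ ≫ χ := Triangle.yoneda_exact₂ _ hT' ψ h0
  have h2 : (G.mapTriangle.obj Tr).mor₁ ≫ (φ - G.map χ) = 0 := by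
    change G.map Tr.mor₁ ≫ (φ - G.map χ) = 0
    rw [Preadditive.comp_sub, ← G.map_comp, ← hχ', hψ', sub_self]
  obtain ⟨ω, hω⟩ : ∃ ω : G.obj Tr.obj₃ ⟶ G.obj L, φ - G.map χ = G.map Tr.mor₂ ≫ ω :=
    Triangle.yoneda_exact₂ _ (G.map_distinguished _ hT) _ h2
  obtain ⟨ω', hω'⟩ := h3 ω
  have hω'' : G.map ω' = ω := hω'
  refine ⟨χ + Tr.mor₂ ≫ ω', ?_⟩
  change G.map (χ + Tr.mor₂ ≫ ω') = φ
  rw [G.map_add, G.map_comp, hω'', ← hω]
  abel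

lemma con_inj (L : T) (Tr : Triangle T) (hT : Tr ∈ distTriang T) (h1 : Inj G Tr.obj₁ L)
    (h3 : Inj G Tr.obj₃ L) (h1' : Surj G (Tr.obj₁⟦(1 : ℤ)⟧) L) : Inj G Tr.obj₂ L := by
  rw [inj_iff]
  intro f hf
  have h0 : Tr.mor₁ ≫ f = 0 := by
    apply inj_iff.1 h1
    rw [G.map_comp, hf, comp_zero]
  obtain ⟨g, hg⟩ := Triangle.yoneda_exact₂ Tr hT f h0
  have hT' := rot_of_distTriang _ hT
  have h2 : (G.mapTriangle.obj Tr.rotate).mor₁ ≫ G.map g = 0 := by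
    change G.map Tr.mor₂ ≫ G.map g = 0
    rw [← G.map_comp, ← hg, hf]
  obtain ⟨θ, hθ⟩ : ∃ θ : G.obj (Tr.obj₁⟦(1 : ℤ)⟧) ⟶ G.obj L, G.map g = G.map Tr.mor₃ ≫ θ :=
    Triangle.yoneda_exact₂ _ (G.map_distinguished _ hT') _ h2
  obtain ⟨θ', hθ'⟩ := h1' θ
  have hθ'' : G.map θ' = θ := hθ'
  have h4 : g = Tr.mor₃ ≫ θ' := by
    apply h3
    change G.map g = G.map (Tr.mor₃ ≫ θ')
    rw [G.map_comp, hθ'', hθ]
  rw [hg, h4, ← Category.assoc, comp_distTriang_mor_zero₂₃ _ hT, zero_comp]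


/-! ### the classes `PK` and `QL` -/

variable (G)

/-- objects `L` such that `G` is bijective on `Hom(K, L⟦n⟧)` for all `n` -/
def PK (K : T) : ObjectProperty T := fun L => ∀ n : ℤ, Bij G K (L⟦n⟧)

/-- objects `K` such that `G` is bijective on `Hom(K⟦n⟧, L)` for all `n` -/
def QL (L : T) : ObjectProperty T := fun K => ∀ n : ℤ, Bij G (K⟦n⟧) L

variable {G}

lemma bij_of_isZero_right (K : T) {Z : T} (hZ : IsZero Z) : Bij G K Z := by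
  have hGZ : IsZero (G.obj Z) := G.map_isZero hZ
  constructor
  · intro f f' _
    exact hZ.eq_of_tgt _ _
  · intro φ
    exact ⟨0, hGZ.eq_of_tgt _ _⟩

lemma bij_of_isZero_left (L : T) {Z : T} (hZ : IsZero Z) : Bij G Z L := by
  have hGZ : IsZero (G.obj Z) := G.map_isZero hZ
  constructor
  · intro f f' _
    exact hZ.eq_of_src _ _
  · intro φ
    exact ⟨0, hGZ.eq_of_src _ _⟩

lemma PK_iso {K L L' : T} (e : L ≅ L') (h : PK G K L) : PK G K L' := fun n =>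
  (h n).of_iso (Iso.refl _) ((shiftFunctor T n).mapIso e)

lemma PK_shift {K L : T} (h : PK G K L) (m : ℤ) : PK G K (L⟦m⟧) := fun n =>
  (h (m + n)).of_iso (Iso.refl _) ((shiftFunctorAdd' T m n (m + n) rfl).app L)

lemma PK_zero (K : T) {Z : T} (hZ : IsZero Z) : PK G K Z := fun n =>
  bij_of_isZero_right K ((shiftFunctor T n).map_isZero hZ)

lemma PK_ext {K : T} (Tr : Triangle T) (hT : Tr ∈ distTriang T) (h1 : PK G K Tr.obj₁)
    (h3 : PK G K Tr.obj₃) : PK G K Tr.obj₂ := by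
  intro n
  have hT' := Triangle.shift_distinguished Tr hT n
  have e3 : Tr.obj₃⟦n + (-1)⟧ ≅ (Tr.obj₃⟦n⟧)⟦(-1 : ℤ)⟧ :=
    (shiftFunctorAdd' T n (-1) (n + (-1)) rfl).app _
  have e1 : Tr.obj₁⟦n + 1⟧ ≅ (Tr.obj₁⟦n⟧)⟦(1 : ℤ)⟧ :=
    (shiftFunctorAdd' T n 1 (n + 1) rfl).app _
  exact ⟨cov_inj K _ hT' (h1 n).inj (h3 n).inj ((h3 (n + (-1))).surj.of_iso (Iso.refl _) e3),
    cov_surj K _ hT' (h1 n).surj (h3 n).surj ((h1 (n + 1)).inj.of_iso (Iso.refl _) e1)⟩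

lemma QL_iso {L K K' : T} (e : K ≅ K') (h : QL G L K) : QL G L K' := fun n =>
  (h n).of_iso ((shiftFunctor T n).mapIso e) (Iso.refl _)

lemma QL_shift {L K : T} (h : QL G L K) (m : ℤ) : QL G L (K⟦m⟧) := fun n =>
  (h (m + n)).of_iso ((shiftFunctorAdd' T m n (m + n) rfl).app K) (Iso.refl _)

lemma QL_zero (L : T) {Z : T} (hZ : IsZero Z) : QL G L Z := fun n =>
  bij_of_isZero_left L ((shiftFunctor T n).map_isZero hZ)

lemma QL_ext {L : T} (Tr : Triangle T) (hT : Tr ∈ distTriang T) (h1 : QL G L Tr.obj₁)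
    (h3 : QL G L Tr.obj₃) : QL G L Tr.obj₂ := by
  intro n
  have hT' := Triangle.shift_distinguished Tr hT n
  have e3 : Tr.obj₃⟦n + (-1)⟧ ≅ (Tr.obj₃⟦n⟧)⟦(-1 : ℤ)⟧ :=
    (shiftFunctorAdd' T n (-1) (n + (-1)) rfl).app _
  have e1 : Tr.obj₁⟦n + 1⟧ ≅ (Tr.obj₁⟦n⟧)⟦(1 : ℤ)⟧ :=
    (shiftFunctorAdd' T n 1 (n + 1) rfl).app _
  exact ⟨con_inj L _ hT' (h1 n).inj (h3 n).inj ((h1 (n + 1)).surj.of_iso e1 (Iso.refl _)),
    con_surj L _ hT' (h1 n).surj (h3 n).surj ((h3 (n + (-1))).inj.of_iso e3 (Iso.refl _))⟩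

end Helper89.FFDev
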