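import Mathlib
import Groth.Agent.Lib.Helper84.FlatBC
import Groth.Agent.Lib.Helper84.HomPart
import Groth.Agent.Lib.Helper89.FFDev

/-!
# Flat base change for `Hom` in derived categories: framework

`A → B` flat, `E = bc : D(A) ⥤ D(B)`.  For `M N : D(A)`, `Θ M N : B ⊗[A] (M ⟶ N) →ₗ[B] (E M ⟶ E N)`.
-/

set_option autoImplicit false
set_option linter.style.haveILetI false
universe u

open CategoryTheory CategoryTheory.Limits CategoryTheory.Pretriangulated DerivedCategory TensorProduct

attribute [local instance] HasDerivedCategory.standard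

namespace Groth.Agent.Lib.Helper89.BCHom

open Groth.Agent.Lib.Helper84

variable (A B : Type u) [CommRing A] [CommRing B] [Algebra A B] [Module.Flat A B]

instance pfl : PreservesFiniteLimits (FlatBC.ext (algebraMap A B)) :=
  FlatBC.preservesFiniteLimits_ext _ ((RingHom.flat_algebraMap_iff).2 inferInstance)

/-- the base change functor -/
noncomputable abbrev E : Dual.D A ⥤ Dual.D B := FlatBC.bc (algebraMap A B)

variable {A B}

theorem ext_map_smul' {A B : Type u} [CommRing A] [CommRing B] (f : A →+* B) (a : A)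
    {M N : ModuleCat.{u} A} (g : M ⟶ N) :
    (FlatBC.ext f).map (a • g) = (f a) • (FlatBC.ext f).map g := by
  letI := f.toAlgebra
  have key : ∀ x : B ⊗[A] M, (g.hom.baseChange B) ((algebraMap A B a) • x) =
      (LinearMap.baseChange B (a • g.hom)) x := by
    intro x
    induction x using TensorProduct.induction_on with
    | zero => simp
    | add x y hx hy => rw [smul_add, map_add, map_add, hx, hy]
    | tmul b m =>
      rw [TensorProduct.smul_tmul']
      simp only [LinearMap.baseChange_tmul, LinearMap.smul_apply]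
      rw [TensorProduct.tmul_smul, ← algebraMap_smul B a (b ⊗ₜ[A] g.hom m),
        TensorProduct.smul_tmul']
  refine ModuleCat.hom_ext (LinearMap.ext fun (x : B ⊗[A] M) => ?_)
  change (LinearMap.baseChange B (a • g.hom)) x = (f a) • (g.hom.baseChange B) x
  rw [← key x, map_smul]
  rfl

theorem ext_map_smul (a : A) {M N : ModuleCat.{u} A} (g : M ⟶ N) :
    (FlatBC.ext (algebraMap A B)).map (a • g) =
      (algebraMap A B a) • (FlatBC.ext (algebraMap A B)).map g :=
  ext_map_smul' (algebraMap A B) a g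

theorem extCx_map_smul (a : A) {K L : DRing.Cx A} (g : K ⟶ L) :
    (FlatBC.extCx (algebraMap A B)).map (a • g) =
      (algebraMap A B a) • (FlatBC.extCx (algebraMap A B)).map g := by
  ext n : 1
  exact ext_map_smul a (g.f n)

theorem E_map_smul_id (a : A) (X : Dual.D A) :
    (E A B).map (a • 𝟙 X) = (algebraMap A B a) • 𝟙 ((E A B).obj X) := by
  let K := Q.objPreimage X
  let e : Q.obj K ≅ X := Q.objObjPreimageIso X
  have h1 : a • 𝟙 X = e.inv ≫ Q.map (a • 𝟙 K) ≫ e.hom := by
    rw [Functor.map_smul, CategoryTheory.Functor.map_id, Linear.smul_comp, Linear.comp_smul,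
      Category.id_comp, Iso.inv_hom_id]
  have h2 : (E A B).map (Q.map (a • 𝟙 K)) = (algebraMap A B a) • 𝟙 _ := by
    have nat := (FlatBC.ext (algebraMap A B)).mapDerivedCategoryFactors_hom_naturality (a • 𝟙 K)
    rw [← cancel_mono ((FlatBC.ext (algebraMap A B)).mapDerivedCategoryFactors.hom.app K)]
    refine nat.trans ?_
    have h3 : ((FlatBC.ext (algebraMap A B)).mapHomologicalComplex (ComplexShape.up ℤ)).map
        (a • 𝟙 K) = (algebraMap A B a) • 𝟙 _ := by
      have := extCx_map_smul (B := B) a (𝟙 K)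
      rw [CategoryTheory.Functor.map_id] at this
      exact this
    rw [h3, Functor.map_smul, CategoryTheory.Functor.map_id, Linear.comp_smul, Linear.smul_comp]
    congr 1
    exact (Category.comp_id _).trans (Category.id_comp _).symm
  rw [h1, Functor.map_comp, Functor.map_comp, h2, Linear.smul_comp, Linear.comp_smul,
    Category.id_comp, ← Functor.map_comp, Iso.inv_hom_id, CategoryTheory.Functor.map_id]

theorem E_map_smul (a : A) {X Y : Dual.D A} (f : X ⟶ Y) :
    (E A B).map (a • f) = (algebraMap A B a) • (E A B).map f := by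
  have : a • f = (a • 𝟙 X) ≫ f := by rw [Linear.smul_comp, Category.id_comp]
  rw [this, Functor.map_comp, E_map_smul_id, Linear.smul_comp, Category.id_comp]

section Theta

variable (B)

/-- the comparison map `B ⊗ Hom(M, N) → Hom(E M, E N)` -/
noncomputable def Θ (M N : Dual.D A) :
    B ⊗[A] (M ⟶ N) →ₗ[B] ((E A B).obj M ⟶ (E A B).obj N) :=
  letI : Module A ((E A B).obj M ⟶ (E A B).obj N) := Module.compHom _ (algebraMap A B)
  haveI : IsScalarTower A B ((E A B).obj M ⟶ (E A B).obj N) :=
    IsScalarTower.of_algebraMap_smul fun _ _ => rfl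
  LinearMap.liftBaseChange B
    { toFun := fun f => (E A B).map f
      map_add' := fun f g => Functor.map_add _
      map_smul' := fun a f => E_map_smul a f }

theorem Θ_tmul (M N : Dual.D A) (b : B) (f : M ⟶ N) :
    Θ B M N (b ⊗ₜ[A] f) = b • (E A B).map f := by
  letI : Module A ((E A B).obj M ⟶ (E A B).obj N) := Module.compHom _ (algebraMap A B)
  haveI : IsScalarTower A B ((E A B).obj M ⟶ (E A B).obj N) :=
    IsScalarTower.of_algebraMap_smul fun _ _ => rfl
  unfold Θ
  exact LinearMap.liftBaseChange_tmul _ _ _ _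

/-- precomposition, tensored with `B` -/
noncomputable def pre {M M' : Dual.D A} (u : M' ⟶ M) (N : Dual.D A) :
    B ⊗[A] (M ⟶ N) →+ B ⊗[A] (M' ⟶ N) :=
  (LinearMap.lTensor B (Linear.leftComp A N u)).toAddMonoidHom

theorem pre_tmul {M M' : Dual.D A} (u : M' ⟶ M) (N : Dual.D A) (b : B) (f : M ⟶ N) :
    pre B u N (b ⊗ₜ[A] f) = b ⊗ₜ[A] (u ≫ f) := rfl

/-- precomposition with `E u` -/
noncomputable def preB {M M' : Dual.D A} (u : M' ⟶ M) (N : Dual.D A) :
    ((E A B).obj M ⟶ (E A B).obj N) →+ ((E A B).obj M' ⟶ (E A B).obj N) :=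
  (Linear.leftComp B ((E A B).obj N) ((E A B).map u)).toAddMonoidHom

theorem preB_apply {M M' : Dual.D A} (u : M' ⟶ M) (N : Dual.D A)
    (φ : (E A B).obj M ⟶ (E A B).obj N) : preB B u N φ = (E A B).map u ≫ φ := rfl

theorem Θ_nat {M M' : Dual.D A} (u : M' ⟶ M) (N : Dual.D A) (t : B ⊗[A] (M ⟶ N)) :
    Θ B M' N (pre B u N t) = (E A B).map u ≫ Θ B M N t := by
  induction t using TensorProduct.induction_on with
  | zero => simp
  | add x y hx hy => rw [map_add, map_add, map_add, hx, hy, Preadditive.comp_add]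
  | tmul b f =>
    rw [pre_tmul, Θ_tmul, Θ_tmul, Functor.map_comp, Linear.comp_smul]

theorem pre_pre {M M' M'' : Dual.D A} (u : M' ⟶ M) (v : M'' ⟶ M') (N : Dual.D A)
    (t : B ⊗[A] (M ⟶ N)) : pre B v N (pre B u N t) = pre B (v ≫ u) N t := by
  induction t using TensorProduct.induction_on with
  | zero => simp
  | add x y hx hy => rw [map_add, map_add, map_add, hx, hy]
  | tmul b f => rw [pre_tmul, pre_tmul, pre_tmul, Category.assoc]

theorem pre_id (M N : Dual.D A) (t : B ⊗[A] (M ⟶ N)) : pre B (𝟙 M) N t = t := by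
  induction t using TensorProduct.induction_on with
  | zero => simp
  | add x y hx hy => rw [map_add, hx, hy]
  | tmul b f => rw [pre_tmul, Category.id_comp]

/-- injectivity of the comparison map -/
def InjBC (M N : Dual.D A) : Prop := Function.Injective (Θ B M N)

/-- surjectivity of the comparison map -/
def SurjBC (M N : Dual.D A) : Prop := Function.Surjective (Θ B M N)

variable {B}

theorem InjBC.of_iso {M M' N : Dual.D A} (e : M ≅ M') (h : InjBC B M N) : InjBC B M' N := by
  intro s s' hss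
  have h1 : pre B e.hom N s = pre B e.hom N s' := by
    apply h
    rw [Θ_nat, Θ_nat, hss]
  have := congrArg (pre B e.inv N) h1
  rwa [pre_pre, pre_pre, e.inv_hom_id, pre_id, pre_id] at this

theorem SurjBC.of_iso {M M' N : Dual.D A} (e : M ≅ M') (h : SurjBC B M N) : SurjBC B M' N := by
  intro φ
  obtain ⟨t, ht⟩ := h ((E A B).map e.hom ≫ φ)
  refine ⟨pre B e.inv N t, ?_⟩
  rw [Θ_nat, ht, ← Category.assoc, ← Functor.map_comp, e.inv_hom_id,
    CategoryTheory.Functor.map_id, Category.id_comp]

variable (B)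

theorem exact_pre (T : Triangle (Dual.D A)) (hT : T ∈ distTriang _) (N : Dual.D A) :
    Function.Exact (pre B T.mor₂ N) (pre B T.mor₁ N) := by
  have h : Function.Exact (Linear.leftComp A N T.mor₂) (Linear.leftComp A N T.mor₁) := by
    intro φ
    constructor
    · intro h0
      obtain ⟨g, hg⟩ := Triangle.yoneda_exact₂ T hT φ h0
      exact ⟨g, hg.symm⟩
    · rintro ⟨g, rfl⟩
      change T.mor₁ ≫ T.mor₂ ≫ g = 0
      rw [← Category.assoc, comp_distTriang_mor_zero₁₂ _ hT, zero_comp]
  exact Module.Flat.lTensor_exact B h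

theorem exact_preB (T : Triangle (Dual.D A)) (hT : T ∈ distTriang _) (N : Dual.D A) :
    Function.Exact (preB B T.mor₂ N) (preB B T.mor₁ N) := by
  have hT' := (E A B).map_distinguished T hT
  intro φ
  constructor
  · intro h0
    obtain ⟨g, hg⟩ := Triangle.yoneda_exact₂ _ hT' φ h0
    exact ⟨g, hg.symm⟩
  · rintro ⟨g, rfl⟩
    change (E A B).map T.mor₁ ≫ (E A B).map T.mor₂ ≫ g = 0
    rw [← Category.assoc, ← Functor.map_comp, comp_distTriang_mor_zero₁₂ _ hT, Functor.map_zero,
      zero_comp]

theorem comm_sq {M M' : Dual.D A} (u : M' ⟶ M) (N : Dual.D A) :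
    (preB B u N).comp (Θ B M N).toAddMonoidHom = (Θ B M' N).toAddMonoidHom.comp (pre B u N) :=
  AddMonoidHom.ext fun t => (Θ_nat B u N t).symm

theorem four_inj (T : Triangle (Dual.D A)) (hT : T ∈ distTriang _) (N : Dual.D A)
    (h1 : SurjBC B T.rotate.obj₃ N) (h3 : InjBC B T.obj₃ N) (h1' : InjBC B T.obj₁ N) :
    InjBC B T.obj₂ N := by
  have hR := rot_of_distTriang _ hT
  exact AddMonoidHom.injective_of_surjective_of_injective_of_injective
    (pre B T.mor₃ N) (pre B T.mor₂ N) (pre B T.mor₁ N)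
    (preB B T.mor₃ N) (preB B T.mor₂ N) (preB B T.mor₁ N)
    (Θ B _ N).toAddMonoidHom (Θ B _ N).toAddMonoidHom (Θ B _ N).toAddMonoidHom
    (Θ B _ N).toAddMonoidHom
    (comm_sq B _ N) (comm_sq B _ N) (comm_sq B _ N)
    (exact_pre B T.rotate hR N) (exact_pre B T hT N) (exact_preB B T.rotate hR N) h1 h3 h1'

theorem four_surj (T : Triangle (Dual.D A)) (hT : T ∈ distTriang _) (N : Dual.D A)
    (h3 : SurjBC B T.obj₃ N) (h1 : SurjBC B T.obj₁ N) (h3' : InjBC B T.invRotate.obj₁ N) :
    SurjBC B T.obj₂ N := by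
  have hR := inv_rot_of_distTriang _ hT
  exact AddMonoidHom.surjective_of_surjective_of_surjective_of_injective
    (pre B T.mor₂ N) (pre B T.mor₁ N) (pre B T.invRotate.mor₁ N)
    (preB B T.mor₂ N) (preB B T.mor₁ N) (preB B T.invRotate.mor₁ N)
    (Θ B _ N).toAddMonoidHom (Θ B _ N).toAddMonoidHom (Θ B _ N).toAddMonoidHom
    (Θ B _ N).toAddMonoidHom
    (comm_sq B _ N) (comm_sq B _ N) (comm_sq B _ N)
    (exact_pre B T.invRotate hR N) (exact_preB B T hT N) (exact_preB B T.invRotate hR N) h3 h1 h3'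

end Theta

end Groth.Agent.Lib.Helper89.BCHom
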