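import Mathlib
import Groth.Agent.Lib.Helper89.BCHom1

/-!
# Flat base change for `Hom`: the base case `M = P[-j]`, `P` finite projective
-/

set_option autoImplicit false
set_option linter.style.haveILetI false
universe u

open CategoryTheory CategoryTheory.Limits CategoryTheory.Pretriangulated DerivedCategory TensorProduct

attribute [local instance] HasDerivedCategory.standard

namespace Groth.Agent.Lib.Helper89.BCHom

open Groth.Agent.Lib.Helper84

section HomologyLinear

variable (R : Type u) [CommRing R]

theorem homologyFunctor_map_smul (j : ℤ) (r : R) {X Y : Dual.D R} (φ : X ⟶ Y) :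
    (homologyFunctor (ModuleCat.{u} R) j).map (r • φ) =
      r • (homologyFunctor (ModuleCat.{u} R) j).map φ := by
  have key : ∀ Y : Dual.D R, (homologyFunctor (ModuleCat.{u} R) j).map (r • 𝟙 Y) =
      r • 𝟙 ((homologyFunctor (ModuleCat.{u} R) j).obj Y) := by
    intro Y
    let L := Q.objPreimage Y
    let e : Q.obj L ≅ Y := Q.objObjPreimageIso Y
    have h1 : r • 𝟙 Y = e.inv ≫ Q.map (r • 𝟙 L) ≫ e.hom := by
      rw [Functor.map_smul, CategoryTheory.Functor.map_id, Linear.smul_comp, Linear.comp_smul,
        Category.id_comp, Iso.inv_hom_id]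
    have h2 : (homologyFunctor (ModuleCat.{u} R) j).map (Q.map (r • 𝟙 L)) =
        r • 𝟙 ((homologyFunctor (ModuleCat.{u} R) j).obj (Q.obj L)) := by
      let e' := (homologyFunctorFactors (ModuleCat.{u} R) j).app L
      have nat : (homologyFunctor (ModuleCat.{u} R) j).map (Q.map (r • 𝟙 L)) ≫ e'.hom =
          e'.hom ≫ (HomologicalComplex.homologyFunctor (ModuleCat.{u} R) (ComplexShape.up ℤ) j).map
            (r • 𝟙 L) :=
        (homologyFunctorFactors (ModuleCat.{u} R) j).hom.naturality (r • 𝟙 L)
      have h3 : (HomologicalComplex.homologyFunctor (ModuleCat.{u} R) (ComplexShape.up ℤ) j).map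
          (r • 𝟙 L) = r • 𝟙 ((HomologicalComplex.homologyFunctor (ModuleCat.{u} R)
            (ComplexShape.up ℤ) j).obj L) := by
        have h4 : (HomologicalComplex.shortComplexFunctor (ModuleCat.{u} R)
            (ComplexShape.up ℤ) j).map (r • 𝟙 L) = r • 𝟙 ((HomologicalComplex.shortComplexFunctor
              (ModuleCat.{u} R) (ComplexShape.up ℤ) j).obj L) := by
          ext <;> rfl
        change ShortComplex.homologyMap ((HomologicalComplex.shortComplexFunctor (ModuleCat.{u} R)
            (ComplexShape.up ℤ) j).map (r • 𝟙 L)) = _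
        rw [h4, ShortComplex.homologyMap_smul, ShortComplex.homologyMap_id]
        rfl
      have h5 : (homologyFunctor (ModuleCat.{u} R) j).map (Q.map (r • 𝟙 L)) =
          e'.hom ≫ (r • 𝟙 _) ≫ e'.inv := by
        rw [← h3, ← Category.assoc, ← nat, Category.assoc, Iso.hom_inv_id, Category.comp_id]
      rw [h5, Linear.smul_comp, Linear.comp_smul, Category.id_comp, Iso.hom_inv_id]
      rfl
    rw [h1, Functor.map_comp, Functor.map_comp, h2, Linear.smul_comp, Linear.comp_smul,
      Category.id_comp, ← Functor.map_comp, Iso.inv_hom_id, CategoryTheory.Functor.map_id]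
  have : r • φ = φ ≫ (r • 𝟙 Y) := by rw [Linear.comp_smul, Category.comp_id]
  rw [this, Functor.map_comp, key, Linear.comp_smul, Category.comp_id]

end HomologyLinear

section Kappa

variable {A B : Type u} [CommRing A] [CommRing B] (φ : A →+* B)
  [PreservesFiniteLimits (FlatBC.ext φ)]

instance pfc : PreservesFiniteColimits (FlatBC.ext φ) :=
  haveI : (FlatBC.ext φ).IsLeftAdjoint := (ModuleCat.extendRestrictScalarsAdj φ).isLeftAdjoint
  inferInstance

/-- base change commutes with homology, complex level -/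
noncomputable def kappaCx (j : ℤ) :
    FlatBC.extCx φ ⋙ HomologicalComplex.homologyFunctor (ModuleCat.{u} B) (ComplexShape.up ℤ) j ≅
      HomologicalComplex.homologyFunctor (ModuleCat.{u} A) (ComplexShape.up ℤ) j ⋙ FlatBC.ext φ :=
  NatIso.ofComponents (fun K => (K.sc j).mapHomologyIso (FlatBC.ext φ))
    (fun f => ShortComplex.mapHomologyIso_hom_naturality
      ((HomologicalComplex.shortComplexFunctor _ _ j).map f) (FlatBC.ext φ))

/-- base change commutes with homology, derived level -/
noncomputable def kappa (j : ℤ) :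
    FlatBC.bc φ ⋙ homologyFunctor (ModuleCat.{u} B) j ≅
      homologyFunctor (ModuleCat.{u} A) j ⋙ FlatBC.ext φ :=
  letI h₁ : Localization.Lifting Q
      (HomologicalComplex.quasiIso (ModuleCat.{u} A) (ComplexShape.up ℤ))
      (FlatBC.extCx φ ⋙ HomologicalComplex.homologyFunctor (ModuleCat.{u} B) (ComplexShape.up ℤ) j)
      (FlatBC.bc φ ⋙ homologyFunctor (ModuleCat.{u} B) j) :=
    ⟨(Functor.associator _ _ _).symm ≪≫
      Functor.isoWhiskerRight (FlatBC.ext φ).mapDerivedCategoryFactors _ ≪≫
      Functor.associator _ _ _ ≪≫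
      Functor.isoWhiskerLeft _ (homologyFunctorFactors (ModuleCat.{u} B) j)⟩
  letI h₂ : Localization.Lifting Q
      (HomologicalComplex.quasiIso (ModuleCat.{u} A) (ComplexShape.up ℤ))
      (HomologicalComplex.homologyFunctor (ModuleCat.{u} A) (ComplexShape.up ℤ) j ⋙ FlatBC.ext φ)
      (homologyFunctor (ModuleCat.{u} A) j ⋙ FlatBC.ext φ) :=
    ⟨(Functor.associator _ _ _).symm ≪≫
      Functor.isoWhiskerRight (homologyFunctorFactors (ModuleCat.{u} A) j) _⟩
  Localization.liftNatIso Q (HomologicalComplex.quasiIso (ModuleCat.{u} A) (ComplexShape.up ℤ))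
    _ _ _ _ (kappaCx φ j)

end Kappa

section Base

variable {A B : Type u} [CommRing A] [CommRing B] (f : A →+* B) (hf : f.Flat)

include hf in
theorem base_case (P : ModuleCat.{u} A) [Module.Finite A P] [Module.Projective A P] (j : ℤ)
    (N : Dual.D A) :
    @InjBC A B _ _ f.toAlgebra hf ((singleFunctor (ModuleCat.{u} A) j).obj P) N ∧
    @SurjBC A B _ _ f.toAlgebra hf ((singleFunctor (ModuleCat.{u} A) j).obj P) N := by
  letI : Algebra A B := f.toAlgebra
  haveI : Module.Flat A B := hf
  haveI : PreservesFiniteLimits (FlatBC.ext f) := FlatBC.preservesFiniteLimits_ext f hf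
  let M := (singleFunctor (ModuleCat.{u} A) j).obj P
  let H := (homologyFunctor (ModuleCat.{u} A) j).obj N
  change InjBC B M N ∧ SurjBC B M N
  haveI : Module.Projective B ((FlatBC.ext f).obj P) := FlatBC.projective_ext f P inferInstance
  haveI : Projective ((FlatBC.ext f).obj P) := inferInstance
  -- the A-side
  let α : (M ⟶ N) →ₗ[A] (P →ₗ[A] H) :=
    { toFun := fun g => (HomPart.homPart g).hom
      map_add' := fun g g' => by
        simp only [HomPart.homPart, Functor.map_add, Preadditive.comp_add, ModuleCat.hom_add]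
      map_smul' := fun a g => by
        simp only [HomPart.homPart, RingHom.id_apply]
        rw [homologyFunctor_map_smul, Linear.comp_smul]
        rfl }
  have hα : Function.Bijective α := by
    constructor
    · intro g g' h
      apply HomPart.eq_of_homPart_eq
      exact ModuleCat.hom_ext h
    · intro l
      obtain ⟨g, hg⟩ := HomPart.exists_homPart_eq j N (ModuleCat.ofHom l)
      refine ⟨g, ?_⟩
      change (HomPart.homPart g).hom = l
      rw [hg]
      rfl
  let αe := LinearEquiv.ofBijective α hα
  haveI : Module.FinitePresentation A P := Module.finitePresentation_of_projective A P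
  let ibc := Module.FinitePresentation.isBaseChange_map A P H B
  let Ψ : B ⊗[A] (M ⟶ N) ≃ₗ[B] (B ⊗[A] P →ₗ[B] B ⊗[A] H) :=
    (LinearEquiv.baseChange A B _ _ αe) ≪≫ₗ ibc.equiv
  have hΨ : ∀ (b : B) (g : M ⟶ N), Ψ (b ⊗ₜ g) = b • (α g).baseChange B := by
    intro b g
    exact ibc.equiv_tmul b (α g)
  -- the B-side
  let isoA := singleFunctorCompHomologyFunctorIso (ModuleCat.{u} A) j
  let isoB := singleFunctorCompHomologyFunctorIso (ModuleCat.{u} B) j
  let κ := kappa f j
  let c : (FlatBC.ext f).obj P ≅ (FlatBC.ext f).obj P :=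
    (isoB.app ((FlatBC.ext f).obj P)).symm ≪≫
    (homologyFunctor (ModuleCat.{u} B) j).mapIso (FlatBC.bcSingle f P j).symm ≪≫
    κ.app M ≪≫ (FlatBC.ext f).mapIso (isoA.app P)
  have sq : ∀ g : M ⟶ N, HomPart.homPart ((FlatBC.bcSingle f P j).inv ≫ (FlatBC.bc f).map g) =
      c.hom ≫ (FlatBC.ext f).map (HomPart.homPart g) ≫ (κ.app N).inv := by
    intro g
    have nat := κ.hom.naturality g
    have h1 : (homologyFunctor (ModuleCat.{u} B) j).map ((FlatBC.bc f).map g) =
        κ.hom.app M ≫ (FlatBC.ext f).map ((homologyFunctor (ModuleCat.{u} A) j).map g) ≫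
          (κ.app N).inv := by
      rw [← Category.assoc]
      exact (Iso.eq_comp_inv (κ.app N)).2 nat
    have h2 : (homologyFunctor (ModuleCat.{u} A) j).map g =
        isoA.hom.app P ≫ HomPart.homPart g := by
      simp [HomPart.homPart, isoA]
    rw [HomPart.homPart, Functor.map_comp, h1, h2, Functor.map_comp]
    simp only [c, Iso.trans_hom, Iso.symm_hom, Iso.app_inv, Iso.app_hom, Functor.mapIso_hom,
      Category.assoc]
    rfl
  let βL : ((E A B).obj M ⟶ (E A B).obj N) →ₗ[B] (B ⊗[A] P →ₗ[B] B ⊗[A] H) :=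
    { toFun := fun ψ =>
        (c.inv ≫ HomPart.homPart ((FlatBC.bcSingle f P j).inv ≫ ψ) ≫ (κ.app N).hom).hom
      map_add' := fun ψ ψ' => by
        simp only [HomPart.homPart, Functor.map_add, Preadditive.comp_add, Preadditive.add_comp,
          ModuleCat.hom_add]
        rfl
      map_smul' := fun b ψ => by
        simp only [HomPart.homPart, RingHom.id_apply, Linear.comp_smul]
        rw [homologyFunctor_map_smul]
        simp only [Linear.comp_smul, Linear.smul_comp]
        rfl }
  have claim : ∀ t, βL (Θ B M N t) = Ψ t := by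
    have : βL ∘ₗ (Θ B M N) = Ψ.toLinearMap := by
      apply TensorProduct.AlgebraTensorModule.ext
      intro b g
      change βL (Θ B M N (b ⊗ₜ g)) = Ψ (b ⊗ₜ g)
      rw [Θ_tmul, map_smul, hΨ]
      congr 1
      change (c.inv ≫ HomPart.homPart ((FlatBC.bcSingle f P j).inv ≫ (FlatBC.bc f).map g) ≫
        (κ.app N).hom).hom = _
      rw [sq g]
      simp only [Category.assoc, Iso.inv_hom_id, Category.comp_id, Iso.inv_hom_id_assoc]
      rfl
    exact fun t => LinearMap.congr_fun this t
  have hβ : Function.Injective βL := by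
    intro ψ ψ' h
    have h1 : c.inv ≫ HomPart.homPart ((FlatBC.bcSingle f P j).inv ≫ ψ) ≫ (κ.app N).hom =
        c.inv ≫ HomPart.homPart ((FlatBC.bcSingle f P j).inv ≫ ψ') ≫ (κ.app N).hom :=
      ModuleCat.hom_ext h
    have h2 := (Iso.cancel_iso_inv_left c _ _).1 h1
    have h3 := (Iso.cancel_iso_hom_right _ _ (κ.app N)).1 h2
    have h4 := HomPart.eq_of_homPart_eq _ _ h3
    exact (Iso.cancel_iso_inv_left (FlatBC.bcSingle f P j) _ _).1 h4
  constructor
  · intro t t' h
    apply Ψ.injective
    rw [← claim, ← claim, h]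
  · intro ψ
    obtain ⟨t, ht⟩ := Ψ.surjective (βL ψ)
    exact ⟨t, hβ ((claim t).trans ht)⟩

end Base

end Groth.Agent.Lib.Helper89.BCHom
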