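import Mathlib
import Groth.Agent.Lib.Helper89.BCHom2
import Groth.Agent.Lib.Helper84.Devissage

/-!
# Flat base change for `Hom`: way-out induction and dévissage
-/

set_option autoImplicit false
set_option linter.style.haveILetI false
universe u

open CategoryTheory CategoryTheory.Limits CategoryTheory.Pretriangulated DerivedCategory TensorProduct

attribute [local instance] HasDerivedCategory.standard

namespace Groth.Agent.Lib.Helper89.BCHom

open Groth.Agent.Lib.Helper84

section Main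

variable {A B : Type u} [CommRing A] [CommRing B] (f : A →+* B) (hf : f.Flat)

/-- injectivity of the comparison map for the algebra structure given by `f` -/
def InjF (M N : Dual.D A) : Prop := @InjBC A B _ _ f.toAlgebra hf M N

/-- surjectivity of the comparison map for the algebra structure given by `f` -/
def SurjF (M N : Dual.D A) : Prop := @SurjBC A B _ _ f.toAlgebra hf M N

variable {f hf}

theorem InjF.of_iso {M M' N : Dual.D A} (e : M ≅ M') (h : InjF f hf M N) : InjF f hf M' N := by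
  letI := f.toAlgebra
  haveI : Module.Flat A B := hf
  exact InjBC.of_iso e h

theorem SurjF.of_iso {M M' N : Dual.D A} (e : M ≅ M') (h : SurjF f hf M N) :
    SurjF f hf M' N := by
  letI := f.toAlgebra
  haveI : Module.Flat A B := hf
  exact SurjBC.of_iso e h

theorem injF_four (T : Triangle (Dual.D A)) (hT : T ∈ distTriang _) (N : Dual.D A)
    (h1 : SurjF f hf T.rotate.obj₃ N) (h3 : InjF f hf T.obj₃ N) (h1' : InjF f hf T.obj₁ N) :
    InjF f hf T.obj₂ N := by
  letI := f.toAlgebra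
  haveI : Module.Flat A B := hf
  exact four_inj B T hT N h1 h3 h1'

theorem surjF_four (T : Triangle (Dual.D A)) (hT : T ∈ distTriang _) (N : Dual.D A)
    (h3 : SurjF f hf T.obj₃ N) (h1 : SurjF f hf T.obj₁ N)
    (h3' : InjF f hf T.invRotate.obj₁ N) : SurjF f hf T.obj₂ N := by
  letI := f.toAlgebra
  haveI : Module.Flat A B := hf
  exact four_surj B T hT N h3 h1 h3'

theorem bij_of_isLE_of_isGE (M N : Dual.D A) (a c : ℤ) (hac : a < c) (hM : M.IsLE a)
    (hN : N.IsGE c) : InjF f hf M N ∧ SurjF f hf M N := by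
  letI := f.toAlgebra
  haveI : Module.Flat A B := hf
  haveI : PreservesFiniteLimits (FlatBC.ext f) := FlatBC.preservesFiniteLimits_ext f hf
  have h0 : ∀ g : M ⟶ N, g = 0 := fun g =>
    DerivedCategory.TStructure.t.zero_of_isLE_of_isGE g a c hac hM hN
  have hM' : ((FlatBC.bc f).obj M).IsLE a := FlatBC.isLE_bc f M a
  have hN' : ((FlatBC.bc f).obj N).IsGE c := FlatBC.isGE_bc f N c
  have h0' : ∀ g : (E A B).obj M ⟶ (E A B).obj N, g = 0 := fun g =>
    DerivedCategory.TStructure.t.zero_of_isLE_of_isGE g a c hac hM' hN'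
  have ht : ∀ t : B ⊗[A] (M ⟶ N), t = 0 := by
    intro t
    induction t using TensorProduct.induction_on with
    | zero => rfl
    | add x y hx hy => rw [hx, hy, add_zero]
    | tmul b g => rw [h0 g, TensorProduct.tmul_zero]
  constructor
  · intro t t' _
    rw [ht t, ht t']
  · intro ψ
    exact ⟨0, by rw [map_zero, h0' ψ]⟩

/-- a module in degree `0`, shifted by `n` -/
noncomputable abbrev sh (X : Type u) [AddCommGroup X] [Module A X] (n : ℤ) : Dual.D A :=
  ((singleFunctor (ModuleCat.{u} A) 0).obj (ModuleCat.of A X))⟦n⟧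

theorem sh_isLE (X : Type u) [AddCommGroup X] [Module A X] (n : ℤ) :
    (sh (A := A) X n).IsLE (-n) :=
  DerivedCategory.TStructure.t.isLE_shift
    ((singleFunctor (ModuleCat.{u} A) 0).obj (ModuleCat.of A X)) 0 n (-n) (by lia)

variable (f hf) in
theorem bij_sh_projective (X : Type u) [AddCommGroup X] [Module A X] [Module.Finite A X]
    [Module.Projective A X] (n : ℤ) (N : Dual.D A) :
    InjF f hf (sh X n) N ∧ SurjF f hf (sh X n) N := by
  have h := base_case f hf (ModuleCat.of A X) (-n) N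
  have e : (singleFunctor (ModuleCat.{u} A) (-n)).obj (ModuleCat.of A X) ≅ sh X n :=
    (((DerivedCategory.singleFunctors (ModuleCat.{u} A)).shiftIso n (-n) 0 (add_neg_cancel n)).app
      (ModuleCat.of A X)).symm
  exact ⟨InjF.of_iso e h.1, SurjF.of_iso e h.2⟩

section Step

variable [IsNoetherianRing A]

theorem exists_triangle (X : Type u) [AddCommGroup X] [Module A X] [Module.Finite A X] (n : ℤ) :
    ∃ (r : ℕ) (K : Type u) (_ : AddCommGroup K) (_ : Module A K) (_ : Module.Finite A K)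
      (T : Triangle (Dual.D A)), T ∈ distTriang _ ∧
      Nonempty (T.obj₁ ≅ sh (Fin r → A) n) ∧ Nonempty (T.obj₂ ≅ sh X n) ∧
      Nonempty (T.obj₃ ≅ sh K (n + 1)) ∧ Nonempty (T.rotate.obj₃ ≅ sh (Fin r → A) (n + 1)) ∧
      Nonempty (T.invRotate.obj₁ ≅ sh K n) := by
  obtain ⟨r, π, hπ⟩ := Module.Finite.exists_fin' A X
  let S : ShortComplex (ModuleCat.{u} A) :=
    ShortComplex.mk (ModuleCat.ofHom (LinearMap.ker π).subtype) (ModuleCat.ofHom π) (by
      ext x
      exact x.2)
  have hS : S.ShortExact :=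
    { exact := by
        rw [ShortComplex.ShortExact.moduleCat_exact_iff_function_exact]
        intro x
        change π x = 0 ↔ x ∈ Set.range (LinearMap.ker π).subtype
        simp
        rfl
      mono_f := (ModuleCat.mono_iff_injective _).mpr (LinearMap.ker π).injective_subtype
      epi_g := (ModuleCat.epi_iff_surjective _).mpr hπ }
  let T₀ := hS.singleTriangle
  have hT₀ : T₀ ∈ distTriang _ := hS.singleTriangle_distinguished
  let T₁ := (Triangle.shiftFunctor (Dual.D A) n).obj T₀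
  have hT₁ : T₁ ∈ distTriang _ := Triangle.shift_distinguished T₀ hT₀ n
  refine ⟨r, LinearMap.ker π, inferInstance, inferInstance, inferInstance, T₁.rotate,
    rot_of_distTriang _ hT₁, ⟨Iso.refl _⟩, ⟨Iso.refl _⟩, ⟨?_⟩, ⟨?_⟩, ⟨?_⟩⟩
  · exact ((shiftFunctorAdd' (Dual.D A) n 1 (n + 1) rfl).app
      ((singleFunctor (ModuleCat.{u} A) 0).obj (ModuleCat.of A (LinearMap.ker π)))).symm
  · exact ((shiftFunctorAdd' (Dual.D A) n 1 (n + 1) rfl).app
      ((singleFunctor (ModuleCat.{u} A) 0).obj (ModuleCat.of A (Fin r → A)))).symm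
  · exact (shiftFunctorCompIsoId (Dual.D A) (1 : ℤ) (-1) (by norm_num)).app
      (sh (LinearMap.ker π) n)

variable (f hf) in
theorem step_inj (N : Dual.D A) (n : ℤ)
    (ih : ∀ (X : Type u) [AddCommGroup X] [Module A X] [Module.Finite A X],
      InjF f hf (sh X (n + 1)) N ∧ SurjF f hf (sh X (n + 1)) N)
    (X : Type u) [AddCommGroup X] [Module A X] [Module.Finite A X] : InjF f hf (sh X n) N := by
  obtain ⟨r, K, _, _, _, T, hT, ⟨e₁⟩, ⟨e₂⟩, ⟨e₃⟩, ⟨e₄⟩, ⟨e₅⟩⟩ := exists_triangle (A := A) X n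
  refine InjF.of_iso e₂ (injF_four T hT N ?_ ?_ ?_)
  · exact SurjF.of_iso e₄.symm (bij_sh_projective f hf (Fin r → A) (n + 1) N).2
  · exact InjF.of_iso e₃.symm (ih K).1
  · exact InjF.of_iso e₁.symm (bij_sh_projective f hf (Fin r → A) n N).1

variable (f hf) in
theorem step_surj (N : Dual.D A) (n : ℤ)
    (ih : ∀ (X : Type u) [AddCommGroup X] [Module A X] [Module.Finite A X],
      InjF f hf (sh X (n + 1)) N ∧ SurjF f hf (sh X (n + 1)) N)
    (X : Type u) [AddCommGroup X] [Module A X] [Module.Finite A X] : SurjF f hf (sh X n) N := by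
  obtain ⟨r, K, _, _, _, T, hT, ⟨e₁⟩, ⟨e₂⟩, ⟨e₃⟩, ⟨e₄⟩, ⟨e₅⟩⟩ := exists_triangle (A := A) X n
  refine SurjF.of_iso e₂ (surjF_four T hT N ?_ ?_ ?_)
  · exact SurjF.of_iso e₃.symm (ih K).2
  · exact SurjF.of_iso e₁.symm (bij_sh_projective f hf (Fin r → A) n N).2
  · exact InjF.of_iso e₅.symm (step_inj f hf N n ih K)

variable (f hf) in
theorem key (N : Dual.D A) (c : ℤ) (hN : N.IsGE c) :
    ∀ (k : ℕ) (X : Type u) [AddCommGroup X] [Module A X] [Module.Finite A X],
      InjF f hf (sh X (-(c - 1 + k))) N ∧ SurjF f hf (sh X (-(c - 1 + k))) N := by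
  intro k
  induction k with
  | zero =>
    intro X _ _ _
    refine bij_of_isLE_of_isGE _ N (c - 1) c (by lia) ?_ hN
    have := sh_isLE (A := A) X (-(c - 1 + (0 : ℕ)))
    simpa using this
  | succ k ih =>
    intro X _ _ _
    have e : -(c - 1 + ((k + 1 : ℕ) : ℤ)) + 1 = -(c - 1 + (k : ℤ)) := by push_cast; ring
    have ih' : ∀ (X : Type u) [AddCommGroup X] [Module A X] [Module.Finite A X],
        InjF f hf (sh X (-(c - 1 + ((k + 1 : ℕ) : ℤ)) + 1)) N ∧
          SurjF f hf (sh X (-(c - 1 + ((k + 1 : ℕ) : ℤ)) + 1)) N := by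
      intro Y _ _ _
      rw [e]
      exact ih Y
    exact ⟨step_inj f hf N _ ih' X, step_surj f hf N _ ih' X⟩

variable (f hf) in
theorem key' (N : Dual.D A) (c : ℤ) (hN : N.IsGE c) (n : ℤ)
    (X : Type u) [AddCommGroup X] [Module A X] [Module.Finite A X] :
    InjF f hf (sh X n) N ∧ SurjF f hf (sh X n) N := by
  by_cases h : -n < c
  · exact bij_of_isLE_of_isGE _ N (-n) c h (sh_isLE X n) hN
  · obtain ⟨k, hk⟩ : ∃ k : ℕ, -n - (c - 1) = k := ⟨(-n - (c - 1)).toNat, by
      rw [Int.toNat_of_nonneg]; lia⟩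
    have := key f hf N c hN k X
    have e : -(c - 1 + (k : ℤ)) = n := by lia
    rwa [e] at this

end Step

section Dev

theorem bij_of_isZero (M N : Dual.D A) (hM : IsZero M) : InjF f hf M N ∧ SurjF f hf M N := by
  letI := f.toAlgebra
  haveI : Module.Flat A B := hf
  haveI : PreservesFiniteLimits (FlatBC.ext f) := FlatBC.preservesFiniteLimits_ext f hf
  have h0 : ∀ g : M ⟶ N, g = 0 := fun g => hM.eq_of_src _ _
  have hM' : IsZero ((E A B).obj M) := (E A B).map_isZero hM
  have h0' : ∀ g : (E A B).obj M ⟶ (E A B).obj N, g = 0 := fun g => hM'.eq_of_src _ _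
  have ht : ∀ t : B ⊗[A] (M ⟶ N), t = 0 := by
    intro t
    induction t using TensorProduct.induction_on with
    | zero => rfl
    | add x y hx hy => rw [hx, hy, add_zero]
    | tmul b g => rw [h0 g, TensorProduct.tmul_zero]
  constructor
  · intro t t' _
    rw [ht t, ht t']
  · intro ψ
    exact ⟨0, by rw [map_zero, h0' ψ]⟩

variable (f hf) in
/-- the property used in the dévissage -/
def PBC (N : Dual.D A) : ObjectProperty (Dual.D A) :=
  fun M => ∀ n : ℤ, InjF f hf (M⟦n⟧) N ∧ SurjF f hf (M⟦n⟧) N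

instance (N : Dual.D A) : (PBC f hf N).IsClosedUnderIsomorphisms where
  of_iso e h n :=
    ⟨InjF.of_iso ((shiftFunctor (Dual.D A) n).mapIso e) (h n).1,
      SurjF.of_iso ((shiftFunctor (Dual.D A) n).mapIso e) (h n).2⟩

theorem PBC_zero (N : Dual.D A) (K : Dual.D A) (hK : IsZero K) : PBC f hf N K := fun n =>
  bij_of_isZero _ N ((shiftFunctor (Dual.D A) n).map_isZero hK)

theorem PBC_ext (N : Dual.D A) (T : Triangle (Dual.D A)) (hT : T ∈ distTriang _)
    (h₁ : PBC f hf N T.obj₁) (h₃ : PBC f hf N T.obj₃) : PBC f hf N T.obj₂ := by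
  intro n
  let Tn := (Triangle.shiftFunctor (Dual.D A) n).obj T
  have hTn : Tn ∈ distTriang _ := Triangle.shift_distinguished T hT n
  have e₁ : (T.obj₁)⟦n + 1⟧ ≅ Tn.rotate.obj₃ :=
    (shiftFunctorAdd' (Dual.D A) n 1 (n + 1) rfl).app T.obj₁
  have e₃ : (T.obj₃)⟦n - 1⟧ ≅ Tn.invRotate.obj₁ :=
    (shiftFunctorAdd' (Dual.D A) n (-1) (n - 1) (by ring)).app T.obj₃
  have hinj : InjF f hf Tn.obj₂ N :=
    injF_four Tn hTn N (SurjF.of_iso e₁ (h₁ (n + 1)).2) (h₃ n).1 (h₁ n).1
  have hsurj : SurjF f hf Tn.obj₂ N :=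
    surjF_four Tn hTn N (h₃ n).2 (h₁ n).2 (InjF.of_iso e₃ (h₃ (n - 1)).1)
  exact ⟨hinj, hsurj⟩

variable [IsNoetherianRing A]

theorem PBC_single (N : Dual.D A) (c : ℤ) (hN : N.IsGE c) (i : ℤ) (X : ModuleCat.{u} A)
    [Module.Finite A X] : PBC f hf N ((singleFunctor (ModuleCat.{u} A) i).obj X) := by
  intro n
  have e : sh (A := A) X (-i + n) ≅ ((singleFunctor (ModuleCat.{u} A) i).obj X)⟦n⟧ :=
    (shiftFunctorAdd' (Dual.D A) (-i) n (-i + n) rfl).app _ ≪≫
      (shiftFunctor (Dual.D A) n).mapIso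
        (((DerivedCategory.singleFunctors (ModuleCat.{u} A)).shiftIso (-i) i 0
          (neg_add_cancel i)).app X)
  have h := key' f hf N c hN (-i + n) X
  exact ⟨InjF.of_iso e h.1, SurjF.of_iso e h.2⟩

variable (f hf) in
/-- **Flat base change for `Hom`**: for `M` with bounded finite cohomology and `N` bounded
below, the comparison map `B ⊗ Hom(M, N) → Hom(B ⊗ M, B ⊗ N)` is bijective. -/
theorem main (M N : Dual.D A) (a b : ℤ)
    (hM : ∀ i : ℤ, i < a ∨ b < i → IsZero ((homologyFunctor (ModuleCat.{u} A) i).obj M))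
    (hfin : ∀ i : ℤ, Module.Finite A ((homologyFunctor (ModuleCat.{u} A) i).obj M))
    (c : ℤ) (hN : N.IsGE c) : InjF f hf M N ∧ SurjF f hf M N := by
  have hP : PBC f hf N M :=
    Devissage.prop_of_bounded_homology (PBC f hf N) (PBC_zero N) (PBC_ext N) M a b hM
      (fun i => by
        haveI := hfin i
        exact PBC_single N c hN i _)
  have e : M⟦(0 : ℤ)⟧ ≅ M := (shiftFunctorZero (Dual.D A) ℤ).app M
  exact ⟨InjF.of_iso e (hP 0).1, SurjF.of_iso e (hP 0).2⟩

end Dev

end Main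

end Groth.Agent.Lib.Helper89.BCHom
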