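import Mathlib
import Groth.Agent.Lib.Helper89.BCHom3
import Groth.Agent.Lib.Helper84.HomFinite
import Groth.Agent.Lib.Helper84.DRingInjAmp
import Groth.Agent.Lib.Helper25.Bidual.Main
import Groth.Agent.Lib.Helper15.LBCFlat

/-!
# Flat base change for `Hom`: consequences, and faithfully flat descent of dualizing complexes
-/

set_option autoImplicit false
set_option linter.style.haveILetI false
universe u

open CategoryTheory CategoryTheory.Limits CategoryTheory.Pretriangulated DerivedCategory TensorProduct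

attribute [local instance] HasDerivedCategory.standard

namespace Groth.Agent.Lib.Helper89.BCHom

open Groth.Agent.Lib.Helper84

section Generic

variable {R : Type u} [CommRing R]

theorem eq_zero_of_subsingleton_shift (X : ModuleCat.{u} R) (L : Dual.D R) (i : ℤ)
    (h : Subsingleton ((singleFunctor (ModuleCat.{u} R) 0).obj X ⟶ L⟦i⟧))
    (φ : (singleFunctor (ModuleCat.{u} R) i).obj X ⟶ L) : φ = 0 := by
  let e := ((DerivedCategory.singleFunctors (ModuleCat.{u} R)).shiftIso (-i) i 0
    (neg_add_cancel i)).app X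
  let u : (singleFunctor (ModuleCat.{u} R) 0).obj X ≅
      (((singleFunctor (ModuleCat.{u} R) 0).obj X)⟦-i⟧)⟦i⟧ :=
    ((shiftFunctorCompIsoId (Dual.D R) (-i) i (neg_add_cancel i)).app _).symm
  have h1 : u.hom ≫ (e.hom ≫ φ)⟦i⟧' = 0 := Subsingleton.elim _ _
  have h2 : (e.hom ≫ φ)⟦i⟧' = 0 := by
    have := congrArg (fun x => u.inv ≫ x) h1
    simpa using this
  have h3 : e.hom ≫ φ = 0 :=
    (shiftFunctor (Dual.D R) i).map_injective (h2.trans (Functor.map_zero _ _ _).symm)
  exact (cancel_epi e.hom).1 (h3.trans comp_zero.symm)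

theorem bddFin_inD [IsNoetherianRing R] (X : Type u) [AddCommGroup X] [Module R X]
    [Module.Finite R X] : HomFinite.BddFin (Dual.inD R X) := by
  refine ⟨⟨0, 0, fun i hi => ?_⟩, fun i => ?_⟩
  · rcases hi with hi | hi
    · exact DerivedCategory.isZero_of_isGE (Dual.inD R X) 0 i hi
    · exact DerivedCategory.isZero_of_isLE (Dual.inD R X) 0 i hi
  · by_cases hi : i = 0
    · subst hi
      haveI : Module.Finite R ↑((𝟭 (ModuleCat.{u} R)).obj (ModuleCat.of R X)) :=
        inferInstanceAs (Module.Finite R X)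
      exact Module.Finite.equiv
        ((singleFunctorCompHomologyFunctorIso (ModuleCat.{u} R) 0).app
          (ModuleCat.of R X)).symm.toLinearEquiv
    · apply HomFinite.finite_of_isZero
      rcases lt_or_gt_of_ne hi with hi | hi
      · exact DerivedCategory.isZero_of_isGE (Dual.inD R X) 0 i hi
      · exact DerivedCategory.isZero_of_isLE (Dual.inD R X) 0 i hi

end Generic

section API

variable {A B : Type u} [CommRing A] [CommRing B] (f : A →+* B) [IsNoetherianRing A]

theorem bij_of_bddFin (hf : f.Flat) (M N : Dual.D A) (hM : HomFinite.BddFin M) (c : ℤ)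
    (hN : N.IsGE c) : InjF f hf M N ∧ SurjF f hf M N := by
  obtain ⟨⟨a, b, hab⟩, hfin⟩ := hM
  exact main f hf M N a b hab hfin c hN

variable [PreservesFiniteLimits (FlatBC.ext f)]

/-- ascent of vanishing of `Hom` -/
theorem subsingleton_bc (hf : f.Flat) (M N : Dual.D A) (hM : HomFinite.BddFin M) (c : ℤ)
    (hN : N.IsGE c) (h : Subsingleton (M ⟶ N)) :
    Subsingleton ((FlatBC.bc f).obj M ⟶ (FlatBC.bc f).obj N) := by
  letI := f.toAlgebra
  haveI : Module.Flat A B := hf
  have hs := (bij_of_bddFin f hf M N hM c hN).2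
  have key : ∀ ψ : (E A B).obj M ⟶ (E A B).obj N, ψ = 0 := by
    intro ψ
    obtain ⟨t, rfl⟩ := hs ψ
    have ht : t = 0 := by
      induction t using TensorProduct.induction_on with
      | zero => rfl
      | add x y hx hy => rw [hx, hy, add_zero]
      | tmul b g => rw [Subsingleton.elim g 0, TensorProduct.tmul_zero]
    rw [ht, map_zero]
  exact ⟨fun ψ ψ' => (key ψ).trans (key ψ').symm⟩

/-- descent of vanishing of `Hom` -/
theorem subsingleton_of_bc (hff : f.FaithfullyFlat) (M N : Dual.D A) (hM : HomFinite.BddFin M)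
    (c : ℤ) (hN : N.IsGE c)
    (h : Subsingleton ((FlatBC.bc f).obj M ⟶ (FlatBC.bc f).obj N)) : Subsingleton (M ⟶ N) := by
  letI := f.toAlgebra
  haveI : Module.FaithfullyFlat A B := hff
  have hi := (bij_of_bddFin f hff.flat M N hM c hN).1
  haveI : Subsingleton (B ⊗[A] (M ⟶ N)) :=
    ⟨fun t t' => hi (Subsingleton.elim (α := (FlatBC.bc f).obj M ⟶ (FlatBC.bc f).obj N) _ _)⟩
  exact Module.FaithfullyFlat.lTensor_reflects_triviality A B (M ⟶ N)

/-- descent of `A ≅ End(K)` -/
theorem toEnd_bijective_of_bc (hff : f.FaithfullyFlat) (K : Dual.D A) (hK : HomFinite.BddFin K)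
    (c : ℤ) (hKc : K.IsGE c)
    (h : Function.Bijective (fun b : B => b • 𝟙 ((FlatBC.bc f).obj K))) :
    Function.Bijective (fun a : A => a • 𝟙 K) := by
  letI := f.toAlgebra
  haveI : Module.FaithfullyFlat A B := hff
  haveI : Module.Flat A B := hff.flat
  obtain ⟨hi, hs⟩ := bij_of_bddFin f hff.flat K K hK c hKc
  let φA : A →ₗ[A] (K ⟶ K) := LinearMap.toSpanSingleton A (K ⟶ K) (𝟙 K)
  have hcomp : (fun b : B => b • 𝟙 ((E A B).obj K)) =
      (Θ B K K) ∘ (φA.lTensor B) ∘ (TensorProduct.rid A B).symm := by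
    funext b
    simp only [Function.comp_apply, TensorProduct.rid_symm_apply, LinearMap.lTensor_tmul]
    rw [show φA 1 = 𝟙 K from one_smul _ _, Θ_tmul, CategoryTheory.Functor.map_id]
  have hΘ : Function.Bijective (Θ B K K) := ⟨hi, hs⟩
  have h0 : Function.Bijective ((Θ B K K) ∘ (φA.lTensor B) ∘ (TensorProduct.rid A B).symm) := by
    rw [← hcomp]
    exact h
  have h1 : Function.Bijective ((φA.lTensor B) ∘ (TensorProduct.rid A B).symm) :=
    (Function.Bijective.of_comp_iff' hΘ _).1 h0
  have h2 : Function.Bijective (φA.lTensor B) :=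
    (Function.Bijective.of_comp_iff _ (TensorProduct.rid A B).symm.bijective).1 h1
  exact (Module.FaithfullyFlat.lTensor_bijective_iff_bijective A B φA).1 h2

end API

section Descent

variable {A B : Type u} [CommRing A] [CommRing B] (f : A →+* B) [IsNoetherianRing A]
  [IsNoetherianRing B] [PreservesFiniteLimits (FlatBC.ext f)]

/-- **faithfully flat descent of dualizing complexes** (exact base change form) -/
theorem isDualizing_of_bc (hff : f.FaithfullyFlat) (K : Dual.D A)
    (hK : Dual.IsDualizing B ((FlatBC.bc f).obj K)) : Dual.IsDualizing A K := by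
  letI := f.toAlgebra
  haveI : Module.FaithfullyFlat A B := hff
  haveI : Module.Flat A B := hff.flat
  -- cohomology
  have eH : ∀ i : ℤ, (homologyFunctor (ModuleCat.{u} B) i).obj ((FlatBC.bc f).obj K) ≅
      (FlatBC.ext f).obj ((homologyFunctor (ModuleCat.{u} A) i).obj K) :=
    fun i => (kappa f i).app K
  have hfin : ∀ i : ℤ, Module.Finite A (Dual.HD A K i) := by
    intro i
    haveI := hK.finite_cohomology i
    have h1 : Module.Finite B (B ⊗[A] (Dual.HD A K i)) :=
      Module.Finite.equiv (eH i).toLinearEquiv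
    have h2 : IsNoetherian B (B ⊗[A] (Dual.HD A K i)) :=
      isNoetherian_of_isNoetherianRing_of_finite B _
    have h3 : IsNoetherian A (Dual.HD A K i) :=
      Submodule.IsNoetherian.of_isNoetherian_tensorProduct_of_faithfullyFlat h2
    exact Module.IsNoetherian.finite A _
  obtain ⟨J, a, b, hJ, hJz, ⟨eJ⟩⟩ :=
    Groth.Agent.Lib.Helper25.Bidual.exists_bounded_injective_model _ hK
  have hvan : ∀ i : ℤ, (i < a ∨ b < i) →
      IsZero ((homologyFunctor (ModuleCat.{u} A) i).obj K) := by
    intro i hi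
    have h1 : IsZero ((homologyFunctor (ModuleCat.{u} B) i).obj ((FlatBC.bc f).obj K)) :=
      IsZero.of_iso (HomFinite.isZero_homology_Q J i (hJz i hi))
        ((homologyFunctor (ModuleCat.{u} B) i).mapIso eJ.symm)
    have h2 : IsZero ((FlatBC.ext f).obj ((homologyFunctor (ModuleCat.{u} A) i).obj K)) :=
      IsZero.of_iso h1 (eH i).symm
    haveI : Subsingleton (B ⊗[A] (Dual.HD A K i)) := ModuleCat.subsingleton_of_isZero h2
    haveI := Module.FaithfullyFlat.lTensor_reflects_triviality A B (Dual.HD A K i)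
    exact ModuleCat.isZero_of_subsingleton _
  have hBF : HomFinite.BddFin K := ⟨⟨a, b, hvan⟩, hfin⟩
  have hGE : K.IsGE a := (DerivedCategory.isGE_iff K a).2 fun i hi => hvan i (Or.inl hi)
  have hGEs : ∀ i : ℤ, (K⟦i⟧).IsGE (a - i) := fun i =>
    DerivedCategory.TStructure.t.isGE_shift K a i (a - i) (by lia)
  -- descent of vanishing to shifts
  have hdesc : ∀ (M : Dual.D A) (_ : HomFinite.BddFin M) (i : ℤ),
      Subsingleton ((FlatBC.bc f).obj M ⟶ ((FlatBC.bc f).obj K)⟦i⟧) →
        Subsingleton (M ⟶ K⟦i⟧) := by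
    intro M hM i h
    refine subsingleton_of_bc f hff M (K⟦i⟧) hM (a - i) (hGEs i) ?_
    exact @Equiv.subsingleton _ _
      ((Iso.refl ((FlatBC.bc f).obj M)).homCongr (((FlatBC.bc f).commShiftIso i).app K)) h
  obtain ⟨a₀, b₀, hab₀⟩ := hK.finite_injective_dimension
  -- vanishing for cyclic modules
  have Hcyc : ∀ (I : Ideal A) (i : ℤ), (i < a₀ ∨ b₀ < i) →
      ∀ φ : (singleFunctor (ModuleCat.{u} A) i).obj (ModuleCat.of A (A ⧸ I)) ⟶ K, φ = 0 := by
    intro I i hi φ
    apply eq_zero_of_subsingleton_shift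
    refine hdesc (Dual.inD A (A ⧸ I)) (bddFin_inD (A ⧸ I)) i ?_
    have h1 := hab₀ ((FlatBC.ext f).obj (ModuleCat.of A (A ⧸ I))) i hi
    exact @Equiv.subsingleton _ _
      ((FlatBC.bcSingle f (ModuleCat.of A (A ⧸ I)) 0).homCongr
        (Iso.refl (((FlatBC.bc f).obj K)⟦i⟧))) h1
  have hIA : DRing.HasInjAmplitudeIn A a₀ b₀ K := DRingInjAmp.hasInjAmplitudeIn_of_vanishing K a₀ b₀ Hcyc
  have hGE₀ : K.IsGE a₀ := DRingBasic.isGE_of_subsingleton K a₀
    (fun i hi => DRingInjAmp.subsingleton_HD_of_hom_eq_zero K i (Hcyc ⊥ i (Or.inl hi)))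
  refine
    { isNoetherianRing := inferInstance
      finite_injective_dimension := ⟨a₀, b₀, fun M _ _ i hi => ⟨fun φ ψ => ?_⟩⟩
      finite_cohomology := hfin
      toEnd_bijective := toEnd_bijective_of_bc f hff K hBF a hGE hK.toEnd_bijective
      ext_self_subsingleton := fun i hi =>
        hdesc K hBF i (hK.ext_self_subsingleton i hi) }
  have key : ∀ φ : Dual.inD A M ⟶ K⟦i⟧, φ = 0 := by
    intro φ
    rcases hi with hi | hi
    · have : (K⟦i⟧).IsGE (a₀ - i) :=
        DerivedCategory.TStructure.t.isGE_shift K a₀ i (a₀ - i) (by lia)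
      exact DerivedCategory.TStructure.t.zero_of_isLE_of_isGE φ 0 (a₀ - i) (by lia)
        inferInstance this
    · exact HomFinite.hom_shift_eq_zero (Dual.inD A M) 0 K a₀ b₀ hIA i (by lia) φ
  rw [key φ, key ψ]

end Descent

end Groth.Agent.Lib.Helper89.BCHom
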