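import Mathlib
import Groth.Agent.Lib.Helper89.BCHom4

/-!
# A Bass-type criterion: vanishing of `Ext^i(B/n, K)` for maximal `n` implies vanishing for all
cyclic modules (helper89)
-/

set_option autoImplicit false
set_option linter.style.haveILetI false
universe u

open CategoryTheory CategoryTheory.Limits CategoryTheory.Pretriangulated DerivedCategory

attribute [local instance] HasDerivedCategory.standard

namespace Groth.Agent.Lib.Helper89.Bass

open Groth.Agent.Lib.Helper84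

variable {R : Type u} [CommRing R]

section Generic

theorem eq_zero_shift_neg_one (X L : Dual.D R) (i : ℤ) (h : Subsingleton (X ⟶ L⟦i + 1⟧))
    (φ : X⟦(-1 : ℤ)⟧ ⟶ L⟦i⟧) : φ = 0 := by
  let u : X ≅ (X⟦(-1 : ℤ)⟧)⟦(1 : ℤ)⟧ :=
    ((shiftFunctorCompIsoId (Dual.D R) (-1 : ℤ) 1 (by norm_num)).app X).symm
  let v : (L⟦i⟧)⟦(1 : ℤ)⟧ ≅ L⟦i + 1⟧ := ((shiftFunctorAdd' (Dual.D R) i 1 (i + 1) rfl).app L).symm
  have h1 : u.hom ≫ φ⟦(1 : ℤ)⟧' ≫ v.hom = 0 := Subsingleton.elim _ _
  have h2 : φ⟦(1 : ℤ)⟧' = 0 := by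
    have := congrArg (fun x => u.inv ≫ x ≫ v.inv) h1
    simpa using this
  exact (shiftFunctor (Dual.D R) (1 : ℤ)).map_injective (h2.trans (Functor.map_zero _ _ _).symm)

end Generic

section P

variable (K : Dual.D R) (b : ℤ)

/-- vanishing of `Hom(N[0], K[i])` for `i > b` -/
def P (N : Type u) [AddCommGroup N] [Module R N] : Prop :=
  ∀ i : ℤ, b < i → Subsingleton (Dual.inD R N ⟶ K⟦i⟧)

variable {K b}

theorem P_iso {N N' : Type u} [AddCommGroup N] [Module R N] [AddCommGroup N'] [Module R N']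
    (e : N ≃ₗ[R] N') (h : P K b N) : P K b N' := by
  intro i hi
  have h1 := h i hi
  let e' : Dual.inD R N' ≅ Dual.inD R N :=
    (singleFunctor (ModuleCat.{u} R) 0).mapIso e.symm.toModuleIso
  exact @Equiv.subsingleton _ _ (e'.homCongr (Iso.refl (K⟦i⟧))) h1

theorem P_zero (N : Type u) [AddCommGroup N] [Module R N] [Subsingleton N] : P K b N := by
  intro i _
  have hz : IsZero (Dual.inD R N) :=
    (singleFunctor (ModuleCat.{u} R) 0).map_isZero (ModuleCat.isZero_of_subsingleton _)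
  exact ⟨fun φ ψ => hz.eq_of_src _ _⟩

theorem P_ses {N : Type u} [AddCommGroup N] [Module R N] (S : Submodule R N) (h1 : P K b S)
    (h3 : P K b (N ⧸ S)) : P K b N := by
  intro i hi
  let SC : ShortComplex (ModuleCat.{u} R) :=
    ShortComplex.mk (ModuleCat.ofHom S.subtype) (ModuleCat.ofHom S.mkQ) (by
      ext x
      simp)
  have hSC : SC.ShortExact :=
    { exact := by
        rw [ShortComplex.ShortExact.moduleCat_exact_iff_function_exact]
        intro x
        change S.mkQ x = 0 ↔ x ∈ Set.range S.subtype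
        simp
      mono_f := (ModuleCat.mono_iff_injective _).mpr S.injective_subtype
      epi_g := (ModuleCat.epi_iff_surjective _).mpr S.mkQ_surjective }
  have hT := hSC.singleTriangle_distinguished
  have key : ∀ φ : Dual.inD R N ⟶ K⟦i⟧, φ = 0 := by
    intro φ
    have h0 : hSC.singleTriangle.mor₁ ≫ φ = 0 := (h1 i hi).elim _ _
    obtain ⟨ψ, hψ⟩ := Triangle.yoneda_exact₂ _ hT φ h0
    have hψ0 : ψ = 0 := (h3 i hi).elim ψ 0
    rw [hψ, hψ0]
    exact comp_zero
  exact ⟨fun φ ψ => (key φ).trans (key ψ).symm⟩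

theorem exists_smul_of_P {N : Type u} [AddCommGroup N] [Module R N] (x : R)
    (hx : ∀ n : N, x • n = 0 → n = 0)
    (h3 : P K b (N ⧸ LinearMap.range (x • (LinearMap.id : N →ₗ[R] N))))
    (i : ℤ) (hi : b < i) (φ : Dual.inD R N ⟶ K⟦i⟧) :
    ∃ ψ : Dual.inD R N ⟶ K⟦i⟧, φ = x • ψ := by
  let m : N →ₗ[R] N := x • LinearMap.id
  let SC : ShortComplex (ModuleCat.{u} R) :=
    ShortComplex.mk (ModuleCat.ofHom m) (ModuleCat.ofHom (LinearMap.range m).mkQ) (by
      ext n
      change (LinearMap.range m).mkQ (m n) = 0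
      rw [Submodule.mkQ_apply, Submodule.Quotient.mk_eq_zero]
      exact ⟨n, rfl⟩)
  have hSC : SC.ShortExact :=
    { exact := by
        rw [ShortComplex.ShortExact.moduleCat_exact_iff_function_exact]
        intro y
        change (LinearMap.range m).mkQ y = 0 ↔ y ∈ Set.range m
        rw [Submodule.mkQ_apply, Submodule.Quotient.mk_eq_zero]
        rfl
      mono_f := (ModuleCat.mono_iff_injective _).mpr (by
        intro n n' h
        have h1 : x • (n - n') = 0 := by
          rw [smul_sub]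
          exact sub_eq_zero.2 h
        exact sub_eq_zero.1 (hx _ h1))
      epi_g := (ModuleCat.epi_iff_surjective _).mpr (LinearMap.range m).mkQ_surjective }
  have hT := hSC.singleTriangle_distinguished
  have hR := inv_rot_of_distTriang _ hT
  have h0 : hSC.singleTriangle.invRotate.mor₁ ≫ φ = 0 :=
    eq_zero_shift_neg_one hSC.singleTriangle.obj₃ K i (h3 (i + 1) (by lia)) _
  obtain ⟨ψ, hψ⟩ : ∃ ψ : Dual.inD R N ⟶ K⟦i⟧,
      φ = (singleFunctor (ModuleCat.{u} R) 0).map (ModuleCat.ofHom m) ≫ ψ :=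
    Triangle.yoneda_exact₂ _ hR φ h0
  refine ⟨ψ, ?_⟩
  have hm : (singleFunctor (ModuleCat.{u} R) 0).map (ModuleCat.ofHom m) =
      x • 𝟙 ((singleFunctor (ModuleCat.{u} R) 0).obj (ModuleCat.of R N)) := by
    have : ModuleCat.ofHom m = x • 𝟙 (ModuleCat.of R N) := rfl
    rw [this, Functor.map_smul, CategoryTheory.Functor.map_id]
  rw [hψ, hm, Linear.smul_comp, Category.id_comp]

end P

section Main

variable {K : Dual.D R} {b : ℤ} [IsNoetherianRing R]

theorem quot_equiv (J : Ideal R) (S : Submodule R (R ⧸ J)) :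
    ∃ J₂ : Ideal R, J ≤ J₂ ∧ (∀ r : R, (Submodule.Quotient.mk r : R ⧸ J) ∈ S → r ∈ J₂) ∧
      Nonempty (((R ⧸ J) ⧸ S) ≃ₗ[R] (R ⧸ J₂)) := by
  refine ⟨S.comap J.mkQ, ?_, fun r hr => hr, ⟨?_⟩⟩
  · intro r hr
    change J.mkQ r ∈ S
    rw [Submodule.mkQ_apply, (Submodule.Quotient.mk_eq_zero J).2 hr]
    exact S.zero_mem
  · have hle : J ≤ S.comap J.mkQ := by
      intro r hr
      change J.mkQ r ∈ S
      rw [Submodule.mkQ_apply, (Submodule.Quotient.mk_eq_zero J).2 hr]
      exact S.zero_mem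
    have h : (S.comap J.mkQ).map J.mkQ = S :=
      Submodule.map_comap_eq_of_surjective J.mkQ_surjective S
    exact (Submodule.quotEquivOfEq _ _ h).symm ≪≫ₗ
      Submodule.quotientQuotientEquivQuotient J (S.comap J.mkQ) hle

theorem bass (hK : HomFinite.BddFin K)
    (hmax : ∀ n : Ideal R, n.IsMaximal → P K b (R ⧸ n)) : ∀ J : Ideal R, P K b (R ⧸ J) := by
  intro J
  refine IsNoetherian.induction (P := fun J : Ideal R => P K b (R ⧸ J)) (fun (J : Ideal R) ih => ?_) J
  by_cases htop : J = ⊤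
  · haveI : Subsingleton (R ⧸ J) := Ideal.Quotient.subsingleton_iff.2 htop
    exact P_zero _
  by_cases hmaxJ : J.IsMaximal
  · exact hmax J hmaxJ
  by_cases hprime : J.IsPrime
  · -- the prime, non-maximal case
    intro i hi
    haveI : IsNoetherian R (Dual.inD R (R ⧸ J) ⟶ K⟦i⟧) :=
      HomFinite.noeth_of_bddFin _ K (BCHom.bddFin_inD (R ⧸ J)) hK i
    by_contra hns
    have hAnn : Module.annihilator R (Dual.inD R (R ⧸ J) ⟶ K⟦i⟧) ≠ ⊤ := by
      intro h
      apply hns
      have h1 : (1 : R) ∈ Module.annihilator R (Dual.inD R (R ⧸ J) ⟶ K⟦i⟧) := h ▸ Submodule.mem_top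
      have h2 := Module.mem_annihilator.1 h1
      refine ⟨fun φ ψ => ?_⟩
      rw [← one_smul R φ, ← one_smul R ψ, h2 φ, h2 ψ]
    obtain ⟨n, hn, hle⟩ := Ideal.exists_le_maximal _ hAnn
    have hJA : J ≤ Module.annihilator R (Dual.inD R (R ⧸ J) ⟶ K⟦i⟧) := by
      intro a ha
      rw [Module.mem_annihilator]
      intro φ
      have h1 : a • 𝟙 (ModuleCat.of R (R ⧸ J)) = 0 := by
        refine ModuleCat.hom_ext (LinearMap.ext fun (y : R ⧸ J) => ?_)
        obtain ⟨r, rfl⟩ := Submodule.Quotient.mk_surjective J y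
        change a • (Submodule.Quotient.mk r : R ⧸ J) = 0
        rw [← Submodule.Quotient.mk_smul, Submodule.Quotient.mk_eq_zero]
        exact J.mul_mem_right r ha
      have h2 : a • 𝟙 (Dual.inD R (R ⧸ J)) = 0 := by
        rw [← CategoryTheory.Functor.map_id, ← Functor.map_smul, h1, Functor.map_zero]
      rw [← Category.id_comp φ, ← Linear.smul_comp, h2, zero_comp]
    have hJn : J ≤ n := hJA.trans hle
    have hne : J ≠ n := fun h => hmaxJ (h ▸ hn)
    obtain ⟨x, hxn, hxJ⟩ : ∃ x ∈ n, x ∉ J := SetLike.exists_of_lt (lt_of_le_of_ne hJn hne)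
    have hxinj : ∀ y : R ⧸ J, x • y = 0 → y = 0 := by
      intro y hy
      obtain ⟨r, rfl⟩ := Submodule.Quotient.mk_surjective J y
      rw [← Submodule.Quotient.mk_smul, Submodule.Quotient.mk_eq_zero] at hy
      rw [Submodule.Quotient.mk_eq_zero]
      rcases hprime.mem_or_mem hy with h | h
      · exact absurd h hxJ
      · exact h
    obtain ⟨J₂, hJ₂le, hJ₂mem, ⟨e⟩⟩ := quot_equiv J
      (LinearMap.range (x • (LinearMap.id : (R ⧸ J) →ₗ[R] (R ⧸ J))))
    have hxJ₂ : x ∈ J₂ := by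
      apply hJ₂mem
      refine ⟨Submodule.Quotient.mk 1, ?_⟩
      change x • (Submodule.Quotient.mk 1 : R ⧸ J) = _
      rw [← Submodule.Quotient.mk_smul, smul_eq_mul, mul_one]
    have hJ₂ : J < J₂ := lt_of_le_of_ne hJ₂le (fun h => hxJ (h ▸ hxJ₂))
    have h3 : P K b ((R ⧸ J) ⧸ LinearMap.range (x • (LinearMap.id : (R ⧸ J) →ₗ[R] (R ⧸ J)))) :=
      P_iso e.symm (ih J₂ hJ₂)
    have hsm : (⊤ : Submodule R (Dual.inD R (R ⧸ J) ⟶ K⟦i⟧)) ≤ (Ideal.span {x}) • ⊤ := by
      intro φ _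
      obtain ⟨ψ, rfl⟩ := exists_smul_of_P x hxinj h3 i hi φ
      exact Submodule.smul_mem_smul (Ideal.subset_span rfl) Submodule.mem_top
    obtain ⟨r, hr1, hr2⟩ := Submodule.exists_sub_one_mem_and_smul_eq_zero_of_fg_of_le_smul
      (Ideal.span {x}) ⊤ (IsNoetherian.noetherian ⊤) hsm
    have hrA : r ∈ Module.annihilator R (Dual.inD R (R ⧸ J) ⟶ K⟦i⟧) :=
      Module.mem_annihilator.2 fun φ => hr2 φ Submodule.mem_top
    have hrn : r ∈ n := hle hrA
    have hr1n : r - 1 ∈ n := ((Ideal.span_singleton_le_iff_mem n).2 hxn) hr1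
    have h1n : (1 : R) ∈ n := by
      have := n.sub_mem hrn hr1n
      simpa using this
    exact hn.ne_top ((Ideal.eq_top_iff_one _).2 h1n)
  · -- the non-prime case
    obtain h | ⟨a, ha, c, hc, hac⟩ := Ideal.not_isPrime_iff.1 hprime
    · exact absurd h htop
    let fa : R →ₗ[R] (R ⧸ J) := LinearMap.toSpanSingleton R (R ⧸ J) (Submodule.Quotient.mk a)
    have hfa : ∀ r : R, fa r = Submodule.Quotient.mk (r * a) := fun r => by
      change r • (Submodule.Quotient.mk a : R ⧸ J) = _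
      rw [← Submodule.Quotient.mk_smul, smul_eq_mul]
    have hJ₁ : J < LinearMap.ker fa := by
      refine lt_of_le_of_ne (fun r hr => ?_) (fun h => hc ?_)
      · rw [LinearMap.mem_ker, hfa, Submodule.Quotient.mk_eq_zero]
        exact J.mul_mem_right a hr
      · rw [h, LinearMap.mem_ker, hfa, Submodule.Quotient.mk_eq_zero, mul_comm]
        exact hac
    obtain ⟨J₂, hJ₂le, hJ₂mem, ⟨e₂⟩⟩ := quot_equiv J (LinearMap.range fa)
    have haJ₂ : a ∈ J₂ := by
      apply hJ₂mem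
      exact ⟨1, by rw [hfa, one_mul]⟩
    have hJ₂ : J < J₂ := lt_of_le_of_ne hJ₂le (fun h => ha (h ▸ haJ₂))
    exact P_ses (LinearMap.range fa) (P_iso fa.quotKerEquivRange (ih _ hJ₁))
      (P_iso e₂.symm (ih J₂ hJ₂))

end Main

end Groth.Agent.Lib.Helper89.Bass
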