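import Mathlib
import Groth.Agent.Lib.Helper89.Bass1
import Groth.Agent.Lib.Helper25.TrivDual2

/-!
# Ascent of dualizing complexes along flat maps with `n = m B` for all maximal `n` (helper89)
-/

set_option autoImplicit false
set_option linter.style.haveILetI false
universe u

open CategoryTheory CategoryTheory.Limits CategoryTheory.Pretriangulated DerivedCategory TensorProduct

attribute [local instance] HasDerivedCategory.standard

namespace Groth.Agent.Lib.Helper89.Bass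

open Groth.Agent.Lib.Helper84 Groth.Agent.Lib.Helper89.BCHom

section Generic

variable {R : Type u} [CommRing R]

/-- finite injective dimension (all modules) from vanishing on cyclic modules -/
theorem fid_of_cyclic (K : Dual.D R) (a₀ b₀ : ℤ)
    (Hcyc : ∀ (I : Ideal R) (i : ℤ), (i < a₀ ∨ b₀ < i) →
      ∀ φ : (singleFunctor (ModuleCat.{u} R) i).obj (ModuleCat.of R (R ⧸ I)) ⟶ K, φ = 0)
    (M : Type u) [AddCommGroup M] [Module R M] (i : ℤ) (hi : i < a₀ ∨ b₀ < i) :
    Subsingleton (Dual.inD R M ⟶ K⟦i⟧) := by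
  have hIA : DRing.HasInjAmplitudeIn R a₀ b₀ K :=
    DRingInjAmp.hasInjAmplitudeIn_of_vanishing K a₀ b₀ Hcyc
  have hGE₀ : K.IsGE a₀ := DRingBasic.isGE_of_subsingleton K a₀
    (fun i hi => DRingInjAmp.subsingleton_HD_of_hom_eq_zero K i (Hcyc ⊥ i (Or.inl hi)))
  have key : ∀ φ : Dual.inD R M ⟶ K⟦i⟧, φ = 0 := by
    intro φ
    rcases hi with hi | hi
    · have : (K⟦i⟧).IsGE (a₀ - i) :=
        DerivedCategory.TStructure.t.isGE_shift K a₀ i (a₀ - i) (by lia)
      exact DerivedCategory.TStructure.t.zero_of_isLE_of_isGE φ 0 (a₀ - i) (by lia)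
        inferInstance this
    · exact HomFinite.hom_shift_eq_zero (Dual.inD R M) 0 K a₀ b₀ hIA i (by lia) φ
  exact ⟨fun φ ψ => (key φ).trans (key ψ).symm⟩

/-- a dualizing complex is bounded below by its injective amplitude -/
theorem isGE_of_fid (K : Dual.D R) (a₀ b₀ : ℤ)
    (h : ∀ (M : Type u) [AddCommGroup M] [Module R M] (i : ℤ),
      (i < a₀ ∨ b₀ < i) → Subsingleton (Dual.inD R M ⟶ K⟦i⟧)) : K.IsGE a₀ :=
  DRingBasic.isGE_of_subsingleton K a₀
    (fun i hi => DRingInjAmp.subsingleton_HD_of_hom_eq_zero K i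
      (fun φ => eq_zero_of_subsingleton_shift _ K i (h (R ⧸ (⊥ : Ideal R)) i (Or.inl hi)) φ))

end Generic

section Ascent

variable {A B : Type u} [CommRing A] [CommRing B] (f : A →+* B) [IsNoetherianRing A]
  [PreservesFiniteLimits (FlatBC.ext f)]

/-- ascent of `A ≅ End(K)` -/
theorem toEnd_bijective_bc (hf : f.Flat) (K : Dual.D A) (hK : HomFinite.BddFin K)
    (c : ℤ) (hKc : K.IsGE c) (h : Function.Bijective (fun a : A => a • 𝟙 K)) :
    Function.Bijective (fun b : B => b • 𝟙 ((FlatBC.bc f).obj K)) := by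
  letI := f.toAlgebra
  haveI : Module.Flat A B := hf
  obtain ⟨hi, hs⟩ := bij_of_bddFin f hf K K hK c hKc
  let φA : A →ₗ[A] (K ⟶ K) := LinearMap.toSpanSingleton A (K ⟶ K) (𝟙 K)
  have hcomp : (fun b : B => b • 𝟙 ((E A B).obj K)) =
      (Θ B K K) ∘ (φA.lTensor B) ∘ (TensorProduct.rid A B).symm := by
    funext b
    simp only [Function.comp_apply, TensorProduct.rid_symm_apply, LinearMap.lTensor_tmul]
    rw [show φA 1 = 𝟙 K from one_smul _ _, Θ_tmul, CategoryTheory.Functor.map_id]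
  have hΘ : Function.Bijective (Θ B K K) := ⟨hi, hs⟩
  have h2 : Function.Bijective (φA.lTensor B) := by
    let e : A ≃ₗ[A] (K ⟶ K) := LinearEquiv.ofBijective φA h
    exact (e.lTensor B).bijective
  change Function.Bijective (fun b : B => b • 𝟙 ((E A B).obj K))
  rw [hcomp]
  exact hΘ.comp (h2.comp (TensorProduct.rid A B).symm.bijective)

variable [IsNoetherianRing B]

/-- **ascent of dualizing complexes** along a flat map such that every maximal ideal of `B` is
extended from `A` -/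
theorem isDualizing_bc (hf : f.Flat)
    (hmax : ∀ n : Ideal B, n.IsMaximal → ∃ m : Ideal A, n = m.map f)
    (ω : Dual.D A) (hω : Dual.IsDualizing A ω) :
    Dual.IsDualizing B ((FlatBC.bc f).obj ω) := by
  letI := f.toAlgebra
  haveI : Module.Flat A B := hf
  obtain ⟨J, a, b, hJ, hJz, ⟨eJ⟩⟩ :=
    Groth.Agent.Lib.Helper25.Bidual.exists_bounded_injective_model ω hω
  have hvan : ∀ i : ℤ, (i < a ∨ b < i) →
      IsZero ((homologyFunctor (ModuleCat.{u} A) i).obj ω) := fun i hi =>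
    IsZero.of_iso (HomFinite.isZero_homology_Q J i (hJz i hi))
      ((homologyFunctor (ModuleCat.{u} A) i).mapIso eJ.symm)
  have hBF : HomFinite.BddFin ω := ⟨⟨a, b, hvan⟩, hω.finite_cohomology⟩
  have hGE : ω.IsGE a := (DerivedCategory.isGE_iff ω a).2 fun i hi => hvan i (Or.inl hi)
  have hGEs : ∀ i : ℤ, (ω⟦i⟧).IsGE (a - i) := fun i =>
    DerivedCategory.TStructure.t.isGE_shift ω a i (a - i) (by lia)
  have hfinB : ∀ i : ℤ, Module.Finite B (Dual.HD B ((FlatBC.bc f).obj ω) i) := fun i =>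
    Groth.Agent.Lib.Helper25.TrivDual.finite_homology_bc f ω i (hω.finite_cohomology i)
  have hvanB : ∀ i : ℤ, (i < a ∨ b < i) →
      IsZero ((homologyFunctor (ModuleCat.{u} B) i).obj ((FlatBC.bc f).obj ω)) := fun i hi =>
    IsZero.of_iso ((FlatBC.ext f).map_isZero (hvan i hi)) ((kappa f i).app ω)
  have hBFB : HomFinite.BddFin ((FlatBC.bc f).obj ω) := ⟨⟨a, b, hvanB⟩, hfinB⟩
  -- ascent of vanishing
  have hasc : ∀ (M : Dual.D A) (_ : HomFinite.BddFin M) (i : ℤ), Subsingleton (M ⟶ ω⟦i⟧) →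
      Subsingleton ((FlatBC.bc f).obj M ⟶ ((FlatBC.bc f).obj ω)⟦i⟧) := by
    intro M hM i h
    have h1 := subsingleton_bc f hf M (ω⟦i⟧) hM (a - i) (hGEs i) h
    exact @Equiv.subsingleton _ _
      ((Iso.refl ((FlatBC.bc f).obj M)).homCongr (((FlatBC.bc f).commShiftIso i).app ω).symm) h1
  obtain ⟨a₀, b₀, hab₀⟩ := hω.finite_injective_dimension
  -- residue fields of maximal ideals
  have hmaxP : ∀ n : Ideal B, n.IsMaximal → ∀ i : ℤ, (i < a₀ ∨ b₀ < i) →
      Subsingleton (Dual.inD B (B ⧸ n) ⟶ ((FlatBC.bc f).obj ω)⟦i⟧) := by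
    intro n hn i hi
    obtain ⟨m, rfl⟩ := hmax n hn
    have h1 := hasc (Dual.inD A (A ⧸ m)) (bddFin_inD (A ⧸ m)) i (hab₀ (A ⧸ m) i hi)
    let e : Dual.inD B (B ⧸ m.map f) ≅ (FlatBC.bc f).obj (Dual.inD A (A ⧸ m)) :=
      (singleFunctor (ModuleCat.{u} B) 0).mapIso
        (Algebra.TensorProduct.quotIdealMapEquivTensorQuotAux B m).toModuleIso ≪≫
      (FlatBC.bcSingle f (ModuleCat.of A (A ⧸ m)) 0).symm
    exact @Equiv.subsingleton _ _ (e.homCongr (Iso.refl _)) h1
  have hbass := bass (K := (FlatBC.bc f).obj ω) (b := b₀) hBFB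
    (fun n hn i hi => hmaxP n hn i (Or.inr hi))
  have hGE₀ : ω.IsGE a₀ := isGE_of_fid ω a₀ b₀ hab₀
  have hGEB : ((FlatBC.bc f).obj ω).IsGE a₀ := FlatBC.isGE_bc f ω a₀
  have Hcyc : ∀ (I : Ideal B) (i : ℤ), (i < a₀ ∨ b₀ < i) →
      ∀ φ : (singleFunctor (ModuleCat.{u} B) i).obj (ModuleCat.of B (B ⧸ I)) ⟶
        (FlatBC.bc f).obj ω, φ = 0 := by
    intro I i hi φ
    rcases hi with hi | hi
    · exact DerivedCategory.TStructure.t.zero_of_isLE_of_isGE φ i a₀ hi inferInstance hGEB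
    · exact eq_zero_of_subsingleton_shift _ _ i (hbass I i hi) φ
  exact
    { isNoetherianRing := inferInstance
      finite_injective_dimension := ⟨a₀, b₀, fun M _ _ i hi => fid_of_cyclic _ a₀ b₀ Hcyc M i hi⟩
      finite_cohomology := hfinB
      toEnd_bijective := toEnd_bijective_bc f hf ω hBF a hGE hω.toEnd_bijective
      ext_self_subsingleton := fun i hi => hasc ω hBF i (hω.ext_self_subsingleton i hi) }

end Ascent

section Normalized

variable {A B : Type u} [CommRing A] [CommRing B] (f : A →+* B) [IsNoetherianRing A]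
  [PreservesFiniteLimits (FlatBC.ext f)]

/-- the residue field as a quotient module -/
noncomputable def residueEquiv (R : Type u) [CommRing R] [IsLocalRing R] :
    (R ⧸ IsLocalRing.maximalIdeal R) ≃ₗ[R] IsLocalRing.ResidueField R :=
  { toFun := fun x => x
    invFun := fun x => x
    map_add' := fun _ _ => rfl
    map_smul' := fun _ _ => rfl
    left_inv := fun _ => rfl
    right_inv := fun _ => rfl }

theorem subsingleton_inD_bc (hf : f.Flat) (ω : Dual.D A) (a : ℤ) (hGE : ω.IsGE a) (m : Ideal A)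
    (i : ℤ) (h : Subsingleton (Dual.inD A (A ⧸ m) ⟶ ω⟦i⟧)) :
    Subsingleton (Dual.inD B (B ⧸ m.map f) ⟶ ((FlatBC.bc f).obj ω)⟦i⟧) := by
  letI := f.toAlgebra
  haveI : Module.Flat A B := hf
  have hGEs : (ω⟦i⟧).IsGE (a - i) :=
    DerivedCategory.TStructure.t.isGE_shift ω a i (a - i) (by lia)
  have h1 := subsingleton_bc f hf (Dual.inD A (A ⧸ m)) (ω⟦i⟧) (bddFin_inD (A ⧸ m)) (a - i) hGEs h
  have h2 : Subsingleton ((FlatBC.bc f).obj (Dual.inD A (A ⧸ m)) ⟶ ((FlatBC.bc f).obj ω)⟦i⟧) :=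
    @Equiv.subsingleton _ _
      ((Iso.refl ((FlatBC.bc f).obj (Dual.inD A (A ⧸ m)))).homCongr
        (((FlatBC.bc f).commShiftIso i).app ω).symm) h1
  let e : Dual.inD B (B ⧸ m.map f) ≅ (FlatBC.bc f).obj (Dual.inD A (A ⧸ m)) :=
    (singleFunctor (ModuleCat.{u} B) 0).mapIso
      (Algebra.TensorProduct.quotIdealMapEquivTensorQuotAux B m).toModuleIso ≪≫
    (FlatBC.bcSingle f (ModuleCat.of A (A ⧸ m)) 0).symm
  exact @Equiv.subsingleton _ _ (e.homCongr (Iso.refl _)) h2

theorem isNormalized_bc [IsLocalRing A] [IsLocalRing B] (hf : f.Flat)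
    (hm : (IsLocalRing.maximalIdeal A).map f = IsLocalRing.maximalIdeal B)
    (ω : Dual.D A) (hω : Dual.IsDualizing A ω) (hn : Dual.IsNormalized A ω) :
    Dual.IsNormalized B ((FlatBC.bc f).obj ω) := by
  intro i hi
  obtain ⟨a₀, b₀, hab₀⟩ := hω.finite_injective_dimension
  have hGE₀ : ω.IsGE a₀ := isGE_of_fid ω a₀ b₀ hab₀
  have h0 := hn i hi
  let eA : Dual.inD A (A ⧸ IsLocalRing.maximalIdeal A) ≅ Dual.inD A (IsLocalRing.ResidueField A) :=
    (singleFunctor (ModuleCat.{u} A) 0).mapIso (residueEquiv A).toModuleIso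
  have h1 : Subsingleton (Dual.inD A (A ⧸ IsLocalRing.maximalIdeal A) ⟶ ω⟦i⟧) :=
    @Equiv.subsingleton _ _ (eA.homCongr (Iso.refl _)) h0
  have h2 := subsingleton_inD_bc f hf ω a₀ hGE₀ (IsLocalRing.maximalIdeal A) i h1
  let eB : Dual.inD B (IsLocalRing.ResidueField B) ≅
      Dual.inD B (B ⧸ (IsLocalRing.maximalIdeal A).map f) :=
    (singleFunctor (ModuleCat.{u} B) 0).mapIso
      ((residueEquiv B).symm ≪≫ₗ (Submodule.quotEquivOfEq _ _ hm).symm).toModuleIso
  exact @Equiv.subsingleton _ _ (eB.homCongr (Iso.refl _)) h2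

end Normalized

end Groth.Agent.Lib.Helper89.Bass
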