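import Groth.Agent.Lib.Helper89.Norm1
import Groth.Agent.Lib.Helper89.Bass2
import Groth.Agent.Lib.Helper25.TrivDual3
import Groth.Agent.Lib.Helper25.LocDual.DimFun
import Groth.Agent.Lib.Helper25.Bidual.RightAdj
import Groth.Agent.Lib.Helper39.Dual.UnivCat

/-!
# Normalization of `φ^! ω` at maximal ideals over the closed point (helper89)

* `subsingleton_of_localized` : a Hom-module out of `A/m` (`m` maximal) vanishes as soon as its
  localization at `m` does.
* `core` : if `W` is a dualizing complex on `P = R[x_1..x_n]` (`R` local) with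
  `Ext^i(P/m_R P, W) = 0` for `i ≠ 0`, then `Ext^i(P/M, W) = 0` for `i ≠ n` and every maximal ideal
  `M ⊇ m_R P`.  (dimension function of helper25 along a saturated chain of length `n` in `κ[x]`)
* `shriek_normalized` : the resulting vanishing for `R(W)[n]` over a quotient `A` of `P`.
-/

set_option autoImplicit false
universe u

namespace Groth.Agent.Lib.Helper89.Norm

open CategoryTheory CategoryTheory.Limits DerivedCategory
open Groth.Agent.Lib.Helper84 Groth.Agent.Lib.Helper25.Bidual Groth.Agent.Lib.Helper25.LocDual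
open Groth.Agent.Lib.Helper25.TrivDual Groth.Agent.Lib.Helper39.Dual.EssFT

attribute [local instance] HasDerivedCategory.standard

section Kill

variable {A : Type u} [CommRing A]

theorem smul_hom_quot_eq_zero (J : Ideal A) (Y : Dual.D A) (a : A) (ha : a ∈ J)
    (φ : Dual.inD A (A ⧸ J) ⟶ Y) : a • φ = 0 := by
  have h1 : a • 𝟙 (ModuleCat.of A (A ⧸ J)) = 0 := by
    refine ModuleCat.hom_ext (LinearMap.ext fun (y : A ⧸ J) => ?_)
    obtain ⟨r, rfl⟩ := Submodule.Quotient.mk_surjective J y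
    change a • (Submodule.Quotient.mk r : A ⧸ J) = 0
    rw [← Submodule.Quotient.mk_smul, Submodule.Quotient.mk_eq_zero]
    exact J.mul_mem_right r ha
  have h2 : a • 𝟙 (Dual.inD A (A ⧸ J)) = 0 := by
    rw [← CategoryTheory.Functor.map_id, ← Functor.map_smul, h1, Functor.map_zero]
  rw [← Category.id_comp φ, ← Linear.smul_comp, h2, zero_comp]

theorem subsingleton_of_localized (m : Ideal A) [hm : m.IsMaximal] (Y : Dual.D A)
    (h : ¬ Nontrivial (LocalizedModule m.primeCompl (Dual.inD A (A ⧸ m) ⟶ Y))) :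
    Subsingleton (Dual.inD A (A ⧸ m) ⟶ Y) := by
  rw [not_nontrivial_iff_subsingleton, LocalizedModule.subsingleton_iff] at h
  refine ⟨fun φ ψ => ?_⟩
  have key : ∀ χ : Dual.inD A (A ⧸ m) ⟶ Y, χ = 0 := by
    intro χ
    obtain ⟨r, hr, hrχ⟩ := h χ
    obtain ⟨y, i, hi, hyi⟩ := hm.exists_inv hr
    have h1 : (1 : A) • χ = 0 := by
      rw [← hyi, add_smul, mul_smul, hrχ, smul_zero, smul_hom_quot_eq_zero m Y i hi χ, add_zero]
    rwa [one_smul] at h1
  rw [key φ, key ψ]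

end Kill

section Core

variable (R : Type u) [CommRing R] [IsLocalRing R] [IsNoetherianRing R] (n : ℕ)

local notation "P" => MvPolynomial (Fin n) R

theorem core (W : Dual.D P) (hW : Dual.IsDualizing P W)
    (h0 : ∀ i : ℤ, i ≠ 0 → Subsingleton (Dual.inD P (P ⧸ I R n) ⟶ W⟦i⟧))
    (M : Ideal P) [hM : M.IsMaximal] (hIM : I R n ≤ M) (i : ℤ) (hi : i ≠ n) :
    Subsingleton (Dual.inD P (P ⧸ M) ⟶ W⟦i⟧) := by
  have hs : Function.Surjective (algebraMap P (P ⧸ I R n)) := Ideal.Quotient.mk_surjective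
  let Rπ := (DRing.restrictD (algebraMap P (P ⧸ I R n))).rightAdjoint
  let adj : DRing.restrictD (algebraMap P (P ⧸ I R n)) ⊣ Rπ := Adjunction.ofIsLeftAdjoint _
  have hX : Dual.IsDualizing (P ⧸ I R n) (Rπ.obj W) :=
    isDualizing_rightAdjoint (algebraMap P (P ⧸ I R n)) (RingHom.Finite.of_surjective _ hs) adj W hW
  obtain ⟨δ, hδ1, hδ2⟩ := dimFun_main (Rπ.obj W) hX
  -- the maximal ideal `M̄`
  have hMbar : (M.map (algebraMap P (P ⧸ I R n))).IsMaximal := by
    refine Ideal.IsMaximal.map_of_surjective_of_ker_le hs ?_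
    change RingHom.ker (Ideal.Quotient.mk (I R n)) ≤ M
    rw [Ideal.mk_ker]
    exact hIM
  let Mbar : PrimeSpectrum (P ⧸ I R n) := ⟨M.map (algebraMap P (P ⧸ I R n)), hMbar.isPrime⟩
  have hcomapM : Mbar.asIdeal.comap (algebraMap P (P ⧸ I R n)) = M :=
    Ideal.comap_map_mk hIM
  have hcomap0 : (⊥ : PrimeSpectrum (P ⧸ I R n)).asIdeal.comap (algebraMap P (P ⧸ I R n)) =
      I R n := by
    change Ideal.comap (Ideal.Quotient.mk (I R n)) ⊥ = I R n
    rw [← RingHom.ker_eq_comap_bot, Ideal.mk_ker]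
  obtain ⟨s, hs0, hs1, hsn, hcov⟩ := exists_chain R n Mbar hMbar
  have hchain := dimFun_chain δ hδ2 s hcov
  rw [hs0, hs1, hsn] at hchain
  -- `δ ⊥ = 0`
  have h0' : ∀ J : Ideal P, J = I R n → ∀ i : ℤ, i ≠ 0 →
      Subsingleton (Dual.inD P (P ⧸ J) ⟶ W⟦i⟧) := by
    rintro J rfl
    exact h0
  have hδ0 : δ ⊥ = 0 := by
    by_contra hne
    have h1 := (hδ1 ⊥ (-δ ⊥)).2 rfl
    rw [aux8970 P (P ⧸ I R n) hs Rπ adj W ⊥ (-δ ⊥)] at h1
    haveI := h0' _ hcomap0 (-δ ⊥) (by simpa using hne)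
    exact not_subsingleton _ (inferInstance :
      Subsingleton (LocalizedModule
        ((⊥ : PrimeSpectrum (P ⧸ I R n)).asIdeal.comap (algebraMap P (P ⧸ I R n))).primeCompl
        (Dual.inD P (P ⧸ (⊥ : PrimeSpectrum (P ⧸ I R n)).asIdeal.comap
          (algebraMap P (P ⧸ I R n))) ⟶ W⟦-δ ⊥⟧)))
  have hδM : δ Mbar = -(n : ℤ) := by lia
  have h2 : ¬ Nontrivial (LocalizedModule Mbar.asIdeal.primeCompl
      (Dual.inD (P ⧸ I R n) ((P ⧸ I R n) ⧸ Mbar.asIdeal) ⟶ (Rπ.obj W)⟦i⟧)) := by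
    rw [hδ1 Mbar i, hδM, neg_neg]
    exact hi
  rw [aux8970 P (P ⧸ I R n) hs Rπ adj W Mbar i] at h2
  have h3 : ∀ J : Ideal P, J = M → ∀ [J.IsMaximal],
      ¬ Nontrivial (LocalizedModule J.primeCompl (Dual.inD P (P ⧸ J) ⟶ W⟦i⟧)) →
      Subsingleton (Dual.inD P (P ⧸ M) ⟶ W⟦i⟧) := by
    rintro J rfl _ h
    exact subsingleton_of_localized J _ h
  haveI : (Mbar.asIdeal.comap (algebraMap P (P ⧸ I R n))).IsMaximal := hcomapM ▸ hM
  exact h3 _ hcomapM h2

end Core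

section Shriek

variable (R : Type u) [CommRing R] [IsLocalRing R] [IsNoetherianRing R] (n : ℕ)
  {A : Type u} [CommRing A]

local notation "P" => MvPolynomial (Fin n) R

theorem shriek_normalized (ψ : P →+* A) (hψ : Function.Surjective ψ)
    (Rψ : Dual.D P ⥤ Dual.D A) (adj : DRing.restrictD ψ ⊣ Rψ)
    (W : Dual.D P) (hW : Dual.IsDualizing P W)
    (h0 : ∀ i : ℤ, i ≠ 0 → Subsingleton (Dual.inD P (P ⧸ I R n) ⟶ W⟦i⟧))
    (m : Ideal A) [hm : m.IsMaximal] (hIm : I R n ≤ m.comap ψ) (i : ℤ) (hi : i ≠ 0) :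
    Subsingleton (Dual.inD A (A ⧸ m) ⟶ ((Rψ.obj W)⟦(n : ℤ)⟧)⟦i⟧) := by
  letI : Algebra P A := ψ.toAlgebra
  haveI hM : (m.comap ψ).IsMaximal := Ideal.comap_isMaximal_of_surjective ψ hψ
  have h1 := core R n W hW h0 (m.comap ψ) hIm ((n : ℤ) + i) (by lia)
  have h2 : ¬ Nontrivial (LocalizedModule (m.comap (algebraMap P A)).primeCompl
      (Dual.inD P (P ⧸ m.comap (algebraMap P A)) ⟶ W⟦(n : ℤ) + i⟧)) := by
    rw [not_nontrivial_iff_subsingleton]
    haveI : Subsingleton (Dual.inD P (P ⧸ m.comap (algebraMap P A)) ⟶ W⟦(n : ℤ) + i⟧) := h1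
    infer_instance
  have h3 := (aux8970 P A hψ Rψ adj W ⟨m, hm.isPrime⟩ ((n : ℤ) + i)).not.2 h2
  have h4 := subsingleton_of_localized m _ h3
  exact @Equiv.subsingleton _ _
    ((Iso.refl (Dual.inD A (A ⧸ m))).homCongr
      ((shiftFunctorAdd' (Dual.D A) (n : ℤ) i ((n : ℤ) + i) rfl).app (Rψ.obj W)).symm) h4

end Shriek

end Groth.Agent.Lib.Helper89.Norm
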