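import Mathlib
import Groth.Agent.Lib.Helper1.MvPolyHeight

/-!
# Saturated chains of primes in `κ[x_1..x_n]` (helper89)

Order-theoretic and ring-theoretic input for computing the dimension function of the base change of a
normalized dualizing complex to a polynomial ring.
-/

set_option autoImplicit false
universe u

namespace Groth.Agent.Lib.Helper89.Norm

section Order

theorem covBy_of_length_eq_height {α : Type*} [PartialOrder α] (p : LTSeries α)
    (h : (p.length : ℕ∞) = Order.height p.last) (i : Fin p.length) :
    p (Fin.castSucc i) ⋖ p (Fin.succ i) := by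
  refine ⟨p.strictMono (Fin.castSucc_lt_succ (i := i)), fun c h1 h2 => ?_⟩
  have e1 := Order.height_eq_index_of_length_eq_height_last h (Fin.castSucc i)
  have e2 := Order.height_eq_index_of_length_eq_height_last h (Fin.succ i)
  have l1 := Order.height_add_one_le h1
  have l2 := Order.height_add_one_le h2
  rw [e1] at l1
  rw [e2] at l2
  have l3 : ((Fin.castSucc i : ℕ) : ℕ∞) + 1 + 1 ≤ ((Fin.succ i : ℕ) : ℕ∞) :=
    (add_le_add_left l1 1).trans l2
  simp only [Fin.val_castSucc, Fin.val_succ] at l3
  norm_cast at l3
  omega

theorem head_isMin_of_length_eq_height {α : Type*} [PartialOrder α] (p : LTSeries α)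
    (h : (p.length : ℕ∞) = Order.height p.last) : IsMin p.head := by
  have e1 := Order.height_eq_index_of_length_eq_height_last h 0
  have e2 : Order.height p.head = 0 := by
    change Order.height (p 0) = 0
    simpa using e1
  exact Order.height_eq_zero.1 e2

end Order

section Ring

open MvPolynomial

variable (R : Type u) [CommRing R] [IsLocalRing R] (n : ℕ)

/-- the extension of the maximal ideal of `R` to `R[x_1..x_n]` -/
noncomputable abbrev I : Ideal (MvPolynomial (Fin n) R) :=
  (IsLocalRing.maximalIdeal R).map (algebraMap R (MvPolynomial (Fin n) R))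

/-- `R[x]/m R[x] ≃ κ[x]` -/
noncomputable def quotEquiv :
    (MvPolynomial (Fin n) R ⧸ I R n) ≃+*
      MvPolynomial (Fin n) (R ⧸ IsLocalRing.maximalIdeal R) :=
  (MvPolynomial.quotientEquivQuotientMvPolynomial (σ := Fin n)
    (IsLocalRing.maximalIdeal R)).symm.toRingEquiv

instance isDomain_quot : IsDomain (MvPolynomial (Fin n) R ⧸ I R n) :=
  (quotEquiv R n).toMulEquiv.isDomain _

theorem height_quot (M : Ideal (MvPolynomial (Fin n) R ⧸ I R n)) [hM : M.IsMaximal] :
    M.height = n := by
  letI : Field (R ⧸ IsLocalRing.maximalIdeal R) := Ideal.Quotient.field _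
  have h1 : (M.map (quotEquiv R n)).IsMaximal := Ideal.map_isMaximal_of_equiv (quotEquiv R n)
  have h2 := Groth.Agent.Lib.Helper1.Ci.height_of_isMaximal (R ⧸ IsLocalRing.maximalIdeal R) n
    (M.map (quotEquiv R n))
  rw [← h2]
  exact ((quotEquiv R n).height_map M).symm

/-- a saturated chain of primes of length `n` from `0` to a given maximal ideal of `κ[x_1..x_n]` -/
theorem exists_chain (M : PrimeSpectrum (MvPolynomial (Fin n) R ⧸ I R n))
    (hM : M.asIdeal.IsMaximal) :
    ∃ s : LTSeries (PrimeSpectrum (MvPolynomial (Fin n) R ⧸ I R n)),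
      s.head = ⊥ ∧ s.last = M ∧ s.length = n ∧
      ∀ i : Fin s.length, s (Fin.castSucc i) ⋖ s (Fin.succ i) := by
  haveI := hM
  have h1 : Order.height M = n := by
    rw [← PrimeSpectrum.height_eq_orderHeight]
    exact height_quot R n M.asIdeal
  obtain ⟨s, hs1, hs2⟩ := Order.exists_series_of_height_eq_coe M h1
  have h : (s.length : ℕ∞) = Order.height s.last := by rw [hs1, h1, hs2]
  refine ⟨s, ?_, hs1, hs2, covBy_of_length_eq_height s h⟩
  exact (head_isMin_of_length_eq_height s h).eq_bot

end Ring

end Groth.Agent.Lib.Helper89.Norm
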