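import Mathlib
import Groth.Agent.Lib.Helper89.Bass2

/-!
# Descent of dualizing complexes along a jointly faithfully flat finite family (helper89)
-/

set_option autoImplicit false
set_option linter.style.haveILetI false
universe u

open CategoryTheory CategoryTheory.Limits CategoryTheory.Pretriangulated DerivedCategory TensorProduct

attribute [local instance] HasDerivedCategory.standard

namespace Groth.Agent.Lib.Helper89.BCHom

open Groth.Agent.Lib.Helper84

section Family

variable {A : Type u} [CommRing A] [IsNoetherianRing A] {ι : Type} [Finite ι]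
  (B : ι → Type u) [∀ i, CommRing (B i)] [∀ i, IsNoetherianRing (B i)]
  (φ : ∀ i, A →+* B i) [∀ i, PreservesFiniteLimits (FlatBC.ext (φ i))]

/-- joint reflection of triviality (modules in `Type u`) -/
def J1u : Prop := ∀ (H : Type u) [AddCommGroup H] [Module A H],
  (∀ i, letI := (φ i).toAlgebra; Subsingleton (B i ⊗[A] H)) → Subsingleton H

/-- joint reflection of triviality (modules in `Type (u+1)`) -/
def J1v : Prop := ∀ (H : Type (u + 1)) [AddCommGroup H] [Module A H],
  (∀ i, letI := (φ i).toAlgebra; Subsingleton (B i ⊗[A] H)) → Subsingleton H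

/-- joint descent of finiteness -/
def J2 : Prop := ∀ (H : Type u) [AddCommGroup H] [Module A H],
  (∀ i, letI := (φ i).toAlgebra; Module.Finite (B i) (B i ⊗[A] H)) → Module.Finite A H

variable {B φ}

/-- descent of bijectivity of `A → H` -/
theorem bijective_of_lTensor (hflat : ∀ i, (φ i).Flat) (h1u : J1u B φ) (h1v : J1v B φ)
    (H : Type (u + 1)) [AddCommGroup H] [Module A H] (g : A →ₗ[A] H)
    (hg : ∀ i, letI := (φ i).toAlgebra; Function.Bijective (g.lTensor (B i))) :
    Function.Bijective g := by
  constructor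
  · -- injectivity
    haveI : Subsingleton (LinearMap.ker g) := by
      apply h1u
      intro i
      letI := (φ i).toAlgebra
      haveI : Module.Flat A (B i) := hflat i
      have hinj : Function.Injective ((LinearMap.ker g).subtype.lTensor (B i)) :=
        Module.Flat.lTensor_preserves_injective_linearMap _ (LinearMap.ker g).injective_subtype
      have hzero : ∀ t, (LinearMap.ker g).subtype.lTensor (B i) t = 0 := by
        intro t
        apply (hg i).1
        rw [map_zero, ← LinearMap.comp_apply, ← LinearMap.lTensor_comp]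
        have : g ∘ₗ (LinearMap.ker g).subtype = 0 := by
          ext x
          exact x.2
        rw [this, LinearMap.lTensor_zero, LinearMap.zero_apply]
      exact ⟨fun t t' => hinj ((hzero t).trans (hzero t').symm)⟩
    rw [← LinearMap.ker_eq_bot]
    exact Submodule.eq_bot_of_subsingleton
  · -- surjectivity
    haveI : Subsingleton (H ⧸ LinearMap.range g) := by
      apply h1v
      intro i
      letI := (φ i).toAlgebra
      have hsurj : Function.Surjective ((LinearMap.range g).mkQ.lTensor (B i)) :=
        LinearMap.lTensor_surjective _ (LinearMap.range g).mkQ_surjective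
      have hzero : ∀ t, (LinearMap.range g).mkQ.lTensor (B i) t = 0 := by
        intro t
        obtain ⟨s, rfl⟩ := (hg i).2 t
        rw [← LinearMap.comp_apply, ← LinearMap.lTensor_comp]
        have : (LinearMap.range g).mkQ ∘ₗ g = 0 := by
          ext x
          simp
        rw [this, LinearMap.lTensor_zero, LinearMap.zero_apply]
      refine ⟨fun t t' => ?_⟩
      obtain ⟨s, rfl⟩ := hsurj t
      obtain ⟨s', rfl⟩ := hsurj t'
      rw [hzero, hzero]
    rw [← LinearMap.range_eq_top]
    exact Submodule.Quotient.subsingleton_iff.1 inferInstance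

/-- **descent of dualizing complexes along a finite jointly faithfully flat family** -/
theorem isDualizing_of_bc_family (hflat : ∀ i, (φ i).Flat) (h1u : J1u B φ) (h1v : J1v B φ)
    (h2 : J2 B φ) (K : Dual.D A)
    (hK : ∀ i, Dual.IsDualizing (B i) ((FlatBC.bc (φ i)).obj K)) : Dual.IsDualizing A K := by
  -- cohomology
  have eH : ∀ (k : ι) (i : ℤ),
      (homologyFunctor (ModuleCat.{u} (B k)) i).obj ((FlatBC.bc (φ k)).obj K) ≅
      (FlatBC.ext (φ k)).obj ((homologyFunctor (ModuleCat.{u} A) i).obj K) :=
    fun k i => (kappa (φ k) i).app K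
  have hfin : ∀ i : ℤ, Module.Finite A (Dual.HD A K i) := by
    intro i
    apply h2
    intro k
    letI := (φ k).toAlgebra
    haveI := (hK k).finite_cohomology i
    exact Module.Finite.equiv (eH k i).toLinearEquiv
  choose J a_ b_ hJ hJz eJ using fun k =>
    Groth.Agent.Lib.Helper25.Bidual.exists_bounded_injective_model _ (hK k)
  obtain ⟨a, ha⟩ := Finite.bddBelow_range a_
  obtain ⟨b, hb⟩ := Finite.bddAbove_range b_
  have hvan : ∀ i : ℤ, (i < a ∨ b < i) →
      IsZero ((homologyFunctor (ModuleCat.{u} A) i).obj K) := by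
    intro i hi
    haveI : Subsingleton (Dual.HD A K i) := by
      apply h1u
      intro k
      letI := (φ k).toAlgebra
      have hi' : i < a_ k ∨ b_ k < i := by
        rcases hi with hi | hi
        · exact Or.inl (lt_of_lt_of_le hi (ha (Set.mem_range_self k)))
        · exact Or.inr (lt_of_le_of_lt (hb (Set.mem_range_self k)) hi)
      obtain ⟨e⟩ := eJ k
      have h1 : IsZero ((homologyFunctor (ModuleCat.{u} (B k)) i).obj
          ((FlatBC.bc (φ k)).obj K)) :=
        IsZero.of_iso (HomFinite.isZero_homology_Q (J k) i (hJz k i hi'))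
          ((homologyFunctor (ModuleCat.{u} (B k)) i).mapIso e.symm)
      have h2' : IsZero ((FlatBC.ext (φ k)).obj ((homologyFunctor (ModuleCat.{u} A) i).obj K)) :=
        IsZero.of_iso h1 (eH k i).symm
      exact ModuleCat.subsingleton_of_isZero h2'
    exact ModuleCat.isZero_of_subsingleton _
  have hBF : HomFinite.BddFin K := ⟨⟨a, b, hvan⟩, hfin⟩
  have hGE : K.IsGE a := (DerivedCategory.isGE_iff K a).2 fun i hi => hvan i (Or.inl hi)
  have hGEs : ∀ i : ℤ, (K⟦i⟧).IsGE (a - i) := fun i =>
    DerivedCategory.TStructure.t.isGE_shift K a i (a - i) (by lia)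
  -- descent of vanishing to shifts
  have hdesc : ∀ (M : Dual.D A) (_ : HomFinite.BddFin M) (i : ℤ),
      (∀ k, Subsingleton ((FlatBC.bc (φ k)).obj M ⟶ ((FlatBC.bc (φ k)).obj K)⟦i⟧)) →
        Subsingleton (M ⟶ K⟦i⟧) := by
    intro M hM i h
    apply h1v
    intro k
    letI := (φ k).toAlgebra
    have hi := (bij_of_bddFin (φ k) (hflat k) M (K⟦i⟧) hM (a - i) (hGEs i)).1
    have h1 : Subsingleton ((FlatBC.bc (φ k)).obj M ⟶ (FlatBC.bc (φ k)).obj (K⟦i⟧)) :=
      @Equiv.subsingleton _ _
        ((Iso.refl ((FlatBC.bc (φ k)).obj M)).homCongr (((FlatBC.bc (φ k)).commShiftIso i).app K))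
        (h k)
    exact ⟨fun t t' => hi (Subsingleton.elim
      (α := (FlatBC.bc (φ k)).obj M ⟶ (FlatBC.bc (φ k)).obj (K⟦i⟧)) _ _)⟩
  choose a₀_ b₀_ hab₀ using fun k => (hK k).finite_injective_dimension
  obtain ⟨a₀, ha₀⟩ := Finite.bddBelow_range a₀_
  obtain ⟨b₀, hb₀⟩ := Finite.bddAbove_range b₀_
  have Hcyc : ∀ (I : Ideal A) (i : ℤ), (i < a₀ ∨ b₀ < i) →
      ∀ ψ : (singleFunctor (ModuleCat.{u} A) i).obj (ModuleCat.of A (A ⧸ I)) ⟶ K, ψ = 0 := by
    intro I i hi ψ
    apply eq_zero_of_subsingleton_shift
    refine hdesc (Dual.inD A (A ⧸ I)) (bddFin_inD (A ⧸ I)) i (fun k => ?_)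
    have hi' : i < a₀_ k ∨ b₀_ k < i := by
      rcases hi with hi | hi
      · exact Or.inl (lt_of_lt_of_le hi (ha₀ (Set.mem_range_self k)))
      · exact Or.inr (lt_of_le_of_lt (hb₀ (Set.mem_range_self k)) hi)
    have h1 := hab₀ k ((FlatBC.ext (φ k)).obj (ModuleCat.of A (A ⧸ I))) i hi'
    exact @Equiv.subsingleton _ _
      ((FlatBC.bcSingle (φ k) (ModuleCat.of A (A ⧸ I)) 0).homCongr
        (Iso.refl (((FlatBC.bc (φ k)).obj K)⟦i⟧))) h1
  -- End(K)
  have hEnd : Function.Bijective (fun x : A => x • 𝟙 K) := by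
    let g : A →ₗ[A] (K ⟶ K) := LinearMap.toSpanSingleton A (K ⟶ K) (𝟙 K)
    refine bijective_of_lTensor hflat h1u h1v (K ⟶ K) g (fun k => ?_)
    letI := (φ k).toAlgebra
    haveI : Module.Flat A (B k) := hflat k
    obtain ⟨hi, hs⟩ := bij_of_bddFin (φ k) (hflat k) K K hBF a hGE
    have hcomp : (fun y : B k => y • 𝟙 ((E A (B k)).obj K)) =
        (Θ (B k) K K) ∘ (g.lTensor (B k)) ∘ (TensorProduct.rid A (B k)).symm := by
      funext y
      simp only [Function.comp_apply, TensorProduct.rid_symm_apply, LinearMap.lTensor_tmul]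
      rw [show g 1 = 𝟙 K from one_smul _ _, Θ_tmul, CategoryTheory.Functor.map_id]
    have hΘ : Function.Bijective (Θ (B k) K K) := ⟨hi, hs⟩
    have h0 : Function.Bijective
        ((Θ (B k) K K) ∘ (g.lTensor (B k)) ∘ (TensorProduct.rid A (B k)).symm) := by
      rw [← hcomp]
      exact (hK k).toEnd_bijective
    have h1 : Function.Bijective ((g.lTensor (B k)) ∘ (TensorProduct.rid A (B k)).symm) :=
      (Function.Bijective.of_comp_iff' hΘ _).1 h0
    exact (Function.Bijective.of_comp_iff _ (TensorProduct.rid A (B k)).symm.bijective).1 h1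
  exact
    { isNoetherianRing := inferInstance
      finite_injective_dimension :=
        ⟨a₀, b₀, fun M _ _ i hi => Bass.fid_of_cyclic K a₀ b₀ Hcyc M i hi⟩
      finite_cohomology := hfin
      toEnd_bijective := hEnd
      ext_self_subsingleton := fun i hi =>
        hdesc K hBF i (fun k => (hK k).ext_self_subsingleton i hi) }

end Family

section Loc

universe v

variable {A : Type u} [CommRing A] {ι : Type}
  (B : ι → Type u) [∀ i, CommRing (B i)] (φ : ∀ i, A →+* B i) (g : ι → A)
  (hloc : ∀ i, letI := (φ i).toAlgebra; IsLocalization.Away (g i) (B i))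
  (hspan : Ideal.span (Set.range g) = ⊤)

include hloc hspan

theorem subsingleton_of_loc (H : Type v) [AddCommGroup H] [Module A H]
    (h : ∀ i, letI := (φ i).toAlgebra; Subsingleton (B i ⊗[A] H)) : Subsingleton H := by
  have key : ∀ x : H, x = 0 := by
    intro x
    have hx : x ∈ (⊥ : Submodule A H) := by
      refine Submodule.mem_of_span_eq_top_of_smul_pow_mem ⊥ (Set.range g) hspan x ?_
      rintro ⟨_, i, rfl⟩
      letI := (φ i).toAlgebra
      haveI := hloc i
      haveI : IsLocalizedModule (Submonoid.powers (g i)) (TensorProduct.mk A (B i) H 1) :=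
        (isLocalizedModule_iff_isBaseChange (Submonoid.powers (g i)) (B i) _).2
          (TensorProduct.isBaseChange A H (B i))
      have h0 : TensorProduct.mk A (B i) H 1 x = 0 := (h i).elim _ _
      obtain ⟨⟨_, n, rfl⟩, hs⟩ :=
        (IsLocalizedModule.eq_zero_iff (Submonoid.powers (g i)) (TensorProduct.mk A (B i) H 1)).1 h0
      refine ⟨n, ?_⟩
      rw [Submodule.mem_bot]
      exact hs
    simpa using hx
  exact ⟨fun x y => (key x).trans (key y).symm⟩

theorem finite_of_loc (H : Type u) [AddCommGroup H] [Module A H]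
    (h : ∀ i, letI := (φ i).toAlgebra; Module.Finite (B i) (B i ⊗[A] H)) : Module.Finite A H := by
  classical
  let idx : Set.range g → ι := fun r => r.2.choose
  have hidx : ∀ r : Set.range g, g (idx r) = r.1 := fun r => r.2.choose_spec
  letI : ∀ r : Set.range g, Algebra A (B (idx r)) := fun r => (φ (idx r)).toAlgebra
  have h₁ : ∀ r : Set.range g, IsLocalization.Away r.1 (B (idx r)) := fun r => by
    have := hloc (idx r)
    rw [hidx r] at this
    exact this
  have h₂ : ∀ r : Set.range g,
      IsLocalizedModule.Away r.1 (TensorProduct.mk A (B (idx r)) H 1) := fun r => by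
    haveI := h₁ r
    exact (isLocalizedModule_iff_isBaseChange (Submonoid.powers r.1) (B (idx r)) _).2
      (TensorProduct.isBaseChange A H (B (idx r)))
  exact Module.Finite.of_localizationSpan' (Set.range g) hspan
    (Mₚ := fun r => B (idx r) ⊗[A] H) (Rₚ := fun r => B (idx r)) (h₁ := h₁)
    (fun r => TensorProduct.mk A (B (idx r)) H 1) (h₂ := h₂) (fun r => h (idx r))

theorem j1u_of_loc : J1u B φ := fun H _ _ h => subsingleton_of_loc B φ g hloc hspan H h

theorem j1v_of_loc : J1v B φ := fun H _ _ h => subsingleton_of_loc B φ g hloc hspan H h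

theorem j2_of_loc : J2 B φ := fun H _ _ h => finite_of_loc B φ g hloc hspan H h

end Loc

end Groth.Agent.Lib.Helper89.BCHom
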