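import Mathlib
import Groth.Agent.Lib.Helper89.BCHom5
import Groth.Agent.Lib.Helper25.TrivDual
import Groth.Agent.Lib.Helper25.LocDual.HomLoc

/-!
# Pointwise dualizing complexes, part 1 (helper89)

* `subsingleton_tensor_iff_locZero` : `S⁻¹A ⊗ H = 0 ↔` every element of `H` is killed by some `s ∈ S`.
* `subsingleton_bc_iff_locZero` : `Hom(S⁻¹M, S⁻¹N) = 0 ↔ Hom(M, N)` is `S`-locally zero
  (flat base change of `Hom`, `M` bounded with finite cohomology, `N` bounded below).
* `subsingleton_of_locZero_maximal` : a module vanishing locally at all maximal ideals vanishes.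
* `noeth_inD_shift` : `Hom(M[0], K[i])` is Noetherian for `K` bounded below with finite cohomology.
* `bass'` : the Bass-type criterion of `Bass1` for bounded below complexes.
-/

set_option autoImplicit false
set_option linter.style.haveILetI false
universe u v

open CategoryTheory CategoryTheory.Limits CategoryTheory.Pretriangulated DerivedCategory TensorProduct

attribute [local instance] HasDerivedCategory.standard

namespace Groth.Agent.Lib.Helper89.PtDual

open Groth.Agent.Lib.Helper84 Groth.Agent.Lib.Helper25.LocDual Groth.Agent.Lib.Helper89.BCHom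

section Alg

variable {A : Type u} [CommRing A]

theorem subsingleton_tensor_iff_locZero (S : Submonoid A) (B : Type u) [CommRing B] [Algebra A B]
    [IsLocalization S B] (H : Type v) [AddCommGroup H] [Module A H] :
    Subsingleton (B ⊗[A] H) ↔ LocZero S H := by
  haveI : IsLocalizedModule S (TensorProduct.mk A B H 1) :=
    (isLocalizedModule_iff_isBaseChange S B _).2 (TensorProduct.isBaseChange A H B)
  rw [locZero_iff_subsingleton]
  exact (IsLocalizedModule.iso S (TensorProduct.mk A B H 1)).toEquiv.subsingleton_congr.symm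

theorem subsingleton_of_locZero_maximal (H : Type v) [AddCommGroup H] [Module A H]
    (h : ∀ m : Ideal A, ∀ hm : m.IsMaximal, LocZero m.primeCompl H) : Subsingleton H := by
  have key : ∀ x : H, x = 0 := by
    intro x
    by_contra hx
    let I : Ideal A := LinearMap.ker (LinearMap.toSpanSingleton A H x)
    have hI : I ≠ ⊤ := by
      intro htop
      apply hx
      have h1 : (1 : A) ∈ I := htop ▸ Submodule.mem_top
      have h2 : (1 : A) • x = 0 := h1
      rwa [one_smul] at h2
    obtain ⟨m, hm, hle⟩ := Ideal.exists_le_maximal I hI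
    obtain ⟨r, hr, hrx⟩ := h m hm x
    exact hr (hle (show r • x = 0 from hrx))
  exact ⟨fun x y => (key x).trans (key y).symm⟩

end Alg

section BC

variable {A B : Type u} [CommRing A] [CommRing B] (f : A →+* B) [IsNoetherianRing A]
  [PreservesFiniteLimits (FlatBC.ext f)]

/-- flat base change of `Hom` for a localization, in terms of local vanishing -/
theorem subsingleton_bc_iff_locZero (hf : f.Flat) (S : Submonoid A)
    (hloc : @IsLocalization A _ S B _ f.toAlgebra) (M N : Dual.D A)
    (hM : HomFinite.BddFin M) (c : ℤ) (hN : N.IsGE c) :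
    Subsingleton ((FlatBC.bc f).obj M ⟶ (FlatBC.bc f).obj N) ↔ LocZero S (M ⟶ N) := by
  letI := f.toAlgebra
  haveI : Module.Flat A B := hf
  haveI : IsLocalization S B := hloc
  obtain ⟨hi, hs⟩ := bij_of_bddFin f hf M N hM c hN
  rw [← subsingleton_tensor_iff_locZero S B (M ⟶ N)]
  exact (Equiv.ofBijective (Θ B M N) ⟨hi, hs⟩).subsingleton_congr.symm

end BC

section Noeth

variable {A : Type u} [CommRing A] [IsNoetherianRing A]

theorem noeth_inD_shift (M : Type u) [AddCommGroup M] [Module A M] [Module.Finite A M]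
    (K : Dual.D A) (a : ℤ) (hGE : K.IsGE a) (hK : ∀ j : ℤ, Module.Finite A (Dual.HD A K j))
    (i : ℤ) : IsNoetherian A (Dual.inD A M ⟶ K⟦i⟧) := by
  haveI := hGE
  have h1 := Groth.Agent.Lib.Helper25.TrivDual.noeth_single_of_isGE (ModuleCat.of A M) i K a hK
  have h2 := HomFinite.noeth_shift i h1
  let e : ((singleFunctor (ModuleCat.{u} A) i).obj (ModuleCat.of A M))⟦i⟧ ≅
      (singleFunctor (ModuleCat.{u} A) 0).obj (ModuleCat.of A M) :=
    ((DerivedCategory.singleFunctors (ModuleCat.{u} A)).shiftIso i 0 i (add_zero i)).app _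
  exact HomFinite.noeth_of_iso e (Iso.refl _) h2

end Noeth

section Bass

open Groth.Agent.Lib.Helper89.Bass

variable {R : Type u} [CommRing R] [IsNoetherianRing R] {K : Dual.D R} {b : ℤ}

/-- the Bass-type criterion, assuming only that the relevant `Hom` modules are Noetherian -/
theorem bass' (hK : ∀ (J : Ideal R) (i : ℤ), IsNoetherian R (Dual.inD R (R ⧸ J) ⟶ K⟦i⟧))
    (hmax : ∀ n : Ideal R, n.IsMaximal → P K b (R ⧸ n)) : ∀ J : Ideal R, P K b (R ⧸ J) := by
  intro J
  refine IsNoetherian.induction (P := fun J : Ideal R => P K b (R ⧸ J)) (fun (J : Ideal R) ih => ?_) J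
  by_cases htop : J = ⊤
  · haveI : Subsingleton (R ⧸ J) := Ideal.Quotient.subsingleton_iff.2 htop
    exact P_zero _
  by_cases hmaxJ : J.IsMaximal
  · exact hmax J hmaxJ
  by_cases hprime : J.IsPrime
  · -- the prime, non-maximal case
    intro i hi
    haveI : IsNoetherian R (Dual.inD R (R ⧸ J) ⟶ K⟦i⟧) := hK J i
    by_contra hns
    have hAnn : Module.annihilator R (Dual.inD R (R ⧸ J) ⟶ K⟦i⟧) ≠ ⊤ := by
      intro h
      apply hns
      have h1 : (1 : R) ∈ Module.annihilator R (Dual.inD R (R ⧸ J) ⟶ K⟦i⟧) := h ▸ Submodule.mem_top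
      have h2 := Module.mem_annihilator.1 h1
      refine ⟨fun φ ψ => ?_⟩
      rw [← one_smul R φ, ← one_smul R ψ, h2 φ, h2 ψ]
    obtain ⟨n, hn, hle⟩ := Ideal.exists_le_maximal _ hAnn
    have hJA : J ≤ Module.annihilator R (Dual.inD R (R ⧸ J) ⟶ K⟦i⟧) := by
      intro a ha
      rw [Module.mem_annihilator]
      intro φ
      have h1 : a • 𝟙 (ModuleCat.of R (R ⧸ J)) = 0 := by
        refine ModuleCat.hom_ext (LinearMap.ext fun (y : R ⧸ J) => ?_)
        obtain ⟨r, rfl⟩ := Submodule.Quotient.mk_surjective J y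
        change a • (Submodule.Quotient.mk r : R ⧸ J) = 0
        rw [← Submodule.Quotient.mk_smul, Submodule.Quotient.mk_eq_zero]
        exact J.mul_mem_right r ha
      have h2 : a • 𝟙 (Dual.inD R (R ⧸ J)) = 0 := by
        rw [← CategoryTheory.Functor.map_id, ← Functor.map_smul, h1, Functor.map_zero]
      rw [← Category.id_comp φ, ← Linear.smul_comp, h2, zero_comp]
    have hJn : J ≤ n := hJA.trans hle
    have hne : J ≠ n := fun h => hmaxJ (h ▸ hn)
    obtain ⟨x, hxn, hxJ⟩ : ∃ x ∈ n, x ∉ J := SetLike.exists_of_lt (lt_of_le_of_ne hJn hne)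
    have hxinj : ∀ y : R ⧸ J, x • y = 0 → y = 0 := by
      intro y hy
      obtain ⟨r, rfl⟩ := Submodule.Quotient.mk_surjective J y
      rw [← Submodule.Quotient.mk_smul, Submodule.Quotient.mk_eq_zero] at hy
      rw [Submodule.Quotient.mk_eq_zero]
      rcases hprime.mem_or_mem hy with h | h
      · exact absurd h hxJ
      · exact h
    obtain ⟨J₂, hJ₂le, hJ₂mem, ⟨e⟩⟩ := quot_equiv J
      (LinearMap.range (x • (LinearMap.id : (R ⧸ J) →ₗ[R] (R ⧸ J))))
    have hxJ₂ : x ∈ J₂ := by
      apply hJ₂mem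
      refine ⟨Submodule.Quotient.mk 1, ?_⟩
      change x • (Submodule.Quotient.mk 1 : R ⧸ J) = _
      rw [← Submodule.Quotient.mk_smul, smul_eq_mul, mul_one]
    have hJ₂ : J < J₂ := lt_of_le_of_ne hJ₂le (fun h => hxJ (h ▸ hxJ₂))
    have h3 : P K b ((R ⧸ J) ⧸ LinearMap.range (x • (LinearMap.id : (R ⧸ J) →ₗ[R] (R ⧸ J)))) :=
      P_iso e.symm (ih J₂ hJ₂)
    have hsm : (⊤ : Submodule R (Dual.inD R (R ⧸ J) ⟶ K⟦i⟧)) ≤ (Ideal.span {x}) • ⊤ := by
      intro φ _
      obtain ⟨ψ, rfl⟩ := exists_smul_of_P x hxinj h3 i hi φ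
      exact Submodule.smul_mem_smul (Ideal.subset_span rfl) Submodule.mem_top
    obtain ⟨r, hr1, hr2⟩ := Submodule.exists_sub_one_mem_and_smul_eq_zero_of_fg_of_le_smul
      (Ideal.span {x}) ⊤ (IsNoetherian.noetherian ⊤) hsm
    have hrA : r ∈ Module.annihilator R (Dual.inD R (R ⧸ J) ⟶ K⟦i⟧) :=
      Module.mem_annihilator.2 fun φ => hr2 φ Submodule.mem_top
    have hrn : r ∈ n := hle hrA
    have hr1n : r - 1 ∈ n := ((Ideal.span_singleton_le_iff_mem n).2 hxn) hr1
    have h1n : (1 : R) ∈ n := by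
      have := n.sub_mem hrn hr1n
      simpa using this
    exact hn.ne_top ((Ideal.eq_top_iff_one _).2 h1n)
  · -- the non-prime case
    obtain h | ⟨a, ha, c, hc, hac⟩ := Ideal.not_isPrime_iff.1 hprime
    · exact absurd h htop
    let fa : R →ₗ[R] (R ⧸ J) := LinearMap.toSpanSingleton R (R ⧸ J) (Submodule.Quotient.mk a)
    have hfa : ∀ r : R, fa r = Submodule.Quotient.mk (r * a) := fun r => by
      change r • (Submodule.Quotient.mk a : R ⧸ J) = _
      rw [← Submodule.Quotient.mk_smul, smul_eq_mul]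
    have hJ₁ : J < LinearMap.ker fa := by
      refine lt_of_le_of_ne (fun r hr => ?_) (fun h => hc ?_)
      · rw [LinearMap.mem_ker, hfa, Submodule.Quotient.mk_eq_zero]
        exact J.mul_mem_right a hr
      · rw [h, LinearMap.mem_ker, hfa, Submodule.Quotient.mk_eq_zero, mul_comm]
        exact hac
    obtain ⟨J₂, hJ₂le, hJ₂mem, ⟨e₂⟩⟩ := quot_equiv J (LinearMap.range fa)
    have haJ₂ : a ∈ J₂ := by
      apply hJ₂mem
      exact ⟨1, by rw [hfa, one_mul]⟩
    have hJ₂ : J < J₂ := lt_of_le_of_ne hJ₂le (fun h => ha (h ▸ haJ₂))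
    exact P_ses (LinearMap.range fa) (P_iso fa.quotKerEquivRange (ih _ hJ₁))
      (P_iso e₂.symm (ih J₂ hJ₂))

end Bass

end Groth.Agent.Lib.Helper89.PtDual
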