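import Mathlib
import Groth.Agent.Lib.Helper89.PtDual1
import Groth.Agent.Lib.Helper89.Norm1
import Groth.Agent.Lib.Helper25.Bidual.Residue
import Groth.Agent.Lib.Helper25.LocDual.DimFunC
import Groth.Agent.Lib.Helper39.Dual.UnivCat

/-!
# Pointwise dualizing complexes, part 2: the codimension function (helper89)

For `R` in `D^+_{fg}(A)` whose localizations at all primes are dualizing:
* `exists_degree_at` : `Ext^i(A/p, R)_p ≠ 0` for exactly one `i`;
* `degree_covBy` : this degree rises by one under immediate specialization;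
* `degree_bounded` : it is bounded above when `A` has finite Krull dimension.
-/

set_option autoImplicit false
set_option linter.style.haveILetI false
universe u v

open CategoryTheory CategoryTheory.Limits CategoryTheory.Pretriangulated DerivedCategory TensorProduct

attribute [local instance] HasDerivedCategory.standard

namespace Groth.Agent.Lib.Helper89.PtDual

open Groth.Agent.Lib.Helper84 Groth.Agent.Lib.Helper25.LocDual Groth.Agent.Lib.Helper89.BCHom
open Groth.Agent.Lib.Helper25.Bidual

section Degree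

variable {A : Type u} [CommRing A] [IsNoetherianRing A] (R : Dual.D A) (a : ℤ) (hGE : R.IsGE a)
  (hfin : ∀ j : ℤ, Module.Finite A (Dual.HD A R j))

include hGE in
theorem exists_degree_at (p : Ideal A) [p.IsPrime]
    [PreservesFiniteLimits (FlatBC.ext (algebraMap A (Localization.AtPrime p)))]
    (hd : Dual.IsDualizing (Localization.AtPrime p)
      ((FlatBC.bc (algebraMap A (Localization.AtPrime p))).obj R)) :
    ∃ n : ℤ, ∀ i : ℤ, LocZero p.primeCompl (Dual.inD A (A ⧸ p) ⟶ R⟦i⟧) ↔ i ≠ n := by
  have hf : (algebraMap A (Localization.AtPrime p)).Flat :=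
    RingHom.flat_algebraMap_iff.2 inferInstance
  have hloc : @IsLocalization A _ p.primeCompl (Localization.AtPrime p) _
      (algebraMap A (Localization.AtPrime p)).toAlgebra := by
    have h : (algebraMap A (Localization.AtPrime p)).toAlgebra =
        (inferInstance : Algebra A (Localization.AtPrime p)) :=
      Algebra.algebra_ext _ _ (fun _ => rfl)
    rw [h]
    infer_instance
  have hmm : p.map (algebraMap A (Localization.AtPrime p)) =
      IsLocalRing.maximalIdeal (Localization.AtPrime p) :=
    Localization.AtPrime.map_eq_maximalIdeal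
  obtain ⟨n, h1, ⟨e⟩⟩ := residue_main (IsLocalRing.maximalIdeal (Localization.AtPrime p)) _ hd
  have T : ∀ i : ℤ, Subsingleton (Dual.inD (Localization.AtPrime p)
        (Localization.AtPrime p ⧸ IsLocalRing.maximalIdeal (Localization.AtPrime p)) ⟶
        ((FlatBC.bc (algebraMap A (Localization.AtPrime p))).obj R)⟦i⟧) ↔
      LocZero p.primeCompl (Dual.inD A (A ⧸ p) ⟶ R⟦i⟧) := by
    intro i
    have hGEs : (R⟦i⟧).IsGE (a - i) :=
      DerivedCategory.TStructure.t.isGE_shift R a i (a - i) (by lia)
    rw [← subsingleton_bc_iff_locZero (algebraMap A (Localization.AtPrime p)) hf p.primeCompl hloc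
      (Dual.inD A (A ⧸ p)) (R⟦i⟧) (bddFin_inD (A ⧸ p)) (a - i) hGEs]
    let e0 : Dual.inD (Localization.AtPrime p)
        (Localization.AtPrime p ⧸ IsLocalRing.maximalIdeal (Localization.AtPrime p)) ≅
        Dual.inD (Localization.AtPrime p)
          (Localization.AtPrime p ⧸ p.map (algebraMap A (Localization.AtPrime p))) :=
      (singleFunctor (ModuleCat.{u} (Localization.AtPrime p)) 0).mapIso
        (Submodule.quotEquivOfEq _ _ hmm).symm.toModuleIso
    let e1 : Dual.inD (Localization.AtPrime p)
        (Localization.AtPrime p ⧸ p.map (algebraMap A (Localization.AtPrime p))) ≅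
        (FlatBC.bc (algebraMap A (Localization.AtPrime p))).obj (Dual.inD A (A ⧸ p)) :=
      letI := (algebraMap A (Localization.AtPrime p)).toAlgebra
      (singleFunctor (ModuleCat.{u} (Localization.AtPrime p)) 0).mapIso
        (Algebra.TensorProduct.quotIdealMapEquivTensorQuotAux (Localization.AtPrime p)
          p).toModuleIso ≪≫
      (FlatBC.bcSingle (algebraMap A (Localization.AtPrime p)) (ModuleCat.of A (A ⧸ p)) 0).symm
    exact ((e0 ≪≫ e1).homCongr
      (((FlatBC.bc (algebraMap A (Localization.AtPrime p))).commShiftIso i).app R).symm).subsingleton_congr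
  refine ⟨n, fun i => ⟨?_, ?_⟩⟩
  · intro h hin
    subst hin
    have h2 := (T i).2 h
    have h3 : Subsingleton (Localization.AtPrime p ⧸
        IsLocalRing.maximalIdeal (Localization.AtPrime p)) := e.toEquiv.subsingleton_congr.1 h2
    exact (Ideal.Quotient.subsingleton_iff.1 h3 ▸ (IsLocalRing.maximalIdeal.isMaximal _).ne_top) rfl
  · intro hi
    exact (T i).1 (h1 i hi)

include hGE hfin in
theorem degree_covBy (n : PrimeSpectrum A → ℤ)
    (hn : ∀ (p : PrimeSpectrum A) (i : ℤ),
      LocZero p.asIdeal.primeCompl (Dual.inD A (A ⧸ p.asIdeal) ⟶ R⟦i⟧) ↔ i ≠ n p)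
    (p q : PrimeSpectrum A) (hpq : p ⋖ q) : n q = n p + 1 := by
  by_contra hne
  have hne' : n p + 1 ≠ n q := fun h => hne h.symm
  let Y : Dual.D A := R⟦n p⟧
  have hY : LocZero q.asIdeal.primeCompl (Dual.inD A (A ⧸ q.asIdeal) ⟶ Y⟦(1 : ℤ)⟧) :=
    LocZero.of_linearEquiv (Linear.homCongr A (Iso.refl _)
      ((shiftFunctorAdd' (Dual.D A) (n p) 1 (n p + 1) rfl).app R))
      ((hn q (n p + 1)).2 hne')
  haveI : IsNoetherian A (Dual.inD A (A ⧸ p.asIdeal) ⟶ Y) :=
    noeth_inD_shift (A ⧸ p.asIdeal) R a hGE hfin (n p)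
  have h1 := locZero_hom_quot_of_covBy p q hpq Y inferInstance hY
  have hle : q.asIdeal.primeCompl ≤ p.asIdeal.primeCompl := fun x hx hxp => hx (hpq.le hxp)
  exact (hn p (n p)).1 (h1.mono hle) rfl

omit [IsNoetherianRing A] in
theorem degree_bounded [IsNoetherianRing A] (hdim : ringKrullDim A < ⊤) (n : PrimeSpectrum A → ℤ)
    (hcov : ∀ p q : PrimeSpectrum A, p ⋖ q → n q = n p + 1) : ∃ N : ℤ, ∀ p, n p ≤ N := by
  -- minimal primes
  have hfinmin : {q : PrimeSpectrum A | IsMin q}.Finite := by
    have h1 : (minimalPrimes A).Finite := minimalPrimes.finite_of_isNoetherianRing A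
    refine Set.Finite.of_injOn (f := fun q : PrimeSpectrum A => q.asIdeal) (t := minimalPrimes A)
      (fun q hq => PrimeSpectrum.isMin_iff.1 hq) (fun q _ q' _ h => PrimeSpectrum.ext h) h1
  obtain ⟨N₀, hN₀⟩ := (hfinmin.image n).bddAbove
  -- bound on heights
  obtain ⟨D, hD⟩ : ∃ D : ℕ, ∀ p : PrimeSpectrum A, Order.height p ≤ (D : ℕ∞) := by
    by_cases hemp : IsEmpty (PrimeSpectrum A)
    · exact ⟨0, fun p => (hemp.false p).elim⟩
    rw [not_isEmpty_iff] at hemp
    have h2 : Order.krullDim (PrimeSpectrum A) < ⊤ := hdim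
    obtain ⟨D, hDe⟩ : ∃ D : ℕ, Order.krullDim (PrimeSpectrum A) = (D : WithBot ℕ∞) := by
      have h3 : Order.krullDim (PrimeSpectrum A) ≠ ⊥ := Order.krullDim_ne_bot_iff.2 hemp
      revert h2 h3
      generalize Order.krullDim (PrimeSpectrum A) = x
      intro h2 h3
      induction x using WithBot.recBotCoe with
      | bot => exact absurd rfl h3
      | coe x =>
        induction x using ENat.recTopCoe with
        | top => exact absurd h2 (lt_irrefl _)
        | coe D => exact ⟨D, rfl⟩
    refine ⟨D, fun p => ?_⟩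
    have h4 := Order.height_le_krullDim p
    rw [hDe] at h4
    exact_mod_cast h4
  refine ⟨N₀ + D, fun p => ?_⟩
  obtain ⟨k, hk⟩ : ∃ k : ℕ, Order.height p = (k : ℕ∞) :=
    ENat.ne_top_iff_exists.1 (ne_top_of_le_ne_top (ENat.natCast_ne_top D) (hD p)) |>.imp fun _ h => h.symm
  obtain ⟨s, hs1, hs2⟩ := Order.exists_series_of_height_eq_coe p hk
  have h : (s.length : ℕ∞) = Order.height s.last := by rw [hs1, hk, hs2]
  have hsat := Norm.covBy_of_length_eq_height s h
  have hmin := Norm.head_isMin_of_length_eq_height s h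
  have hchain := Groth.Agent.Lib.Helper39.Dual.EssFT.dimFun_chain (fun p => -(n p))
    (fun p q hpq => by rw [hcov p q hpq]; ring) s hsat
  have h5 : n s.head ≤ N₀ := hN₀ ⟨s.head, hmin, rfl⟩
  have h6 : (k : ℤ) ≤ D := by
    have := hD p
    rw [hk] at this
    exact_mod_cast this
  rw [hs1, hs2] at hchain
  simp only at hchain
  lia

end Degree

end Groth.Agent.Lib.Helper89.PtDual
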