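import Mathlib
import Groth.Agent.Lib.Helper89.PtDual2
import Groth.Agent.Lib.Helper89.Norm2

/-!
# Pointwise dualizing complexes, part 3 (helper89)

`isDualizing_of_pointwise` : over a Noetherian ring of finite Krull dimension, a bounded below complex
with finite cohomology whose localizations at all primes are dualizing is dualizing.
-/

set_option autoImplicit false
set_option linter.style.haveILetI false
universe u v

open CategoryTheory CategoryTheory.Limits CategoryTheory.Pretriangulated DerivedCategory TensorProduct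

attribute [local instance] HasDerivedCategory.standard

namespace Groth.Agent.Lib.Helper89.PtDual

open Groth.Agent.Lib.Helper84 Groth.Agent.Lib.Helper25.LocDual Groth.Agent.Lib.Helper89.BCHom
open Groth.Agent.Lib.Helper25.Bidual

section Bij

variable {A : Type u} [CommRing A]

theorem locAlg (m : Ideal A) [m.IsPrime] :
    @IsLocalization A _ m.primeCompl (Localization.AtPrime m) _
      (algebraMap A (Localization.AtPrime m)).toAlgebra := by
  have h : (algebraMap A (Localization.AtPrime m)).toAlgebra =
      (inferInstance : Algebra A (Localization.AtPrime m)) :=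
    Algebra.algebra_ext _ _ (fun _ => rfl)
  rw [h]
  infer_instance

variable {ι : Type u} (B : ι → Type u) [∀ i, CommRing (B i)] (φ : ∀ i, A →+* B i)
  (𝔪 : ι → Ideal A) (hp : ∀ i, (𝔪 i).IsPrime)
  (hcover : ∀ m : Ideal A, m.IsMaximal → ∃ i, 𝔪 i = m)
  (hloc : ∀ i, @IsLocalization A _ (@Ideal.primeCompl _ _ (𝔪 i) (hp i)) (B i) _ (φ i).toAlgebra)

include hcover hloc in
theorem subsingleton_of_family (H : Type v) [AddCommGroup H] [Module A H]
    (h : ∀ i, letI := (φ i).toAlgebra; Subsingleton (B i ⊗[A] H)) : Subsingleton H := by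
  refine subsingleton_of_locZero_maximal (A := A) H (fun m hm => ?_)
  obtain ⟨i, rfl⟩ := hcover m hm
  letI := (φ i).toAlgebra
  haveI := hp i
  haveI : IsLocalization (𝔪 i).primeCompl (B i) := hloc i
  exact (subsingleton_tensor_iff_locZero (𝔪 i).primeCompl (B i) H).1 (h i)

include hcover hloc in
/-- descent of bijectivity of `A → H` along all localizations at maximal ideals -/
theorem bijective_of_lTensor_family (hflat : ∀ i, (φ i).Flat)
    (H : Type v) [AddCommGroup H] [Module A H] (g : A →ₗ[A] H)
    (hg : ∀ i, letI := (φ i).toAlgebra; Function.Bijective (g.lTensor (B i))) :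
    Function.Bijective g := by
  constructor
  · -- injectivity
    haveI : Subsingleton (LinearMap.ker g) := by
      refine subsingleton_of_family B φ 𝔪 hp hcover hloc _ (fun i => ?_)
      letI := (φ i).toAlgebra
      haveI : Module.Flat A (B i) := hflat i
      have hinj : Function.Injective ((LinearMap.ker g).subtype.lTensor (B i)) :=
        Module.Flat.lTensor_preserves_injective_linearMap _ (LinearMap.ker g).injective_subtype
      have hzero : ∀ t, (LinearMap.ker g).subtype.lTensor (B i) t = 0 := by
        intro t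
        apply (hg i).1
        rw [map_zero, ← LinearMap.comp_apply, ← LinearMap.lTensor_comp]
        have : g ∘ₗ (LinearMap.ker g).subtype = 0 := by
          ext x
          exact x.2
        rw [this, LinearMap.lTensor_zero, LinearMap.zero_apply]
      exact ⟨fun t t' => hinj ((hzero t).trans (hzero t').symm)⟩
    rw [← LinearMap.ker_eq_bot]
    exact Submodule.eq_bot_of_subsingleton
  · -- surjectivity
    haveI : Subsingleton (H ⧸ LinearMap.range g) := by
      refine subsingleton_of_family B φ 𝔪 hp hcover hloc _ (fun i => ?_)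
      letI := (φ i).toAlgebra
      have hsurj : Function.Surjective ((LinearMap.range g).mkQ.lTensor (B i)) :=
        LinearMap.lTensor_surjective _ (LinearMap.range g).mkQ_surjective
      have hzero : ∀ t, (LinearMap.range g).mkQ.lTensor (B i) t = 0 := by
        intro t
        obtain ⟨s, rfl⟩ := (hg i).2 t
        rw [← LinearMap.comp_apply, ← LinearMap.lTensor_comp]
        have : (LinearMap.range g).mkQ ∘ₗ g = 0 := by
          ext x
          simp
        rw [this, LinearMap.lTensor_zero, LinearMap.zero_apply]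
      refine ⟨fun t t' => ?_⟩
      obtain ⟨s, rfl⟩ := hsurj t
      obtain ⟨s', rfl⟩ := hsurj t'
      rw [hzero, hzero]
    rw [← LinearMap.range_eq_top]
    exact Submodule.Quotient.subsingleton_iff.1 inferInstance

end Bij

section End

variable {A B : Type u} [CommRing A] [CommRing B] (f : A →+* B) [IsNoetherianRing A]
  [PreservesFiniteLimits (FlatBC.ext f)]

theorem lTensor_bijective_of_end (hf : f.Flat) (R : Dual.D A) (hBF : HomFinite.BddFin R) (a : ℤ)
    (hGE : R.IsGE a)
    (hend : Function.Bijective (fun y : B => y • 𝟙 ((FlatBC.bc f).obj R))) :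
    letI := f.toAlgebra
    Function.Bijective ((LinearMap.toSpanSingleton A (R ⟶ R) (𝟙 R)).lTensor B) := by
  letI := f.toAlgebra
  haveI : Module.Flat A B := hf
  let g : A →ₗ[A] (R ⟶ R) := LinearMap.toSpanSingleton A (R ⟶ R) (𝟙 R)
  obtain ⟨hi, hs⟩ := bij_of_bddFin f hf R R hBF a hGE
  have hcomp : (fun y : B => y • 𝟙 ((E A B).obj R)) =
      (Θ B R R) ∘ (g.lTensor B) ∘ (TensorProduct.rid A B).symm := by
    funext y
    simp only [Function.comp_apply, TensorProduct.rid_symm_apply, LinearMap.lTensor_tmul]
    rw [show g 1 = 𝟙 R from one_smul _ _, Θ_tmul, CategoryTheory.Functor.map_id]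
  have hΘ : Function.Bijective (Θ B R R) := ⟨hi, hs⟩
  have h0 : Function.Bijective ((Θ B R R) ∘ (g.lTensor B) ∘ (TensorProduct.rid A B).symm) := by
    rw [← hcomp]
    exact hend
  have h1 : Function.Bijective ((g.lTensor B) ∘ (TensorProduct.rid A B).symm) :=
    (Function.Bijective.of_comp_iff' hΘ _).1 h0
  exact (Function.Bijective.of_comp_iff _ (TensorProduct.rid A B).symm.bijective).1 h1

end End

section Main

variable {A : Type u} [CommRing A] [IsNoetherianRing A]

theorem subsingleton_of_locZero_quot (m : Ideal A) [hm : m.IsMaximal] (Y : Dual.D A)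
    (h : LocZero m.primeCompl (Dual.inD A (A ⧸ m) ⟶ Y)) :
    Subsingleton (Dual.inD A (A ⧸ m) ⟶ Y) :=
  Norm.subsingleton_of_localized m Y
    (not_nontrivial_iff_subsingleton.2 ((locZero_iff_subsingleton _ _).1 h))

theorem isDualizing_of_pointwise (hdim : ringKrullDim A < ⊤) (R : Dual.D A) (a : ℤ)
    (hGE : R.IsGE a) (hfin : ∀ j : ℤ, Module.Finite A (Dual.HD A R j))
    [∀ p : PrimeSpectrum A,
      PreservesFiniteLimits (FlatBC.ext (algebraMap A (Localization.AtPrime p.asIdeal)))]
    (hd : ∀ p : PrimeSpectrum A, Dual.IsDualizing (Localization.AtPrime p.asIdeal)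
      ((FlatBC.bc (algebraMap A (Localization.AtPrime p.asIdeal))).obj R)) :
    Dual.IsDualizing A R := by
  -- the codimension function
  choose n hn using fun p : PrimeSpectrum A => exists_degree_at R a hGE p.asIdeal (hd p)
  have hcov := degree_covBy R a hGE hfin n hn
  obtain ⟨N, hN⟩ := degree_bounded hdim n hcov
  -- Bass
  have hNoeth : ∀ (J : Ideal A) (i : ℤ), IsNoetherian A (Dual.inD A (A ⧸ J) ⟶ R⟦i⟧) :=
    fun J i => noeth_inD_shift (A ⧸ J) R a hGE hfin i
  have hmaxP : ∀ m : Ideal A, m.IsMaximal → Bass.P R N (A ⧸ m) := by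
    intro m hm i hi
    have h1 : LocZero m.primeCompl (Dual.inD A (A ⧸ m) ⟶ R⟦i⟧) :=
      (hn ⟨m, hm.isPrime⟩ i).2 (by have := hN ⟨m, hm.isPrime⟩; lia)
    exact subsingleton_of_locZero_quot m _ h1
  have hbass := bass' hNoeth hmaxP
  have Hcyc : ∀ (I : Ideal A) (i : ℤ), (i < a ∨ N < i) →
      ∀ φ : (singleFunctor (ModuleCat.{u} A) i).obj (ModuleCat.of A (A ⧸ I)) ⟶ R, φ = 0 := by
    intro I i hi φ
    rcases hi with hi | hi
    · exact DerivedCategory.TStructure.t.zero_of_isLE_of_isGE φ i a hi inferInstance hGE
    · exact eq_zero_of_subsingleton_shift _ _ i (hbass I i hi) φ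
  -- boundedness
  have hvan : ∀ i : ℤ, (i < a ∨ N < i) →
      IsZero ((homologyFunctor (ModuleCat.{u} A) i).obj R) := by
    intro i hi
    haveI : Subsingleton (Dual.HD A R i) :=
      DRingInjAmp.subsingleton_HD_of_hom_eq_zero R i (Hcyc ⊥ i hi)
    exact ModuleCat.isZero_of_subsingleton _
  have hBF : HomFinite.BddFin R := ⟨⟨a, N, hvan⟩, hfin⟩
  have hGEs : ∀ i : ℤ, (R⟦i⟧).IsGE (a - i) := fun i =>
    DerivedCategory.TStructure.t.isGE_shift R a i (a - i) (by lia)
  -- the family of localizations at maximal ideals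
  have hflat : ∀ p : PrimeSpectrum A, (algebraMap A (Localization.AtPrime p.asIdeal)).Flat :=
    fun p => RingHom.flat_algebraMap_iff.2 inferInstance
  have hcover : ∀ m : Ideal A, m.IsMaximal → ∃ p : PrimeSpectrum A, p.asIdeal = m :=
    fun m hm => ⟨⟨m, hm.isPrime⟩, rfl⟩
  have hlocF : ∀ p : PrimeSpectrum A, @IsLocalization A _
      (@Ideal.primeCompl _ _ p.asIdeal p.isPrime) (Localization.AtPrime p.asIdeal) _
      (algebraMap A (Localization.AtPrime p.asIdeal)).toAlgebra := fun p => locAlg p.asIdeal
  -- self-Ext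
  have hself : ∀ i : ℤ, i ≠ 0 → Subsingleton (R ⟶ R⟦i⟧) := by
    intro i hi
    refine subsingleton_of_locZero_maximal (A := A) _ (fun m hm => ?_)
    haveI := hm.isPrime
    rw [← subsingleton_bc_iff_locZero (algebraMap A (Localization.AtPrime m))
      (hflat ⟨m, hm.isPrime⟩) m.primeCompl
      (locAlg m) R (R⟦i⟧) hBF (a - i) (hGEs i)]
    have h1 := (hd ⟨m, hm.isPrime⟩).ext_self_subsingleton i hi
    exact @Equiv.subsingleton _ _
      ((Iso.refl _).homCongr
        (((FlatBC.bc (algebraMap A (Localization.AtPrime m))).commShiftIso i).app R)) h1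
  -- End
  have hEnd : Function.Bijective (fun x : A => x • 𝟙 R) := by
    refine bijective_of_lTensor_family (fun p : PrimeSpectrum A => Localization.AtPrime p.asIdeal)
      (fun p => algebraMap A (Localization.AtPrime p.asIdeal)) (fun p => p.asIdeal)
      (fun p => p.isPrime) hcover hlocF hflat (R ⟶ R)
      (LinearMap.toSpanSingleton A (R ⟶ R) (𝟙 R)) (fun p => ?_)
    exact lTensor_bijective_of_end (algebraMap A (Localization.AtPrime p.asIdeal)) (hflat p) R hBF a
      hGE (hd p).toEnd_bijective
  exact
    { isNoetherianRing := inferInstance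
      finite_injective_dimension :=
        ⟨a, N, fun M _ _ i hi => Bass.fid_of_cyclic R a N Hcyc M i hi⟩
      finite_cohomology := hfin
      toEnd_bijective := hEnd
      ext_self_subsingleton := hself }

end Main

end Groth.Agent.Lib.Helper89.PtDual
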