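import Mathlib

/-!
# Brutal truncations `σ_{≥ a} K` of cochain complexes and `K = colim_n σ_{≥ -n} K`
-/

set_option autoImplicit false
set_option linter.unusedSectionVars false

open CategoryTheory Category Limits ZeroObject

namespace Groth.Agent.Lib.Helper89.Brutal

section colimit

variable {C : Type*} [Category C]

/-- a cocone over a sequence whose legs are eventually isomorphisms is a colimit cocone -/
noncomputable def isColimitOfEventuallyIsIso (F : ℕ ⥤ C) (c : Cocone F) (n₀ : ℕ)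
    (h : ∀ n, n₀ ≤ n → IsIso (c.ι.app n)) : IsColimit c := by
  haveI := h n₀ le_rfl
  have key : ∀ (s : Cocone F) (N : ℕ) (hN : n₀ ≤ N),
      c.ι.app N ≫ inv (c.ι.app n₀) ≫ s.ι.app n₀ = s.ι.app N := by
    intro s N hN
    haveI := h N hN
    have e1 : c.ι.app n₀ = F.map (homOfLE hN) ≫ c.ι.app N := (c.w (homOfLE hN)).symm
    have e2 : s.ι.app n₀ = F.map (homOfLE hN) ≫ s.ι.app N := (s.w (homOfLE hN)).symm
    have e3 : inv (c.ι.app n₀) ≫ s.ι.app n₀ = inv (c.ι.app N) ≫ s.ι.app N := by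
      rw [IsIso.inv_comp_eq, e1, Category.assoc, IsIso.hom_inv_id_assoc, ← e2]
    rw [e3, IsIso.hom_inv_id_assoc]
  exact
    { desc := fun s => inv (c.ι.app n₀) ≫ s.ι.app n₀
      fac := fun s n => by
        have hN : n₀ ≤ max n n₀ := le_max_right _ _
        have hn : n ≤ max n n₀ := le_max_left _ _
        rw [← c.w (homOfLE hn), Category.assoc, key s _ hN, s.w]
      uniq := fun s m hm => by
        rw [IsIso.eq_inv_comp]
        exact hm n₀ }

end colimit

variable {𝒜 : Type*} [Category 𝒜] [Preadditive 𝒜] [HasZeroObject 𝒜]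

section defs

variable (K : CochainComplex 𝒜 ℤ) (a : ℤ)

/-- the terms of the brutal truncation -/
noncomputable def sX (m : ℤ) : 𝒜 := if a ≤ m then K.X m else 0

/-- the terms in degrees `≥ a` -/
noncomputable def sXIso {m : ℤ} (h : a ≤ m) : sX K a m ≅ K.X m := eqToIso (if_pos h)

lemma isZero_sX {m : ℤ} (h : ¬ a ≤ m) : IsZero (sX K a m) := by
  rw [sX, if_neg h]
  exact isZero_zero _

/-- the brutal truncation `σ_{≥ a} K` -/
noncomputable def sigmaGE : CochainComplex 𝒜 ℤ where
  X := sX K a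
  d m m' := if h : a ≤ m ∧ a ≤ m' then (sXIso K a h.1).hom ≫ K.d m m' ≫ (sXIso K a h.2).inv else 0
  shape m m' hmm' := by
    split_ifs with h
    · rw [K.shape m m' hmm', Limits.zero_comp, Limits.comp_zero]
    · rfl
  d_comp_d' m m' m'' _ _ := by
    by_cases h : a ≤ m ∧ a ≤ m'
    · by_cases h' : a ≤ m' ∧ a ≤ m''
      · rw [dif_pos h, dif_pos h']
        simp
      · rw [dif_neg h', Limits.comp_zero]
    · rw [dif_neg h, Limits.zero_comp]

lemma isZero_sigmaGE_X {m : ℤ} (h : ¬ a ≤ m) : IsZero ((sigmaGE K a).X m) := isZero_sX K a h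

/-- the terms in degrees `≥ a` -/
noncomputable def sigmaGEXIso {m : ℤ} (h : a ≤ m) : (sigmaGE K a).X m ≅ K.X m := sXIso K a h

lemma sigmaGE_d_of_le {m m' : ℤ} (h : a ≤ m) (h' : a ≤ m') :
    (sigmaGE K a).d m m' = (sigmaGEXIso K a h).hom ≫ K.d m m' ≫ (sigmaGEXIso K a h').inv :=
  dif_pos ⟨h, h'⟩

instance : (sigmaGE K a).IsStrictlyGE a := by
  rw [CochainComplex.isStrictlyGE_iff]
  intro m hm
  exact isZero_sigmaGE_X K a (by omega)

/-- the inclusion `σ_{≥ a} K ⟶ K` -/
noncomputable def ι : sigmaGE K a ⟶ K where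
  f m := if h : a ≤ m then (sigmaGEXIso K a h).hom else 0
  comm' m m' hmm' := by
    by_cases h : a ≤ m
    · have h' : a ≤ m' := by
        have : m + 1 = m' := hmm'
        omega
      rw [dif_pos h, dif_pos h', sigmaGE_d_of_le K a h h']
      simp
    · rw [dif_neg h, Limits.zero_comp]
      exact (isZero_sigmaGE_X K a h).eq_of_src _ _

lemma ι_f_of_le {m : ℤ} (h : a ≤ m) : (ι K a).f m = (sigmaGEXIso K a h).hom := dif_pos h

lemma isIso_ι_f {m : ℤ} (h : a ≤ m) : IsIso ((ι K a).f m) := by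
  rw [ι_f_of_le K a h]
  infer_instance

/-- the transition maps `σ_{≥ a} K ⟶ σ_{≥ b} K` for `b ≤ a` -/
noncomputable def τ {b : ℤ} (hba : b ≤ a) : sigmaGE K a ⟶ sigmaGE K b where
  f m := if h : a ≤ m then (sigmaGEXIso K a h).hom ≫ (sigmaGEXIso K b (hba.trans h)).inv else 0
  comm' m m' hmm' := by
    by_cases h : a ≤ m
    · have h' : a ≤ m' := by
        have : m + 1 = m' := hmm'
        omega
      rw [dif_pos h, dif_pos h', sigmaGE_d_of_le K a h h',
        sigmaGE_d_of_le K b (hba.trans h) (hba.trans h')]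
      simp
    · rw [dif_neg h, Limits.zero_comp]
      exact (isZero_sigmaGE_X K a h).eq_of_src _ _

lemma τ_f_of_le {b : ℤ} (hba : b ≤ a) {m : ℤ} (h : a ≤ m) :
    (τ K a hba).f m = (sigmaGEXIso K a h).hom ≫ (sigmaGEXIso K b (hba.trans h)).inv := dif_pos h

@[reassoc (attr := simp)]
lemma τ_ι {b : ℤ} (hba : b ≤ a) : τ K a hba ≫ ι K b = ι K a := by
  ext m
  by_cases h : a ≤ m
  · rw [HomologicalComplex.comp_f, τ_f_of_le K a hba h, ι_f_of_le K b (hba.trans h),
      ι_f_of_le K a h, Category.assoc, Iso.inv_hom_id, Category.comp_id]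
  · exact (isZero_sigmaGE_X K a h).eq_of_src _ _

/-- the sequence `n ↦ σ_{≥ -n} K` -/
noncomputable def seq : ℕ ⥤ CochainComplex 𝒜 ℤ :=
  Functor.ofSequence (X := fun n : ℕ => sigmaGE K (-(n : ℤ)))
    (fun n => τ K (-(n : ℤ)) (b := -((n + 1 : ℕ) : ℤ)) (by push_cast; omega))

lemma seq_obj (n : ℕ) : (seq K).obj n = sigmaGE K (-(n : ℤ)) := rfl

/-- the cocone `σ_{≥ -n} K ⟶ K` -/
noncomputable def cocone : Cocone (seq K) where
  pt := K
  ι := NatTrans.ofSequence (F := seq K) (G := (Functor.const ℕ).obj K)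
    (fun n => ι K (-(n : ℤ))) (fun n => by
      have h1 := Functor.ofSequence_map_homOfLE_succ
        (fun n : ℕ => τ K (-(n : ℤ)) (b := -((n + 1 : ℕ) : ℤ)) (by push_cast; omega)) n
      exact ((congrArg (fun φ => φ ≫ ι K (-((n + 1 : ℕ) : ℤ))) h1).trans (τ_ι K _ _)).trans
        (Category.comp_id _).symm)

lemma cocone_ι_app (n : ℕ) : (cocone K).ι.app n = ι K (-(n : ℤ)) := rfl

/-- `K` is the colimit of its brutal truncations -/
noncomputable def isColimitCocone : IsColimit (cocone K) := by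
  refine HomologicalComplex.isColimitOfEval _ _ (fun m => ?_)
  refine isColimitOfEventuallyIsIso _ _ (-m).toNat (fun n hn => ?_)
  have h : -(n : ℤ) ≤ m := by
    have := Int.self_le_toNat (-m)
    omega
  exact isIso_ι_f K _ h

lemma prop_sigmaGE_X (P : ObjectProperty 𝒜) (hiso : ∀ {X Y : 𝒜}, (X ≅ Y) → P X → P Y)
    (hzero : ∀ Z : 𝒜, IsZero Z → P Z) (hK : ∀ m, P (K.X m)) (m : ℤ) : P ((sigmaGE K a).X m) := by
  by_cases h : a ≤ m
  · exact hiso (sigmaGEXIso K a h).symm (hK m)
  · exact hzero _ (isZero_sigmaGE_X K a h)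

section map

variable {ℬ : Type*} [Category ℬ] [Preadditive ℬ] (T : 𝒜 ⥤ ℬ) [T.PreservesZeroMorphisms]

/-- the image of the colimit cocone under a functor applied termwise is a colimit cocone -/
noncomputable def isColimitMapCocone :
    IsColimit ((T.mapHomologicalComplex (ComplexShape.up ℤ)).mapCocone (cocone K)) := by
  refine HomologicalComplex.isColimitOfEval _ _ (fun m => ?_)
  refine isColimitOfEventuallyIsIso _ _ (-m).toNat (fun n hn => ?_)
  have h : -(n : ℤ) ≤ m := by
    have := Int.self_le_toNat (-m)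
    omega
  haveI := isIso_ι_f K _ h
  show IsIso (T.map ((ι K (-(n : ℤ))).f m))
  infer_instance

end map

end defs

end Groth.Agent.Lib.Helper89.Brutal
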