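import Mathlib

/-!
# `Ext^1` classes and short exact sequences

Every class in `Ext^1(X₃, X₁)` is the class of a short exact sequence; distinguished triangles of
single objects in the derived category give short exact sequences.
-/

set_option autoImplicit false
set_option linter.unusedSectionVars false
set_option linter.style.haveILetI false
universe w' w v u
open CategoryTheory CategoryTheory.Limits CategoryTheory.Pretriangulated

namespace Helper89.ExtOne

open DerivedCategory DerivedCategory.TStructure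

variable {C : Type u} [Category.{v} C] [Abelian C]

section derived

variable [HasDerivedCategory.{w} C]

/-- a distinguished triangle of single objects gives a short exact sequence -/
lemma shortExact_of_distTriang {X₁ X₂ X₃ : C} (f : X₁ ⟶ X₂) (g : X₂ ⟶ X₃)
    (δ : (singleFunctor C 0).obj X₃ ⟶ ((singleFunctor C 0).obj X₁)⟦(1 : ℤ)⟧)
    (h : Triangle.mk ((singleFunctor C 0).map f) ((singleFunctor C 0).map g) δ ∈
      distTriang (DerivedCategory C)) :
    ∃ w : f ≫ g = 0, (ShortComplex.mk f g w).ShortExact := by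
  have w : f ≫ g = 0 := by
    apply (singleFunctor C 0).map_injective
    rw [Functor.map_comp, Functor.map_zero]
    exact comp_distTriang_mor_zero₁₂ _ h
  refine ⟨w, ?_⟩
  let e := singleFunctorCompHomologyFunctorIso C 0
  have hf : f = e.inv.app X₁ ≫ (homologyFunctor C 0).map ((singleFunctor C 0).map f) ≫
      e.hom.app X₂ := by
    have := e.hom.naturality f
    dsimp at this
    rw [this, Iso.inv_hom_id_app_assoc]
  have hg : g = e.inv.app X₂ ≫ (homologyFunctor C 0).map ((singleFunctor C 0).map g) ≫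
      e.hom.app X₃ := by
    have := e.hom.naturality g
    dsimp at this
    rw [this, Iso.inv_hom_id_app_assoc]
  have hmono : Mono ((homologyFunctor C 0).map ((singleFunctor C 0).map f)) := by
    refine (HomologySequence.mono_homologyMap_mor₁_iff _ h (-1) 0 (by omega)).2 ?_
    apply IsZero.eq_of_src
    exact isZero_of_isGE ((singleFunctor C 0).obj X₃) 0 (-1) (by omega)
  have hepi : Epi ((homologyFunctor C 0).map ((singleFunctor C 0).map g)) := by
    refine (HomologySequence.epi_homologyMap_mor₂_iff _ h 0 1 (by omega)).2 ?_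
    apply IsZero.eq_of_tgt
    exact isZero_of_isLE ((singleFunctor C 0).obj X₁) 0 1 (by omega)
  have hex := HomologySequence.exact₂ _ h 0
  have hmf : Mono f := by rw [hf]; infer_instance
  have heg : Epi g := by rw [hg]; infer_instance
  refine { exact := ?_, mono_f := hmf, epi_g := heg }
  refine (ShortComplex.exact_iff_of_iso (ShortComplex.isoMk (e.app X₁) (e.app X₂) (e.app X₃)
    ?_ ?_)).1 hex
  · exact (e.hom.naturality f).symm
  · exact (e.hom.naturality g).symm

/-- realization of a morphism `X₃[0] ⟶ X₁[1]` by a short exact sequence -/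
lemma exists_triangle_of_hom {X₁ X₃ : C}
    (ξ : (singleFunctor C 0).obj X₃ ⟶ ((singleFunctor C 0).obj X₁)⟦(1 : ℤ)⟧) :
    ∃ (X₂ : C) (f : X₁ ⟶ X₂) (g : X₂ ⟶ X₃),
      Triangle.mk ((singleFunctor C 0).map f) ((singleFunctor C 0).map g) ξ ∈
        distTriang (DerivedCategory C) := by
  obtain ⟨Y, f', g', hT⟩ := distinguished_cocone_triangle₂ ξ
  have i1 : t.IsLE Y 0 := t.isLE₂ _ hT 0
    (inferInstanceAs (t.IsLE ((singleFunctor C 0).obj X₁) 0))
    (inferInstanceAs (t.IsLE ((singleFunctor C 0).obj X₃) 0))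
  have i2 : t.IsGE Y 0 := t.isGE₂ _ hT 0
    (inferInstanceAs (t.IsGE ((singleFunctor C 0).obj X₁) 0))
    (inferInstanceAs (t.IsGE ((singleFunctor C 0).obj X₃) 0))
  obtain ⟨X₂, ⟨e⟩⟩ := exists_iso_singleFunctor_obj_of_isGE_of_isLE Y 0
  refine ⟨X₂, (singleFunctor C 0).preimage (f' ≫ e.hom), (singleFunctor C 0).preimage (e.inv ≫ g'),
    isomorphic_distinguished _ hT _ ?_⟩
  refine Triangle.isoMk _ _ (Iso.refl _) e.symm (Iso.refl _) ?_ ?_ ?_
  · change (singleFunctor C 0).map ((singleFunctor C 0).preimage (f' ≫ e.hom)) ≫ e.inv = 𝟙 _ ≫ f'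
    rw [Functor.map_preimage, Category.assoc, Iso.hom_inv_id, Category.comp_id, Category.id_comp]
  · change (singleFunctor C 0).map ((singleFunctor C 0).preimage (e.inv ≫ g')) ≫ 𝟙 _ = e.inv ≫ g'
    rw [Functor.map_preimage, Category.comp_id]
  · change ξ ≫ (𝟙 _)⟦(1 : ℤ)⟧' = 𝟙 _ ≫ ξ
    rw [CategoryTheory.Functor.map_id, Category.comp_id, Category.id_comp]

/-- uniqueness of the connecting morphism of a short exact sequence -/
lemma singleδ_eq {S : ShortComplex C} (hS : S.ShortExact)
    (δ : (singleFunctor C 0).obj S.X₃ ⟶ ((singleFunctor C 0).obj S.X₁)⟦(1 : ℤ)⟧)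
    (h : Triangle.mk ((singleFunctor C 0).map S.f) ((singleFunctor C 0).map S.g) δ ∈
      distTriang (DerivedCategory C)) : δ = hS.singleδ := by
  obtain ⟨φ, hφ₁, hφ₂⟩ : ∃ φ : (singleFunctor C 0).obj S.X₃ ⟶ (singleFunctor C 0).obj S.X₃,
      (singleFunctor C 0).map S.g ≫ φ = 𝟙 _ ≫ (singleFunctor C 0).map S.g ∧
      δ ≫ (𝟙 ((singleFunctor C 0).obj S.X₁))⟦(1 : ℤ)⟧' = φ ≫ hS.singleδ :=
    complete_distinguished_triangle_morphism _ _ h hS.singleTriangle_distinguished (𝟙 _) (𝟙 _)
      ((Category.comp_id _).trans (Category.id_comp _).symm)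
  obtain ⟨ψ, rfl⟩ := (singleFunctor C 0).map_surjective φ
  have hψ : ψ = 𝟙 _ := by
    haveI := hS.epi_g
    rw [← cancel_epi S.g, Category.comp_id]
    apply (singleFunctor C 0).map_injective
    rw [Functor.map_comp, hφ₁, Category.id_comp]
  rw [hψ, CategoryTheory.Functor.map_id, CategoryTheory.Functor.map_id, Category.comp_id,
    Category.id_comp] at hφ₂
  exact hφ₂

end derived

section ext

variable [HasExt.{w} C]

open Abelian

/-- every class in `Ext^1` is the class of a short exact sequence -/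
theorem exists_extClass_eq {X₁ X₃ : C} (x : Ext.{w} X₃ X₁ 1) :
    ∃ (X₂ : C) (f : X₁ ⟶ X₂) (g : X₂ ⟶ X₃) (w : f ≫ g = 0)
      (hS : (ShortComplex.mk f g w).ShortExact), hS.extClass = x := by
  letI := HasDerivedCategory.standard C
  obtain ⟨X₂, f, g, hT⟩ := exists_triangle_of_hom (C := C) (X₁ := X₁) (X₃ := X₃) x.hom
  obtain ⟨w, hS⟩ := shortExact_of_distTriang f g _ hT
  refine ⟨X₂, f, g, w, hS, ?_⟩
  apply Ext.ext
  rw [ShortComplex.ShortExact.extClass_hom]
  exact (singleδ_eq hS _ hT).symm

end ext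

end Helper89.ExtOne
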