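import Mathlib

/-!
# Dévissage: a non-zero-divisor on `S ⊗ κ` is a non-zero-divisor on `S ⊗ V` for `V` of finite length
(helper89, for helper55's S4899, piece DV of KV')
-/

set_option autoImplicit false
universe u
open TensorProduct IsLocalRing

namespace Groth.Agent.Lib.Helper89.PrimDV

theorem lTensor_smul {R S : Type u} [CommRing R] [CommRing S] [Algebra R S]
    {V V' : Type u} [AddCommGroup V] [Module R V] [AddCommGroup V'] [Module R V']
    (f : V →ₗ[R] V') (s : S) (w : S ⊗[R] V) :
    f.lTensor S (s • w) = s • f.lTensor S w := by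
  induction w with
  | zero => simp
  | tmul a v => simp [TensorProduct.smul_tmul']
  | add x y hx hy => rw [smul_add, map_add, hx, hy, map_add, smul_add]

theorem dv {R S : Type u} [CommRing R] [IsLocalRing R] [CommRing S] [Algebra R S]
    [Module.Flat R S] (s : S) (hs : ∀ w : S ⊗[R] ResidueField R, s • w = 0 → w = 0)
    (V : Type u) [AddCommGroup V] [Module R V] (hV : IsFiniteLength R V) :
    ∀ w : S ⊗[R] V, s • w = 0 → w = 0 := by
  induction hV with
  | of_subsingleton =>
    intro w _
    exact Subsingleton.elim _ _
  | @of_simple_quotient M _ _ N hsimple _ ih =>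
    intro w hw
    obtain ⟨I, hI, ⟨e⟩⟩ := isSimpleModule_iff_quot_maximal.mp hsimple
    obtain rfl : I = maximalIdeal R := IsLocalRing.eq_maximalIdeal hI
    let e' : (M ⧸ N) ≃ₗ[R] ResidueField R := e
    have hex : Function.Exact (N.subtype.lTensor S) (N.mkQ.lTensor S) :=
      lTensor_exact S (LinearMap.exact_subtype_mkQ N) (Submodule.mkQ_surjective N)
    have hinj : Function.Injective (N.subtype.lTensor S) :=
      Module.Flat.lTensor_preserves_injective_linearMap _ N.injective_subtype
    have h1 : (e'.lTensor S) (N.mkQ.lTensor S w) = 0 := by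
      apply hs
      rw [show (e'.lTensor S) (N.mkQ.lTensor S w) = (e'.toLinearMap.lTensor S) (N.mkQ.lTensor S w)
        from rfl, ← lTensor_smul, ← lTensor_smul, hw, map_zero, map_zero]
    have h2 : N.mkQ.lTensor S w = 0 := by
      have := congrArg (e'.lTensor S).symm h1
      simpa using this
    obtain ⟨w₁, rfl⟩ := (hex w).1 h2
    have h3 : s • w₁ = 0 := by
      apply hinj
      rw [lTensor_smul, hw, map_zero]
    rw [ih w₁ h3, map_zero]

end Groth.Agent.Lib.Helper89.PrimDV
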