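import Mathlib
import Groth.Agent.Lib.Helper89.Bass2
import Groth.Agent.Lib.Helper25.TrivDual2

/-!
# Ascent of dualizing complexes along a flat map, from vanishing at maximal ideals (helper89)

`isDualizing_bc_of_vanishing` : `A → B` flat, `ω` dualizing on `A`; if `Ext^i_B(B/n, ω ⊗ B) = 0` for all
`i > b₁` and all maximal ideals `n` of `B`, then `ω ⊗ B` is dualizing on `B`.
-/

set_option autoImplicit false
set_option linter.style.haveILetI false
universe u

open CategoryTheory CategoryTheory.Limits CategoryTheory.Pretriangulated DerivedCategory TensorProduct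

attribute [local instance] HasDerivedCategory.standard

namespace Groth.Agent.Lib.Helper89.GorBC

open Groth.Agent.Lib.Helper84 Groth.Agent.Lib.Helper89.BCHom Groth.Agent.Lib.Helper89.Bass

variable {A B : Type u} [CommRing A] [CommRing B] (f : A →+* B) [IsNoetherianRing A]
  [PreservesFiniteLimits (FlatBC.ext f)] [IsNoetherianRing B]

theorem isDualizing_bc_of_vanishing (hf : f.Flat) (ω : Dual.D A) (hω : Dual.IsDualizing A ω)
    (b₁ : ℤ) (hmaxP : ∀ n : Ideal B, n.IsMaximal → ∀ i : ℤ, b₁ < i →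
      Subsingleton (Dual.inD B (B ⧸ n) ⟶ ((FlatBC.bc f).obj ω)⟦i⟧)) :
    Dual.IsDualizing B ((FlatBC.bc f).obj ω) := by
  letI := f.toAlgebra
  haveI : Module.Flat A B := hf
  obtain ⟨J, a, b, hJ, hJz, ⟨eJ⟩⟩ :=
    Groth.Agent.Lib.Helper25.Bidual.exists_bounded_injective_model ω hω
  have hvan : ∀ i : ℤ, (i < a ∨ b < i) →
      IsZero ((homologyFunctor (ModuleCat.{u} A) i).obj ω) := fun i hi =>
    IsZero.of_iso (HomFinite.isZero_homology_Q J i (hJz i hi))
      ((homologyFunctor (ModuleCat.{u} A) i).mapIso eJ.symm)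
  have hBF : HomFinite.BddFin ω := ⟨⟨a, b, hvan⟩, hω.finite_cohomology⟩
  have hGE : ω.IsGE a := (DerivedCategory.isGE_iff ω a).2 fun i hi => hvan i (Or.inl hi)
  have hGEs : ∀ i : ℤ, (ω⟦i⟧).IsGE (a - i) := fun i =>
    DerivedCategory.TStructure.t.isGE_shift ω a i (a - i) (by lia)
  have hfinB : ∀ i : ℤ, Module.Finite B (Dual.HD B ((FlatBC.bc f).obj ω) i) := fun i =>
    Groth.Agent.Lib.Helper25.TrivDual.finite_homology_bc f ω i (hω.finite_cohomology i)
  have hvanB : ∀ i : ℤ, (i < a ∨ b < i) →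
      IsZero ((homologyFunctor (ModuleCat.{u} B) i).obj ((FlatBC.bc f).obj ω)) := fun i hi =>
    IsZero.of_iso ((FlatBC.ext f).map_isZero (hvan i hi)) ((kappa f i).app ω)
  have hBFB : HomFinite.BddFin ((FlatBC.bc f).obj ω) := ⟨⟨a, b, hvanB⟩, hfinB⟩
  have hasc : ∀ (M : Dual.D A) (_ : HomFinite.BddFin M) (i : ℤ), Subsingleton (M ⟶ ω⟦i⟧) →
      Subsingleton ((FlatBC.bc f).obj M ⟶ ((FlatBC.bc f).obj ω)⟦i⟧) := by
    intro M hM i h
    have h1 := subsingleton_bc f hf M (ω⟦i⟧) hM (a - i) (hGEs i) h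
    exact @Equiv.subsingleton _ _
      ((Iso.refl ((FlatBC.bc f).obj M)).homCongr (((FlatBC.bc f).commShiftIso i).app ω).symm) h1
  have hbass := bass (K := (FlatBC.bc f).obj ω) (b := b₁) hBFB
    (fun n hn i hi => hmaxP n hn i hi)
  haveI := hGE
  have hGEB : ((FlatBC.bc f).obj ω).IsGE a := FlatBC.isGE_bc f ω a
  have Hcyc : ∀ (I : Ideal B) (i : ℤ), (i < a ∨ b₁ < i) →
      ∀ φ : (singleFunctor (ModuleCat.{u} B) i).obj (ModuleCat.of B (B ⧸ I)) ⟶
        (FlatBC.bc f).obj ω, φ = 0 := by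
    intro I i hi φ
    rcases hi with hi | hi
    · exact DerivedCategory.TStructure.t.zero_of_isLE_of_isGE φ i a hi inferInstance hGEB
    · exact eq_zero_of_subsingleton_shift _ _ i (hbass I i hi) φ
  exact
    { isNoetherianRing := inferInstance
      finite_injective_dimension := ⟨a, b₁, fun M _ _ i hi => fid_of_cyclic _ a b₁ Hcyc M i hi⟩
      finite_cohomology := hfinB
      toEnd_bijective := toEnd_bijective_bc f hf ω hBF a hGE hω.toEnd_bijective
      ext_self_subsingleton := fun i hi => hasc ω hBF i (hω.ext_self_subsingleton i hi) }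

end Groth.Agent.Lib.Helper89.GorBC
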