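import Mathlib
import Groth.Agent.Lib.Helper89.GorBC1
import Groth.Agent.Lib.Helper89.Norm2
import Groth.Agent.Lib.Helper25.GorUniq.GorCrit
import Groth.Agent.Lib.Helper39.Dual.LocExt

/-!
# Ascent of dualizing complexes along flat local homomorphisms with Gorenstein closed fibre (helper89)
-/

set_option autoImplicit false
set_option linter.style.haveILetI false
universe u

open CategoryTheory CategoryTheory.Limits CategoryTheory.Pretriangulated DerivedCategory TensorProduct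

attribute [local instance] HasDerivedCategory.standard

namespace Groth.Agent.Lib.Helper89.GorBC

open Groth.Agent.Lib.Helper84 Groth.Agent.Lib.Helper89.BCHom Groth.Agent.Lib.Helper89.Bass
open Groth.Agent.Lib.Helper25.Bidual Groth.Agent.Lib.Helper25.TrivDual

section FF

variable {F : Type u} [CommRing F]

/-- `V ≃ Hom(F[0], V[0])` -/
noncomputable def singleHomEquiv (V : ModuleCat.{u} F) :
    V ≃ₗ[F] (Dual.inD F F ⟶ (singleFunctor (ModuleCat.{u} F) 0).obj V) :=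
  LinearEquiv.ofBijective
    { toFun := fun v => (singleFunctor (ModuleCat.{u} F) 0).map
        (ModuleCat.ofHom (LinearMap.toSpanSingleton F V v))
      map_add' := fun v w => by
        rw [← Functor.map_add]
        congr 1
        ext
        simp
      map_smul' := fun c v => by
        rw [RingHom.id_apply, ← Functor.map_smul]
        congr 1
        ext
        simp }
    (by
      constructor
      · intro v w h
        have h1 := (singleFunctor (ModuleCat.{u} F) 0).map_injective h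
        have h2 := congrArg (fun g => g.hom (1 : F)) h1
        simpa using h2
      · intro φ
        obtain ⟨ψ, rfl⟩ := (singleFunctor (ModuleCat.{u} F) 0).map_surjective φ
        refine ⟨ψ.hom (1 : F), ?_⟩
        change (singleFunctor (ModuleCat.{u} F) 0).map _ = _
        congr 1
        ext
        simp)

end FF

section Local

variable {A B : Type u} [CommRing A] [CommRing B] [IsNoetherianRing A] [IsNoetherianRing B]
  (f : A →+* B) [PreservesFiniteLimits (FlatBC.ext f)]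

/-- `Ext^d_B(B/mB, ω ⊗ B) ≅ B/mB` when `Ext^d_A(A/m, ω) ≅ A/m` -/
theorem nonempty_top_equiv (hf : f.Flat) (ω : Dual.D A) (a : ℤ) (hGE : ω.IsGE a) (m : Ideal A)
    (d : ℤ) (ed : (Dual.inD A (A ⧸ m) ⟶ ω⟦d⟧) ≃ₗ[A] (A ⧸ m)) :
    Nonempty ((Dual.inD B (B ⧸ m.map f) ⟶ ((FlatBC.bc f).obj ω)⟦d⟧) ≃ₗ[B] (B ⧸ m.map f)) := by
  letI := f.toAlgebra
  haveI : Module.Flat A B := hf
  have hGEs : (ω⟦d⟧).IsGE (a - d) :=
    DerivedCategory.TStructure.t.isGE_shift ω a d (a - d) (by lia)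
  obtain ⟨hi, hs⟩ := bij_of_bddFin f hf (Dual.inD A (A ⧸ m)) (ω⟦d⟧) (bddFin_inD (A ⧸ m))
    (a - d) hGEs
  let e1 : Dual.inD B (B ⧸ m.map f) ≅ (FlatBC.bc f).obj (Dual.inD A (A ⧸ m)) :=
    (singleFunctor (ModuleCat.{u} B) 0).mapIso
      (Algebra.TensorProduct.quotIdealMapEquivTensorQuotAux B m).toModuleIso ≪≫
    (FlatBC.bcSingle f (ModuleCat.of A (A ⧸ m)) 0).symm
  let l1 : (Dual.inD B (B ⧸ m.map f) ⟶ ((FlatBC.bc f).obj ω)⟦d⟧) ≃ₗ[B]
      ((FlatBC.bc f).obj (Dual.inD A (A ⧸ m)) ⟶ (FlatBC.bc f).obj (ω⟦d⟧)) :=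
    Linear.homCongr B e1 (((FlatBC.bc f).commShiftIso d).app ω).symm
  let l2 : (B ⊗[A] (Dual.inD A (A ⧸ m) ⟶ ω⟦d⟧)) ≃ₗ[B]
      ((FlatBC.bc f).obj (Dual.inD A (A ⧸ m)) ⟶ (FlatBC.bc f).obj (ω⟦d⟧)) :=
    LinearEquiv.ofBijective (Θ B (Dual.inD A (A ⧸ m)) (ω⟦d⟧)) ⟨hi, hs⟩
  let l3 : (B ⊗[A] (Dual.inD A (A ⧸ m) ⟶ ω⟦d⟧)) ≃ₗ[B] (B ⊗[A] (A ⧸ m)) :=
    TensorProduct.AlgebraTensorModule.congr (LinearEquiv.refl B B) ed
  exact ⟨l1 ≪≫ₗ l2.symm ≪≫ₗ l3 ≪≫ₗ
    (Algebra.TensorProduct.quotIdealMapEquivTensorQuotAux B m).symm⟩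

/-- **ascent along a flat local homomorphism with Gorenstein closed fibre** -/
theorem local_main [IsLocalRing A] [IsLocalRing B] (hf : f.Flat)
    (hF : LocCoh.IsGorensteinLocalRing (B ⧸ (IsLocalRing.maximalIdeal A).map f))
    (ω : Dual.D A) (hω : Dual.IsDualizing A ω) :
    Dual.IsDualizing B ((FlatBC.bc f).obj ω) := by
  classical
  obtain ⟨d, hd1, ⟨ed⟩⟩ := residue_main (IsLocalRing.maximalIdeal A) ω hω
  obtain ⟨a₀, b₀, hab₀⟩ := hω.finite_injective_dimension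
  have hGE₀ : ω.IsGE a₀ := isGE_of_fid ω a₀ b₀ hab₀
  -- notation
  let I : Ideal B := (IsLocalRing.maximalIdeal A).map f
  let W : Dual.D B := (FlatBC.bc f).obj ω
  haveI : LocCoh.IsGorensteinLocalRing (B ⧸ I) := hF
  haveI : IsLocalRing (B ⧸ I) := inferInstance
  haveI : IsNoetherianRing (B ⧸ I) := inferInstance
  have hT0 : ∀ i : ℤ, i ≠ d → Subsingleton (Dual.inD B (B ⧸ I) ⟶ W⟦i⟧) := fun i hi =>
    subsingleton_inD_bc f hf ω a₀ hGE₀ (IsLocalRing.maximalIdeal A) i (hd1 i hi)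
  obtain ⟨eTd⟩ := nonempty_top_equiv f hf ω a₀ hGE₀ (IsLocalRing.maximalIdeal A) d ed
  -- the right adjoint of restriction along `B → F`
  have hs : Function.Surjective (algebraMap B (B ⧸ I)) := Ideal.Quotient.mk_surjective
  let Rπ := (DRing.restrictD (algebraMap B (B ⧸ I))).rightAdjoint
  let adj : DRing.restrictD (algebraMap B (B ⧸ I)) ⊣ Rπ := Adjunction.ofIsLeftAdjoint _
  let X : Dual.D (B ⧸ I) := Rπ.obj W
  let β : (DRing.restrictD (algebraMap B (B ⧸ I))).obj (Dual.inD (B ⧸ I) (B ⧸ I)) ≅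
      Dual.inD B (B ⧸ I) :=
    resSingleIso (algebraMap B (B ⧸ I)) (ModuleCat.of (B ⧸ I) (B ⧸ I)) ≪≫
      (DerivedCategory.singleFunctor (ModuleCat.{u} B) 0).mapIso (quotResIso' I).symm
  -- cohomology of `X`
  have hX0 : ∀ i : ℤ, i ≠ d → Subsingleton (Dual.HD (B ⧸ I) X i) := by
    intro i hi
    obtain ⟨E, -⟩ := exists_semilinearEquiv Rπ adj (Dual.inD (B ⧸ I) (B ⧸ I)) W i
    haveI := hT0 i hi
    have h1 : Subsingleton (Dual.inD (B ⧸ I) (B ⧸ I) ⟶ X⟦i⟧) :=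
      (E.toEquiv.trans (β.homCongr (Iso.refl _))).subsingleton
    apply DRingInjAmp.subsingleton_HD_of_hom_eq_zero
    intro φ
    let e0 : (singleFunctor (ModuleCat.{u} (B ⧸ I)) i).obj
        (ModuleCat.of (B ⧸ I) ((B ⧸ I) ⧸ (⊥ : Ideal (B ⧸ I)))) ≅
        (singleFunctor (ModuleCat.{u} (B ⧸ I)) i).obj (ModuleCat.of (B ⧸ I) (B ⧸ I)) :=
      (singleFunctor (ModuleCat.{u} (B ⧸ I)) i).mapIso
        (Submodule.quotEquivOfEqBot (⊥ : Ideal (B ⧸ I)) rfl).toModuleIso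
    have h2 : e0.inv ≫ φ = 0 := eq_zero_of_subsingleton_shift _ _ i h1 _
    rw [← cancel_epi e0.inv, h2, comp_zero]
  obtain ⟨V', ⟨ι⟩, -⟩ := Groth.Agent.Lib.Helper25.GorUniq.single_model X d hX0
  -- `V' ≅ F`
  obtain ⟨E, hE⟩ := exists_semilinearEquiv Rπ adj (Dual.inD (B ⧸ I) (B ⧸ I)) W d
  let c1 : V' ≃ₗ[B ⧸ I] (Dual.inD (B ⧸ I) (B ⧸ I) ⟶ X⟦d⟧) :=
    singleHomEquiv V' ≪≫ₗ Linear.homCongr (B ⧸ I) (Iso.refl _) ι.symm
  let c3 : ((DRing.restrictD (algebraMap B (B ⧸ I))).obj (Dual.inD (B ⧸ I) (B ⧸ I)) ⟶ W⟦d⟧) ≃ₗ[B]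
      (B ⧸ I) := Linear.homCongr B β (Iso.refl _) ≪≫ₗ eTd
  let c : V' ≃ₗ[B ⧸ I] (B ⧸ I) :=
    { toFun := fun v => c3 (E (c1 v))
      invFun := fun x => c1.symm (E.symm (c3.symm x))
      left_inv := fun v => by simp
      right_inv := fun x => by simp
      map_add' := fun v w => by rw [map_add, map_add, map_add]
      map_smul' := fun x v => by
        obtain ⟨b, rfl⟩ := Ideal.Quotient.mk_surjective x
        rw [RingHom.id_apply, map_smul]
        have h1 := hE b (c1 v)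
        change c3 (E (algebraMap B (B ⧸ I) b • c1 v)) = _
        rw [h1, map_smul]
        rfl }
  -- `X[d]` is dualizing
  have hFdual : Dual.IsDualizing (B ⧸ I) (Dual.inD (B ⧸ I) (B ⧸ I)) := by
    obtain ⟨n, hn⟩ := hF.exists_hasInjectiveDimensionLT
    haveI := hn
    exact Groth.Agent.Lib.Helper68.DualBasic.isDualizing_self_of_hasInjectiveDimensionLT (B ⧸ I) n
  have hXd : Dual.IsDualizing (B ⧸ I) (X⟦d⟧) :=
    isDualizing_of_iso
      (ι ≪≫ (singleFunctor (ModuleCat.{u} (B ⧸ I)) 0).mapIso c.toModuleIso).symm hFdual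
  obtain ⟨a₁, b₁, hab₁⟩ := hXd.finite_injective_dimension
  -- vanishing at the maximal ideal of `B`
  have hIn : I ≤ IsLocalRing.maximalIdeal B := by
    apply IsLocalRing.le_maximalIdeal
    intro htop
    have : Subsingleton (B ⧸ I) := Ideal.Quotient.subsingleton_iff.2 htop
    exact not_subsingleton (B ⧸ I) this
  have hnbar : ((IsLocalRing.maximalIdeal B).map (algebraMap B (B ⧸ I))).IsMaximal := by
    refine Ideal.IsMaximal.map_of_surjective_of_ker_le hs ?_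
    change RingHom.ker (Ideal.Quotient.mk I) ≤ _
    rw [Ideal.mk_ker]
    exact hIn
  let nbar : PrimeSpectrum (B ⧸ I) :=
    ⟨(IsLocalRing.maximalIdeal B).map (algebraMap B (B ⧸ I)), hnbar.isPrime⟩
  have hcomap : nbar.asIdeal.comap (algebraMap B (B ⧸ I)) = IsLocalRing.maximalIdeal B :=
    Ideal.comap_map_mk hIn
  have hvanB : ∀ i : ℤ, b₁ + d < i →
      Subsingleton (Dual.inD B (B ⧸ IsLocalRing.maximalIdeal B) ⟶ W⟦i⟧) := by
    intro i hi
    have h1 : Subsingleton (Dual.inD (B ⧸ I) ((B ⧸ I) ⧸ nbar.asIdeal) ⟶ (X⟦d⟧)⟦i - d⟧) :=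
      hab₁ ((B ⧸ I) ⧸ nbar.asIdeal) (i - d) (Or.inr (by lia))
    have h2 : Subsingleton (Dual.inD (B ⧸ I) ((B ⧸ I) ⧸ nbar.asIdeal) ⟶ X⟦i⟧) :=
      @Equiv.subsingleton _ _
        ((Iso.refl _).homCongr
          ((shiftFunctorAdd' (Dual.D (B ⧸ I)) d (i - d) i (by lia)).app X)) h1
    have h3 : ¬ Nontrivial (LocalizedModule nbar.asIdeal.primeCompl
        (Dual.inD (B ⧸ I) ((B ⧸ I) ⧸ nbar.asIdeal) ⟶ X⟦i⟧)) := by
      rw [not_nontrivial_iff_subsingleton]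
      infer_instance
    rw [aux8970 B (B ⧸ I) hs Rπ adj W nbar i] at h3
    have h4 : ∀ J : Ideal B, J = IsLocalRing.maximalIdeal B → ∀ [J.IsMaximal],
        ¬ Nontrivial (LocalizedModule J.primeCompl (Dual.inD B (B ⧸ J) ⟶ W⟦i⟧)) →
        Subsingleton (Dual.inD B (B ⧸ IsLocalRing.maximalIdeal B) ⟶ W⟦i⟧) := by
      rintro J rfl _ h
      exact Norm.subsingleton_of_localized _ _ h
    haveI : (nbar.asIdeal.comap (algebraMap B (B ⧸ I))).IsMaximal :=
      hcomap ▸ IsLocalRing.maximalIdeal.isMaximal B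
    exact h4 _ hcomap h3
  refine isDualizing_bc_of_vanishing f hf ω hω (b₁ + d) (fun n hn i hi => ?_)
  rw [IsLocalRing.eq_maximalIdeal hn]
  exact hvanB i hi

end Local

end Groth.Agent.Lib.Helper89.GorBC
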