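import Mathlib
import Groth.Agent.Lib.Helper89.GorBC2
import Groth.Agent.Lib.Helper89.PtDual3
import Groth.Agent.Lib.Helper56.FiberLoc
import Groth.Agent.Lib.Helper85.GorRing
import Groth.Agent.Lib.Helper15.LDerived
import Groth.Agent.Lib.Helper25.LocDual.DimFin
import Groth.Agent.S1775

/-!
# Ascent of dualizing complexes along flat finite type maps with Gorenstein fibres (helper89)
-/

set_option autoImplicit false
set_option linter.style.haveILetI false
universe u

open CategoryTheory CategoryTheory.Limits CategoryTheory.Pretriangulated DerivedCategory TensorProduct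

attribute [local instance] HasDerivedCategory.standard

namespace Groth.Agent.Lib.Helper89.GorBC

open Groth.Agent.Lib.Helper84 Groth.Agent.Lib.Helper89.BCHom Groth.Agent.Lib.Helper89.Bass
open Groth.Agent.Lib.Helper25.Bidual Groth.Agent.Lib.Helper15.LBCFlat

section Fibre

variable (A B : Type u) [CommRing A] [CommRing B] [Algebra A B]

noncomputable def fibLocCast (r r' : Ideal B) [r.IsPrime] [r'.IsPrime] (h : r = r') :
    EGA4.FibLocRing A B r ≃+* EGA4.FibLocRing A B r' := by
  subst h
  exact RingEquiv.refl _

theorem gor_fibLoc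
    (hG : ∀ p : PrimeSpectrum A, LocCoh.IsGorensteinRing (B ⊗[A] p.asIdeal.ResidueField))
    (r : Ideal B) [r.IsPrime] : LocCoh.IsGorensteinLocalRing (EGA4.FibLocRing A B r) := by
  obtain ⟨Q, hQ, hr⟩ := Groth.Agent.Lib.Helper56.exists_fiber_prime A B r
  haveI := hQ
  haveI := hG ⟨r.comap (algebraMap A B), inferInstance⟩
  haveI : LocCoh.IsGorensteinRing ((r.comap (algebraMap A B)).Fiber B) :=
    Groth.Agent.Lib.Helper85.GorRing.gorRing_of_ringEquiv
      (Algebra.TensorProduct.comm A B (r.comap (algebraMap A B)).ResidueField).toRingEquiv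
  haveI : LocCoh.IsGorensteinLocalRing (Localization.AtPrime Q) :=
    LocCoh.IsGorensteinRing.isGorensteinLocalRing_localization Q
  haveI : LocCoh.IsGorensteinLocalRing (EGA4.FibLocRing A B
      (Q.comap (Algebra.TensorProduct.includeRight :
        B →ₐ[A] (r.comap (algebraMap A B)).Fiber B))) :=
    Groth.Agent.Lib.Helper85.GorRing.gor_of_ringEquiv (R := Localization.AtPrime Q)
      (Groth.Agent.Lib.Helper56.fiberLocEquiv A B (r.comap (algebraMap A B)) Q)
  exact Groth.Agent.Lib.Helper85.GorRing.gor_of_ringEquiv (fibLocCast A B _ r hr)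

/-- the closed fibre of `A_p → B_q` is Gorenstein -/
theorem gor_closedFibre
    (hG : ∀ p : PrimeSpectrum A, LocCoh.IsGorensteinRing (B ⊗[A] p.asIdeal.ResidueField))
    (q : Ideal B) [q.IsPrime] :
    LocCoh.IsGorensteinLocalRing (Localization.AtPrime q ⧸
      (IsLocalRing.maximalIdeal (Localization.AtPrime (q.comap (algebraMap A B)))).map
        (Localization.localRingHom (q.comap (algebraMap A B)) q (algebraMap A B) rfl)) := by
  haveI := gor_fibLoc A B hG q
  have hI : (q.comap (algebraMap A B)).map (algebraMap A (Localization.AtPrime q)) =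
      (IsLocalRing.maximalIdeal (Localization.AtPrime (q.comap (algebraMap A B)))).map
        (Localization.localRingHom (q.comap (algebraMap A B)) q (algebraMap A B) rfl) := by
    rw [← Localization.AtPrime.map_eq_maximalIdeal, Ideal.map_map]
    congr 1
    ext x
    rw [RingHom.comp_apply, Localization.localRingHom_to_map]
    exact IsScalarTower.algebraMap_apply A B (Localization.AtPrime q) x
  exact Groth.Agent.Lib.Helper85.GorRing.gor_of_ringEquiv (Ideal.quotEquivOfEq hI)

end Fibre

section Main

variable {A B : Type u} [CommRing A] [CommRing B] [Algebra A B] [IsNoetherianRing A]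
  [IsNoetherianRing B]

omit [IsNoetherianRing B] in
theorem ringKrullDim_lt_top_of_finiteType [Algebra.FiniteType A B] (h : ringKrullDim A < ⊤) :
    ringKrullDim B < ⊤ := by
  obtain ⟨n, f, hf⟩ := Algebra.FiniteType.iff_quotient_mvPolynomial''.1
    (inferInstance : Algebra.FiniteType A B)
  have h1 : ringKrullDim B ≤ ringKrullDim (MvPolynomial (Fin n) A) :=
    ringKrullDim_le_of_surjective f.toRingHom hf
  rw [MvPolynomial.ringKrullDim_of_isNoetherianRing] at h1
  refine lt_of_le_of_lt h1 ?_
  revert h
  generalize ringKrullDim A = x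
  intro h
  induction x using WithBot.recBotCoe with
  | bot => simp
  | coe x =>
    induction x using ENat.recTopCoe with
    | top => exact absurd h (lt_irrefl _)
    | coe D =>
      have : ((D : ℕ∞) : WithBot ℕ∞) + (Nat.card (Fin n) : WithBot ℕ∞) =
          (((D + Nat.card (Fin n) : ℕ) : ℕ∞) : WithBot ℕ∞) := by
        push_cast
        rfl
      rw [this]
      exact WithBot.coe_lt_coe.2 (ENat.coe_lt_top _)

/-- **ascent of dualizing complexes along a flat finite type map with Gorenstein fibres** -/
theorem isDualizing_bc_of_gorenstein_fibres [Module.Flat A B] [Algebra.FiniteType A B]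
    (hG : ∀ p : PrimeSpectrum A, LocCoh.IsGorensteinRing (B ⊗[A] p.asIdeal.ResidueField))
    [PreservesFiniteLimits (FlatBC.ext (algebraMap A B))]
    (K : Dual.D A) (hK : Dual.IsDualizing A K) :
    Dual.IsDualizing B ((FlatBC.bc (algebraMap A B)).obj K) := by
  have hdimB : ringKrullDim B < ⊤ := ringKrullDim_lt_top_of_finiteType (A := A)
    (Groth.Agent.Lib.Helper25.LocDual.ringKrullDim_lt_top_of_dualizing K hK)
  obtain ⟨a₀, b₀, hab₀⟩ := hK.finite_injective_dimension
  have hGE₀ : K.IsGE a₀ := isGE_of_fid K a₀ b₀ hab₀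
  haveI := hGE₀
  have hGEB : ((FlatBC.bc (algebraMap A B)).obj K).IsGE a₀ := FlatBC.isGE_bc _ K a₀
  have hfinB : ∀ j : ℤ, Module.Finite B (Dual.HD B ((FlatBC.bc (algebraMap A B)).obj K) j) :=
    fun j => Groth.Agent.Lib.Helper25.TrivDual.finite_homology_bc (algebraMap A B) K j
      (hK.finite_cohomology j)
  have hflatq : ∀ q : PrimeSpectrum B, (algebraMap B (Localization.AtPrime q.asIdeal)).Flat :=
    fun q => RingHom.flat_algebraMap_iff.2 inferInstance
  haveI : ∀ q : PrimeSpectrum B, PreservesFiniteLimits
      (FlatBC.ext (algebraMap B (Localization.AtPrime q.asIdeal))) :=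
    fun q => FlatBC.preservesFiniteLimits_ext _ (hflatq q)
  refine PtDual.isDualizing_of_pointwise hdimB _ a₀ hGEB hfinB (fun q => ?_)
  -- local data
  have hφ : (Localization.localRingHom (q.asIdeal.comap (algebraMap A B)) q.asIdeal
      (algebraMap A B) rfl).Flat :=
    RingHom.Flat.localRingHom (RingHom.flat_algebraMap_iff.2 inferInstance) q.asIdeal _ rfl
  have hfp : (algebraMap A (Localization.AtPrime (q.asIdeal.comap (algebraMap A B)))).Flat :=
    RingHom.flat_algebraMap_iff.2 inferInstance
  haveI : PreservesFiniteLimits (FlatBC.ext (Localization.localRingHom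
      (q.asIdeal.comap (algebraMap A B)) q.asIdeal (algebraMap A B) rfl)) :=
    FlatBC.preservesFiniteLimits_ext _ hφ
  haveI : PreservesFiniteLimits (FlatBC.ext
      (algebraMap A (Localization.AtPrime (q.asIdeal.comap (algebraMap A B))))) :=
    FlatBC.preservesFiniteLimits_ext _ hfp
  have hKp : Dual.IsDualizing (Localization.AtPrime (q.asIdeal.comap (algebraMap A B)))
      ((FlatBC.bc (algebraMap A (Localization.AtPrime (q.asIdeal.comap (algebraMap A B))))).obj K) :=
    isDualizing_of_iso ((lbcFlatIso _).app K)
      (Groth.Agent.S1775.result A (q.asIdeal.comap (algebraMap A B)).primeCompl K hK)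
  have h1 := local_main (Localization.localRingHom (q.asIdeal.comap (algebraMap A B)) q.asIdeal
      (algebraMap A B) rfl) hφ (gor_closedFibre A B hG q.asIdeal) _ hKp
  have hcomp : (Localization.localRingHom (q.asIdeal.comap (algebraMap A B)) q.asIdeal
      (algebraMap A B) rfl).comp
        (algebraMap A (Localization.AtPrime (q.asIdeal.comap (algebraMap A B)))) =
      (algebraMap B (Localization.AtPrime q.asIdeal)).comp (algebraMap A B) :=
    RingHom.ext fun x => by
      rw [RingHom.comp_apply, Localization.localRingHom_to_map]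
      rfl
  refine isDualizing_of_iso ?_ h1
  exact ((lbcFlatIso _).app _).symm ≪≫
    (DRing.LBaseChange (Localization.localRingHom (q.asIdeal.comap (algebraMap A B)) q.asIdeal
      (algebraMap A B) rfl)).mapIso ((lbcFlatIso _).app K).symm ≪≫
    (lbcComp _ _).app K ≪≫ (lbcOfEq hcomp).app K ≪≫
    ((lbcComp (algebraMap A B) (algebraMap B (Localization.AtPrime q.asIdeal))).app K).symm ≪≫
    (DRing.LBaseChange (algebraMap B (Localization.AtPrime q.asIdeal))).mapIso
      ((lbcFlatIso _).app K) ≪≫ (lbcFlatIso _).app _

end Main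

end Groth.Agent.Lib.Helper89.GorBC
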