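import Mathlib

set_option autoImplicit false
universe w w' v u
open CategoryTheory CategoryTheory.Limits DerivedCategory

namespace Helper89.Efface

variable {C : Type u} [Category.{v} C] [Abelian C] [HasDerivedCategory.{w} C]

lemma exists_epi_comp_eq_zero_aux {X Y : C} (n : ℤ) (hn : n ≠ 0)
    (φ : (singleFunctor C 0).obj X ⟶ ((singleFunctor C 0).obj Y)⟦n⟧) :
    ∃ (X' : C) (p : X' ⟶ X), Epi p ∧ (singleFunctor C 0).map p ≫ φ = 0 := by
  let SX : CochainComplex C ℤ := (CochainComplex.singleFunctor C 0).obj X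
  let SY : CochainComplex C ℤ := (CochainComplex.singleFunctor C 0).obj Y
  let ι : ((singleFunctor C 0).obj Y)⟦n⟧ ≅ Q.obj (SY⟦n⟧) := ((Q.commShiftIso n).app SY).symm
  let φ' : Q.obj SX ⟶ Q.obj (SY⟦n⟧) := φ ≫ ι.hom
  obtain ⟨K', hK', s, hs, g, hfac⟩ := right_fac_of_isStrictlyLE φ' 0
  let e0 : SX.X 0 ≅ X := HomologicalComplex.singleObjXSelf (ComplexShape.up ℤ) 0 X
  let p : K'.X 0 ⟶ X := s.f 0 ≫ e0.hom
  let σ : (CochainComplex.singleFunctor C 0).obj (K'.X 0) ⟶ K' :=
    HomologicalComplex.mkHomFromSingle (𝟙 _) (by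
      intro k hk
      apply (K'.isZero_of_isStrictlyLE 0 k (by simp at hk; omega)).eq_of_tgt)
  have hσs : σ ≫ s = (CochainComplex.singleFunctor C 0).map p := by
    apply HomologicalComplex.from_single_hom_ext
    have hp : p ≫ (HomologicalComplex.singleObjXSelf (ComplexShape.up ℤ) 0 X).inv = s.f 0 := by
      show (s.f 0 ≫ e0.hom) ≫ e0.inv = s.f 0
      rw [Category.assoc, Iso.hom_inv_id, Category.comp_id]
    rw [HomologicalComplex.comp_f, HomologicalComplex.mkHomFromSingle_f, Category.comp_id]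
    refine Eq.trans ?_ (HomologicalComplex.single_map_f_self (ComplexShape.up ℤ) 0 p).symm
    rw [hp]
    rfl
  have hσg : σ ≫ g = 0 := by
    apply HomologicalComplex.from_single_hom_ext
    apply IsZero.eq_of_tgt
    exact HomologicalComplex.isZero_single_obj_X (ComplexShape.up ℤ) 0 Y (0 + n) (by omega)
  refine ⟨K'.X 0, p, ?_, ?_⟩
  · have hqs : QuasiIso s := (isIso_Q_map_iff_quasiIso (φ := s)).1 hs
    have hepi : Epi (s.f 0) := by
      rw [epi_iff_surjective_up_to_refinements]
      intro T y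
      have h1 : Epi (HomologicalComplex.homologyMap s 0) := by
        have : IsIso (HomologicalComplex.homologyMap s 0) :=
          (quasiIsoAt_iff_isIso_homologyMap s 0).1 inferInstance
        infer_instance
      rw [HomologicalComplex.epi_homologyMap_iff_up_to_refinements s (-1) 0 1 (by simp)
        (by simp)] at h1
      have hz1 : IsZero (SX.X 1) :=
        HomologicalComplex.isZero_single_obj_X (ComplexShape.up ℤ) 0 X 1 (by omega)
      have hzm1 : IsZero (SX.X (-1)) :=
        HomologicalComplex.isZero_single_obj_X (ComplexShape.up ℤ) 0 X (-1) (by omega)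
      obtain ⟨T', π, hπ, x₂, hx₂, y₁, hy₁⟩ := h1 y (hz1.eq_of_tgt _ _)
      refine ⟨T', π, hπ, x₂, ?_⟩
      rw [hy₁, hzm1.eq_of_tgt y₁ 0, zero_comp, add_zero]
    exact epi_comp _ _
  · have h1 : Q.map ((CochainComplex.singleFunctor C 0).map p) ≫ φ' = 0 := by
      rw [hfac, ← hσs, Q.map_comp, Category.assoc, IsIso.hom_inv_id_assoc, ← Q.map_comp, hσg,
        Q.map_zero]
    rw [← cancel_mono ι.hom, Category.assoc, zero_comp]
    exact h1

end Helper89.Efface

namespace Helper89.Efface

open CategoryTheory.Abelian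

variable {C : Type u} [Category.{v} C] [Abelian C] [HasExt.{w} C]

/-- Ext classes of positive degree are effaceable by epimorphisms. -/
theorem exists_epi_comp_eq_zero {X Y : C} {n : ℕ} (hn : 0 < n) (x : Ext.{w} X Y n) :
    ∃ (X' : C) (p : X' ⟶ X), Epi p ∧ (Ext.mk₀ p).comp x (zero_add n) = 0 := by
  letI := HasDerivedCategory.standard C
  obtain ⟨X', p, hp, h⟩ := exists_epi_comp_eq_zero_aux (n : ℤ) (by omega) x.hom
  refine ⟨X', p, hp, ?_⟩
  apply Ext.ext
  rw [Ext.comp_hom, Ext.mk₀_hom, ShiftedHom.mk₀_comp, Ext.zero_hom]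
  exact h

end Helper89.Efface
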