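import Mathlib
import Groth.Prelude.Def_W4stkfunctorsequivSib
import Groth.Agent.Lib.Helper89.Efface

set_option autoImplicit false
set_option linter.unusedSectionVars false
universe w v u
open CategoryTheory CategoryTheory.Limits CategoryTheory.Pretriangulated

namespace Helper89.DbGen

open DerivedCategory DerivedCategory.TStructure

variable {A : Type u} [Category.{v} A] [Abelian A] [HasDerivedCategory.{w} A]

/-- the inclusion of the bounded derived category -/
noncomputable abbrev ιB : DerivedCategory.Bounded A ⥤ DerivedCategory A := DerivedCategory.Bounded.ι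

/-- lifting an isomorphism along the inclusion -/
noncomputable def liftIso {X Y : DerivedCategory.Bounded A} (e : X.obj ≅ Y.obj) : X ≅ Y :=
  (ιB (A := A)).preimageIso e

lemma singleB_obj (Y : A) : ((DEquiv.singleB A).obj Y).obj = (singleFunctor A 0).obj Y := rfl

/-- induction principle for the bounded derived category: a class of objects closed under
isomorphisms, shifts and extensions and containing the objects of `A` and the zero objects is
everything -/
theorem induction (P : DerivedCategory.Bounded A → Prop)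
    (hiso : ∀ X Y : DerivedCategory.Bounded A, (X ≅ Y) → P X → P Y)
    (hshift : ∀ (X : DerivedCategory.Bounded A) (n : ℤ), P X → P (X⟦n⟧))
    (hzero : ∀ X : DerivedCategory.Bounded A, IsZero X → P X)
    (hext : ∀ Tr : Triangle (DerivedCategory.Bounded A), Tr ∈ distTriang _ →
      P Tr.obj₁ → P Tr.obj₃ → P Tr.obj₂)
    (hgen : ∀ Y : A, P ((DEquiv.singleB A).obj Y)) : ∀ X, P X := by
  have key : ∀ (d : ℕ) (X : DerivedCategory.Bounded A) (a b : ℤ), t.IsGE X.obj a → t.IsLE X.obj b →
      b - a < d → P X := by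
    intro d
    induction d with
    | zero =>
      intro X a b ha hb hab
      apply hzero
      have hz : IsZero X.obj := t.isZero X.obj b a (by omega)
      rw [IsZero.iff_id_eq_zero]
      apply (ιB (A := A)).map_injective
      rw [CategoryTheory.Functor.map_id, Functor.map_zero]
      exact (IsZero.iff_id_eq_zero _).1 hz
    | succ d ih =>
      intro X a b ha hb hab
      let X₀ : DerivedCategory A := X.obj
      let Tr := (t.triangleLEGE (b - 1) b (by omega)).obj X₀
      have hTr : Tr ∈ distTriang _ := t.triangleLEGE_distinguished (b - 1) b (by omega) X₀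
      have h1GE : t.IsGE ((t.truncLE (b - 1)).obj X₀) a := inferInstance
      have h1LE : t.IsLE ((t.truncLE (b - 1)).obj X₀) (b - 1) := inferInstance
      have h3GE : t.IsGE ((t.truncGE b).obj X₀) b := inferInstance
      have h3LE : t.IsLE ((t.truncGE b).obj X₀) b := inferInstance
      let X₁ : DerivedCategory.Bounded A :=
        ⟨(t.truncLE (b - 1)).obj X₀, ⟨⟨a, h1GE⟩, ⟨b - 1, h1LE⟩⟩⟩
      have hP1 : P X₁ := ih X₁ a (b - 1) h1GE h1LE (by omega)
      let f : X₁ ⟶ X := ObjectProperty.homMk ((t.truncLEι (b - 1)).app X₀)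
      obtain ⟨Z, g, h, hT'⟩ := distinguished_cocone_triangle f
      have hT'' : (ιB (A := A)).mapTriangle.obj (Triangle.mk f g h) ∈
          distTriang (DerivedCategory A) := hT'
      have hcomm : ((ιB (A := A)).mapTriangle.obj (Triangle.mk f g h)).mor₁ ≫
          (Iso.refl X₀).hom = (Iso.refl ((t.truncLE (b - 1)).obj X₀)).hom ≫ Tr.mor₁ := by
        refine (Category.comp_id _).trans ?_
        refine Eq.trans ?_ (Category.id_comp _).symm
        rfl
      let eT := isoTriangleOfIso₁₂ _ _ hT'' hTr (Iso.refl _) (Iso.refl _) hcomm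
      let e3 : Z.obj ≅ (t.truncGE b).obj X₀ := Triangle.π₃.mapIso eT
      obtain ⟨Y, ⟨eY⟩⟩ := exists_iso_singleFunctor_obj_of_isGE_of_isLE ((t.truncGE b).obj X₀) b
      let eS : ((singleFunctor A 0).obj Y)⟦-b⟧ ≅ (singleFunctor A b).obj Y :=
        ((singleFunctors A).shiftIso (-b) b 0 (by omega)).app Y
      have hPs := hshift _ (-b) (hgen Y)
      have eZ : ((DEquiv.singleB A).obj Y)⟦-b⟧ ≅ Z :=
        liftIso (((ιB (A := A)).commShiftIso (-b)).app _ ≪≫ eS ≪≫ eY.symm ≪≫ e3.symm)
      have hP3 : P Z := hiso _ _ eZ hPs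
      exact hext (Triangle.mk f g h) hT' hP1 hP3
  intro X
  obtain ⟨⟨a, ha⟩, ⟨b, hb⟩⟩ := X.property
  exact key (b - a + 1).toNat X a b ha hb (by omega)


lemma ιB_map_singleB_map {X Y : A} (p : X ⟶ Y) :
    (ιB (A := A)).map ((DEquiv.singleB A).map p) = (singleFunctor A 0).map p := rfl

/-- morphisms `X → Y⟦q⟧` vanish for `q < 0` -/
lemma eq_zero_of_neg (X Y : A) (q : ℤ) (hq : q < 0)
    (f : (DEquiv.singleB A).obj X ⟶ ((DEquiv.singleB A).obj Y)⟦q⟧) : f = 0 := by
  apply (ιB (A := A)).map_injective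
  rw [Functor.map_zero]
  let e := ((ιB (A := A)).commShiftIso q).app ((DEquiv.singleB A).obj Y)
  rw [← cancel_mono e.hom, zero_comp]
  have h1 : t.IsLE ((ιB (A := A)).obj ((DEquiv.singleB A).obj X)) 0 :=
    (inferInstance : t.IsLE ((singleFunctor A 0).obj X) 0)
  have h2 : t.IsGE (((ιB (A := A)) ⋙ shiftFunctor (DerivedCategory A) q).obj
      ((DEquiv.singleB A).obj Y)) (-q) :=
    t.isGE_shift ((singleFunctor A 0).obj Y) 0 q (-q) (by omega)
  exact t.zero ((ιB (A := A)).map f ≫ e.hom) 0 (-q) (by omega)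

/-- effaceability of morphisms `X → Y⟦q⟧`, `q ≠ 0` -/
lemma exists_epi_comp_eq_zero (X Y : A) (q : ℤ) (hq : q ≠ 0)
    (f : (DEquiv.singleB A).obj X ⟶ ((DEquiv.singleB A).obj Y)⟦q⟧) :
    ∃ (X' : A) (p : X' ⟶ X), Epi p ∧ (DEquiv.singleB A).map p ≫ f = 0 := by
  let e := ((ιB (A := A)).commShiftIso q).app ((DEquiv.singleB A).obj Y)
  obtain ⟨X', p, hp, h⟩ := Helper89.Efface.exists_epi_comp_eq_zero_aux q hq
    ((ιB (A := A)).map f ≫ e.hom)
  refine ⟨X', p, hp, ?_⟩
  apply (ιB (A := A)).map_injective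
  rw [Functor.map_zero, ← cancel_mono e.hom, zero_comp, Functor.map_comp, Category.assoc]
  exact h

omit [Abelian A] [HasDerivedCategory.{w} A] in
/-- lifting a distinguished triangle to a triangulated full subcategory -/
lemma lift_triangle {C : Type*} [Category C] [Preadditive C] [HasZeroObject C] [HasShift C ℤ]
    [∀ n : ℤ, (shiftFunctor C n).Additive] [Pretriangulated C] (P : ObjectProperty C)
    [P.IsTriangulated] {X₁ X₂ X₃ : P.FullSubcategory} (f : X₁ ⟶ X₂) (g : X₂ ⟶ X₃)
    (δ : P.ι.obj X₃ ⟶ (P.ι.obj X₁)⟦(1 : ℤ)⟧)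
    (h : Triangle.mk (P.ι.map f) (P.ι.map g) δ ∈ distTriang C) :
    ∃ δ' : X₃ ⟶ X₁⟦(1 : ℤ)⟧, Triangle.mk f g δ' ∈ distTriang P.FullSubcategory := by
  refine ⟨P.ι.preimage (δ ≫ (P.ι.commShiftIso (1 : ℤ)).inv.app X₁), ?_⟩
  change P.ι.mapTriangle.obj _ ∈ distTriang C
  refine isomorphic_distinguished _ h _ ?_
  refine Triangle.isoMk _ _ (Iso.refl _) (Iso.refl _) (Iso.refl _) ?_ ?_ ?_
  · change P.ι.map f ≫ 𝟙 _ = 𝟙 _ ≫ P.ι.map f
    simp
  · change P.ι.map g ≫ 𝟙 _ = 𝟙 _ ≫ P.ι.map g
    simp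
  · change (P.ι.map (P.ι.preimage (δ ≫ (P.ι.commShiftIso (1 : ℤ)).inv.app X₁)) ≫
      (P.ι.commShiftIso (1 : ℤ)).hom.app X₁) ≫ (𝟙 (P.ι.obj X₁))⟦(1 : ℤ)⟧' = 𝟙 _ ≫ δ
    rw [Functor.map_preimage]
    simp

/-- the distinguished triangle of a short exact sequence, in the bounded derived category -/
lemma exists_triangle {S : ShortComplex A} (hS : S.ShortExact) :
    ∃ δ : (DEquiv.singleB A).obj S.X₃ ⟶ ((DEquiv.singleB A).obj S.X₁)⟦(1 : ℤ)⟧,
      Triangle.mk ((DEquiv.singleB A).map S.f) ((DEquiv.singleB A).map S.g) δ ∈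
        distTriang (DerivedCategory.Bounded A) :=
  lift_triangle (DerivedCategory.TStructure.t (C := A)).bounded ((DEquiv.singleB A).map S.f)
    ((DEquiv.singleB A).map S.g) hS.singleδ hS.singleTriangle_distinguished

end Helper89.DbGen
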