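import Mathlib
import Groth.Agent.Lib.Helper89.Efface

set_option autoImplicit false
universe w w' v v' u u'
open CategoryTheory CategoryTheory.Limits CategoryTheory.Abelian

namespace Helper89.Efface

variable {A : Type u} [Category.{v} A] [Abelian A] [HasExt.{w} A]
    {B : Type u'} [Category.{v'} B] [Abelian B] [HasExt.{w'} B]
    (φ : A ⥤ B) [φ.Additive] [PreservesFiniteLimits φ] [PreservesFiniteColimits φ]

lemma hom_bijective_iff (L M : A) :
    Function.Bijective (fun f : Ext.{w} L M 0 => Ext.mapExactFunctor φ f) ↔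
      Function.Bijective (fun f : L ⟶ M => φ.map f) := by
  have h : (fun f : Ext.{w} L M 0 => Ext.mapExactFunctor φ f) =
      Ext.homEquiv₀.symm ∘ (fun f : L ⟶ M => φ.map f) ∘ Ext.homEquiv₀ :=
    Ext.mapExactFunctor₀ φ L M
  rw [h]
  constructor
  · intro hb
    have := (Ext.homEquiv₀ (X := φ.obj L) (Y := φ.obj M)).bijective.comp
      (hb.comp (Ext.homEquiv₀ (X := L) (Y := M)).symm.bijective)
    convert this using 1
    funext f
    simp only [Function.comp_apply, Equiv.apply_symm_apply]
  · intro hb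
    exact (Ext.homEquiv₀ (X := φ.obj L) (Y := φ.obj M)).symm.bijective.comp
      (hb.comp (Ext.homEquiv₀ (X := L) (Y := M)).bijective)

/-- the kernel short exact sequence of an epimorphism -/
lemma kernel_shortExact {L' L : A} (p : L' ⟶ L) [Epi p] :
    (ShortComplex.mk (kernel.ι p) p (kernel.condition p)).ShortExact :=
  { exact := ShortComplex.exact_kernel p }

lemma map_extClass_comp {S : ShortComplex A} (hS : S.ShortExact) {M : A} {n m : ℕ}
    (z : Ext.{w} S.X₁ M n) (h : 1 + n = m) :
    Ext.mapExactFunctor φ (hS.extClass.comp z h) =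
      (hS.map_of_exact φ).extClass.comp (Ext.mapExactFunctor φ z : Ext.{w'} _ _ n) h := by
  rw [Ext.mapExactFunctor_comp, Ext.mapExactFunctor_extClass]
  rfl

theorem bijective_of_effaceable (M : A)
    (h0 : ∀ L : A, Function.Bijective (fun f : L ⟶ M => φ.map f))
    (heff : ∀ (L : A) (n : ℕ), 1 ≤ n → ∀ x : Ext.{w'} (φ.obj L) (φ.obj M) n,
      ∃ (L' : A) (p : L' ⟶ L), Epi p ∧ (Ext.mk₀ (φ.map p)).comp x (zero_add n) = 0)
    (n : ℕ) : ∀ (L : A), Function.Bijective
      (fun f : Ext.{w} L M n => Ext.mapExactFunctor φ f) := by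
  induction n with
  | zero =>
    intro L
    exact (hom_bijective_iff φ L M).2 (h0 L)
  | succ n ih =>
    intro L
    constructor
    · -- injective
      intro y y' hyy'
      have hy : Ext.mapExactFunctor φ (y - y') = 0 := by
        have := (φ.mapExtAddHom L M (n + 1)).map_sub y y'
        rw [Functor.mapExtAddHom_apply, Functor.mapExtAddHom_apply, Functor.mapExtAddHom_apply]
          at this
        rw [this]
        exact sub_eq_zero.2 hyy'
      suffices hz : y - y' = 0 from sub_eq_zero.1 hz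
      generalize y - y' = z at hy
      obtain ⟨L', p, hp, hpz⟩ := exists_epi_comp_eq_zero (Nat.succ_pos n) z
      have hS := kernel_shortExact p
      obtain ⟨z₁, hz₁⟩ := Ext.contravariant_sequence_exact₃ hS M z hpz (add_comm 1 n)
      have hS' := hS.map_of_exact φ
      have e1 : (hS.map_of_exact φ).extClass.comp (Ext.mapExactFunctor φ z₁) (add_comm 1 n) =
          0 := by
        have := map_extClass_comp φ hS z₁ (add_comm 1 n)
        rw [hz₁, hy] at this
        exact this.symm
      obtain ⟨t, ht⟩ := Ext.contravariant_sequence_exact₁ hS' (φ.obj M) _ (add_comm 1 n) e1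
      obtain ⟨w₀, hw₀⟩ := (ih L').2 t
      have e2 : Ext.mapExactFunctor φ ((Ext.mk₀ (kernel.ι p)).comp w₀ (zero_add n)) =
          Ext.mapExactFunctor φ z₁ := by
        rw [Ext.mapExactFunctor_comp, Ext.mapExactFunctor_mk₀]
        have : Ext.mapExactFunctor φ w₀ = t := hw₀
        rw [this]
        exact ht
      have e3 : (Ext.mk₀ (kernel.ι p)).comp w₀ (zero_add n) = z₁ := (ih (kernel p)).1 e2
      rw [← hz₁, ← e3]
      have := hS.extClass_comp_assoc w₀ (h := add_comm 1 n)
      exact this
    · -- surjective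
      intro x
      obtain ⟨L', p, hp, hpx⟩ := heff L (n + 1) (Nat.succ_pos n) x
      have hS := kernel_shortExact p
      have hS' := hS.map_of_exact φ
      obtain ⟨x₁, hx₁⟩ := Ext.contravariant_sequence_exact₃ hS' (φ.obj M) x hpx (add_comm 1 n)
      obtain ⟨y₁, hy₁⟩ := (ih (kernel p)).2 x₁
      refine ⟨hS.extClass.comp y₁ (add_comm 1 n), ?_⟩
      show Ext.mapExactFunctor φ (hS.extClass.comp y₁ (add_comm 1 n)) = x
      rw [map_extClass_comp]
      have : Ext.mapExactFunctor φ y₁ = x₁ := hy₁
      rw [this]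
      exact hx₁

theorem bijective_iff_effaceable (M : A) :
    (∀ (L : A) (n : ℕ), Function.Bijective
      (fun f : Ext.{w} L M n => Ext.mapExactFunctor φ f)) ↔
      ((∀ L : A, Function.Bijective (fun f : L ⟶ M => φ.map f)) ∧
        ∀ (L : A) (n : ℕ), 1 ≤ n → ∀ x : Ext.{w'} (φ.obj L) (φ.obj M) n,
          ∃ (L' : A) (p : L' ⟶ L), Epi p ∧ (Ext.mk₀ (φ.map p)).comp x (zero_add n) = 0) := by
  constructor
  · intro h
    refine ⟨fun L => (hom_bijective_iff φ L M).1 (h L 0), ?_⟩
    intro L n hn x
    obtain ⟨y, hy⟩ := (h L n).2 x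
    obtain ⟨L', p, hp, hpy⟩ := exists_epi_comp_eq_zero (by omega : 0 < n) y
    refine ⟨L', p, hp, ?_⟩
    have : Ext.mapExactFunctor φ y = x := hy
    rw [← this, ← Ext.mapExactFunctor_mk₀, ← Ext.mapExactFunctor_comp, hpy,
      Ext.mapExactFunctor_zero]
  · rintro ⟨h0, heff⟩ L n
    exact bijective_of_effaceable φ M h0 heff n L

end Helper89.Efface
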