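import Groth.Agent.Lib.Helper89.RGI7

/-!
# `RΓ_I` is right adjoint to the inclusion of objects with torsion cohomology; composition
(helper89)
-/

set_option autoImplicit false
universe u

open CategoryTheory CategoryTheory.Limits

attribute [local instance] HasDerivedCategory.standard

namespace Helper89.RGI

section Abstract

variable {D : Type*} [Category D] (R : D ⥤ D) (ε : R ⟶ 𝟭 D) (P : ObjectProperty D)
  (hR : ∀ K, P (R.obj K)) (hP : ∀ T, P T → IsIso (ε.app T))
  (hRε : ∀ K, IsIso (R.map (ε.app K)))

include hR hP hRε in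
lemma comp_ε_bijective (T : D) (hT : P T) (K : D) :
    Function.Bijective (fun g : T ⟶ R.obj K => g ≫ ε.app K) := by
  haveI := hP T hT
  haveI := hP (R.obj K) (hR K)
  haveI := hRε K
  constructor
  · intro g₁ g₂ h
    dsimp only at h
    have h1 : R.map g₁ = R.map g₂ := by
      rw [← cancel_mono (R.map (ε.app K)), ← Functor.map_comp, ← Functor.map_comp, h]
    have h2 : ∀ g : T ⟶ R.obj K, g = inv (ε.app T) ≫ R.map g ≫ ε.app (R.obj K) := by
      intro g
      rw [IsIso.eq_inv_comp]
      exact (ε.naturality g).symm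
    rw [h2 g₁, h2 g₂, h1]
  · intro h
    refine ⟨inv (ε.app T) ≫ R.map h, ?_⟩
    dsimp only
    rw [Category.assoc, IsIso.inv_comp_eq]
    exact ε.naturality h

include hR hP hRε in
/-- an augmented endofunctor `ε : R ⟶ 𝟭` with values in `P`, such that `ε` is invertible on `P`
and `R ε` is invertible, is right adjoint to the inclusion of `P` -/
theorem nonempty_adjunction_of_idempotent : Nonempty (P.ι ⊣ P.lift R hR) := by
  let Φ : ∀ (T : P.FullSubcategory) (K : D), (T ⟶ (P.lift R hR).obj K) → (P.ι.obj T ⟶ K) :=
    fun T K g => P.ι.map g ≫ ε.app K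
  have hΦ : ∀ T K, Function.Bijective (Φ T K) := by
    intro T K
    have h1 := comp_ε_bijective R ε P hR hP hRε T.obj T.property K
    constructor
    · intro g₁ g₂ h
      apply P.ι.map_injective
      exact h1.1 h
    · intro h
      obtain ⟨g, hg⟩ := h1.2 h
      exact ⟨ObjectProperty.homMk g, hg⟩
  refine ⟨Adjunction.mkOfHomEquiv
    { homEquiv := fun T K => (Equiv.ofBijective (Φ T K) (hΦ T K)).symm
      homEquiv_naturality_left_symm := ?_
      homEquiv_naturality_right := ?_ }⟩
  · intro T' T K f g
    simp only [Equiv.symm_symm, Equiv.ofBijective_apply]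
    dsimp only [Φ]
    rw [Functor.map_comp, Category.assoc]
  · intro T K K' f g
    apply (hΦ T K').1
    have h0 := Equiv.ofBijective_apply_symm_apply (Φ T K') (hΦ T K') (f ≫ g)
    refine h0.trans ?_
    dsimp only [Φ]
    rw [Functor.map_comp, Category.assoc]
    have h1 : P.ι.map ((P.lift R hR).map g) ≫ ε.app K' = ε.app K ≫ g := ε.naturality g
    rw [h1, ← Category.assoc]
    have h2 := Equiv.ofBijective_apply_symm_apply (Φ T K) (hΦ T K) f
    dsimp only [Φ] at h2
    rw [h2]

end Abstract

end Helper89.RGI
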