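import Mathlib

/-!
# Exact products and products in the derived category (dual of `SigmaExact`)

If `J`-indexed products exist in the abelian category `A` and preserve epimorphisms, then the
termwise product of complexes is a product in the derived category.
-/

set_option autoImplicit false
set_option linter.style.haveILetI false
set_option linter.unusedSectionVars false
universe w w' v u
open CategoryTheory CategoryTheory.Limits

namespace Groth.Agent.Lib.Helper89.PiExact

section Homology

variable {A : Type u} [Category.{v} A] [Abelian A] {J : Type w}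
  [HasProductsOfShape J A] [(lim : (Discrete J ⥤ A) ⥤ A).PreservesEpimorphisms]

/-- products of epimorphisms are epimorphisms -/
instance pi_map_epi {X Y : J → A} (f : ∀ j, X j ⟶ Y j)
    [∀ j, Epi (f j)] : Epi (Limits.Pi.map f) := by
  let α : Discrete.functor X ⟶ Discrete.functor Y :=
    Discrete.natTrans (fun j : Discrete J => f j.as)
  haveI : ∀ c : Discrete J, Epi (α.app c) := fun c => inferInstanceAs (Epi (f c.as))
  haveI : Epi α := NatTrans.epi_of_epi_app α
  exact inferInstanceAs (Epi ((lim : (Discrete J ⥤ A) ⥤ A).map α))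

/-- products of exact sequences are exact -/
lemma pi_map_exact (S : J → ShortComplex A) (hS : ∀ j, (S j).Exact) :
    (ShortComplex.mk (Limits.Pi.map fun j => (S j).f) (Limits.Pi.map fun j => (S j).g) (by
      rw [Limits.Pi.map_comp_map]
      apply Limits.Pi.hom_ext
      intro j
      simp)).Exact := by
  rw [ShortComplex.exact_iff_epi_kernel_lift]
  dsimp
  set F := Limits.Pi.map fun j => (S j).f
  set G := Limits.Pi.map fun j => (S j).g
  have hFG : F ≫ G = 0 := by
    rw [Limits.Pi.map_comp_map]
    apply Limits.Pi.hom_ext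
    intro j
    simp
  have hepi : ∀ j, Epi (kernel.lift (S j).g (S j).f (S j).zero) := fun j =>
    (S j).exact_iff_epi_kernel_lift.1 (hS j)
  let E : (∏ᶜ fun j => (S j).X₁) ⟶ ∏ᶜ fun j => kernel (S j).g :=
    Limits.Pi.map fun j => kernel.lift (S j).g (S j).f (S j).zero
  haveI : Epi E := pi_map_epi _
  let I : (∏ᶜ fun j => kernel (S j).g) ⟶ ∏ᶜ fun j => (S j).X₂ :=
    Limits.Pi.map fun j => kernel.ι (S j).g
  have hIG : I ≫ G = 0 := by
    rw [Limits.Pi.map_comp_map]
    apply Limits.Pi.hom_ext
    intro j
    simp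
  let κ : (∏ᶜ fun j => kernel (S j).g) ⟶ kernel G := kernel.lift G I hIG
  let lam : kernel G ⟶ ∏ᶜ fun j => kernel (S j).g :=
    Limits.Pi.lift fun j => kernel.lift (S j).g (kernel.ι G ≫ Limits.Pi.π _ j) (by
      have : Limits.Pi.π (fun j => (S j).X₂) j ≫ (S j).g = G ≫ Limits.Pi.π _ j :=
        (Limits.Pi.map_π (fun j => (S j).g) j).symm
      rw [Category.assoc, this, kernel.condition_assoc, zero_comp])
  have hlamκ : lam ≫ κ = 𝟙 _ := by
    rw [← cancel_mono (kernel.ι G), Category.assoc, kernel.lift_ι, Category.id_comp]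
    apply Limits.Pi.hom_ext
    intro j
    rw [Category.assoc, Limits.Pi.map_π, Limits.Pi.lift_π_assoc, kernel.lift_ι]
  haveI : Epi κ := epi_of_epi_fac hlamκ
  have hfac : kernel.lift G F hFG = E ≫ κ := by
    rw [← cancel_mono (kernel.ι G), kernel.lift_ι, Category.assoc, kernel.lift_ι]
    apply Limits.Pi.hom_ext
    intro j
    simp only [F, E, I, Limits.Pi.map_π, Category.assoc, Limits.Pi.map_π_assoc, kernel.lift_ι]
  rw [hfac]
  infer_instance

/-- product of a family of short complexes -/
noncomputable abbrev piSC (S : J → ShortComplex A) : ShortComplex A :=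
  ShortComplex.mk (Limits.Pi.map fun j => (S j).f) (Limits.Pi.map fun j => (S j).g) (by
    rw [Limits.Pi.map_comp_map]
    apply Limits.Pi.hom_ext
    intro j
    simp)

/-- the projections from the product short complex -/
noncomputable abbrev piSCπ (S : J → ShortComplex A) (j : J) : piSC S ⟶ S j where
  τ₁ := Limits.Pi.π (fun j => (S j).X₁) j
  τ₂ := Limits.Pi.π (fun j => (S j).X₂) j
  τ₃ := Limits.Pi.π (fun j => (S j).X₃) j
  comm₁₂ := by simp [piSC]
  comm₂₃ := by simp [piSC]

/-- functoriality of the product short complex -/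
noncomputable abbrev piSCMap {S T : J → ShortComplex A} (φ : ∀ j, S j ⟶ T j) :
    piSC S ⟶ piSC T where
  τ₁ := Limits.Pi.map fun j => (φ j).τ₁
  τ₂ := Limits.Pi.map fun j => (φ j).τ₂
  τ₃ := Limits.Pi.map fun j => (φ j).τ₃
  comm₁₂ := by
    dsimp [piSC]
    rw [Limits.Pi.map_comp_map, Limits.Pi.map_comp_map]
    congr 1
    funext j
    exact (φ j).comm₁₂
  comm₂₃ := by
    dsimp [piSC]
    rw [Limits.Pi.map_comp_map, Limits.Pi.map_comp_map]
    congr 1
    funext j
    exact (φ j).comm₂₃

variable (S : J → ShortComplex A) (h : ∀ j, (S j).LeftHomologyData)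

lemma pi_wi : (Limits.Pi.map fun j => (h j).i) ≫ (piSC S).g = 0 := by
  dsimp [piSC]
  rw [Limits.Pi.map_comp_map]
  apply Limits.Pi.hom_ext
  intro j
  simp

/-- the kernel property for the product -/
noncomputable def pi_hi : IsLimit (KernelFork.ofι (Limits.Pi.map fun j => (h j).i)
    (pi_wi S h)) := by
  have hex := pi_map_exact (fun j => ShortComplex.mk (h j).i (S j).g (h j).wi)
    (fun j => ShortComplex.exact_of_f_is_kernel _ (h j).hi)
  haveI : Mono (Limits.Pi.map fun j => (h j).i) := inferInstance
  exact hex.fIsKernel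

lemma pi_f' : (pi_hi S h).lift (KernelFork.ofι (piSC S).f (piSC S).zero) =
    Limits.Pi.map fun j => (h j).f' := by
  have : Mono (Limits.Pi.map fun j => (h j).i) := inferInstance
  rw [← cancel_mono (Limits.Pi.map fun j => (h j).i)]
  have h1 := (pi_hi S h).fac (KernelFork.ofι (piSC S).f (piSC S).zero)
    WalkingParallelPair.zero
  dsimp at h1
  rw [h1, Limits.Pi.map_comp_map]
  congr 1
  funext j
  exact ((h j).f'_i).symm

lemma pi_f'_π : (Limits.Pi.map fun j => (h j).f') ≫
    (Limits.Pi.map fun j => (h j).π) = 0 := by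
  rw [Limits.Pi.map_comp_map]
  apply Limits.Pi.hom_ext
  intro j
  simp

lemma pi_wπ : (pi_hi S h).lift (KernelFork.ofι (piSC S).f (piSC S).zero) ≫
    (Limits.Pi.map fun j => (h j).π) = 0 := by
  rw [pi_f']
  exact pi_f'_π S h

omit [HasProductsOfShape J A] [(lim : (Discrete J ⥤ A) ⥤ A).PreservesEpimorphisms] in
lemma isColimit_cokernelCofork_of_eq {X Y Z : A} {f₁ f₂ : X ⟶ Y} (hf : f₁ = f₂) (π : Y ⟶ Z)
    (w₁ : f₁ ≫ π = 0) (w₂ : f₂ ≫ π = 0) (hc : IsColimit (CokernelCofork.ofπ π w₂)) :
    Nonempty (IsColimit (CokernelCofork.ofπ π w₁)) := by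
  subst hf
  exact ⟨hc⟩

/-- the cokernel property for the product -/
noncomputable def pi_hπ : IsColimit (CokernelCofork.ofπ (Limits.Pi.map fun j => (h j).π)
    (pi_wπ S h)) := by
  have hex := pi_map_exact (fun j => ShortComplex.mk (h j).f' (h j).π (h j).f'_π)
    (fun j => ShortComplex.exact_of_g_is_cokernel _ (h j).hπ')
  haveI : Epi (Limits.Pi.map fun j => (h j).π) := pi_map_epi _
  have hc : IsColimit (CokernelCofork.ofπ (Limits.Pi.map fun j => (h j).π)
      (pi_f'_π S h)) := hex.gIsCokernel
  exact (isColimit_cokernelCofork_of_eq (pi_f' S h) _ _ _ hc).some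

/-- left homology data of the product short complex -/
noncomputable abbrev piLHD : (piSC S).LeftHomologyData where
  K := ∏ᶜ fun j => (h j).K
  H := ∏ᶜ fun j => (h j).H
  i := Limits.Pi.map fun j => (h j).i
  π := Limits.Pi.map fun j => (h j).π
  wi := pi_wi S h
  hi := pi_hi S h
  wπ := pi_wπ S h
  hπ := pi_hπ S h

lemma piLHD_f' : (piLHD S h).f' = Limits.Pi.map fun j => (h j).f' := pi_f' S h

variable {S h} {T : J → ShortComplex A} {h' : ∀ j, (T j).LeftHomologyData}

/-- left homology map data for the product of a family of morphisms -/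
noncomputable abbrev piLHMD {φ : ∀ j, S j ⟶ T j}
    (γ : ∀ j, ShortComplex.LeftHomologyMapData (φ j) (h j) (h' j)) :
    ShortComplex.LeftHomologyMapData (piSCMap φ) (piLHD S h) (piLHD T h') where
  φK := Limits.Pi.map fun j => (γ j).φK
  φH := Limits.Pi.map fun j => (γ j).φH
  commi := by
    dsimp [piLHD, piSCMap]
    rw [Limits.Pi.map_comp_map, Limits.Pi.map_comp_map]
    congr 1
    funext j
    exact (γ j).commi
  commf' := by
    rw [piLHD_f', piLHD_f']
    dsimp [piSCMap]
    rw [Limits.Pi.map_comp_map, Limits.Pi.map_comp_map]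
    congr 1
    funext j
    exact (γ j).commf'
  commπ := by
    dsimp [piLHD]
    rw [Limits.Pi.map_comp_map, Limits.Pi.map_comp_map]
    congr 1
    funext j
    exact (γ j).commπ

lemma quasiIso_piSCMap (φ : ∀ j, S j ⟶ T j) (hφ : ∀ j, ShortComplex.QuasiIso (φ j)) :
    ShortComplex.QuasiIso (piSCMap φ) := by
  let γ : ∀ j, ShortComplex.LeftHomologyMapData (φ j) (S j).leftHomologyData
      (T j).leftHomologyData := fun j => ShortComplex.leftHomologyMapData _ _ _
  have hγ : ∀ j, IsIso (γ j).φH := fun j => (γ j).quasiIso_iff.1 (hφ j)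
  rw [(piLHMD γ).quasiIso_iff]
  refine ⟨Limits.Pi.map fun j => inv (γ j).φH, ?_, ?_⟩
  · dsimp only
    rw [Limits.Pi.map_comp_map]
    apply Limits.Pi.hom_ext
    intro j
    rw [Limits.Pi.map_π, IsIso.hom_inv_id, Category.comp_id, Category.id_comp]
  · dsimp only
    rw [Limits.Pi.map_comp_map]
    apply Limits.Pi.hom_ext
    intro j
    rw [Limits.Pi.map_π, IsIso.inv_hom_id, Category.comp_id, Category.id_comp]

variable (S) in
/-- left homology map data for the projections -/
noncomputable abbrev piπLHMD (h : ∀ j, (S j).LeftHomologyData) (j : J) :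
    ShortComplex.LeftHomologyMapData (piSCπ S j) (piLHD S h) (h j) where
  φK := Limits.Pi.π (fun j => (h j).K) j
  φH := Limits.Pi.π (fun j => (h j).H) j
  commi := by simp [piLHD, piSCπ]
  commf' := by
    rw [piLHD_f']
    dsimp [piSCπ]
    rw [Limits.Pi.map_π]
  commπ := by simp [piLHD]

variable (S) in
/-- the homology of the product is jointly detected by the homologies of the factors -/
lemma homology_hom_ext {W : A} (a b : W ⟶ (piSC S).homology)
    (hab : ∀ j, a ≫ ShortComplex.homologyMap (piSCπ S j) =
      b ≫ ShortComplex.homologyMap (piSCπ S j)) : a = b := by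
  let h := fun j => (S j).leftHomologyData
  rw [← cancel_mono (piLHD S h).homologyIso.hom]
  apply Limits.Pi.hom_ext
  intro j
  have := hab j
  rw [(piπLHMD S h j).homologyMap_eq] at this
  simp only [← Category.assoc] at this
  exact (cancel_mono _).1 this

end Homology

section Complex

variable {A : Type u} [Category.{v} A] [Abelian A] {J : Type w}
  [HasProductsOfShape J A] [(lim : (Discrete J ⥤ A) ⥤ A).PreservesEpimorphisms]
  {ι : Type*} {c : ComplexShape ι}

omit [(lim : (Discrete J ⥤ A) ⥤ A).PreservesEpimorphisms]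

/-- the termwise product of a family of complexes -/
noncomputable def piCx (X : J → HomologicalComplex A c) : HomologicalComplex A c where
  X n := ∏ᶜ fun j => (X j).X n
  d n m := Limits.Pi.map fun j => (X j).d n m
  shape n m h := by
    apply Limits.Pi.hom_ext
    intro j
    rw [Limits.Pi.map_π, (X j).shape n m h, zero_comp, comp_zero]
  d_comp_d' n m k _ _ := by
    apply Limits.Pi.hom_ext
    intro j
    rw [Category.assoc, Limits.Pi.map_π, Limits.Pi.map_π_assoc, (X j).d_comp_d, zero_comp,
      comp_zero]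

/-- the projections from the termwise product -/
noncomputable def piCxπ (X : J → HomologicalComplex A c) (j : J) : piCx X ⟶ X j where
  f n := Limits.Pi.π (fun j => (X j).X n) j
  comm' n m _ := by
    dsimp [piCx]
    rw [Limits.Pi.map_π]

/-- the universal property of the termwise product -/
noncomputable def piCxLift (X : J → HomologicalComplex A c) {L : HomologicalComplex A c}
    (f : ∀ j, L ⟶ X j) : L ⟶ piCx X where
  f n := Limits.Pi.lift fun j => (f j).f n
  comm' n m _ := by
    dsimp [piCx]
    apply Limits.Pi.hom_ext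
    intro j
    rw [Category.assoc, Limits.Pi.map_π, Limits.Pi.lift_π_assoc, Category.assoc, Limits.Pi.lift_π,
      (f j).comm]

@[reassoc (attr := simp)]
lemma piCxLift_π (X : J → HomologicalComplex A c) {L : HomologicalComplex A c}
    (f : ∀ j, L ⟶ X j) (j : J) : piCxLift X f ≫ piCxπ X j = f j := by
  ext n
  exact Limits.Pi.lift_π (fun j => (f j).f n) j

/-- functoriality of the termwise product -/
noncomputable def piCxMap {X Y : J → HomologicalComplex A c} (φ : ∀ j, X j ⟶ Y j) :
    piCx X ⟶ piCx Y where
  f n := Limits.Pi.map fun j => (φ j).f n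
  comm' n m _ := by
    dsimp [piCx]
    rw [Limits.Pi.map_comp_map, Limits.Pi.map_comp_map]
    congr 1
    funext j
    exact (φ j).comm n m

@[reassoc (attr := simp)]
lemma piCxMap_π {X Y : J → HomologicalComplex A c} (φ : ∀ j, X j ⟶ Y j) (j : J) :
    piCxMap φ ≫ piCxπ Y j = piCxπ X j ≫ φ j := by
  ext n
  exact Limits.Pi.map_π (fun j => (φ j).f n) j

lemma piCx_hom_ext (X : J → HomologicalComplex A c) {L : HomologicalComplex A c}
    (a b : L ⟶ piCx X) (h : ∀ j, a ≫ piCxπ X j = b ≫ piCxπ X j) : a = b := by
  ext n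
  apply Limits.Pi.hom_ext
  intro j
  have := congr_arg (fun φ => φ.f n) (h j)
  exact this

/-- the termwise product fan -/
noncomputable abbrev fanCx (X : J → HomologicalComplex A c) : Fan X :=
  Fan.mk (piCx X) (piCxπ X)

/-- the termwise product is a product of complexes -/
noncomputable def isLimitFanCx (X : J → HomologicalComplex A c) : IsLimit (fanCx X) :=
  Fan.IsLimit.mk _ (fun s => piCxLift X s.proj) (fun s j => piCxLift_π X s.proj j)
    (fun s m hm => by
      apply piCx_hom_ext
      intro j
      rw [piCxLift_π]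
      exact hm j)

variable [(lim : (Discrete J ⥤ A) ⥤ A).PreservesEpimorphisms]

lemma quasiIso_piCxMap {X Y : J → HomologicalComplex A c} (φ : ∀ j, X j ⟶ Y j)
    (hφ : ∀ j, QuasiIso (φ j)) : QuasiIso (piCxMap φ) := by
  constructor
  intro n
  rw [quasiIsoAt_iff]
  exact quasiIso_piSCMap (fun j => (HomologicalComplex.shortComplexFunctor A c n).map (φ j))
    (fun j => by
      have := (hφ j).quasiIsoAt n
      rwa [quasiIsoAt_iff] at this)

lemma piCx_homology_hom_ext (X : J → HomologicalComplex A c) (n : ι) {W : A}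
    (a b : W ⟶ (piCx X).homology n)
    (hab : ∀ j, a ≫ HomologicalComplex.homologyMap (piCxπ X j) n =
      b ≫ HomologicalComplex.homologyMap (piCxπ X j) n) : a = b :=
  homology_hom_ext (fun j => (X j).sc n) a b hab

end Complex

section Derived

open DerivedCategory CategoryTheory.Pretriangulated

variable {A : Type u} [Category.{v} A] [Abelian A]
  [HasDerivedCategory.{w'} A] {J : Type w} [HasProductsOfShape J A]
  [(lim : (Discrete J ⥤ A) ⥤ A).PreservesEpimorphisms]
  (X : J → CochainComplex A ℤ)

/-- existence part of the universal property of the product in the derived category -/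
lemma exists_lift (L : DerivedCategory A) (f : ∀ j, L ⟶ Q.obj (X j)) :
    ∃ g : L ⟶ Q.obj (piCx X), ∀ j, g ≫ Q.map (piCxπ X j) = f j := by
  let e : Q.obj (Q.objPreimage L) ≅ L := Q.objObjPreimageIso L
  have hfac := fun j => left_fac (e.hom ≫ f j)
  choose Y' g s hs hg using hfac
  have hqs : ∀ j, QuasiIso (s j) := fun j => (isIso_Q_map_iff_quasiIso A (s j)).1 (hs j)
  have hpi : QuasiIso (piCxMap s) := quasiIso_piCxMap s hqs
  have : IsIso (Q.map (piCxMap s)) := (isIso_Q_map_iff_quasiIso A _).2 hpi
  refine ⟨e.inv ≫ Q.map (piCxLift Y' g) ≫ inv (Q.map (piCxMap s)), ?_⟩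
  intro j
  have h1 : inv (Q.map (piCxMap s)) ≫ Q.map (piCxπ X j) =
      Q.map (piCxπ Y' j) ≫ inv (Q.map (s j)) := by
    have := hs j
    rw [← cancel_epi (Q.map (piCxMap s)), IsIso.hom_inv_id_assoc, ← Q.map_comp_assoc, piCxMap_π,
      Q.map_comp, Category.assoc, IsIso.hom_inv_id, Category.comp_id]
  rw [Category.assoc, Category.assoc, h1, ← Q.map_comp_assoc, piCxLift_π, ← hg j,
    Iso.inv_hom_id_assoc]

/-- an endomorphism of the product compatible with all projections is an isomorphism -/
lemma isIso_of_comp_π (e : Q.obj (piCx X) ⟶ Q.obj (piCx X))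
    (he : ∀ j, e ≫ Q.map (piCxπ X j) = Q.map (piCxπ X j)) : IsIso e := by
  rw [DerivedCategory.isIso_iff]
  intro n
  let θ : ∀ K : CochainComplex A ℤ, (homologyFunctor A n).obj (Q.obj K) ≅ K.homology n :=
    fun K => (homologyFunctorFactors A n).app K
  have hnat : ∀ {K L : CochainComplex A ℤ} (φ : K ⟶ L),
      (homologyFunctor A n).map (Q.map φ) ≫ (θ L).hom =
        (θ K).hom ≫ HomologicalComplex.homologyMap φ n :=
    fun φ => (homologyFunctorFactors A n).hom.naturality φ
  have key : (θ (piCx X)).inv ≫ (homologyFunctor A n).map e ≫ (θ (piCx X)).hom = 𝟙 _ := by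
    apply piCx_homology_hom_ext X n
    intro j
    rw [Category.assoc, Category.assoc, ← hnat, ← Functor.map_comp_assoc, he j, hnat,
      Iso.inv_hom_id_assoc, Category.id_comp]
  have : (homologyFunctor A n).map e = 𝟙 _ := by
    rw [← cancel_mono (θ (piCx X)).hom, ← cancel_epi (θ (piCx X)).inv, key,
      Category.id_comp, Iso.inv_hom_id]
  rw [this]
  infer_instance

/-- uniqueness part of the universal property of the product in the derived category -/
lemma eq_zero_of_comp_π (L : DerivedCategory A) (c : L ⟶ Q.obj (piCx X))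
    (hc : ∀ j, c ≫ Q.map (piCxπ X j) = 0) : c = 0 := by
  obtain ⟨M, m, δ, hT⟩ := distinguished_cocone_triangle c
  have hb := fun j => Triangle.yoneda_exact₂ _ hT (Q.map (piCxπ X j)) (hc j)
  choose b hb using hb
  obtain ⟨β, hβ⟩ := exists_lift X M b
  have he : ∀ j, (m ≫ β) ≫ Q.map (piCxπ X j) = Q.map (piCxπ X j) := by
    intro j
    rw [Category.assoc, hβ j]
    exact (hb j).symm
  have := isIso_of_comp_π X (m ≫ β) he
  have h0 : c ≫ (m ≫ β) = 0 := by
    have : c ≫ m = 0 := comp_distTriang_mor_zero₁₂ _ hT
    rw [← Category.assoc, this, zero_comp]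
  rw [← cancel_mono (m ≫ β), h0, zero_comp]

/-- the product fan in the derived category -/
noncomputable abbrev fanQ : Fan (fun j => (Q : _ ⥤ DerivedCategory A).obj (X j)) :=
  Fan.mk (Q.obj (piCx X)) (fun j => Q.map (piCxπ X j))

/-- the termwise product is a product in the derived category -/
noncomputable def isLimitFanQ : IsLimit (fanQ (A := A) X) :=
  Fan.IsLimit.mk _ (fun s => (exists_lift X s.pt s.proj).choose)
    (fun s j => (exists_lift X s.pt s.proj).choose_spec j)
    (fun s m hm => by
      let m' : s.pt ⟶ Q.obj (piCx X) := m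
      have h0 : m' - (exists_lift X s.pt s.proj).choose = 0 := by
        apply eq_zero_of_comp_π X
        intro j
        rw [Preadditive.sub_comp, sub_eq_zero]
        exact (hm j).trans ((exists_lift X s.pt s.proj).choose_spec j).symm
      exact sub_eq_zero.1 h0)

instance hasProduct_Q_obj : HasProduct (fun j => (Q : _ ⥤ DerivedCategory A).obj (X j)) :=
  ⟨⟨⟨_, isLimitFanQ X⟩⟩⟩

theorem hasProductsOfShape_derivedCategory : HasProductsOfShape J (DerivedCategory A) := by
  constructor
  intro F
  let K : J → DerivedCategory A := fun j => F.obj ⟨j⟩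
  let X : J → CochainComplex A ℤ := fun j => Q.objPreimage (K j)
  have : HasLimit (Discrete.functor (fun j => (Q : _ ⥤ DerivedCategory A).obj (X j))) :=
    hasProduct_Q_obj X
  have e : F ≅ Discrete.functor (fun j => (Q : _ ⥤ DerivedCategory A).obj (X j)) :=
    Discrete.natIso (fun ⟨j⟩ => (Q.objObjPreimageIso (K j)).symm)
  exact hasLimit_of_iso e.symm

/-- the localization functor preserves products of complexes -/
instance preservesLimit_Q : PreservesLimit (Discrete.functor X) (Q : _ ⥤ DerivedCategory A) := by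
  apply preservesLimit_of_preserves_limit_cone (isLimitFanCx X)
  exact (isLimitMapConeFanMkEquiv Q X (piCxπ X)).symm (isLimitFanQ X)

end Derived

end Groth.Agent.Lib.Helper89.PiExact
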