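import Groth.Agent.Lib.Helper89.RGI6

/-!
# `RΓ_I` over Noetherian rings: torsion cohomology, idempotence, composition (helper89)
-/

set_option autoImplicit false
universe u

open CategoryTheory CategoryTheory.Limits

attribute [local instance] HasDerivedCategory.standard

namespace Helper89.RGI

open DRing DerivedCategory CochainComplex

variable {A : Type u} [CommRing A] (I : Ideal A)

/-- the homology of `Q.obj J` is torsion when that of `J` is -/
lemma torsion_homology_Q (J : CochainComplex (ModuleCat.{u} A) ℤ)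
    (h : ∀ (n : ℤ) (m : J.homology n), m ∈ torsionSub I (J.homology n)) (n : ℤ)
    (m : (homologyFunctor (ModuleCat.{u} A) n).obj (Q.obj J)) :
    m ∈ torsionSub I ((homologyFunctor (ModuleCat.{u} A) n).obj (Q.obj J)) :=
  torsion_of_iso I (homologyQIso J n) (h n) m

section

variable [HasRgammaI I]

/-- `RΓ_I K` has `I`-power torsion cohomology -/
theorem torsion_homology_rg (K : Dual.D A) (n : ℤ)
    (m : (homologyFunctor (ModuleCat.{u} A) n).obj ((RgammaI I).obj K)) :
    m ∈ torsionSub I ((homologyFunctor (ModuleCat.{u} A) n).obj ((RgammaI I).obj K)) := by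
  obtain ⟨J, hJ, -, ⟨e⟩⟩ := exists_kInj K
  let e' : (RgammaI I).obj K ≅ Q.obj (gammaCx I _ J) :=
    (RgammaI I).mapIso e.symm ≪≫ (asIso (uJ I J)).symm
  exact torsion_of_iso I ((homologyFunctor (ModuleCat.{u} A) n).mapIso e')
    (torsion_homology_Q I _ (homology_gammaCx_torsion I J) n) m

/-- `Γ_I (Γ_I J) ⟶ Γ_I J` is an isomorphism of complexes -/
instance isIso_gamma_map_ι (J : CochainComplex (ModuleCat.{u} A) ℤ) :
    IsIso (((gammaI I).mapHomologicalComplex (ComplexShape.up ℤ)).map (gammaCxι I _ J)) := by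
  haveI : ∀ n, IsIso ((((gammaI I).mapHomologicalComplex (ComplexShape.up ℤ)).map
      (gammaCxι I _ J)).f n) := by
    intro n
    rw [ConcreteCategory.isIso_iff_bijective]
    constructor
    · intro x y hxy
      apply Subtype.ext
      apply Subtype.ext
      exact congrArg Subtype.val hxy
    · intro y
      obtain ⟨k, hk⟩ := y.2
      exact ⟨⟨y, ⟨k, fun a ha => Subtype.ext (hk a ha)⟩⟩, Subtype.ext rfl⟩
  exact HomologicalComplex.Hom.isIso_of_components _

variable [IsNoetherianRing A]

/-- `RΓ_I (ε_K)` is an isomorphism for `K` represented by a K-injective complex of injectives -/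
lemma isIso_rg_map_ε_Q (J : CochainComplex (ModuleCat.{u} A) ℤ) [J.IsKInjective]
    (hinj : ∀ n, Injective (J.X n)) :
    IsIso ((RgammaI I).map ((RgammaIε I).app (Q.obj J))) := by
  -- reduce to `Q.map ι`
  have h0 : (RgammaIε I).app (Q.obj J) = inv (uJ I J) ≫ Q.map (gammaCxι I _ J) := by
    rw [IsIso.eq_inv_comp]
    exact uJ_ε I J
  rw [h0, Functor.map_comp]
  suffices IsIso ((RgammaI I).map (Q.map (gammaCxι I _ J))) by infer_instance
  -- a K-injective resolution of `Γ_I J`
  let G := gammaCx I _ J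
  obtain ⟨J', q, hJ', hq, -, hext⟩ :=
    Groth.Agent.Lib.Helper13.KInjMain.exists_kInjective_resolution G
  have hinj' : ∀ n, Injective (J'.X n) := fun n =>
    Groth.Agent.Lib.Helper13.KInjBasic.injective_of_extProp hext n
  haveI : IsIso (Q.map q) := (isIso_Q_map_iff_quasiIso _ q).2 hq
  obtain ⟨i', hi'⟩ := Groth.Agent.Lib.Helper84.KInj.exists_Q_map_eq J' J
    (inv (Q.map q) ≫ Q.map (gammaCxι I _ J))
  have h1 : Q.map (q ≫ i') = Q.map (gammaCxι I _ J) := by
    rw [Functor.map_comp, hi', IsIso.hom_inv_id_assoc]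
  obtain ⟨H⟩ := Groth.Agent.Lib.Helper84.KInj.nonempty_homotopy_of_Q_map_eq _ J _ _ h1
  -- `Γ_I i'` is a quasi-isomorphism
  let Γ := (gammaI I).mapHomologicalComplex (ComplexShape.up ℤ)
  have h2 : Q.map (Γ.map q) ≫ Q.map (Γ.map i') = Q.map (Γ.map (gammaCxι I _ J)) := by
    rw [← Functor.map_comp, ← Functor.map_comp]
    exact Q_map_eq_of_homotopy _ ((gammaI I).mapHomotopy H)
  have h3 : QuasiIso (Γ.map q) :=
    quasiIso_gammaCx_map I q (injective_gammaCx_X I J hinj) hinj' hq
  haveI : IsIso (Q.map (Γ.map q)) := (isIso_Q_map_iff_quasiIso _ _).2 h3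
  have h4 : IsIso (Q.map (Γ.map i')) := by
    have : Q.map (Γ.map i') = inv (Q.map (Γ.map q)) ≫ Q.map (Γ.map (gammaCxι I _ J)) := by
      rw [IsIso.eq_inv_comp]
      exact h2
    rw [this]
    infer_instance
  -- transport along the units
  have h5 := uJ_naturality I i'
  have h6 : IsIso ((RgammaI I).map (Q.map i')) := by
    have : (RgammaI I).map (Q.map i') = inv (uJ I J') ≫ Q.map (Γ.map i') ≫ uJ I J := by
      rw [IsIso.eq_inv_comp]
      exact h5.symm
    rw [this]
    infer_instance
  have h7 : Q.map (gammaCxι I _ J) = Q.map q ≫ Q.map i' := by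
    rw [← Functor.map_comp]
    exact h1.symm
  rw [h7, Functor.map_comp]
  infer_instance

/-- `RΓ_I (ε_K)` is an isomorphism -/
theorem isIso_rg_map_ε (K : Dual.D A) : IsIso ((RgammaI I).map ((RgammaIε I).app K)) := by
  obtain ⟨J, hJ, hinj, ⟨e⟩⟩ := exists_kInj K
  have h1 := isIso_rg_map_ε_Q I J hinj
  have h2 : (RgammaIε I).app K = (RgammaI I).map e.inv ≫ (RgammaIε I).app (Q.obj J) ≫ e.hom := by
    rw [← cancel_epi ((RgammaI I).map e.hom), ← Functor.map_comp_assoc, e.hom_inv_id,
      CategoryTheory.Functor.map_id, Category.id_comp]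
    exact (RgammaIε I).naturality e.hom
  rw [h2, Functor.map_comp, Functor.map_comp]
  infer_instance

end

end Helper89.RGI
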