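import Mathlib

/-!
# Lifting a compatible family of maps `M → N / J^(n+1) N` to a map `M → N` (Artin–Rees)
(helper89, for helper40's S0833, item E)
-/

set_option autoImplicit false
universe u

namespace Groth.Agent.Lib.Helper89.ARHomE

section Tors

variable {B : Type u} [CommRing B] {N : Type u} [AddCommGroup N] [Module B N]

/-- The `I`-torsion submodule `N[I]`. -/
def tors (I : Ideal B) : Submodule B N where
  carrier := {y | ∀ a ∈ I, a • y = 0}
  add_mem' := by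
    intro x y hx hy a ha
    rw [smul_add, hx a ha, hy a ha, add_zero]
  zero_mem' := by
    intro a _
    exact smul_zero a
  smul_mem' := by
    intro r x hx a ha
    rw [smul_comm, hx a ha, smul_zero]

lemma mem_tors (I : Ideal B) (y : N) : y ∈ tors (N := N) I ↔ ∀ a ∈ I, a • y = 0 := Iff.rfl

lemma smul_tors_eq_bot (I : Ideal B) : I • (tors (N := N) I) = ⊥ := by
  rw [eq_bot_iff, Submodule.smul_le]
  intro a ha y hy
  rw [Submodule.mem_bot]
  exact hy a ha

/-- Artin–Rees, first use: `N[J^c] ⊓ J^(n+1) N = 0` for `n ≫ 0`. -/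
theorem exists_inf_eq_bot [IsNoetherianRing B] [Module.Finite B N] (J : Ideal B) (c : ℕ) :
    ∃ n₀ : ℕ, ∀ n ≥ n₀, ∀ τ ∈ tors (N := N) (J ^ c),
      τ ∈ J ^ (n + 1) • (⊤ : Submodule B N) → τ = 0 := by
  obtain ⟨k, hk⟩ := Ideal.exists_pow_inf_eq_pow_smul J (tors (N := N) (J ^ c))
  refine ⟨k + c, fun n hn τ hτ hτ' => ?_⟩
  have h1 : J ^ (k + c) • (⊤ : Submodule B N) ⊓ tors (J ^ c) = ⊥ := by
    rw [hk (k + c) (Nat.le_add_right k c), Nat.add_sub_cancel_left, eq_bot_iff]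
    calc J ^ c • (J ^ k • ⊤ ⊓ tors (J ^ c)) ≤ J ^ c • tors (N := N) (J ^ c) :=
          Submodule.smul_mono le_rfl inf_le_right
      _ = ⊥ := smul_tors_eq_bot _
  have h2 : J ^ (n + 1) • (⊤ : Submodule B N) ≤ J ^ (k + c) • ⊤ :=
    Submodule.smul_mono_left (Ideal.pow_le_pow_right (by omega))
  have h3 : τ ∈ J ^ (k + c) • (⊤ : Submodule B N) ⊓ tors (J ^ c) := ⟨h2 hτ', hτ⟩
  rw [h1] at h3
  exact (Submodule.mem_bot B).mp h3

lemma pi_mem_smul_top {ι : Type*} [Finite ι] (I : Ideal B) (v : ι → N)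
    (hv : ∀ i, v i ∈ I • (⊤ : Submodule B N)) : v ∈ I • (⊤ : Submodule B (ι → N)) := by
  classical
  cases nonempty_fintype ι
  rw [← Finset.univ_sum_single v]
  refine Submodule.sum_mem _ fun i _ => ?_
  have h1 : Pi.single i (v i) ∈ Submodule.map (LinearMap.single B (fun _ : ι => N) i)
      (I • (⊤ : Submodule B N)) := ⟨v i, hv i, rfl⟩
  rw [Submodule.map_smul''] at h1
  exact Submodule.smul_mono le_rfl le_top h1

/-- Artin–Rees, second use: `(J^(n+k') N : J^c) ⊆ N[J^c] + J^n N`. -/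
theorem exists_shift [IsNoetherianRing B] [Module.Finite B N] (J : Ideal B) (c : ℕ) :
    ∃ k' : ℕ, ∀ (n : ℕ) (y : N),
      (∀ a ∈ J ^ c, a • y ∈ J ^ (n + k') • (⊤ : Submodule B N)) →
      ∃ τ ∈ tors (N := N) (J ^ c), y - τ ∈ J ^ n • (⊤ : Submodule B N) := by
  classical
  obtain ⟨s, hs⟩ := (IsNoetherian.noetherian (J ^ c) : (J ^ c).FG)
  let ψ : N →ₗ[B] (s → N) := LinearMap.pi (fun a => LinearMap.lsmul B N (a : B))
  have hψ : ∀ (y : N) (a : s), ψ y a = (a : B) • y := fun _ _ => rfl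
  obtain ⟨k', hk'⟩ := Ideal.exists_pow_inf_eq_pow_smul J (LinearMap.range ψ)
  refine ⟨k', fun n y hy => ?_⟩
  have h1 : ψ y ∈ J ^ (n + k') • (⊤ : Submodule B (s → N)) := by
    refine pi_mem_smul_top _ _ fun a => ?_
    rw [hψ]
    refine hy _ ?_
    rw [← hs]
    exact Submodule.subset_span a.2
  have h2 : ψ y ∈ J ^ (n + k') • (⊤ : Submodule B (s → N)) ⊓ LinearMap.range ψ :=
    ⟨h1, LinearMap.mem_range_self ψ y⟩
  rw [hk' (n + k') (Nat.le_add_left _ _), Nat.add_sub_cancel] at h2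
  have h3 : J ^ n • (J ^ k' • ⊤ ⊓ LinearMap.range ψ) ≤ Submodule.map ψ (J ^ n • ⊤) := by
    calc J ^ n • (J ^ k' • ⊤ ⊓ LinearMap.range ψ) ≤ J ^ n • LinearMap.range ψ :=
          Submodule.smul_mono le_rfl inf_le_right
      _ = J ^ n • Submodule.map ψ ⊤ := by rw [Submodule.map_top]
      _ = Submodule.map ψ (J ^ n • ⊤) := (Submodule.map_smul'' _ _ _).symm
  obtain ⟨e, he, hψe⟩ := h3 h2
  refine ⟨y - e, ?_, by simpa using he⟩
  intro a ha
  rw [← hs] at ha
  induction ha using Submodule.span_induction with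
  | mem a ha =>
    have h4 := congr_fun hψe ⟨a, ha⟩
    rw [hψ, hψ] at h4
    rw [smul_sub, ← h4, sub_self]
  | zero => rw [zero_smul]
  | add a b _ _ ha hb => rw [add_smul, ha, hb, add_zero]
  | smul r a _ ha => rw [smul_assoc, ha, smul_zero]

end Tors

section Glue

variable {B : Type u} [CommRing B] {N : Type u} [AddCommGroup N] [Module B N]
  {Q : ℕ → Type u} [∀ n, AddCommGroup (Q n)] [∀ n, Module B (Q n)]
  (p : ∀ n, N →ₗ[B] Q n) (t : ∀ n, Q (n + 1) →ₗ[B] Q n)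
  (htp : ∀ n (y : N), t n (p (n + 1) y) = p n y)

include htp in
lemma descent (q : ∀ n, Q n) (hq : ∀ n, t n (q (n + 1)) = q n) :
    ∀ (k n : ℕ) (y : N), p (n + k) y = q (n + k) → p n y = q n := by
  intro k
  induction k with
  | zero => intro n y h; exact h
  | succ k ih =>
    intro n y h
    apply ih
    have h1 : t (n + k) (p (n + k + 1) y) = t (n + k) (q (n + k + 1)) := congrArg _ h
    rwa [htp, hq] at h1

include htp in
lemma glue (T : Submodule B N) (n₁ : ℕ)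
    (hinj : ∀ n ≥ n₁, ∀ τ ∈ T, p n τ = 0 → τ = 0)
    (q : ∀ n, Q n) (hq : ∀ n, t n (q (n + 1)) = q n)
    (hloc : ∀ n, ∃ τ ∈ T, p n τ = q n) : ∃ τ ∈ T, ∀ n, p n τ = q n := by
  obtain ⟨τ, hτ, h0⟩ := hloc n₁
  have hup : ∀ n ≥ n₁, p n τ = q n := by
    intro n hn
    induction n, hn using Nat.le_induction with
    | base => exact h0
    | succ n hn ih =>
      obtain ⟨τ', hτ', h'⟩ := hloc (n + 1)
      have h1 : p n τ' = q n := descent p t htp q hq 1 n τ' h'
      have h2 : τ' - τ = 0 :=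
        hinj n hn _ (T.sub_mem hτ' hτ) (by rw [map_sub, h1, ih, sub_self])
      rw [← sub_eq_zero.mp h2]
      exact h'
  refine ⟨τ, hτ, fun n => ?_⟩
  rcases le_total n₁ n with h | h
  · exact hup n h
  · obtain ⟨k, rfl⟩ := Nat.exists_eq_add_of_le h
    exact descent p t htp q hq k n τ (hup _ le_rfl)

end Glue

/-- **E.** -/
theorem exists_lift {B : Type u} [CommRing B] [IsNoetherianRing B] (J : Ideal B) {M N : Type u}
    [AddCommGroup M] [Module B M] [AddCommGroup N] [Module B N] [Module.Finite B N]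
    (Q : ℕ → Type u) [∀ n, AddCommGroup (Q n)] [∀ n, Module B (Q n)]
    (p : ∀ n, N →ₗ[B] Q n) (hp : ∀ n, Function.Surjective (p n))
    (hker : ∀ (n : ℕ) (y : N), p n y = 0 → y ∈ J ^ (n + 1) • (⊤ : Submodule B N))
    (hkill : ∀ (n : ℕ), ∀ a ∈ J ^ (n + 1), ∀ q : Q n, a • q = 0)
    (t : ∀ n, Q (n + 1) →ₗ[B] Q n) (htp : ∀ n (y : N), t n (p (n + 1) y) = p n y)
    (b : ∀ n, M →ₗ[B] Q n) (htb : ∀ n (m : M), t n (b (n + 1) m) = b n m) (c : ℕ)
    (hc : (∀ a ∈ J ^ c, ∀ m : M, a • m = 0) ∨ (∀ a ∈ J ^ c, ∀ y : N, a • y = 0)) :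
    ∃ φ : M →ₗ[B] N, ∀ (n : ℕ) (m : M), p n (φ m) = b n m := by
  classical
  have hpk : ∀ (n : ℕ) (z : N), z ∈ J ^ (n + 1) • (⊤ : Submodule B N) → p n z = 0 := by
    intro n z hz
    induction hz using Submodule.smul_induction_on' with
    | smul a ha x _ => rw [map_smul]; exact hkill n a ha _
    | add x _ y _ hx hy => rw [map_add, hx, hy, add_zero]
  obtain ⟨T, n₁, hinj, hloc⟩ : ∃ (T : Submodule B N) (n₁ : ℕ),
      (∀ n ≥ n₁, ∀ τ ∈ T, p n τ = 0 → τ = 0) ∧
        (∀ (m : M) (n : ℕ), ∃ τ ∈ T, p n τ = b n m) := by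
    rcases hc with hM | hN
    · obtain ⟨n₀, hn₀⟩ := exists_inf_eq_bot (N := N) J c
      obtain ⟨k', hk'⟩ := exists_shift (N := N) J c
      refine ⟨tors (J ^ c), n₀, fun n hn τ hτ h0 => hn₀ n hn τ hτ (hker n τ h0), fun m n => ?_⟩
      obtain ⟨y, hy⟩ := hp (n + k') (b (n + k') m)
      have h1 : ∀ a ∈ J ^ c, a • y ∈ J ^ (n + 1 + k') • (⊤ : Submodule B N) := by
        intro a ha
        have e : n + 1 + k' = n + k' + 1 := by omega
        rw [e]
        apply hker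
        rw [map_smul, hy, ← map_smul, hM a ha m, map_zero]
      obtain ⟨τ, hτ, hyτ⟩ := hk' (n + 1) y h1
      refine ⟨τ, hτ, ?_⟩
      have h2 : p n y = b n m :=
        descent p t htp (fun n => b n m) (fun n => htb n m) k' n y hy
      have h3 := hpk n _ hyτ
      rw [map_sub, sub_eq_zero] at h3
      rw [← h3, h2]
    · refine ⟨⊤, c, fun n hn τ _ h0 => ?_, fun m n => ?_⟩
      · have h1 := hker n τ h0
        have h2 : J ^ (n + 1) • (⊤ : Submodule B N) ≤ ⊥ := by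
          rw [Submodule.smul_le]
          intro a ha x _
          rw [Submodule.mem_bot]
          exact hN a (Ideal.pow_le_pow_right (by omega) ha) x
        exact (Submodule.mem_bot B).mp (h2 h1)
      · obtain ⟨y, hy⟩ := hp n (b n m)
        exact ⟨y, trivial, hy⟩
  have hex : ∀ m : M, ∃ τ ∈ T, ∀ n, p n τ = b n m := fun m =>
    glue p t htp T n₁ hinj (fun n => b n m) (fun n => htb n m) (hloc m)
  choose f hfT hf using hex
  have huniq : ∀ τ ∈ T, p n₁ τ = 0 → τ = 0 := hinj n₁ le_rfl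
  refine ⟨{ toFun := f, map_add' := ?_, map_smul' := ?_ }, fun n m => hf m n⟩
  · intro m m'
    have h1 : f (m + m') - (f m + f m') = 0 :=
      huniq _ (T.sub_mem (hfT _) (T.add_mem (hfT _) (hfT _)))
        (by rw [map_sub, map_add, hf, hf, hf, map_add, sub_self])
    exact sub_eq_zero.mp h1
  · intro r m
    have h1 : f (r • m) - r • f m = 0 :=
      huniq _ (T.sub_mem (hfT _) (T.smul_mem r (hfT _)))
        (by rw [map_sub, map_smul, hf, hf, map_smul, sub_self])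
    simpa using sub_eq_zero.mp h1

end Groth.Agent.Lib.Helper89.ARHomE
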