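import Mathlib
import Groth.Agent.Lib.Helper86.ClassFactor

/-!
# Unbounded right resolutions by a class of objects of uniformly finite "dimension"
-/

set_option autoImplicit false
universe v u
open CategoryTheory Category Limits Preadditive CochainComplex HomComplex ZeroObject

namespace Groth.Agent.Lib.Helper89.UnboundedRes

open Groth.Agent.Lib.Helper86.ClassFactor

variable {A : Type u} [Category.{v} A] [Abelian A]

section cone

/-- if `C` is contractible, `K⟦1⟧` is quasi-isomorphic to the cone of any `i : K ⟶ C` -/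
lemma exists_quasiIso_shift_to_cone {K C : CochainComplex A ℤ} (i : K ⟶ C)
    (hC : Homotopy (𝟙 C) 0) :
    ∃ σ : K⟦(1 : ℤ)⟧ ⟶ mappingCone i, QuasiIso σ := by
  have hT := HomotopyCategory.mappingCone_triangleh_distinguished i
  have h0 : IsZero (mappingCone.triangleh i).obj₂ :=
    (HomotopyCategory.isZero_quotient_obj_iff C).2 ⟨hC⟩
  have h3 : IsIso (mappingCone.triangleh i).mor₃ :=
    (Pretriangulated.Triangle.isZero₂_iff_isIso₃ _ hT).1 h0
  obtain ⟨δ', hδ'⟩ : ∃ δ' : mappingCone i ⟶ K⟦(1 : ℤ)⟧, δ' = (mappingCone.triangle i).mor₃ :=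
    ⟨_, rfl⟩
  have h3' : IsIso ((HomotopyCategory.quotient A (ComplexShape.up ℤ)).map δ') := by
    have e : (mappingCone.triangleh i).mor₃ =
        (HomotopyCategory.quotient A (ComplexShape.up ℤ)).map δ' ≫
          ((HomotopyCategory.quotient A (ComplexShape.up ℤ)).commShiftIso (1 : ℤ)).hom.app K := by
      rw [hδ']
      rfl
    rw [e] at h3
    have : IsIso (((HomotopyCategory.quotient A (ComplexShape.up ℤ)).commShiftIso (1 : ℤ)).hom.app K) :=
      Iso.isIso_hom (((HomotopyCategory.quotient A (ComplexShape.up ℤ)).commShiftIso (1 : ℤ)).app K)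
    exact @IsIso.of_isIso_comp_right _ _ _ _ _ _ _ this h3
  obtain ⟨σ, hσ⟩ : ∃ σ : K⟦(1 : ℤ)⟧ ⟶ mappingCone i,
      (HomotopyCategory.quotient A (ComplexShape.up ℤ)).map σ =
        inv ((HomotopyCategory.quotient A (ComplexShape.up ℤ)).map δ') :=
    (HomotopyCategory.quotient A (ComplexShape.up ℤ)).map_surjective _
  refine ⟨σ, ?_⟩
  apply (HomologicalComplex.mem_quasiIso_iff σ).1
  apply (HomotopyCategory.quotient_map_mem_quasiIso_iff σ).1
  rw [hσ]
  exact (HomotopyCategory.mem_quasiIso_iff _).2 (fun n => inferInstance)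

end cone

section good

variable (P : ObjectProperty A)

/-- `M` has "`P`-dimension at most `j + 1`" in the strong sense -/
def Good (j : ℕ) (M : A) : Prop :=
  ∀ (K : CochainComplex A ℕ) (ε : M ⟶ K.X 0) (w : ε ≫ K.d 0 1 = 0), Mono ε →
    (ShortComplex.mk ε (K.d 0 1) w).Exact →
    (∀ i, 1 ≤ i → i ≤ j + 1 → K.ExactAt i) → (∀ i, j + 1 < i → IsZero (K.X i)) →
    Epi (K.d j (j + 1)) → (∀ i, i < j + 1 → P (K.X i)) → P (K.X (j + 1))

/-- the hierarchy -/
def G : ℕ → A → Prop
  | 0 => fun M => P M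
  | j + 1 => Good P j

lemma G_step_zero (S : ShortComplex A) (hS : S.ShortExact) (h₁ : Good P 0 S.X₁)
    (h₂ : P S.X₂) : P S.X₃ := by
  have hmf : Mono S.f := hS.mono_f
  have heg : Epi S.g := hS.epi_g
  let K₁ : CochainComplex A ℕ :=
    CochainComplex.augment (HomologicalComplex.zero)
      (0 : S.X₃ ⟶ (HomologicalComplex.zero : CochainComplex A ℕ).X 0) (by rw [zero_comp])
  let K : CochainComplex A ℕ := CochainComplex.augment K₁ S.g (by
    show S.g ≫ (0 : S.X₃ ⟶ (HomologicalComplex.zero : CochainComplex A ℕ).X 0) = 0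
    rw [comp_zero])
  refine h₁ K S.f S.zero hmf hS.exact ?_ ?_ ?_ ?_
  · intro i hi1 hi2
    obtain rfl : i = 1 := by omega
    rw [HomologicalComplex.exactAt_iff' K 0 1 2 (by simp) (by simp)]
    have : Epi (K.sc' 0 1 2).f := by
      show Epi S.g
      infer_instance
    exact (ShortComplex.exact_iff_epi _ (by
      apply IsZero.eq_of_tgt
      show IsZero (0 : A)
      exact isZero_zero A)).2 this
  · intro i hi
    obtain ⟨m, rfl⟩ : ∃ m, i = m + 2 := ⟨i - 2, by omega⟩
    show IsZero (0 : A)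
    exact isZero_zero A
  · show Epi S.g
    infer_instance
  · intro i hi
    obtain rfl : i = 0 := by omega
    exact h₂

lemma G_step_succ (j : ℕ) (S : ShortComplex A) (hS : S.ShortExact) (h₁ : Good P (j + 1) S.X₁)
    (h₂ : P S.X₂) : Good P j S.X₃ := by
  have hmf : Mono S.f := hS.mono_f
  have heg : Epi S.g := hS.epi_g
  intro K' ε' w' hε' hex0 hex hzero hepi hP
  let K : CochainComplex A ℕ := CochainComplex.augment K' (S.g ≫ ε') (by
    rw [Category.assoc, w', comp_zero])
  refine h₁ K S.f (by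
    show S.f ≫ S.g ≫ ε' = 0
    rw [S.zero_assoc, zero_comp]) hmf ?_ ?_ ?_ ?_ ?_
  · -- exactness at 0
    let φ : S ⟶ ShortComplex.mk S.f (S.g ≫ ε') (by rw [S.zero_assoc, zero_comp]) :=
      { τ₁ := 𝟙 _
        τ₂ := 𝟙 _
        τ₃ := ε' }
    exact (ShortComplex.exact_iff_of_epi_of_isIso_of_mono φ).1 hS.exact
  · intro i hi1 hi2
    obtain ⟨m, rfl⟩ : ∃ m, i = m + 1 := ⟨i - 1, by omega⟩
    cases m with
    | zero =>
      rw [HomologicalComplex.exactAt_iff' K 0 1 2 (by simp) (by simp)]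
      let φ : K.sc' 0 1 2 ⟶ ShortComplex.mk ε' (K'.d 0 1) w' :=
        { τ₁ := S.g
          τ₂ := 𝟙 _
          τ₃ := 𝟙 _
          comm₁₂ := by
            show S.g ≫ ε' = (S.g ≫ ε') ≫ 𝟙 _
            rw [Category.comp_id]
          comm₂₃ := by
            show 𝟙 _ ≫ K'.d 0 1 = K'.d 0 1 ≫ 𝟙 _
            rw [Category.comp_id, Category.id_comp] }
      have : Epi φ.τ₁ := by
        show Epi S.g
        infer_instance
      have : IsIso φ.τ₂ := by
        show IsIso (𝟙 _)
        infer_instance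
      have : Mono φ.τ₃ := by
        show Mono (𝟙 _)
        infer_instance
      exact (ShortComplex.exact_iff_of_epi_of_isIso_of_mono φ).2 hex0
    | succ m =>
      rw [HomologicalComplex.exactAt_iff' K (m + 1) (m + 2) (m + 3) (by simp) (by simp)]
      have := hex (m + 1) (by omega) (by omega)
      rw [HomologicalComplex.exactAt_iff' K' m (m + 1) (m + 2) (by simp) (by simp)] at this
      exact this
  · intro i hi
    obtain ⟨m, rfl⟩ : ∃ m, i = m + 1 := ⟨i - 1, by omega⟩
    exact hzero m (by omega)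
  · exact hepi
  · intro i hi
    cases i with
    | zero => exact h₂
    | succ m => exact hP m (by omega)

lemma G_step (j : ℕ) (S : ShortComplex A) (hS : S.ShortExact) (h₁ : G P (j + 1) S.X₁)
    (h₂ : P S.X₂) : G P j S.X₃ := by
  cases j with
  | zero => exact G_step_zero P S hS h₁ h₂
  | succ j => exact G_step_succ P j S hS h₁ h₂

end good

section main

variable (P : ObjectProperty A) [ResClass P]

lemma exists_resolution_of_G (j : ℕ) :
    ∀ X : CochainComplex A ℤ, (∀ k, G P j (X.X k)) →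
      ∃ (I : CochainComplex A ℤ) (f : X ⟶ I), QuasiIso f ∧ ∀ k : ℤ, P (I.X k) := by
  induction j with
  | zero =>
    intro X hX
    exact ⟨X, 𝟙 X, inferInstance, hX⟩
  | succ j ih =>
    intro X hX
    let K : CochainComplex A ℤ := X⟦(-1 : ℤ)⟧
    let C : CochainComplex A ℤ := mappingCone (𝟙 (Groth.Agent.Lib.Helper86.ClassFactor.cm5b.I P K))
    let i₀ : K ⟶ C := Groth.Agent.Lib.Helper86.ClassFactor.cm5b.i P (0 : K ⟶ 0) ≫ biprod.fst
    have hmono : ∀ n, Mono (i₀.f n) := fun n => by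
      have := Groth.Agent.Lib.Helper86.ClassFactor.cm5b.i_f_comp P (0 : K ⟶ 0) n
      have e : i₀.f n ≫ (mappingCone.snd
          (𝟙 (Groth.Agent.Lib.Helper86.ClassFactor.cm5b.I P K))).v n n (add_zero n) =
          underι P (K.X n) := by
        rw [← this]
        simp only [i₀, HomologicalComplex.comp_f, Category.assoc]
      have hm : Mono (underι P (K.X n)) := underι_mono P (K.X n)
      exact @mono_of_mono_fac _ _ _ _ _ _ _ _ hm e
    have : Mono i₀ := HomologicalComplex.mono_of_mono_f i₀ hmono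
    have hC : Homotopy (𝟙 C) 0 :=
      mappingCone.liftHomotopy _ _ _ (mappingCone.snd _) 0 (by simp) (by simp)
    let S : ShortComplex (CochainComplex A ℤ) :=
      ShortComplex.mk i₀ (cokernel.π i₀) (cokernel.condition i₀)
    have hS : S.ShortExact :=
      { exact := ShortComplex.exact_cokernel i₀
        mono_f := ‹Mono i₀›
        epi_g := by
          show Epi (cokernel.π i₀)
          infer_instance }
    have hQ : ∀ k, G P j ((cokernel i₀).X k) := by
      intro k
      have hSk := hS.map_of_exact (HomologicalComplex.eval A (ComplexShape.up ℤ) k)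
      exact G_step P j _ hSk (hX _) (Groth.Agent.Lib.Helper86.ClassFactor.cm5b.prop_mappingCone_X P k)
    obtain ⟨L, q, hq, hL⟩ := ih (cokernel i₀) hQ
    obtain ⟨σ, hσ⟩ := exists_quasiIso_shift_to_cone i₀ hC
    have hd : QuasiIso (mappingCone.descShortComplex S) := mappingCone.quasiIso_descShortComplex hS
    let e : (X⟦(-1 : ℤ)⟧)⟦(1 : ℤ)⟧ ≅ X :=
      (shiftFunctorCompIsoId (CochainComplex A ℤ) (-1 : ℤ) 1 (by simp)).app X
    exact ⟨L, e.inv ≫ σ ≫ mappingCone.descShortComplex S ≫ q, inferInstance, hL⟩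

end main

section final

lemma shortExact_of_isZero {X Y Z : A} (f : X ⟶ Y) [IsIso f] (hZ : IsZero Z) :
    (ShortComplex.mk f (0 : Y ⟶ Z) comp_zero).ShortExact :=
  { exact := (ShortComplex.exact_iff_epi _ rfl).2 (by
      show Epi f
      infer_instance)
    mono_f := by
      show Mono f
      infer_instance
    epi_g := ⟨fun g h _ => hZ.eq_of_src g h⟩ }

/-- S11168 -/
theorem main (P : ObjectProperty A)
    (h1 : ∀ X : A, ∃ (Y : A) (i : X ⟶ Y), P Y ∧ Mono i)
    (h2 : ∀ S : ShortComplex A, S.ShortExact → P S.X₁ → (P S.X₂ ↔ P S.X₃))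
    (n : ℕ) (hn : 1 ≤ n)
    (h3 : ∀ K : CochainComplex A ℕ, (∀ i : ℕ, 1 ≤ i → i ≤ n → K.ExactAt i) →
      (∀ i : ℕ, n < i → IsZero (K.X i)) →
      Epi (K.d (n - 1) n) → (∀ i : ℕ, i < n → P (K.X i)) → P (K.X n))
    (X : CochainComplex A ℤ) :
    ∃ (I : CochainComplex A ℤ) (f : X ⟶ I), QuasiIso f ∧ ∀ k : ℤ, P (I.X k) := by
  obtain ⟨Y₀, -, hY₀, -⟩ := h1 (0 : A)
  have hP0 : ∀ Z : A, IsZero Z → P Z := by
    intro Z hZ
    exact (h2 _ (shortExact_of_isZero (𝟙 Y₀) hZ) hY₀).1 hY₀
  have hiso : ∀ {X Y : A}, (X ≅ Y) → P X → P Y := by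
    intro X Y e hX
    exact (h2 _ (shortExact_of_isZero e.hom (isZero_zero A)) hX).2 (hP0 _ (isZero_zero A))
  have hbiprod : ∀ X Y : A, P X → P Y → P (X ⊞ Y) := by
    intro X Y hX hY
    exact (h2 _ (ShortComplex.Splitting.ofHasBinaryBiproduct X Y).shortExact hX).2 hY
  haveI : ResClass P := ⟨hiso, ⟨0, isZero_zero A, hP0 _ (isZero_zero A)⟩, hbiprod, h1⟩
  obtain ⟨m, rfl⟩ : ∃ m, n = m + 1 := ⟨n - 1, by omega⟩
  refine exists_resolution_of_G P (m + 1) X (fun k => ?_)
  intro K ε w hε hex0 hex hzero hepi hP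
  exact h3 K hex hzero (by simpa using hepi) hP

end final

end Groth.Agent.Lib.Helper89.UnboundedRes
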