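import Mathlib
import Groth.Agent.Lib.Helper89.TriRes
import Groth.Agent.Lib.Helper89.UnboundedRes
import Groth.Agent.Lib.Helper68.RightDerivedLES

/-!
# Unbounded right derived functors for functors of finite cohomological dimension

* `termwise P`: the triangulated subcategory of `K(𝒜)` of complexes with terms in `P`;
* `acyclic_map`: an acyclic complex with `F`-acyclic terms is sent by `F` to an acyclic complex
  when `F` has finite cohomological dimension;
* the right derivability structure and its consequences.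
-/

set_option autoImplicit false
set_option linter.style.haveILetI false

universe w w' v v' u u'

open CategoryTheory Category Limits Pretriangulated HomologicalComplex ZeroObject

namespace Groth.Agent.Lib.Helper89.AcycRes

open Groth.Agent.Lib.Helper86.ClassFactor

section Cycles

variable {C : Type u} [Category.{v} C] [Abelian C] {ι : Type*} {c : ComplexShape ι}

/- (the next three declarations are copied from `Lib/Helper62/PCohObj.lean`) -/
theorem epi_toCycles_of_exactAt (K : HomologicalComplex C c) (i j : ι) (hij : c.Rel i j)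
    (h : K.ExactAt j) : Epi (K.toCycles i j) := by
  have hi : c.prev j = i := c.prev_eq' hij
  have h' : (K.sc' i j (c.next j)).Exact := (K.exactAt_iff' i j (c.next j) hi rfl).1 h
  have e := K.toCycles_cyclesIsoSc'_hom i j (c.next j) hi rfl
  have h2 : Epi (K.toCycles i j ≫ (K.cyclesIsoSc' i j (c.next j) hi rfl).hom) := by
    rw [e]
    exact h'.epi_toCycles
  have h3 : K.toCycles i j = (K.toCycles i j ≫ (K.cyclesIsoSc' i j (c.next j) hi rfl).hom) ≫
      (K.cyclesIsoSc' i j (c.next j) hi rfl).inv := by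
    rw [Category.assoc, Iso.hom_inv_id, Category.comp_id]
  rw [h3]
  infer_instance

/-- The short complex `0 → Z^i → K^i → Z^j → 0`. -/
noncomputable abbrev cyclesSC (K : HomologicalComplex C c) (i j : ι) : ShortComplex C :=
  ShortComplex.mk (K.iCycles i) (K.toCycles i j) (by
    rw [← cancel_mono (K.iCycles j), Category.assoc, toCycles_i, iCycles_d, zero_comp])

theorem cyclesSC_shortExact (K : HomologicalComplex C c) (i j : ι) (hij : c.Rel i j)
    (h : K.ExactAt j) : (cyclesSC K i j).ShortExact := by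
  have hepi : Epi (K.toCycles i j) := epi_toCycles_of_exactAt K i j hij h
  refine
    { exact := ?_
      mono_f := inferInstanceAs (Mono (K.iCycles i))
      epi_g := hepi }
  apply ShortComplex.exact_of_f_is_kernel
  have : Mono (cyclesSC K i j).f := inferInstanceAs (Mono (K.iCycles i))
  refine KernelFork.IsLimit.ofι' _ _ (fun {A} k hk => ?_)
  have hk0 : k ≫ K.toCycles i j = 0 := hk
  have hk' : k ≫ K.d i j = 0 := by
    rw [← toCycles_i, ← Category.assoc, hk0, zero_comp]
  exact ⟨K.liftCycles k j (c.next_eq' hij) hk', K.liftCycles_i _ _ _ _⟩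

end Cycles

variable {𝒜 : Type u} [Category.{v} 𝒜] [Abelian 𝒜]

section termwise

variable (P : ObjectProperty 𝒜)

/-- complexes (up to isomorphism in the homotopy category) with terms in `P` -/
def termwise : ObjectProperty (HomotopyCategory 𝒜 (ComplexShape.up ℤ)) :=
  fun X => ∃ K : CochainComplex 𝒜 ℤ, (∀ m, P (K.X m)) ∧
    Nonempty (X ≅ (HomotopyCategory.quotient 𝒜 (ComplexShape.up ℤ)).obj K)

lemma termwise_quotient_obj (K : CochainComplex 𝒜 ℤ) (hK : ∀ m, P (K.X m)) :
    termwise P ((HomotopyCategory.quotient 𝒜 (ComplexShape.up ℤ)).obj K) :=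
  ⟨K, hK, ⟨Iso.refl _⟩⟩

instance : (termwise P).IsClosedUnderIsomorphisms where
  of_iso := by
    rintro X Y e ⟨K, hK, ⟨e'⟩⟩
    exact ⟨K, hK, ⟨e.symm ≪≫ e'⟩⟩

/-- a class of objects closed under isomorphisms, zero objects and binary biproducts -/
class AddClass (P : ObjectProperty 𝒜) : Prop where
  iso : ∀ {X Y : 𝒜}, (X ≅ Y) → P X → P Y
  zero : ∀ Z : 𝒜, IsZero Z → P Z
  biprod : ∀ X Y : 𝒜, P X → P Y → P (X ⊞ Y)

instance (priority := 100) addClass_of_resClass [ResClass P] : AddClass P where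
  iso := ResClass.iso
  zero _ hZ := prop_of_isZero P hZ
  biprod := ResClass.biprod

variable [AddClass P]

instance : (termwise P).ContainsZero where
  exists_zero := by
    refine ⟨(HomotopyCategory.quotient 𝒜 (ComplexShape.up ℤ)).obj 0,
      (HomotopyCategory.quotient 𝒜 (ComplexShape.up ℤ)).map_isZero (isZero_zero _), ?_⟩
    refine termwise_quotient_obj P _ (fun m => AddClass.zero _ ?_)
    exact (HomologicalComplex.eval 𝒜 (ComplexShape.up ℤ) m).map_isZero (isZero_zero _)

instance : (termwise P).IsStableUnderShift ℤ where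
  isStableUnderShiftBy n :=
    { le_shift := by
        rintro X ⟨K, hK, ⟨e⟩⟩
        refine ⟨K⟦n⟧, fun m => hK _, ⟨(shiftFunctor _ n).mapIso e ≪≫
          (((HomotopyCategory.quotient 𝒜 (ComplexShape.up ℤ)).commShiftIso n).app K).symm⟩⟩ }

instance : (termwise P).IsTriangulatedClosed₃ where
  ext₃' := by
    rintro T hT ⟨K₁, hK₁, ⟨e₁⟩⟩ ⟨K₂, hK₂, ⟨e₂⟩⟩
    obtain ⟨φ, hφ⟩ := (HomotopyCategory.quotient 𝒜 (ComplexShape.up ℤ)).map_surjective
      (e₁.inv ≫ T.mor₁ ≫ e₂.hom)
    have hT' := HomotopyCategory.mappingCone_triangleh_distinguished φ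
    have comm : T.mor₁ ≫ e₂.hom = e₁.hom ≫ (CochainComplex.mappingCone.triangleh φ).mor₁ := by
      show T.mor₁ ≫ e₂.hom = e₁.hom ≫ (HomotopyCategory.quotient 𝒜 (ComplexShape.up ℤ)).map φ
      rw [hφ, Iso.hom_inv_id_assoc]
    let e := isoTriangleOfIso₁₂ T _ hT hT' e₁ e₂ comm
    refine ObjectProperty.le_isoClosure _ _ ?_
    refine ⟨CochainComplex.mappingCone φ, fun m => ?_, ⟨Triangle.π₃.mapIso e⟩⟩
    exact AddClass.iso (HomologicalComplex.homotopyCofiber.XIsoBiprod φ m (m + 1) rfl).symm
      (AddClass.biprod _ _ (hK₁ _) (hK₂ _))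

instance : (termwise P).IsTriangulatedClosed₂ :=
  ObjectProperty.IsTriangulatedClosed₂.of_isTriangulatedClosed₃

instance : (termwise P).IsTriangulated where

omit [AddClass P] in
/-- resolutions by complexes with terms in `P` give the hypothesis of `TriRes` -/
lemma hasRes (hres : ∀ K : CochainComplex 𝒜 ℤ, ∃ (L : CochainComplex 𝒜 ℤ) (f : K ⟶ L),
      QuasiIso f ∧ ∀ k : ℤ, P (L.X k)) :
    TriRes.HasRes (termwise P) (HomotopyCategory.subcategoryAcyclic 𝒜) := by
  intro X
  obtain ⟨K, rfl⟩ := HomotopyCategory.quotient_obj_surjective X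
  obtain ⟨L, f, hf, hL⟩ := hres K
  refine ⟨_, (HomotopyCategory.quotient 𝒜 (ComplexShape.up ℤ)).map f,
    termwise_quotient_obj P L hL, ?_⟩
  rw [← HomotopyCategory.quasiIso_eq_trW_subcategoryAcyclic,
    HomotopyCategory.quotient_map_mem_quasiIso_iff]
  exact hf

end termwise

section acyclic

variable [HasInjectiveResolutions 𝒜] {ℬ : Type u'} [Category.{v'} ℬ] [Abelian ℬ]
  (F : 𝒜 ⥤ ℬ) [F.Additive]

open Groth.Agent.Lib.Helper68.RightDerivedLES

/-- the `F`-acyclic objects -/
def FAcyclic : ObjectProperty 𝒜 := fun X => ∀ i : ℕ, 0 < i → IsZero ((F.rightDerived i).obj X)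

lemma fAcyclic_of_injective (X : 𝒜) [Injective X] : FAcyclic F X := by
  intro i hi
  obtain ⟨j, rfl⟩ : ∃ j, i = j + 1 := ⟨i - 1, by omega⟩
  exact F.isZero_rightDerived_obj_injective_succ j X

/-- short exact sequence `X → I → I/X` with `I` injective -/
lemma exists_ses_injective (X : 𝒜) : ∃ (S : ShortComplex 𝒜), S.ShortExact ∧
    S.X₁ = X ∧ Injective S.X₂ := by
  let I := injectiveResolution X
  haveI : Mono (I.ι.f 0) := inferInstance
  refine ⟨ShortComplex.mk (I.ι.f 0) (cokernel.π (I.ι.f 0)) (cokernel.condition _),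
    ?_, rfl, inferInstanceAs (Injective (I.cocomplex.X 0))⟩
  exact
    { exact := ShortComplex.exact_cokernel _
      mono_f := inferInstanceAs (Mono (I.ι.f 0))
      epi_g := inferInstanceAs (Epi (cokernel.π (I.ι.f 0))) }

lemma isZero_rightDerived_of_le (n : ℕ) (hn : ∀ X : 𝒜, IsZero ((F.rightDerived n).obj X)) :
    ∀ (i : ℕ), n ≤ i → ∀ X : 𝒜, IsZero ((F.rightDerived i).obj X) := by
  intro i hi
  induction i, hi using Nat.le_induction with
  | base => exact hn
  | succ i _ ih =>
    intro X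
    obtain ⟨S, hS, rfl, hI⟩ := exists_ses_injective X
    exact isZero_left F hS i (ih _) (F.isZero_rightDerived_obj_injective_succ i S.X₂)

variable [PreservesFiniteLimits F]

/-- an acyclic complex with `F`-acyclic terms is sent to an acyclic complex by a left exact
functor of finite cohomological dimension -/
theorem acyclic_map (n : ℕ) (hn : ∀ X : 𝒜, IsZero ((F.rightDerived n).obj X))
    (K : CochainComplex 𝒜 ℤ) (hK : K.Acyclic) (hP : ∀ m, FAcyclic F (K.X m)) :
    ((F.mapHomologicalComplex (ComplexShape.up ℤ)).obj K).Acyclic := by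
  have hdim := isZero_rightDerived_of_le F n hn
  have hS : ∀ m : ℤ, (cyclesSC K m (m + 1)).ShortExact := fun m =>
    cyclesSC_shortExact K m (m + 1) (by simp) (hK (m + 1))
  -- cycles are acyclic
  have hZ : ∀ (j i : ℕ), 0 < i → n ≤ i + j → ∀ m : ℤ,
      IsZero ((F.rightDerived i).obj (K.cycles m)) := by
    intro j
    induction j with
    | zero =>
      intro i _ hi m
      exact hdim i (by omega) _
    | succ j ih =>
      intro i hi0 hi m
      have h1 := ih (i + 1) (by omega) (by omega) (m - 1)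
      have hS' := hS (m - 1)
      have e : m - 1 + 1 = m := by omega
      have h2 : IsZero ((F.rightDerived i).obj (cyclesSC K (m - 1) (m - 1 + 1)).X₃) :=
        isZero_right F hS' i (hP _ i hi0) h1
      rw [e] at h2
      exact h2
  have hZ' : ∀ m : ℤ, FAcyclic F (K.cycles m) := fun m i hi => hZ n i hi (by omega) m
  -- epi
  have hepi : ∀ m : ℤ, Epi (F.map (K.toCycles m (m + 1))) := by
    intro m
    have h3 := exact₃ F (hS m) 0
    have hz : IsZero ((F.rightDerived 1).obj (K.cycles m)) := hZ' m 1 (by omega)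
    have : Epi ((F.rightDerived 0).map (K.toCycles m (m + 1))) :=
      h3.epi_f (hz.eq_of_tgt _ _)
    have nat := (Functor.rightDerivedZeroIsoSelf F).hom.naturality (K.toCycles m (m + 1))
    have h4 : Epi ((Functor.rightDerivedZeroIsoSelf F).hom.app _ ≫
        F.map (K.toCycles m (m + 1))) := by
      rw [← nat]
      infer_instance
    exact epi_of_epi ((Functor.rightDerivedZeroIsoSelf F).hom.app _) _
  intro m
  rw [HomologicalComplex.exactAt_iff' _ (m - 1) m (m + 1) (by simp) (by simp)]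
  have e : m - 1 + 1 = m := by omega
  -- the middle exact complex
  have hmid : ((cyclesSC K m (m + 1)).map F).Exact :=
    (hS m).exact.map_of_mono_of_preservesKernel F (hS m).mono_f inferInstance
  -- first reduction: replace the target by cycles
  let S' : ShortComplex ℬ := ShortComplex.mk (F.map (K.d (m - 1) m))
    (F.map (K.toCycles m (m + 1))) (by
      rw [← F.map_comp, ← cancel_mono (F.map (K.iCycles (m + 1))), ← F.map_comp, zero_comp,
        Category.assoc, toCycles_i, K.d_comp_d, F.map_zero])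
  have hS'ex : S'.Exact := by
    let φ₁ : S' ⟶ (cyclesSC K m (m + 1)).map F :=
      { τ₁ := F.map (K.toCycles (m - 1) m)
        τ₂ := 𝟙 _
        τ₃ := 𝟙 _
        comm₁₂ := by
          show F.map (K.toCycles (m - 1) m) ≫ F.map (K.iCycles m) = F.map (K.d (m - 1) m) ≫ 𝟙 _
          rw [← F.map_comp, toCycles_i, Category.comp_id]
        comm₂₃ := by
          show 𝟙 _ ≫ F.map (K.toCycles m (m + 1)) = F.map (K.toCycles m (m + 1)) ≫ 𝟙 _
          rw [Category.id_comp, Category.comp_id] }
    haveI : Epi φ₁.τ₁ := by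
      have := hepi (m - 1)
      show Epi (F.map (K.toCycles (m - 1) m))
      convert this using 3 <;> omega
    haveI : IsIso φ₁.τ₂ := inferInstanceAs (IsIso (𝟙 _))
    haveI : Mono φ₁.τ₃ := inferInstanceAs (Mono (𝟙 _))
    exact (ShortComplex.exact_iff_of_epi_of_isIso_of_mono φ₁).2 hmid
  let φ₂ : S' ⟶ ((F.mapHomologicalComplex (ComplexShape.up ℤ)).obj K).sc' (m - 1) m (m + 1) :=
    { τ₁ := 𝟙 _
      τ₂ := 𝟙 _
      τ₃ := F.map (K.iCycles (m + 1))
      comm₁₂ := by
        show 𝟙 _ ≫ F.map (K.d (m - 1) m) = F.map (K.d (m - 1) m) ≫ 𝟙 _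
        rw [Category.id_comp, Category.comp_id]
      comm₂₃ := by
        show 𝟙 _ ≫ F.map (K.d m (m + 1)) = F.map (K.toCycles m (m + 1)) ≫ F.map (K.iCycles (m + 1))
        rw [Category.id_comp, ← F.map_comp, toCycles_i] }
  haveI : Epi φ₂.τ₁ := inferInstanceAs (Epi (𝟙 _))
  haveI : IsIso φ₂.τ₂ := inferInstanceAs (IsIso (𝟙 _))
  haveI : Mono φ₂.τ₃ := by
    show Mono (F.map (K.iCycles (m + 1)))
    infer_instance
  exact (ShortComplex.exact_iff_of_epi_of_isIso_of_mono φ₂).1 hS'ex

end acyclic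

section main

variable [HasInjectiveResolutions 𝒜] {ℬ : Type u'} [Category.{v'} ℬ] [Abelian ℬ]
  (F : 𝒜 ⥤ ℬ) [F.Additive]

open Groth.Agent.Lib.Helper68.RightDerivedLES

lemma fAcyclic_biprod (X Y : 𝒜) (hX : FAcyclic F X) (hY : FAcyclic F Y) :
    FAcyclic F (X ⊞ Y) := by
  intro i hi
  exact isZero_mid F (ShortComplex.Splitting.ofHasBinaryBiproduct X Y).shortExact i
    (hX i hi) (hY i hi)

instance resClass : ResClass (FAcyclic F) where
  iso e hX i hi := IsZero.of_iso (hX i hi) ((F.rightDerived i).mapIso e.symm)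
  zero := ⟨0, isZero_zero _, fAcyclic_of_injective F 0⟩
  biprod := fAcyclic_biprod F
  enough X := by
    obtain ⟨S, hS, rfl, hI⟩ := exists_ses_injective X
    exact ⟨S.X₂, S.f, fAcyclic_of_injective F S.X₂, hS.mono_f⟩

lemma fAcyclic_two_of_three (S : ShortComplex 𝒜) (hS : S.ShortExact) (h₁ : FAcyclic F S.X₁) :
    FAcyclic F S.X₂ ↔ FAcyclic F S.X₃ := by
  constructor
  · intro h₂ i hi
    exact isZero_right F hS i (h₂ i hi) (h₁ (i + 1) (by omega))
  · intro h₃ i hi
    exact isZero_mid F hS i (h₁ i hi) (h₃ i hi)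

/-- finite `F`-acyclic dimension -/
lemma fAcyclic_dim (n : ℕ) (hdim : ∀ i, n ≤ i → ∀ X : 𝒜, IsZero ((F.rightDerived i).obj X))
    (K : CochainComplex 𝒜 ℕ) (hex : ∀ i : ℕ, 1 ≤ i → i ≤ n + 1 → K.ExactAt i)
    (hzero : ∀ i : ℕ, n + 1 < i → IsZero (K.X i))
    (hP : ∀ i : ℕ, i < n + 1 → FAcyclic F (K.X i)) : FAcyclic F (K.X (n + 1)) := by
  have hZ : ∀ k : ℕ, k ≤ n + 1 → ∀ j : ℕ, 0 < j → n + 1 ≤ j + k →
      IsZero ((F.rightDerived j).obj (K.cycles k)) := by
    intro k
    induction k with
    | zero =>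
      intro _ j _ hj
      exact hdim j (by omega) _
    | succ k ih =>
      intro hk j hj0 hj
      have hS := cyclesSC_shortExact K k (k + 1) (by simp) (hex (k + 1) (by omega) hk)
      exact isZero_right F hS j (hP k (by omega) j hj0) (ih (by omega) (j + 1) (by omega) (by omega))
  have hd : K.d (n + 1) (n + 2) = 0 := (hzero (n + 2) (by omega)).eq_of_tgt _ _
  haveI := K.isIso_iCycles (n + 1) (n + 2) (by simp) hd
  intro j hj
  exact IsZero.of_iso (hZ (n + 1) le_rfl j hj (by omega))
    ((F.rightDerived j).mapIso (asIso (K.iCycles (n + 1))).symm)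

/-- every complex has a right resolution by a complex with `F`-acyclic terms when `F` has
finite cohomological dimension -/
theorem exists_resolution (n : ℕ) (hn : ∀ X : 𝒜, IsZero ((F.rightDerived n).obj X))
    (K : CochainComplex 𝒜 ℤ) :
    ∃ (L : CochainComplex 𝒜 ℤ) (f : K ⟶ L), QuasiIso f ∧ ∀ k : ℤ, FAcyclic F (L.X k) := by
  have hdim := isZero_rightDerived_of_le F n hn
  refine UnboundedRes.main (FAcyclic F) (ResClass.enough (P := FAcyclic F))
    (fun S hS h₁ => fAcyclic_two_of_three F S hS h₁) (n + 1) (by omega) ?_ K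
  intro K hex hzero _ hP
  exact fAcyclic_dim F n hdim K hex hzero hP

variable [PreservesFiniteLimits F] [HasDerivedCategory.{w} 𝒜] [HasDerivedCategory.{w'} ℬ]

/-- the functor to be derived -/
noncomputable abbrev G : HomotopyCategory 𝒜 (ComplexShape.up ℤ) ⥤ DerivedCategory ℬ :=
  F.mapHomotopyCategory (ComplexShape.up ℤ) ⋙ DerivedCategory.Qh

lemma isZero_G_obj (n : ℕ) (hn : ∀ X : 𝒜, IsZero ((F.rightDerived n).obj X))
    (X : HomotopyCategory 𝒜 (ComplexShape.up ℤ)) (hX : termwise (FAcyclic F) X)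
    (hX' : HomotopyCategory.subcategoryAcyclic 𝒜 X) : IsZero ((G F).obj X) := by
  obtain ⟨K, hK, ⟨e⟩⟩ := hX
  have hK' : K.Acyclic := by
    rw [← HomotopyCategory.quotient_obj_mem_subcategoryAcyclic_iff_acyclic]
    exact (HomotopyCategory.subcategoryAcyclic 𝒜).prop_of_iso e hX'
  have hFK := acyclic_map F n hn K hK' hK
  rw [← HomotopyCategory.quotient_obj_mem_subcategoryAcyclic_iff_acyclic] at hFK
  have hz : IsZero (DerivedCategory.Qh.obj ((HomotopyCategory.quotient ℬ (ComplexShape.up ℤ)).obj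
      ((F.mapHomologicalComplex (ComplexShape.up ℤ)).obj K))) :=
    TriRes.isZero_obj_of_isLocalization (HomotopyCategory.quasiIso ℬ (ComplexShape.up ℤ))
      (HomotopyCategory.quasiIso_eq_trW_subcategoryAcyclic ℬ) DerivedCategory.Qh _ hFK
  exact IsZero.of_iso hz ((G F).mapIso e)

/-- S0994 -/
theorem hasRightDerivedFunctor (n : ℕ) (hn : ∀ X : 𝒜, IsZero ((F.rightDerived n).obj X)) :
    (G F).HasRightDerivedFunctor (HomotopyCategory.quasiIso 𝒜 (ComplexShape.up ℤ)) := by
  haveI := TriRes.hasPointwiseRightDerivedFunctor' (G F)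
    (HomotopyCategory.quasiIso 𝒜 (ComplexShape.up ℤ))
    (HomotopyCategory.quasiIso_eq_trW_subcategoryAcyclic 𝒜)
    (hasRes (FAcyclic F) (exists_resolution F n hn)) (isZero_G_obj F n hn)
  infer_instance

/-- S0995 -/
theorem isIso_unit (n : ℕ) (hn : ∀ X : 𝒜, IsZero ((F.rightDerived n).obj X))
    [(G F).HasRightDerivedFunctor (HomotopyCategory.quasiIso 𝒜 (ComplexShape.up ℤ))]
    (K : CochainComplex 𝒜 ℤ) (hK : ∀ m, FAcyclic F (K.X m)) :
    IsIso (((G F).totalRightDerivedUnit DerivedCategory.Qh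
      (HomotopyCategory.quasiIso 𝒜 (ComplexShape.up ℤ))).app
        ((HomotopyCategory.quotient 𝒜 (ComplexShape.up ℤ)).obj K)) :=
  TriRes.isIso_unit' (G F) (HomotopyCategory.quasiIso 𝒜 (ComplexShape.up ℤ))
    (HomotopyCategory.quasiIso_eq_trW_subcategoryAcyclic 𝒜)
    (hasRes (FAcyclic F) (exists_resolution F n hn)) (isZero_G_obj F n hn) DerivedCategory.Qh
    _ _ _ (termwise_quotient_obj _ K hK)

end main

end Groth.Agent.Lib.Helper89.AcycRes
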