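import Groth.Agent.Lib.Helper89.FFDev

set_option autoImplicit false
set_option linter.unusedSectionVars false
universe v v' u u'
open CategoryTheory CategoryTheory.Limits CategoryTheory.Pretriangulated

namespace Helper89.SpanFF

open Helper89.FFDev

section ShiftTricks

variable {D : Type u} [Category.{v} D] [Preadditive D] [HasZeroObject D] [HasShift D ℤ]
  [∀ n : ℤ, (shiftFunctor D n).Additive] [Pretriangulated D]

/-- if `- ≫ η` is injective on `Hom(X⟦-1⟧, E)` then `- ≫ η⟦1⟧` is injective on `Hom(X, E⟦1⟧)` -/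
lemma shift_inj {E M X : D} (η : E ⟶ M)
    (h : ∀ g : X⟦(-1 : ℤ)⟧ ⟶ E, g ≫ η = 0 → g = 0)
    (f : X ⟶ E⟦(1 : ℤ)⟧) (hf : f ≫ η⟦(1 : ℤ)⟧' = 0) : f = 0 := by
  let e : (X⟦(-1 : ℤ)⟧)⟦(1 : ℤ)⟧ ≅ X := shiftNegShift X (1 : ℤ)
  obtain ⟨g, hg⟩ := (shiftFunctor D (1 : ℤ)).map_surjective (e.hom ≫ f)
  have h1 : (shiftFunctor D (1 : ℤ)).map (g ≫ η) = (shiftFunctor D (1 : ℤ)).map 0 := by
    rw [Functor.map_comp, hg, Category.assoc, hf, comp_zero, Functor.map_zero]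
  have h2 : g = 0 := h g ((shiftFunctor D (1 : ℤ)).map_injective h1)
  rw [h2, Functor.map_zero] at hg
  rw [← cancel_epi e.hom, ← hg, comp_zero]

/-- if `ε ≫ -` is surjective on `Hom(K, E⟦-1⟧)` then every `M⟦1⟧ ⟶ E` factors through `ε⟦1⟧` -/
lemma shift_surj {K M E : D} (ε : M ⟶ K)
    (h : ∀ d : M ⟶ E⟦(-1 : ℤ)⟧, ∃ g : K ⟶ E⟦(-1 : ℤ)⟧, d = ε ≫ g)
    (d : M⟦(1 : ℤ)⟧ ⟶ E) : ∃ d' : K⟦(1 : ℤ)⟧ ⟶ E, d = ε⟦(1 : ℤ)⟧' ≫ d' := by
  let e : (E⟦(-1 : ℤ)⟧)⟦(1 : ℤ)⟧ ≅ E := shiftNegShift E (1 : ℤ)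
  obtain ⟨d₀, hd₀⟩ := (shiftFunctor D (1 : ℤ)).map_surjective (d ≫ e.inv)
  obtain ⟨g, hg⟩ := h d₀
  refine ⟨g⟦(1 : ℤ)⟧' ≫ e.hom, ?_⟩
  rw [← Category.assoc, ← Functor.map_comp, ← hg, hd₀, Category.assoc, e.inv_hom_id,
    Category.comp_id]

end ShiftTricks

section Main

variable {D : Type u} [Category.{v} D] [Preadditive D] [HasZeroObject D] [HasShift D ℤ]
  [∀ n : ℤ, (shiftFunctor D n).Additive] [Pretriangulated D]
  {D' : Type u'} [Category.{v'} D'] [Preadditive D'] [HasZeroObject D'] [HasShift D' ℤ]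
  [∀ n : ℤ, (shiftFunctor D' n).Additive] [Pretriangulated D']
  (F : D ⥤ D') [F.CommShift ℤ] [F.IsTriangulated]

/-- the closure of `S` under shifts and isomorphisms -/
def Sh (S : Set D) (X : D) : Prop := ∃ E ∈ S, ∃ j : ℤ, Nonempty (X ≅ E⟦j⟧)

lemma Sh_shift {S : Set D} {X : D} (h : Sh S X) (n : ℤ) : Sh S (X⟦n⟧) := by
  obtain ⟨E, hE, j, ⟨e⟩⟩ := h
  exact ⟨E, hE, j + n, ⟨(shiftFunctor D n).mapIso e ≪≫
    ((shiftFunctorAdd' D j n (j + n) rfl).app E).symm⟩⟩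

lemma Sh_of_mem {S : Set D} {E : D} (hE : E ∈ S) (j : ℤ) : Sh S (E⟦j⟧) :=
  ⟨E, hE, j, ⟨Iso.refl _⟩⟩

variable {F}

lemma bij_Sh {S : Set D} (h4 : ∀ E ∈ S, ∀ E' ∈ S, ∀ i : ℤ, Bij F E (E'⟦i⟧)) {X Y : D}
    (hX : Sh S X) (hY : Sh S Y) : Bij F X Y := by
  obtain ⟨E, hE, j, ⟨eX⟩⟩ := hX
  obtain ⟨E', hE', k, ⟨eY⟩⟩ := hY
  have a : (E'⟦k - j⟧)⟦j⟧ ≅ E'⟦k⟧ := ((shiftFunctorAdd' D (k - j) j k (by omega)).app E').symm
  exact ((h4 E hE E' hE' (k - j)).shift j).of_iso eX.symm (a ≪≫ eY.symm)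

lemma isZero_of_right_orth {S : Set D}
    (h2 : ∀ K : D, (∀ E ∈ S, ∀ (i : ℤ) (f : E ⟶ (shiftFunctor D i).obj K), f = 0) → IsZero K)
    (K : D) (h : ∀ X : D, Sh S X → ∀ f : X ⟶ K, f = 0) : IsZero K := by
  apply h2
  intro E hE i f
  let e : (E⟦-i⟧)⟦i⟧ ≅ E := shiftNegShift E i
  obtain ⟨g, hg⟩ := (shiftFunctor D i).map_surjective (e.hom ≫ f)
  rw [h _ (Sh_of_mem hE (-i)) g, Functor.map_zero] at hg
  rw [← cancel_epi e.hom, ← hg, comp_zero]

lemma isZero_of_left_orth {S : Set D}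
    (h3 : ∀ K : D, (∀ E ∈ S, ∀ (i : ℤ) (f : K ⟶ (shiftFunctor D i).obj E), f = 0) → IsZero K)
    (K : D) (h : ∀ X : D, Sh S X → ∀ f : K ⟶ X, f = 0) : IsZero K := by
  apply h3
  intro E hE i f
  exact h _ (Sh_of_mem hE i) f

theorem full_faithful (R L : D' ⥤ D) (adjR : F ⊣ R) (adjL : L ⊣ F) (S : Set D)
    (h2 : ∀ K : D, (∀ E ∈ S, ∀ (i : ℤ) (f : E ⟶ (shiftFunctor D i).obj K), f = 0) → IsZero K)
    (h3 : ∀ K : D, (∀ E ∈ S, ∀ (i : ℤ) (f : K ⟶ (shiftFunctor D i).obj E), f = 0) → IsZero K)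
    (h4 : ∀ E ∈ S, ∀ E' ∈ S, ∀ i : ℤ, Bij F E (E'⟦i⟧)) : F.Full ∧ F.Faithful := by
  -- the key formula for the unit
  have hunit : ∀ {X E : D} (g : X ⟶ E),
      g ≫ adjR.unit.app E = adjR.homEquiv X (F.obj E) (F.map g) := by
    intro X E g
    rw [Adjunction.homEquiv_unit]
    exact adjR.unit.naturality g
  have hcounit : ∀ {K E : D} (g : K ⟶ E),
      adjL.counit.app K ≫ g = (adjL.homEquiv (F.obj K) E).symm (F.map g) := by
    intro K E g
    rw [Adjunction.homEquiv_counit]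
    exact (adjL.counit.naturality g).symm
  -- Step 1: the unit is an isomorphism on `Sh S`
  have step1 : ∀ E : D, Sh S E → IsIso (adjR.unit.app E) := by
    intro E hE
    have hbij : ∀ X : D, Sh S X → Function.Bijective (fun g : X ⟶ E => g ≫ adjR.unit.app E) := by
      intro X hX
      have : (fun g : X ⟶ E => g ≫ adjR.unit.app E) =
          (adjR.homEquiv X (F.obj E)) ∘ (fun g : X ⟶ E => F.map g) := by
        funext g
        exact hunit g
      rw [this]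
      exact (adjR.homEquiv X (F.obj E)).bijective.comp (bij_Sh h4 hX hE)
    obtain ⟨C, b, c, hT⟩ := distinguished_cocone_triangle (adjR.unit.app E)
    have hC : IsZero C := by
      apply isZero_of_right_orth h2
      intro X hX f
      have h0 : (f ≫ c) ≫ (adjR.unit.app E)⟦(1 : ℤ)⟧' = 0 := by
        rw [Category.assoc]
        have : c ≫ (adjR.unit.app E)⟦(1 : ℤ)⟧' = 0 := comp_distTriang_mor_zero₃₁ _ hT
        rw [this, comp_zero]
      have h1 : f ≫ c = 0 := by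
        refine shift_inj (adjR.unit.app E) ?_ (f ≫ c) h0
        intro g hg
        apply (hbij _ (Sh_shift hX (-1))).1
        change g ≫ adjR.unit.app E = 0 ≫ adjR.unit.app E
        rw [hg, zero_comp]
      obtain ⟨f', hf'⟩ := Triangle.coyoneda_exact₃ _ hT f h1
      obtain ⟨g, hg⟩ := (hbij X hX).2 f'
      have hg' : g ≫ adjR.unit.app E = f' := hg
      have h3 : adjR.unit.app E ≫ b = 0 := comp_distTriang_mor_zero₁₂ _ hT
      rw [hf', ← hg']
      change (g ≫ adjR.unit.app E) ≫ b = 0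
      rw [Category.assoc, h3, comp_zero]
    exact (Triangle.isZero₃_iff_isIso₁ _ hT).1 hC
  -- Step 2: the counit is an isomorphism
  have step2 : ∀ K : D, IsIso (adjL.counit.app K) := by
    intro K
    have hbij : ∀ E : D, Sh S E → Function.Bijective (fun g : K ⟶ E => adjL.counit.app K ≫ g) := by
      intro E hE
      have := step1 E hE
      have h5 : (fun g : K ⟶ E => adjL.counit.app K ≫ g) =
          (adjL.homEquiv (F.obj K) E).symm ∘ (adjR.homEquiv K (F.obj E)).symm ∘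
            (fun g : K ⟶ E => g ≫ adjR.unit.app E) := by
        funext g
        rw [hcounit g]
        simp only [Function.comp_apply]
        rw [hunit g, Equiv.symm_apply_apply]
      rw [h5]
      refine (adjL.homEquiv (F.obj K) E).symm.bijective.comp
        ((adjR.homEquiv K (F.obj E)).symm.bijective.comp ?_)
      constructor
      · intro g g' hgg'
        exact (cancel_mono (adjR.unit.app E)).1 hgg'
      · intro g
        exact ⟨g ≫ inv (adjR.unit.app E), by simp⟩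
    obtain ⟨C, b, c, hT⟩ := distinguished_cocone_triangle (adjL.counit.app K)
    have hC : IsZero C := by
      apply isZero_of_left_orth h3
      intro X hX f
      have h0 : adjL.counit.app K ≫ (b ≫ f) = 0 := by
        have : adjL.counit.app K ≫ b = 0 := comp_distTriang_mor_zero₁₂ _ hT
        rw [← Category.assoc, this, zero_comp]
      have h1 : b ≫ f = 0 := by
        apply (hbij X hX).1
        change adjL.counit.app K ≫ (b ≫ f) = adjL.counit.app K ≫ 0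
        rw [h0, comp_zero]
      obtain ⟨d, hd⟩ := Triangle.yoneda_exact₃ _ hT f h1
      obtain ⟨d', hd'⟩ := shift_surj (adjL.counit.app K) (fun d₀ => by
        obtain ⟨g, hg⟩ := (hbij _ (Sh_shift hX (-1))).2 d₀
        exact ⟨g, hg.symm⟩) d
      have h4 : c ≫ (adjL.counit.app K)⟦(1 : ℤ)⟧' = 0 := comp_distTriang_mor_zero₃₁ _ hT
      rw [hd, hd']
      change c ≫ (adjL.counit.app K)⟦(1 : ℤ)⟧' ≫ d' = 0
      rw [← Category.assoc, h4, zero_comp]
    exact (Triangle.isZero₃_iff_isIso₁ _ hT).1 hC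
  have : IsIso adjL.counit := NatIso.isIso_of_isIso_app _
  have ff := adjL.fullyFaithfulROfIsIsoCounit
  exact ⟨ff.full, ff.faithful⟩

end Main

end Helper89.SpanFF
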