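import Groth.Agent.Lib.Helper89.Compact
import Groth.Agent.Lib.Helper89.SpanFF

set_option autoImplicit false
set_option linter.unusedSectionVars false
universe v u u'
open CategoryTheory CategoryTheory.Limits CategoryTheory.Pretriangulated
open Groth.Agent.Lib.Helper40.Cpt

namespace Helper89.AdjCoprod

variable {D : Type u} [Category.{v} D] [Preadditive D]
  {E : Type u'} [Category.{v} E] [Preadditive E]
  {F : D ⥤ E} [F.Additive] {G : E ⥤ D} (adj : F ⊣ G)

/-- the basic commutative square relating the sum-to-coproduct maps of `X` and `F X` -/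
lemma square (X : D) {κ : Type v} (Y : κ → E) [HasCoproduct Y] [HasCoproduct (fun k => G.obj (Y k))] :
    (Preadditive.rightComp X (sigmaComparison G Y)).comp
        (CohDer.homSumToHomCoprod X (fun k => G.obj (Y k))) =
      ((adj.homAddEquiv X (∐ Y)).toAddMonoidHom.comp (CohDer.homSumToHomCoprod (F.obj X) Y)).comp
        (DirectSum.map (fun k => (adj.homAddEquiv X (Y k)).symm.toAddMonoidHom)) := by
  classical
  apply DirectSum.addHom_ext
  intro k x
  simp only [AddMonoidHom.comp_apply, DirectSum.map_of, CohDer.homSumToHomCoprod,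
    DirectSum.toAddMonoid_of]
  change (x ≫ Sigma.ι (fun k => G.obj (Y k)) k) ≫ sigmaComparison G Y =
    adj.homEquiv X (∐ Y) ((adj.homEquiv X (Y k)).symm x ≫ Sigma.ι Y k)
  rw [Category.assoc, ι_comp_sigmaComparison, Adjunction.homEquiv_naturality_right,
    Equiv.apply_symm_apply]


lemma dsmap_bijective (X : D) {κ : Type v} (Y : κ → E) :
    Function.Bijective (DirectSum.map (fun k => (adj.homAddEquiv X (Y k)).symm.toAddMonoidHom)) :=
  ⟨(DirectSum.map_injective _).2 (fun k => (adj.homAddEquiv X (Y k)).symm.injective),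
    (DirectSum.map_surjective _).2 (fun k => (adj.homAddEquiv X (Y k)).symm.surjective)⟩

lemma rightComp_bijective {X A B : D} (c : A ⟶ B) [IsIso c] :
    Function.Bijective (Preadditive.rightComp X c) := by
  constructor
  · intro a b hab
    exact (cancel_mono c).1 hab
  · intro a
    refine ⟨a ≫ inv c, ?_⟩
    change (a ≫ inv c) ≫ c = a
    rw [Category.assoc, IsIso.inv_hom_id, Category.comp_id]

include adj in
/-- if `G` preserves the coproduct and `X` is compact w.r.t. `G ∘ Y`, then `F X` is compact
w.r.t. `Y` -/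
lemma bijective_of_isIso (X : D) {κ : Type v} (Y : κ → E) [HasCoproduct Y]
    [HasCoproduct (fun k => G.obj (Y k))] [IsIso (sigmaComparison G Y)]
    (h : Function.Bijective (CohDer.homSumToHomCoprod X (fun k => G.obj (Y k)))) :
    Function.Bijective (CohDer.homSumToHomCoprod (F.obj X) Y) := by
  have h1 : Function.Bijective ((Preadditive.rightComp X (sigmaComparison G Y)).comp
      (CohDer.homSumToHomCoprod X (fun k => G.obj (Y k)))) := by
    rw [AddMonoidHom.coe_comp]
    exact (rightComp_bijective _).comp h
  rw [square adj X Y, AddMonoidHom.coe_comp] at h1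
  have h2 := (Function.Bijective.of_comp_iff _ (dsmap_bijective adj X Y)).1 h1
  rw [AddMonoidHom.coe_comp] at h2
  exact (Function.Bijective.of_comp_iff' (adj.homAddEquiv X (∐ Y)).bijective _).1 h2

include adj in
/-- if `X` and `F X` are compact then `- ≫ sigmaComparison` is bijective on `Hom(X, -)` -/
lemma bijective_comp_sigmaComparison (X : D) {κ : Type v} (Y : κ → E) [HasCoproduct Y]
    [HasCoproduct (fun k => G.obj (Y k))]
    (h : Function.Bijective (CohDer.homSumToHomCoprod X (fun k => G.obj (Y k))))
    (h' : Function.Bijective (CohDer.homSumToHomCoprod (F.obj X) Y)) :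
    Function.Bijective (fun a : X ⟶ ∐ (fun k => G.obj (Y k)) => a ≫ sigmaComparison G Y) := by
  have h1 : Function.Bijective (((adj.homAddEquiv X (∐ Y)).toAddMonoidHom.comp
      (CohDer.homSumToHomCoprod (F.obj X) Y)).comp
        (DirectSum.map (fun k => (adj.homAddEquiv X (Y k)).symm.toAddMonoidHom))) := by
    rw [AddMonoidHom.coe_comp, AddMonoidHom.coe_comp]
    exact ((adj.homAddEquiv X (∐ Y)).bijective.comp h').comp (dsmap_bijective adj X Y)
  rw [← square adj X Y, AddMonoidHom.coe_comp] at h1
  exact (Function.Bijective.of_comp_iff _ h).1 h1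

end Helper89.AdjCoprod

namespace Helper89.AdjCoprod

open Helper89.SpanFF

section Tri

variable {D : Type u} [Category.{v} D] [Preadditive D] [HasZeroObject D] [HasShift D ℤ]
  [∀ n : ℤ, (shiftFunctor D n).Additive] [Pretriangulated D]

/-- a morphism inducing bijections on `Hom(X, -)` for `X` in a shift-stable detecting class is an
isomorphism -/
lemma isIso_of_bijective_on (P : D → Prop) (hP : ∀ X, P X → P (X⟦(-1 : ℤ)⟧))
    (hgen : ∀ K : D, (∀ X, P X → ∀ f : X ⟶ K, f = 0) → IsZero K) {A B : D} (c : A ⟶ B)
    (hbij : ∀ X, P X → Function.Bijective (fun a : X ⟶ A => a ≫ c)) : IsIso c := by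
  obtain ⟨C, b, d, hT⟩ := distinguished_cocone_triangle c
  have hC : IsZero C := by
    apply hgen
    intro X hX f
    have h0 : (f ≫ d) ≫ c⟦(1 : ℤ)⟧' = 0 := by
      rw [Category.assoc]
      have : d ≫ c⟦(1 : ℤ)⟧' = 0 := comp_distTriang_mor_zero₃₁ _ hT
      rw [this, comp_zero]
    have h1 : f ≫ d = 0 := by
      refine shift_inj c ?_ (f ≫ d) h0
      intro g hg
      apply (hbij _ (hP X hX)).1
      change g ≫ c = 0 ≫ c
      rw [hg, zero_comp]
    obtain ⟨f', hf'⟩ := Triangle.coyoneda_exact₃ _ hT f h1
    obtain ⟨g, hg⟩ := (hbij X hX).2 f'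
    have hg' : g ≫ c = f' := hg
    have h3 : c ≫ b = 0 := comp_distTriang_mor_zero₁₂ _ hT
    rw [hf', ← hg']
    change (g ≫ c) ≫ b = 0
    rw [Category.assoc, h3, comp_zero]
  exact (Triangle.isZero₃_iff_isIso₁ _ hT).1 hC

end Tri

section Main

variable {D : Type u} [Category.{v} D] [Preadditive D] [HasZeroObject D] [HasShift D ℤ]
    [∀ n : ℤ, (shiftFunctor D n).Additive] [Pretriangulated D] [HasCoproducts.{v} D]
    {E : Type u'} [Category.{v} E] [Preadditive E] [HasZeroObject E] [HasShift E ℤ]
    [∀ n : ℤ, (shiftFunctor E n).Additive] [Pretriangulated E] [HasCoproducts.{v} E]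

theorem main {ι : Type v} (S : ι → D) (hSc : ∀ i, CohDer.IsCompactObject (S i))
    (hSg : CohDer.Generates S)
    (F : D ⥤ E) [F.CommShift ℤ] [F.IsTriangulated]
    (G : E ⥤ D) (adj : F ⊣ G) :
    (∀ (κ : Type v), PreservesColimitsOfShape (Discrete κ) G) ↔
      ∀ i, CohDer.IsCompactObject (F.obj (S i)) := by
  constructor
  · intro hG i κ Y
    exact bijective_of_isIso adj (S i) Y (hSc i κ _)
  · intro hF κ
    have hcmp : ∀ Y : κ → E, IsIso (sigmaComparison G Y) := by
      intro Y
      refine isIso_of_bijective_on (Sh (Set.range S)) (fun X hX => Sh_shift hX (-1)) ?_ _ ?_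
      · intro K hK
        refine isZero_of_right_orth (S := Set.range S) ?_ K hK
        intro K' h
        apply hSg
        intro i n f
        exact h (S i) ⟨i, rfl⟩ n f
      · intro X hX
        obtain ⟨_, ⟨i, rfl⟩, j, ⟨e⟩⟩ := hX
        have hX1 : CohDer.IsCompactObject X := isCompact_of_iso e.symm (isCompact_shift (hSc i) j)
        have hX2 : CohDer.IsCompactObject (F.obj X) :=
          isCompact_of_iso (((F.commShiftIso j).app (S i)).symm ≪≫ (F.mapIso e).symm)
            (isCompact_shift (hF i) j)
        exact bijective_comp_sigmaComparison adj X Y (hX1 κ _) (hX2 κ _)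
    constructor
    intro K
    have : PreservesColimit (Discrete.functor (K.obj ∘ Discrete.mk)) G := by
      have := hcmp (K.obj ∘ Discrete.mk)
      exact PreservesCoproduct.of_iso_comparison G _
    exact preservesColimit_of_iso_diagram G (Discrete.natIsoFunctor (F := K)).symm

end Main

end Helper89.AdjCoprod
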