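import Groth.Agent.Lib.Helper89.Shriek5
import Mathlib.RingTheory.TensorProduct.MvPolynomial
import Mathlib.RingTheory.MvPolynomial.Basic
import Mathlib.RingTheory.Polynomial.Basic

/-!
# Module-level base change for `Hom_P(B, -)` along `P → P[σ]`

For a surjection `ψ : P → B` and `ψ' = map ψ : P[σ] → B[σ]`:
* `ap`, `ext_of_ap_one`, `exists_ap_one`: elements of `Hom_P(B, N)` are determined by their value
  at `1`, which is an arbitrary `ker ψ`-torsion element;
* `gamma : coext ψ' ⋙ res_B ≅ res_P ⋙ coext ψ`;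
* `beta : coext ψ ⋙ ext_B ≅ ext_P ⋙ coext ψ'`.
-/

set_option autoImplicit false
universe u

namespace Groth.Agent.Lib.Helper89.BCa

open CategoryTheory ChangeOfRings TensorProduct
open scoped Classical

section Ev

variable {R S : Type u} [CommRing R] [CommRing S] (φ : R →+* S) (N : ModuleCat.{u} R)

/-- apply an element of `Hom_R(S, N)` -/
noncomputable def ap (h : (ModuleCat.coextendScalars.{u, u, u} φ).obj N) (s : S) : N :=
  (ModuleCat.CoextendScalars.equiv φ N h) s

variable {φ N}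

theorem ap_add (h : (ModuleCat.coextendScalars.{u, u, u} φ).obj N) (s s' : S) :
    ap φ N h (s + s') = ap φ N h s + ap φ N h s' :=
  (ModuleCat.CoextendScalars.equiv φ N h).map_add s s'

theorem ap_map_mul (h : (ModuleCat.coextendScalars.{u, u, u} φ).obj N) (r : R) (s : S) :
    ap φ N h (φ r * s) = r • ap φ N h s :=
  (ModuleCat.CoextendScalars.equiv φ N h).map_smul r s

theorem ap_map (h : (ModuleCat.coextendScalars.{u, u, u} φ).obj N) (r : R) :
    ap φ N h (φ r) = r • ap φ N h 1 := by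
  rw [← ap_map_mul, mul_one]

theorem ap_smul (h : (ModuleCat.coextendScalars.{u, u, u} φ).obj N) (s s' : S) :
    ap φ N (s • h) s' = ap φ N h (s' * s) := rfl

theorem ap_add_left (h h' : (ModuleCat.coextendScalars.{u, u, u} φ).obj N) (s : S) :
    ap φ N (h + h') s = ap φ N h s + ap φ N h' s := rfl

theorem ap_zero_left (s : S) :
    ap φ N (0 : (ModuleCat.coextendScalars.{u, u, u} φ).obj N) s = 0 := rfl

theorem ext_ap {h h' : (ModuleCat.coextendScalars.{u, u, u} φ).obj N}
    (H : ∀ s, ap φ N h s = ap φ N h' s) : h = h' := by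
  apply ModuleCat.CoextendScalars.ext
  apply LinearMap.ext
  exact fun s => H s

theorem ext_of_ap_one (hφ : Function.Surjective φ)
    {h h' : (ModuleCat.coextendScalars.{u, u, u} φ).obj N}
    (H : ap φ N h 1 = ap φ N h' 1) : h = h' := by
  apply ext_ap
  intro s
  obtain ⟨r, rfl⟩ := hφ s
  rw [ap_map, ap_map, H]

theorem exists_ap_one (hφ : Function.Surjective φ) (x : N)
    (hx : ∀ a : R, φ a = 0 → a • x = 0) :
    ∃ h : (ModuleCat.coextendScalars.{u, u, u} φ).obj N, ap φ N h 1 = x := by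
  have key : ∀ r r' : R, φ r = φ r' → r • x = r' • x := by
    intro r r' hr
    have h0 := hx (r - r') (by rw [map_sub, hr, sub_self])
    rw [sub_smul, sub_eq_zero] at h0
    exact h0
  let F : S → N := fun s => (Function.surjInv hφ s) • x
  have hF : ∀ (s : S) (r : R), φ r = s → F s = r • x := by
    intro s r hr
    exact key _ _ ((Function.surjInv_eq hφ s).trans hr.symm)
  have hadd : ∀ s s' : S, F (s + s') = F s + F s' := by
    intro s s'
    rw [hF (s + s') (Function.surjInv hφ s + Function.surjInv hφ s')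
      (by rw [map_add, Function.surjInv_eq hφ, Function.surjInv_eq hφ]), add_smul]
  have hsmul : ∀ (a : R) (s : S), F (φ a * s) = a • F s := by
    intro a s
    rw [hF (φ a * s) (a * Function.surjInv hφ s)
      (by rw [map_mul, Function.surjInv_eq hφ]), mul_smul]
  let L : ((ModuleCat.restrictScalars.{u} φ).obj (ModuleCat.of S S)) →ₗ[R] N :=
    { toFun := fun s => F s
      map_add' := fun s s' => hadd s s'
      map_smul' := fun a s => hsmul a s }
  refine ⟨(ModuleCat.CoextendScalars.equiv φ N).symm L, ?_⟩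
  change F 1 = x
  rw [hF 1 1 (map_one φ), one_smul]

end Ev

section Gamma

variable {P P' B B' : Type u} [CommRing P] [CommRing P'] [CommRing B] [CommRing B']
  (f : P →+* P') (g : B →+* B') (ψ : P →+* B) (ψ' : P' →+* B')
  (comm : ψ'.comp f = g.comp ψ)

theorem ap_zero_right {R S : Type u} [CommRing R] [CommRing S] {φ : R →+* S} {N : ModuleCat.{u} R}
    (h : (ModuleCat.coextendScalars.{u, u, u} φ).obj N) : ap φ N h 0 = 0 :=
  (ModuleCat.CoextendScalars.equiv φ N h).map_zero

include comm in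
theorem gamma_aux (X : ModuleCat.{u} P')
    (u : (ModuleCat.coextendScalars.{u, u, u} ψ').obj X) (a : P) (b : B) :
    ap ψ' X u (g (ψ a * b)) = f a • ap ψ' X u (g b) := by
  have h1 : g (ψ a) = ψ' (f a) := (RingHom.congr_fun comm a).symm
  rw [map_mul, h1, ap_map_mul]

/-- `γ_X : Hom_{P'}(B', X) → Hom_P(B, X)`, `u ↦ u ∘ g` -/
noncomputable def gammaFun (X : ModuleCat.{u} P')
    (u : (ModuleCat.coextendScalars.{u, u, u} ψ').obj X) :
    (ModuleCat.coextendScalars.{u, u, u} ψ).obj ((ModuleCat.restrictScalars.{u} f).obj X) :=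
  (ModuleCat.CoextendScalars.equiv ψ ((ModuleCat.restrictScalars.{u} f).obj X)).symm
    { toFun := fun b => ap ψ' X u (g b)
      map_add' := fun b b' => (congrArg (ap ψ' X u) (map_add g b b')).trans (ap_add u _ _)
      map_smul' := fun a b => gamma_aux f g ψ ψ' comm X u a b }

theorem ap_gammaFun (X : ModuleCat.{u} P')
    (u : (ModuleCat.coextendScalars.{u, u, u} ψ').obj X) (b : B) :
    ap ψ ((ModuleCat.restrictScalars.{u} f).obj X) (gammaFun f g ψ ψ' comm X u) b =
      ap ψ' X u (g b) := rfl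

/-- `γ_X` as a morphism of `B`-modules -/
noncomputable def gammaApp (X : ModuleCat.{u} P') :
    (ModuleCat.restrictScalars.{u} g).obj ((ModuleCat.coextendScalars.{u, u, u} ψ').obj X) ⟶
      (ModuleCat.coextendScalars.{u, u, u} ψ).obj ((ModuleCat.restrictScalars.{u} f).obj X) :=
  ModuleCat.ofHom
    (X := (ModuleCat.restrictScalars.{u} g).obj ((ModuleCat.coextendScalars.{u, u, u} ψ').obj X))
    (Y := (ModuleCat.coextendScalars.{u, u, u} ψ).obj ((ModuleCat.restrictScalars.{u} f).obj X))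
    { toFun := fun u => gammaFun f g ψ ψ' comm X u
      map_add' := fun u u' => ext_ap (fun b => rfl)
      map_smul' := fun b₀ u => ext_ap (fun b => by
        change ap ψ' X u (g b * g b₀) = ap ψ' X u (g (b * b₀))
        rw [map_mul]) }

/-- `γ` as a natural transformation -/
noncomputable def gamma :
    ModuleCat.coextendScalars.{u, u, u} ψ' ⋙ ModuleCat.restrictScalars.{u} g ⟶
      ModuleCat.restrictScalars.{u} f ⋙ ModuleCat.coextendScalars.{u, u, u} ψ where
  app := gammaApp f g ψ ψ' comm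
  naturality X Y k := by
    apply ModuleCat.hom_ext
    apply LinearMap.ext
    intro u
    apply ext_ap
    intro b
    rfl

variable (hψ : Function.Surjective ψ) (hψ' : Function.Surjective ψ')
  (hker : ∀ p' : P', ψ' p' = 0 → p' ∈ Ideal.map f (RingHom.ker ψ))

include hψ' in
theorem gammaFun_injective (X : ModuleCat.{u} P') :
    Function.Injective (gammaFun f g ψ ψ' comm X) := by
  intro u u' h
  apply ext_of_ap_one hψ'
  have h1 := congrArg (fun w => ap ψ ((ModuleCat.restrictScalars.{u} f).obj X) w 1) h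
  simp only [ap_gammaFun, map_one] at h1
  exact h1

include hψ hψ' hker in
theorem gammaFun_surjective (X : ModuleCat.{u} P') :
    Function.Surjective (gammaFun f g ψ ψ' comm X) := by
  intro v
  let x : X := ap ψ ((ModuleCat.restrictScalars.{u} f).obj X) v 1
  have hgen : ∀ a : P, ψ a = 0 → f a • x = 0 := by
    intro a ha
    have h1 := ap_map v a
    rw [ha, ap_zero_right] at h1
    exact h1.symm
  have htors : ∀ p' : P', ψ' p' = 0 → p' • x = 0 := by
    intro p' hp'
    have hmem := hker p' hp'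
    rw [Ideal.map] at hmem
    refine Submodule.span_induction (p := fun y _ => y • x = 0) ?_ ?_ ?_ ?_ hmem
    · rintro y ⟨a, ha, rfl⟩
      exact hgen a ha
    · exact zero_smul _ _
    · intro y z _ _ hy hz
      rw [add_smul, hy, hz, add_zero]
    · intro c y _ hy
      rw [smul_eq_mul, mul_smul, hy, smul_zero]
  obtain ⟨u, hu⟩ := exists_ap_one hψ' x htors
  refine ⟨u, ?_⟩
  apply ext_of_ap_one hψ
  rw [ap_gammaFun, map_one, hu]

include hψ hψ' hker in
theorem isIso_gamma_app (X : ModuleCat.{u} P') : IsIso ((gamma f g ψ ψ' comm).app X) := by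
  rw [ConcreteCategory.isIso_iff_bijective]
  exact ⟨gammaFun_injective f g ψ ψ' comm hψ' X, gammaFun_surjective f g ψ ψ' comm hψ hψ' hker X⟩

end Gamma

section Coords

variable (S : Type u) [CommRing S] (σ : Type) (N : ModuleCat.{u} S)

/-- `S[σ]` with the restricted module structure -/
abbrev rS : Type u :=
  ((ModuleCat.restrictScalars.{u} (MvPolynomial.C : S →+* MvPolynomial σ S)).obj
    (ModuleCat.of (MvPolynomial σ S) (MvPolynomial σ S)))

/-- the identity `S`-linear equivalence -/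
noncomputable def eC : rS S σ ≃ₗ[S] MvPolynomial σ S :=
  { AddEquiv.refl (MvPolynomial σ S) with
    map_smul' := fun a p => (MvPolynomial.C_mul' (a := a) (p := (show MvPolynomial σ S from p))) }

/-- coordinates on `S[σ] ⊗_S N` -/
noncomputable def coordsL : (rS S σ ⊗[S] N) ≃ₗ[S] ((σ →₀ ℕ) →₀ N) :=
  (TensorProduct.congr ((eC S σ).trans (MvPolynomial.basisMonomials σ S).repr)
    (LinearEquiv.refl S N)).trans (TensorProduct.finsuppScalarLeft S N (σ →₀ ℕ))

theorem coordsL_tmul (p : rS S σ) (n : N) (μ : σ →₀ ℕ) :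
    coordsL S σ N (p ⊗ₜ[S] n) μ = MvPolynomial.coeff μ (show MvPolynomial σ S from p) • n := by
  unfold coordsL
  rw [LinearEquiv.trans_apply, TensorProduct.congr_tmul,
    TensorProduct.finsuppScalarLeft_apply_tmul_apply]
  rfl

/-- the two `S`-actions on `S[σ] ⊗_S N` agree -/
theorem tp_smul_eq (a : S) (x : rS S σ ⊗[S] N) :
    a • x = ((MvPolynomial.C a : MvPolynomial σ S) •
      (show ((ModuleCat.extendScalars.{u, u, u}
        (MvPolynomial.C : S →+* MvPolynomial σ S)).obj N) from x)) := by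
  induction x using TensorProduct.induction_on with
  | zero => rw [smul_zero]; exact (smul_zero _).symm
  | tmul p n => rfl
  | add x y hx hy =>
    rw [smul_add, hx, hy]
    exact (smul_add _ _ _).symm

/-- coordinates on the module `(extendScalars C).obj N` -/
noncomputable def coordsE :
    ((ModuleCat.extendScalars.{u, u, u} (MvPolynomial.C : S →+* MvPolynomial σ S)).obj N) ≃+
      ((σ →₀ ℕ) →₀ N) where
  toFun z := coordsL S σ N z
  invFun v := (coordsL S σ N).symm v
  left_inv z := (coordsL S σ N).symm_apply_apply z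
  right_inv v := (coordsL S σ N).apply_symm_apply v
  map_add' x y := map_add (coordsL S σ N) x y

theorem coordsE_tmul (p : MvPolynomial σ S) (n : N) (μ : σ →₀ ℕ) :
    coordsE S σ N (p ⊗ₜ[S, (MvPolynomial.C : S →+* MvPolynomial σ S)] n) μ =
      MvPolynomial.coeff μ p • n :=
  coordsL_tmul S σ N p n μ

theorem coordsE_C_smul (a : S)
    (z : (ModuleCat.extendScalars.{u, u, u} (MvPolynomial.C : S →+* MvPolynomial σ S)).obj N) :
    coordsE S σ N ((MvPolynomial.C a : MvPolynomial σ S) • z) = a • coordsE S σ N z := by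
  have h1 := tp_smul_eq S σ N a z
  have h2 := (coordsL S σ N).map_smul a z
  exact (congrArg (coordsL S σ N) h1).symm.trans h2

end Coords

section Beta

variable {P B : Type u} [CommRing P] [CommRing B] (ψ : P →+* B) (hψ : Function.Surjective ψ)
  (σ : Type)

/-- `C : P → P[σ]` -/
noncomputable abbrev cP : P →+* MvPolynomial σ P := MvPolynomial.C
/-- `C : B → B[σ]` -/
noncomputable abbrev cB : B →+* MvPolynomial σ B := MvPolynomial.C
/-- `ψ[σ] : P[σ] → B[σ]` -/
noncomputable abbrev psi' : MvPolynomial σ P →+* MvPolynomial σ B := MvPolynomial.map ψ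

theorem comm : (psi' ψ σ).comp (cP σ) = (cB σ).comp ψ := by
  ext a
  simp

theorem hker (p' : MvPolynomial σ P) (hp' : psi' ψ σ p' = 0) :
    p' ∈ Ideal.map (cP (P := P) σ) (RingHom.ker ψ) := by
  rw [← MvPolynomial.ker_map]
  exact hp'

include hψ in
theorem hpsi' : Function.Surjective (psi' ψ σ) := MvPolynomial.map_surjective ψ hψ

/-- `γ` as an isomorphism -/
noncomputable def gammaIso :
    ModuleCat.coextendScalars.{u, u, u} (psi' ψ σ) ⋙ ModuleCat.restrictScalars.{u} (cB σ) ≅
      ModuleCat.restrictScalars.{u} (cP σ) ⋙ ModuleCat.coextendScalars.{u, u, u} ψ :=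
  haveI : ∀ X, IsIso ((gamma (cP σ) (cB σ) ψ (psi' ψ σ) (comm ψ σ)).app X) := fun X =>
    isIso_gamma_app (cP σ) (cB σ) ψ (psi' ψ σ) (comm ψ σ) hψ (hpsi' ψ hψ σ) (hker ψ σ) X
  haveI : IsIso (gamma (cP σ) (cB σ) ψ (psi' ψ σ) (comm ψ σ)) := NatIso.isIso_of_isIso_app _
  asIso (gamma (cP σ) (cB σ) ψ (psi' ψ σ) (comm ψ σ))

theorem gammaFun_inv (X : ModuleCat.{u} (MvPolynomial σ P))
    (w : (ModuleCat.coextendScalars.{u, u, u} ψ).obj
      ((ModuleCat.restrictScalars.{u} (cP σ)).obj X)) :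
    gammaFun (cP σ) (cB σ) ψ (psi' ψ σ) (comm ψ σ) X
      (((gammaIso ψ hψ σ).inv.app X).hom w) = w := by
  have h := congrArg (fun k => k.hom w) ((gammaIso ψ hψ σ).inv_hom_id_app X)
  exact h

/-- the adjunction `ext ⊣ res` along `C : P → P[σ]` -/
noncomputable abbrev adjP : ModuleCat.extendScalars.{u, u, u} (cP (P := P) σ) ⊣
    ModuleCat.restrictScalars.{u} (cP (P := P) σ) :=
  ModuleCat.extendRestrictScalarsAdj.{u, u, u} (cP (P := P) σ)

/-- `b_N : Hom_P(B, N) → Hom_{P[σ]}(B[σ], P[σ] ⊗ N)` over `B` -/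
noncomputable def bApp (N : ModuleCat.{u} P) :
    (ModuleCat.coextendScalars.{u, u, u} ψ).obj N ⟶
      (ModuleCat.restrictScalars.{u} (cB σ)).obj
        ((ModuleCat.coextendScalars.{u, u, u} (psi' ψ σ)).obj
          ((ModuleCat.extendScalars.{u, u, u} (cP σ)).obj N)) :=
  (ModuleCat.coextendScalars.{u, u, u} ψ).map ((adjP σ).unit.app N) ≫
    (gammaIso ψ hψ σ).inv.app ((ModuleCat.extendScalars.{u, u, u} (cP σ)).obj N)

theorem bApp_naturality {N N' : ModuleCat.{u} P} (k : N ⟶ N') :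
    (ModuleCat.coextendScalars.{u, u, u} ψ).map k ≫ bApp ψ hψ σ N' =
      bApp ψ hψ σ N ≫ (ModuleCat.restrictScalars.{u} (cB σ)).map
        ((ModuleCat.coextendScalars.{u, u, u} (psi' ψ σ)).map
          ((ModuleCat.extendScalars.{u, u, u} (cP σ)).map k)) := by
  unfold bApp
  have h1 := (adjP (P := P) σ).unit.naturality k
  have h2 := (gammaIso ψ hψ σ).inv.naturality ((ModuleCat.extendScalars.{u, u, u} (cP σ)).map k)
  simp only [Functor.comp_map, Functor.id_map, Functor.comp_obj, Functor.id_obj] at h1 h2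
  rw [← Category.assoc, ← Functor.map_comp, h1, Functor.map_comp, Category.assoc, h2,
    Category.assoc]

/-- `β_N : B[σ] ⊗_B Hom_P(B, N) → Hom_{P[σ]}(B[σ], P[σ] ⊗_P N)` -/
noncomputable def betaApp (N : ModuleCat.{u} P) :
    (ModuleCat.extendScalars.{u, u, u} (cB σ)).obj
        ((ModuleCat.coextendScalars.{u, u, u} ψ).obj N) ⟶
      (ModuleCat.coextendScalars.{u, u, u} (psi' ψ σ)).obj
          ((ModuleCat.extendScalars.{u, u, u} (cP σ)).obj N) :=
  ((ModuleCat.extendRestrictScalarsAdj.{u, u, u} (cB (B := B) σ)).homEquiv _ _).symm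
    (bApp ψ hψ σ N)

/-- `β` as a natural transformation -/
noncomputable def beta :
    ModuleCat.coextendScalars.{u, u, u} ψ ⋙ ModuleCat.extendScalars.{u, u, u} (cB σ) ⟶
      ModuleCat.extendScalars.{u, u, u} (cP σ) ⋙
        ModuleCat.coextendScalars.{u, u, u} (psi' ψ σ) where
  app := betaApp ψ hψ σ
  naturality N N' k := by
    have h1 := (ModuleCat.extendRestrictScalarsAdj.{u, u, u} (cB (B := B) σ)).homEquiv_naturality_left_symm
      ((ModuleCat.coextendScalars.{u, u, u} ψ).map k) (bApp ψ hψ σ N')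
    have h2 := (ModuleCat.extendRestrictScalarsAdj.{u, u, u} (cB (B := B) σ)).homEquiv_naturality_right_symm
      (bApp ψ hψ σ N) ((ModuleCat.coextendScalars.{u, u, u} (psi' ψ σ)).map
          ((ModuleCat.extendScalars.{u, u, u} (cP σ)).map k))
    rw [bApp_naturality] at h1
    exact h1.symm.trans h2

end Beta

section BetaIso

variable {P B : Type u} [CommRing P] [CommRing B] (ψ : P →+* B) (hψ : Function.Surjective ψ)
  (σ : Type) (N : ModuleCat.{u} P)

theorem betaApp_tmul (q : MvPolynomial σ B) (h : (ModuleCat.coextendScalars.{u, u, u} ψ).obj N) :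
    (betaApp ψ hψ σ N).hom (q ⊗ₜ[B, cB σ] h) =
      (show ((ModuleCat.coextendScalars.{u, u, u} (psi' ψ σ)).obj
          ((ModuleCat.extendScalars.{u, u, u} (cP σ)).obj N)) from
        q • (show ((ModuleCat.coextendScalars.{u, u, u} (psi' ψ σ)).obj
          ((ModuleCat.extendScalars.{u, u, u} (cP σ)).obj N)) from (bApp ψ hψ σ N).hom h)) := rfl

/-- the value at `1` of `β(q ⊗ h)` -/
theorem ap_betaApp_tmul (q : MvPolynomial σ B)
    (h : (ModuleCat.coextendScalars.{u, u, u} ψ).obj N) (p' : MvPolynomial σ P)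
    (hp' : psi' ψ σ p' = q) :
    ap (psi' ψ σ) _ ((betaApp ψ hψ σ N).hom (q ⊗ₜ[B, cB σ] h)) 1 =
      (p' ⊗ₜ[P, cP σ] (ap ψ N h 1) : (ModuleCat.extendScalars.{u, u, u} (cP σ)).obj N) := by
  rw [betaApp_tmul]
  let u : ((ModuleCat.coextendScalars.{u, u, u} (psi' ψ σ)).obj
          ((ModuleCat.extendScalars.{u, u, u} (cP σ)).obj N)) := (bApp ψ hψ σ N).hom h
  change ap (psi' ψ σ) _ (q • u) 1 = _
  rw [ap_smul, one_mul]
  have h1 : gammaFun (cP σ) (cB σ) ψ (psi' ψ σ) (comm ψ σ) _ u =
      ((ModuleCat.coextendScalars.{u, u, u} ψ).map ((adjP σ).unit.app N)).hom h :=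
    gammaFun_inv ψ hψ σ _ _
  have h2 : ap (psi' ψ σ) _ u 1 =
      ((1 : MvPolynomial σ P) ⊗ₜ[P, cP σ] (ap ψ N h 1) :
        (ModuleCat.extendScalars.{u, u, u} (cP σ)).obj N) := by
    have h3 := congrArg (fun w => ap ψ _ w 1) h1
    simp only [ap_gammaFun, map_one] at h3
    exact h3
  rw [← hp', ap_map, h2]
  refine (ModuleCat.ExtendScalars.smul_tmul (cP σ) p' 1 (ap ψ N h 1)).trans ?_
  rw [mul_one]
  rfl

variable (μ : σ →₀ ℕ)

/-- left hand side of the coordinate formula -/
noncomputable def Lf (t : (ModuleCat.extendScalars.{u, u, u} (cB σ)).obj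
      ((ModuleCat.coextendScalars.{u, u, u} ψ).obj N)) : N :=
  coordsE P σ N (ap (psi' ψ σ) _ ((betaApp ψ hψ σ N).hom t) 1) μ

/-- right hand side of the coordinate formula -/
noncomputable def Rf (t : (ModuleCat.extendScalars.{u, u, u} (cB σ)).obj
      ((ModuleCat.coextendScalars.{u, u, u} ψ).obj N)) : N :=
  ap ψ N (coordsE B σ ((ModuleCat.coextendScalars.{u, u, u} ψ).obj N) t μ) 1

theorem Lf_zero : Lf ψ hψ σ N μ 0 = 0 := by
  unfold Lf
  rw [map_zero, ap_zero_left, map_zero]
  rfl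

theorem Lf_add (x y) : Lf ψ hψ σ N μ (x + y) = Lf ψ hψ σ N μ x + Lf ψ hψ σ N μ y := by
  unfold Lf
  rw [map_add, ap_add_left, map_add]
  rfl

theorem Rf_zero : Rf ψ σ N μ 0 = 0 := by
  unfold Rf
  rw [map_zero]
  rfl

theorem Rf_add (x y) : Rf ψ σ N μ (x + y) = Rf ψ σ N μ x + Rf ψ σ N μ y := by
  unfold Rf
  rw [map_add, Finsupp.add_apply, ap_add_left]

theorem Lf_tmul (q : MvPolynomial σ B) (h : (ModuleCat.coextendScalars.{u, u, u} ψ).obj N) :
    Lf ψ hψ σ N μ (q ⊗ₜ[B, cB σ] h) = Rf ψ σ N μ (q ⊗ₜ[B, cB σ] h) := by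
  obtain ⟨p', hp'⟩ := hpsi' ψ hψ σ q
  have h1 := ap_betaApp_tmul ψ hψ σ N q h p' hp'
  unfold Lf Rf
  rw [h1, coordsE_tmul, coordsE_tmul, ap_smul, one_mul, ← hp']
  change _ = ap ψ N h (MvPolynomial.coeff μ (MvPolynomial.map ψ p'))
  rw [MvPolynomial.coeff_map, ap_map]

/-- **the coordinate formula for `β`** -/
theorem coords_beta (t : (ModuleCat.extendScalars.{u, u, u} (cB σ)).obj
      ((ModuleCat.coextendScalars.{u, u, u} ψ).obj N)) :
    Lf ψ hψ σ N μ t = Rf ψ σ N μ t := by
  induction t using TensorProduct.induction_on with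
  | zero => exact (Lf_zero ψ hψ σ N μ).trans (Rf_zero ψ σ N μ).symm
  | tmul q h => exact Lf_tmul ψ hψ σ N μ q h
  | add x y hx hy =>
    exact (Lf_add ψ hψ σ N μ x y).trans ((congrArg₂ (· + ·) hx hy).trans (Rf_add ψ σ N μ x y).symm)

end BetaIso

section BetaBij

variable {P B : Type u} [CommRing P] [CommRing B] (ψ : P →+* B) (hψ : Function.Surjective ψ)
  (σ : Type) (N : ModuleCat.{u} P)

theorem coords_beta' (t : (ModuleCat.extendScalars.{u, u, u} (cB σ)).obj
      ((ModuleCat.coextendScalars.{u, u, u} ψ).obj N)) (μ : σ →₀ ℕ) :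
    coordsE P σ N (ap (psi' ψ σ) _ ((betaApp ψ hψ σ N).hom t) 1) μ =
      ap ψ N (coordsE B σ ((ModuleCat.coextendScalars.{u, u, u} ψ).obj N) t μ) 1 :=
  coords_beta ψ hψ σ N μ t

theorem betaApp_injective : Function.Injective (betaApp ψ hψ σ N).hom := by
  rw [← LinearMap.ker_eq_bot, LinearMap.ker_eq_bot']
  intro t ht
  apply (coordsE B σ ((ModuleCat.coextendScalars.{u, u, u} ψ).obj N)).injective
  rw [map_zero]
  ext μ : 1
  apply ext_of_ap_one hψ
  rw [← coords_beta' ψ hψ σ N t μ, ht, ap_zero_left, map_zero]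
  rfl

theorem betaApp_surjective : Function.Surjective (betaApp ψ hψ σ N).hom := by
  intro w
  let x : (ModuleCat.extendScalars.{u, u, u} (cP σ)).obj N := ap (psi' ψ σ) _ w 1
  let ξ : (σ →₀ ℕ) →₀ N := coordsE P σ N x
  have htors : ∀ (μ : σ →₀ ℕ) (a : P), ψ a = 0 → a • ξ μ = 0 := by
    intro μ a ha
    have h1 : (MvPolynomial.C a : MvPolynomial σ P) • x = 0 := by
      have h2 := ap_map w (MvPolynomial.C a : MvPolynomial σ P)
      have h3 : psi' ψ σ (MvPolynomial.C a) = 0 := by
        change MvPolynomial.map ψ (MvPolynomial.C a) = 0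
        rw [MvPolynomial.map_C, ha, map_zero]
      rw [h3, ap_zero_right] at h2
      exact h2.symm
    have h4 := coordsE_C_smul P σ N a x
    rw [h1, map_zero] at h4
    have h5 := DFunLike.congr_fun h4 μ
    rw [Finsupp.smul_apply] at h5
    exact h5.symm
  have hex : ∀ μ : σ →₀ ℕ, ∃ h : (ModuleCat.coextendScalars.{u, u, u} ψ).obj N,
      ap ψ N h 1 = ξ μ := fun μ => exists_ap_one hψ (ξ μ) (htors μ)
  choose hh hhh using hex
  let ζ : (σ →₀ ℕ) →₀ ((ModuleCat.coextendScalars.{u, u, u} ψ).obj N) :=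
    Finsupp.onFinset ξ.support hh (fun μ hμ => by
      rw [Finsupp.mem_support_iff]
      intro h0
      apply hμ
      apply ext_of_ap_one hψ
      rw [hhh, h0]
      rfl)
  refine ⟨(coordsE B σ ((ModuleCat.coextendScalars.{u, u, u} ψ).obj N)).symm ζ, ?_⟩
  apply ext_of_ap_one (hpsi' ψ hψ σ)
  apply (coordsE P σ N).injective
  ext μ : 1
  rw [coords_beta', AddEquiv.apply_symm_apply]
  exact hhh μ

theorem isIso_betaApp : IsIso (betaApp ψ hψ σ N) := by
  rw [ConcreteCategory.isIso_iff_bijective]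
  exact ⟨betaApp_injective ψ hψ σ N, betaApp_surjective ψ hψ σ N⟩

/-- `β` as an isomorphism -/
noncomputable def betaIso :
    ModuleCat.coextendScalars.{u, u, u} ψ ⋙ ModuleCat.extendScalars.{u, u, u} (cB σ) ≅
      ModuleCat.extendScalars.{u, u, u} (cP σ) ⋙
        ModuleCat.coextendScalars.{u, u, u} (psi' ψ σ) :=
  haveI : ∀ N, IsIso ((beta ψ hψ σ).app N) := fun N => isIso_betaApp ψ hψ σ N
  haveI : IsIso (beta ψ hψ σ) := NatIso.isIso_of_isIso_app _
  asIso (beta ψ hψ σ)

end BetaBij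

end Groth.Agent.Lib.Helper89.BCa
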