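import Groth.Agent.Lib.Helper89.BCa
import Mathlib.Algebra.Module.Injective
import Mathlib.Algebra.Category.ModuleCat.Injective
import Mathlib.RingTheory.RingHom.Flat

/-!
# Injectivity lemmas for base change along `P → P[σ]`, `P` Noetherian

* `baer_finsupp` (Bass): over a Noetherian ring, `ι →₀ E` is injective if `E` is;
* `injective_res_ext`: `P[σ] ⊗_P E` is an injective `P`-module for `E` injective;
* `injective_res`: restriction of scalars along a flat ring map preserves injectives.
-/

set_option autoImplicit false
universe u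

namespace Groth.Agent.Lib.Helper89.BCb

open CategoryTheory ChangeOfRings TensorProduct Groth.Agent.Lib.Helper89.BCa
  Groth.Agent.Lib.Helper84
open scoped Classical

theorem baer_finsupp {R : Type u} [CommRing R] [IsNoetherianRing R] (ι : Type) (E : Type u)
    [AddCommGroup E] [Module R E] (hE : Module.Baer R E) : Module.Baer R (ι →₀ E) := by
  intro I g
  obtain ⟨T, hT⟩ := (IsNoetherian.noetherian I : I.FG)
  have hTI : ∀ t ∈ T, t ∈ I := fun t ht => hT ▸ Submodule.subset_span ht
  choose g' hg' using fun i : ι => hE I ((Finsupp.lapply i).comp g)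
  let s : Finset ι := T.attach.biUnion (fun t => (g ⟨t.1, hTI t.1 t.2⟩).support)
  have hs : ∀ i, i ∉ s → ∀ (x : R) (hx : x ∈ I), g ⟨x, hx⟩ i = 0 := by
    intro i hi x hx
    have h1 : Submodule.span R (T : Set R) ≤ LinearMap.ker (g' i) := by
      rw [Submodule.span_le]
      intro t ht
      rw [SetLike.mem_coe, LinearMap.mem_ker, hg' i t (hTI t ht)]
      change g ⟨t, hTI t ht⟩ i = 0
      by_contra hne
      apply hi
      rw [Finset.mem_biUnion]
      exact ⟨⟨t, ht⟩, Finset.mem_attach _ _, Finsupp.mem_support_iff.2 hne⟩
    have h2 : x ∈ LinearMap.ker (g' i) := h1 (hT ▸ hx)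
    rw [LinearMap.mem_ker, hg' i x hx] at h2
    exact h2
  let y : ι →₀ E := Finsupp.onFinset s (fun i => if i ∈ s then g' i 1 else 0) (by
    intro i hi
    by_contra hns
    exact hi (if_neg hns))
  refine ⟨LinearMap.toSpanSingleton R (ι →₀ E) y, ?_⟩
  intro x hx
  ext i
  rw [LinearMap.toSpanSingleton_apply, Finsupp.smul_apply, Finsupp.onFinset_apply]
  by_cases his : i ∈ s
  · rw [if_pos his, ← map_smul, smul_eq_mul, mul_one, hg' i x hx]
    rfl
  · rw [if_neg his, smul_zero, hs i his x hx]

section

variable {P : Type u} [CommRing P] [IsNoetherianRing P] (σ : Type) (E : ModuleCat.{u} P)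

/-- the coordinate equivalence of `P`-modules -/
noncomputable def coordsLin :
    ((ModuleCat.restrictScalars.{u} (cP (P := P) σ)).obj
      ((ModuleCat.extendScalars.{u, u, u} (cP (P := P) σ)).obj E) : Type u) ≃ₗ[P]
      ((σ →₀ ℕ) →₀ E) where
  toFun := fun z => coordsE P σ E z
  invFun := fun v => (coordsE P σ E).symm v
  left_inv := fun z => (coordsE P σ E).symm_apply_apply z
  right_inv := fun v => (coordsE P σ E).apply_symm_apply v
  map_add' := fun x y => (coordsE P σ E).map_add x y
  map_smul' := fun a z => coordsE_C_smul P σ E a z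

/-- the coordinate isomorphism of `P`-modules -/
noncomputable def coordsIso :
    (ModuleCat.restrictScalars.{u} (cP (P := P) σ)).obj
      ((ModuleCat.extendScalars.{u, u, u} (cP (P := P) σ)).obj E) ≅
      ModuleCat.of P ((σ →₀ ℕ) →₀ E) :=
  (coordsLin σ E).toModuleIso

theorem injective_res_ext [Injective E] :
    Injective ((ModuleCat.restrictScalars.{u} (cP (P := P) σ)).obj
      ((ModuleCat.extendScalars.{u, u, u} (cP (P := P) σ)).obj E)) := by
  haveI : Module.Injective P E := Module.injective_module_of_injective_object P E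
  have hB : Module.Baer P E := Module.Baer.of_injective inferInstance
  haveI : Module.Injective P ((σ →₀ ℕ) →₀ E) :=
    Module.Baer.injective (baer_finsupp (σ →₀ ℕ) E hB)
  haveI : Injective (ModuleCat.of P ((σ →₀ ℕ) →₀ E)) :=
    Module.injective_object_of_injective_module P _
  exact Injective.of_iso (coordsIso σ E).symm inferInstance

end

theorem injective_res {P P' : Type u} [CommRing P] [CommRing P'] (f : P →+* P') (hf : f.Flat)
    (I : ModuleCat.{u} P') [Injective I] :
    Injective ((ModuleCat.restrictScalars.{u} f).obj I) := by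
  haveI : Limits.PreservesFiniteLimits (FlatBC.ext f) := FlatBC.preservesFiniteLimits_ext f hf
  haveI : (FlatBC.ext f).PreservesMonomorphisms :=
    CategoryTheory.preservesMonomorphisms_of_preservesLimitsOfShape _
  exact Injective.injective_of_adjoint (L := FlatBC.ext f)
    (ModuleCat.extendRestrictScalarsAdj.{u, u, u} f) I

theorem flat_cP (P : Type u) [CommRing P] (σ : Type) : (cP (P := P) σ).Flat := by
  have h : (algebraMap P (MvPolynomial σ P)).Flat := RingHom.flat_algebraMap_iff.2 inferInstance
  rwa [MvPolynomial.algebraMap_eq] at h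

end Groth.Agent.Lib.Helper89.BCb
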