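import Groth.Agent.Lib.Helper89.Shriek1
import Groth.Agent.Lib.Helper13.KInjDerAdj
import Groth.Agent.Lib.Helper15.LBCFlat
import Mathlib.CategoryTheory.Shift.Adjunction

/-!
# Formal properties of right adjoints of restriction of scalars on derived categories
-/

set_option autoImplicit false
universe u

namespace Groth.Agent.Lib.Helper89.Shriek2

open CategoryTheory CategoryTheory.Limits DerivedCategory
open Groth.Agent.Lib.Helper15.PseudoCohRes Groth.Agent.Lib.Helper15.LBCFlat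
  Groth.Agent.Lib.Helper15

attribute [local instance] HasDerivedCategory.standard

variable {A B C : Type u} [CommRing A] [CommRing B] [CommRing C]

/-- restriction of scalars along any ring map has a right adjoint on derived categories -/
theorem exists_rightAdjoint (φ : A →+* B) :
    ∃ (R : Dual.D A ⥤ Dual.D B), Nonempty (DRing.restrictD φ ⊣ R) := by
  haveI : (ModuleCat.coextendScalars.{u, u, u} φ).Additive :=
    (ModuleCat.restrictCoextendScalarsAdj.{u, u, u} φ).right_adjoint_additive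
  exact ⟨_, ⟨Groth.Agent.Lib.Helper13.KInjDerAdj.adj₀
    (ModuleCat.restrictCoextendScalarsAdj.{u, u, u} φ)⟩⟩

/-- right adjoints compose -/
noncomputable def rightAdjComp (χ : A →+* B) (ψ : B →+* C) (θ : A →+* C) (hθ : θ = ψ.comp χ)
    {Rχ : Dual.D A ⥤ Dual.D B} {Rψ : Dual.D B ⥤ Dual.D C} {Rθ : Dual.D A ⥤ Dual.D C}
    (adjχ : DRing.restrictD χ ⊣ Rχ) (adjψ : DRing.restrictD ψ ⊣ Rψ)
    (adjθ : DRing.restrictD θ ⊣ Rθ) : Rθ ≅ Rχ ⋙ Rψ :=
  Adjunction.rightAdjointUniq adjθ
    ((adjψ.comp adjχ).ofNatIsoLeft (restrictDComp χ ψ ≪≫ restrictDOfEq hθ.symm))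

/-- right adjoints commute with shifts -/
noncomputable def rightAdjShift (φ : A →+* B) {R : Dual.D A ⥤ Dual.D B}
    (adj : DRing.restrictD φ ⊣ R) (k : ℤ) (X : Dual.D A) :
    R.obj (X⟦k⟧) ≅ (R.obj X)⟦k⟧ :=
  letI := adj.rightAdjointCommShift ℤ
  (R.commShiftIso k).app X

/-- restriction along a ring isomorphism is an equivalence -/
noncomputable def resEquiv (σ : A ≃+* B) : Dual.D B ≌ Dual.D A :=
  CategoryTheory.Equivalence.mk (DRing.restrictD (σ : A →+* B))
    (DRing.restrictD (σ.symm : B →+* A))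
    (restrictDSection (σ.symm : B →+* A) (σ : A →+* B) (by ext x; simp)).symm
    (restrictDSection (σ : A →+* B) (σ.symm : B →+* A) (by ext x; simp))

/-- along a ring isomorphism, the right adjoint of restriction is the derived base change -/
noncomputable def rightAdjIso (σ : A ≃+* B) {R : Dual.D A ⥤ Dual.D B}
    (adj : DRing.restrictD (σ : A →+* B) ⊣ R) : R ≅ DRing.LBaseChange (σ : A →+* B) :=
  Adjunction.rightAdjointUniq adj
      (show DRing.restrictD (σ : A →+* B) ⊣ DRing.restrictD (σ.symm : B →+* A) from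
        (resEquiv σ).toAdjunction) ≪≫
    (Adjunction.leftAdjointUniq (LBCAdj.adj (σ : A →+* B))
      (show DRing.restrictD (σ.symm : B →+* A) ⊣ DRing.restrictD (σ : A →+* B) from
        (resEquiv σ).symm.toAdjunction)).symm

/-- derived base change along the identity -/
noncomputable def lbcId : DRing.LBaseChange (RingHom.id A) ≅ 𝟭 (Dual.D A) :=
  Adjunction.leftAdjointUniq (LBCAdj.adj (RingHom.id A))
    (Adjunction.id.ofNatIsoRight restrictDId.symm)

/-- the right adjoint of restriction along the identity -/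
noncomputable def rightAdjId {R : Dual.D A ⥤ Dual.D A}
    (adj : DRing.restrictD (RingHom.id A) ⊣ R) : R ≅ 𝟭 (Dual.D A) :=
  Adjunction.rightAdjointUniq adj (Adjunction.id.ofNatIsoLeft restrictDId.symm)

/-- **invariance under isomorphism**: `Rψ (LBC_f K) ≅ Rψ' (LBC_f' K)` for `σ : P ≃ P'` with
`f' = σ ∘ f`, `ψ = ψ' ∘ σ`. -/
theorem iso_invariance {R₀ P P' : Type u} [CommRing R₀] [CommRing P] [CommRing P']
    (f : R₀ →+* P) (σ : P ≃+* P') (f' : R₀ →+* P') (hf : f' = (σ : P →+* P').comp f)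
    (ψ' : P' →+* A) (ψ : P →+* A) (hψ : ψ = ψ'.comp (σ : P →+* P'))
    {Rψ : Dual.D P ⥤ Dual.D A} (adj : DRing.restrictD ψ ⊣ Rψ)
    {Rψ' : Dual.D P' ⥤ Dual.D A} (adj' : DRing.restrictD ψ' ⊣ Rψ') (K : Dual.D R₀) :
    Nonempty (Rψ.obj ((DRing.LBaseChange f).obj K) ≅ Rψ'.obj ((DRing.LBaseChange f').obj K)) := by
  obtain ⟨Rσ, ⟨adjσ⟩⟩ := exists_rightAdjoint (σ : P →+* P')
  have e1 : Rψ ≅ Rσ ⋙ Rψ' := rightAdjComp (σ : P →+* P') ψ' ψ hψ adjσ adj' adj
  have e2 : Rσ ≅ DRing.LBaseChange (σ : P →+* P') := rightAdjIso σ adjσ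
  have e3 : DRing.LBaseChange f ⋙ DRing.LBaseChange (σ : P →+* P') ≅ DRing.LBaseChange f' :=
    lbcComp f (σ : P →+* P') ≪≫ lbcOfEq hf.symm
  exact ⟨e1.app _ ≪≫ Rψ'.mapIso (e2.app _ ≪≫ e3.app K)⟩

end Groth.Agent.Lib.Helper89.Shriek2
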