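import Groth.Agent.Lib.Helper89.Lau3
import Groth.Agent.Lib.Helper89.Shriek2
import Groth.Agent.Lib.Helper25.TrivDual
import Mathlib.CategoryTheory.Triangulated.Adjunction
import Mathlib.RingTheory.RingHom.Flat

/-!
# The one-variable finite step: `θ : S[x] → A` killing a monic `f`:
`(Rθ (N ⊗_S S[x]))[1] ≅ R_{θ ∘ C} N`
-/

set_option autoImplicit false
universe u

namespace Groth.Agent.Lib.Helper89.Lau4

open Polynomial CategoryTheory CategoryTheory.Limits DerivedCategory CategoryTheory.Pretriangulated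
open Groth.Agent.Lib.Helper89.Lau1 Groth.Agent.Lib.Helper89.Lau2 Groth.Agent.Lib.Helper89.Lau3
open Groth.Agent.Lib.Helper15.PseudoCohRes Groth.Agent.Lib.Helper15.LBCFlat
  Groth.Agent.Lib.Helper15 Groth.Agent.Lib.Helper89.Shriek2 Groth.Agent.Lib.Helper84
  Groth.Agent.Lib.Helper25.Coext

attribute [local instance] HasDerivedCategory.standard

variable (S : Type u) [CommRing S]

/-- termwise `S[x] ⊗ -` -/
noncomputable abbrev polCx : Cx S ⥤ Cx S[X] :=
  (ModuleCat.extendScalars.{u, u, u} (C : S →+* S[X])).mapHomologicalComplex (ComplexShape.up ℤ)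

/-- termwise Laurent tails -/
noncomputable abbrev lauCx : Cx S ⥤ Cx S[X] :=
  (Λ S).mapHomologicalComplex (ComplexShape.up ℤ)

/-- the short complex `S[x] ⊗ J → J((x⁻¹)) → Hom_S(S[x], J)` -/
noncomputable def sesLau (J : Cx S) : ShortComplex (Cx S[X]) :=
  ShortComplex.mk ((NatTrans.mapHomologicalComplex (iota S) (ComplexShape.up ℤ)).app J)
    ((NatTrans.mapHomologicalComplex (pi S) (ComplexShape.up ℤ)).app J) (by
      ext n : 1
      apply ModuleCat.hom_ext
      apply LinearMap.ext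
      intro z
      exact (piApp_eq_zero_iff S (J.X n) _).2 (iotaApp_coeff_neg S (J.X n) z))

theorem sesLau_shortExact (J : Cx S) : (sesLau S J).ShortExact := by
  apply HomologicalComplex.shortExact_of_degreewise_shortExact
  intro n
  apply ModuleCat.shortComplex_shortExact
  · intro c
    constructor
    · intro hc
      exact exists_iotaApp_eq S (J.X n) c ((piApp_eq_zero_iff S (J.X n) c).1 hc)
    · rintro ⟨z, rfl⟩
      exact (piApp_eq_zero_iff S (J.X n) _).2 (iotaApp_coeff_neg S (J.X n) z)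
  · exact iotaApp_injective S (J.X n)
  · exact piApp_surjective S (J.X n)

/-- a monic polynomial acts invertibly on `J((x⁻¹))` -/
theorem isIso_monic_smul_lauCx (J : Cx S) (f : S[X]) (hf : f.Monic) :
    IsIso (f • 𝟙 ((lauCx S).obj J)) := by
  haveI : ∀ n, IsIso ((f • 𝟙 ((lauCx S).obj J)).f n) := by
    intro n
    rw [ConcreteCategory.isIso_iff_bijective]
    exact bijective_monic_smul (S := S) (N := J.X n) f hf
  exact HomologicalComplex.Hom.isIso_of_components _

theorem flat_C : (C : S →+* S[X]).Flat := by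
  have h : (algebraMap S S[X]).Flat := RingHom.flat_algebraMap_iff.2 inferInstance
  rwa [Polynomial.algebraMap_eq] at h

section Main

variable {S}
variable {A : Type u} [CommRing A] (θ : S[X] →+* A) (f : S[X]) (hf : f.Monic) (hθ : θ f = 0)
  {Rθ : Dual.D S[X] ⥤ Dual.D A} (adj : DRing.restrictD θ ⊣ Rθ)

include hf hθ adj in
theorem hom_eq_zero (J : Cx S) (Y : Dual.D A)
    (g : (DRing.restrictD θ).obj Y ⟶ Q.obj ((lauCx S).obj J)) : g = 0 := by
  haveI := isIso_monic_smul_lauCx S J f hf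
  have h1 : f • 𝟙 (Q.obj ((lauCx S).obj J)) = Q.map (f • 𝟙 ((lauCx S).obj J)) := by
    rw [Functor.map_smul, CategoryTheory.Functor.map_id]
  haveI : IsIso (f • 𝟙 (Q.obj ((lauCx S).obj J))) := by
    rw [h1]
    infer_instance
  have h2 : f • 𝟙 ((DRing.restrictD θ).obj Y) = 0 := by
    rw [← Groth.Agent.Lib.Helper25.TrivDual.restrictD_map_smul_id θ Y f, hθ, zero_smul,
      Functor.map_zero]
  have h3 : g ≫ (f • 𝟙 (Q.obj ((lauCx S).obj J))) = 0 := by
    rw [Linear.comp_smul, Category.comp_id, ← Category.id_comp g, ← Linear.smul_comp, h2,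
      Limits.zero_comp]
  exact (cancel_mono (f • 𝟙 (Q.obj ((lauCx S).obj J)))).1 (by rw [h3, Limits.zero_comp])

include hf hθ adj in
theorem isZero_rightAdj_lau (J : Cx S) : IsZero (Rθ.obj (Q.obj ((lauCx S).obj J))) := by
  rw [IsZero.iff_id_eq_zero]
  haveI : Rθ.Additive := adj.right_adjoint_additive
  have h1 := (adj.homEquiv _ _).apply_symm_apply (𝟙 (Rθ.obj (Q.obj ((lauCx S).obj J))))
  rw [hom_eq_zero θ f hf hθ adj J _ ((adj.homEquiv _ _).symm (𝟙 _)), Adjunction.homEquiv_unit,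
    Functor.map_zero, Limits.comp_zero] at h1
  exact h1.symm

include hf hθ adj in
/-- **the one-variable finite step** -/
theorem finite_step (θ₀ : S →+* A) (hθ₀ : θ₀ = θ.comp (C : S →+* S[X]))
    {R₀ : Dual.D S ⥤ Dual.D A} (adj₀ : DRing.restrictD θ₀ ⊣ R₀) (N : Dual.D S) :
    Nonempty ((Rθ.obj ((DRing.LBaseChange (C : S →+* S[X])).obj N))⟦(1 : ℤ)⟧ ≅ R₀.obj N) := by
  obtain ⟨J, hJ, ⟨e⟩⟩ := Groth.Agent.Lib.Helper13.KInjDerAdj.exists_kInj N
  haveI := hJ
  obtain ⟨RC, ⟨adjC⟩⟩ := exists_rightAdjoint (C : S →+* S[X])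
  have hS := sesLau_shortExact S J
  have hT := triangleOfSES_distinguished hS
  letI := adj.rightAdjointCommShift ℤ
  haveI := adj.commShift_of_leftAdjoint ℤ
  haveI : Rθ.IsTriangulated := adj.isTriangulated_rightAdjoint
  have hT' := Rθ.map_distinguished _ hT
  have hz : IsZero (Rθ.mapTriangle.obj (triangleOfSES hS)).obj₂ :=
    isZero_rightAdj_lau θ f hf hθ adj J
  have hiso : IsIso (Rθ.mapTriangle.obj (triangleOfSES hS)).mor₃ :=
    (Triangle.isZero₂_iff_isIso₃ _ hT').1 hz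
  have i0 : Rθ.obj (Q.obj ((coextCx (C : S →+* S[X])).obj J)) ≅
      (Rθ.obj (Q.obj ((polCx S).obj J)))⟦(1 : ℤ)⟧ :=
    @asIso _ _ _ _ (Rθ.mapTriangle.obj (triangleOfSES hS)).mor₃ hiso
  haveI : PreservesFiniteLimits (FlatBC.ext (C : S →+* S[X])) :=
    FlatBC.preservesFiniteLimits_ext _ (flat_C S)
  have i1 : Q.obj ((polCx S).obj J) ≅ (DRing.LBaseChange (C : S →+* S[X])).obj N :=
    (FlatBC.bcToD (C : S →+* S[X]) J).symm ≪≫
      (lbcFlatIso (C : S →+* S[X])).symm.app (Q.obj J) ≪≫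
      (DRing.LBaseChange (C : S →+* S[X])).mapIso e
  have i2 : Q.obj ((coextCx (C : S →+* S[X])).obj J) ≅ RC.obj N :=
    thetaIso (C : S →+* S[X]) J adjC ≪≫ RC.mapIso e
  have i3 : R₀ ≅ RC ⋙ Rθ := rightAdjComp (C : S →+* S[X]) θ θ₀ hθ₀ adjC adj adj₀
  exact ⟨(shiftFunctor (Dual.D A) (1 : ℤ)).mapIso (Rθ.mapIso i1.symm) ≪≫ i0.symm ≪≫
    Rθ.mapIso i2 ≪≫ (i3.app N).symm⟩

end Main

end Groth.Agent.Lib.Helper89.Lau4
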