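import Groth.Agent.Lib.Helper89.RFLG1
import Groth.Agent.Lib.Helper25.KInjDerived

/-!
# Bounded below complexes of `F`-acyclic objects compute `RF`

For a left exact additive functor `F : 𝒜 ⥤ ℬ` (no finiteness of cohomological dimension):
a bounded below acyclic complex with `F`-acyclic terms is sent to an acyclic complex, and the
unit of any right derived functor of `K(F) ⋙ Qh` is an isomorphism at bounded below complexes with
`F`-acyclic terms.
-/

set_option autoImplicit false
set_option linter.style.haveILetI false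
set_option linter.unusedSectionVars false

universe w w' v v' u u'

open CategoryTheory Category Limits Pretriangulated HomologicalComplex ZeroObject

namespace Groth.Agent.Lib.Helper89.LerayBdd

open Groth.Agent.Lib.Helper89 Groth.Agent.Lib.Helper89.AcycRes
open Groth.Agent.Lib.Helper68.RightDerivedLES
open Groth.Agent.Lib.Helper86.ClassFactor

section

variable {𝒜 : Type u} [Category.{v} 𝒜] [Abelian 𝒜] [HasInjectiveResolutions 𝒜]
  {ℬ : Type u'} [Category.{v'} ℬ] [Abelian ℬ] (F : 𝒜 ⥤ ℬ) [F.Additive]
  [PreservesFiniteLimits F]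

/-- a short exact sequence with `R¹F(X₁) = 0` is sent to a short exact sequence -/
lemma shortExact_map (S : ShortComplex 𝒜) (hS : S.ShortExact)
    (h₁ : IsZero ((F.rightDerived 1).obj S.X₁)) : (S.map F).ShortExact := by
  have hepi : Epi (F.map S.g) := by
    have h3 := exact₃ F hS 0
    have : Epi ((F.rightDerived 0).map S.g) := h3.epi_f (h₁.eq_of_tgt _ _)
    have nat := (Functor.rightDerivedZeroIsoSelf F).hom.naturality S.g
    have h4 : Epi ((Functor.rightDerivedZeroIsoSelf F).hom.app _ ≫ F.map S.g) := by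
      rw [← nat]
      infer_instance
    exact epi_of_epi ((Functor.rightDerivedZeroIsoSelf F).hom.app _) _
  haveI := hS.mono_f
  exact
    { exact := hS.exact.map_of_mono_of_preservesKernel F hS.mono_f inferInstance
      mono_f := inferInstanceAs (Mono (F.map S.f))
      epi_g := hepi }

lemma fAcyclic_of_isZero (Z : 𝒜) (hZ : IsZero Z) : FAcyclic F Z := by
  intro i _
  exact RFLG.isZero_rightDerived_of_isZero F i Z hZ

/-- the cycles of a bounded below acyclic complex with `F`-acyclic terms are `F`-acyclic -/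
lemma fAcyclic_cycles (K : CochainComplex 𝒜 ℤ) (a : ℤ) [K.IsStrictlyGE a] (hK : K.Acyclic)
    (hP : ∀ m, FAcyclic F (K.X m)) (m : ℤ) : FAcyclic F (K.cycles m) := by
  have hS : ∀ m : ℤ, (cyclesSC K m (m + 1)).ShortExact := fun m =>
    cyclesSC_shortExact K m (m + 1) (by simp) (hK (m + 1))
  have hlow : ∀ m : ℤ, m < a → FAcyclic F (K.cycles m) := by
    intro m hm
    apply fAcyclic_of_isZero
    exact IsZero.of_mono (K.iCycles m) (K.isZero_of_isStrictlyGE a m hm)
  have hind : ∀ k : ℕ, FAcyclic F (K.cycles (a - 1 + k)) := by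
    intro k
    induction k with
    | zero => exact hlow _ (by simp)
    | succ k ih =>
      have := (fAcyclic_two_of_three F _ (hS (a - 1 + k)) ih).1 (hP _)
      have e : a - 1 + (k : ℤ) + 1 = a - 1 + ((k + 1 : ℕ) : ℤ) := by push_cast; ring
      rw [← e]
      exact this
  by_cases hm : m < a
  · exact hlow m hm
  · obtain ⟨k, hk⟩ : ∃ k : ℕ, m = a - 1 + k := ⟨(m - (a - 1)).toNat, by omega⟩
    rw [hk]
    exact hind k

/-- a bounded below acyclic complex with `F`-acyclic terms is sent to an acyclic complex -/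
theorem acyclic_map_bddBelow (K : CochainComplex 𝒜 ℤ) (a : ℤ) [K.IsStrictlyGE a]
    (hK : K.Acyclic) (hP : ∀ m, FAcyclic F (K.X m)) :
    ((F.mapHomologicalComplex (ComplexShape.up ℤ)).obj K).Acyclic := by
  have hS : ∀ m : ℤ, (cyclesSC K m (m + 1)).ShortExact := fun m =>
    cyclesSC_shortExact K m (m + 1) (by simp) (hK (m + 1))
  exact RFLG.acyclic_of_cyclesSC F K
    (fun m => shortExact_map F _ (hS m) (fAcyclic_cycles F K a hK hP m 1 one_pos))

end

section unit

variable {𝒜 : Type u} [Category.{v} 𝒜] [Abelian 𝒜] [IsGrothendieckAbelian.{v} 𝒜]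
  {ℬ : Type u'} [Category.{v'} ℬ] [Abelian ℬ] (F : 𝒜 ⥤ ℬ) [F.Additive]
  [PreservesFiniteLimits F] [HasDerivedCategory.{w} 𝒜] [HasDerivedCategory.{w'} ℬ]

/-- a quasi-isomorphism between bounded below complexes with `F`-acyclic terms is sent to an
isomorphism by `K(F) ⋙ Qh` -/
theorem isIso_G_map {K L : CochainComplex 𝒜 ℤ} (a : ℤ) [K.IsStrictlyGE a] [L.IsStrictlyGE a]
    (hK : ∀ m, FAcyclic F (K.X m)) (hL : ∀ m, FAcyclic F (L.X m)) (i : K ⟶ L) [QuasiIso i] :
    IsIso ((G F).map ((HomotopyCategory.quotient 𝒜 (ComplexShape.up ℤ)).map i)) := by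
  have hT := HomotopyCategory.mappingCone_triangleh_distinguished i
  have hacyc : (CochainComplex.mappingCone i).Acyclic := by
    rw [← HomotopyCategory.quotient_obj_mem_subcategoryAcyclic_iff_acyclic]
    refine ((HomotopyCategory.subcategoryAcyclic 𝒜).trW_iff_of_distinguished _ hT).1 ?_
    rw [← HomotopyCategory.quasiIso_eq_trW_subcategoryAcyclic]
    exact (HomotopyCategory.quotient_map_mem_quasiIso_iff i).2 (inferInstanceAs (QuasiIso i))
  haveI : (CochainComplex.mappingCone i).IsStrictlyGE (a - 1) :=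
    CochainComplex.isStrictlyGE_mappingCone i a a (a - 1) (by omega) (by omega)
  have hterms : ∀ m, FAcyclic F ((CochainComplex.mappingCone i).X m) := by
    intro m
    haveI := HasHomotopyCofiber.hasBinaryBiproduct i m (m + 1) rfl
    exact (inferInstance : ResClass (FAcyclic F)).iso
      (homotopyCofiber.XIsoBiprod i m (m + 1) rfl).symm
      (fAcyclic_biprod F _ _ (hK _) (hL _))
  have hFC := acyclic_map_bddBelow F _ (a - 1) hacyc hterms
  rw [← HomotopyCategory.quotient_obj_mem_subcategoryAcyclic_iff_acyclic] at hFC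
  have hz : IsZero (DerivedCategory.Qh.obj ((HomotopyCategory.quotient ℬ (ComplexShape.up ℤ)).obj
      ((F.mapHomologicalComplex (ComplexShape.up ℤ)).obj (CochainComplex.mappingCone i)))) :=
    TriRes.isZero_obj_of_isLocalization (HomotopyCategory.quasiIso ℬ (ComplexShape.up ℤ))
      (HomotopyCategory.quasiIso_eq_trW_subcategoryAcyclic ℬ) DerivedCategory.Qh _ hFC
  have hGT := (G F).map_distinguished _ hT
  exact (Triangle.isZero₃_iff_isIso₁ _ hGT).1 hz

variable (RG : DerivedCategory 𝒜 ⥤ DerivedCategory ℬ) (α : G F ⟶ DerivedCategory.Qh ⋙ RG)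
  [RG.IsRightDerivedFunctor α (HomotopyCategory.quasiIso 𝒜 (ComplexShape.up ℤ))]

/-- the unit of the right derived functor is an isomorphism at bounded below complexes with
`F`-acyclic terms -/
theorem isIso_unit_bddBelow (K : CochainComplex 𝒜 ℤ) (a : ℤ) [K.IsStrictlyGE a]
    (hK : ∀ m, FAcyclic F (K.X m)) :
    IsIso (α.app ((HomotopyCategory.quotient 𝒜 (ComplexShape.up ℤ)).obj K)) := by
  obtain ⟨I, i, hi, hI, hIa⟩ := CochainComplex.Plus.modelCategoryQuillen.exists_quasiIso_injective K a
  haveI : I.IsKInjective := CochainComplex.isKInjective_of_injective I a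
  haveI h1 : IsIso ((G F).map ((HomotopyCategory.quotient 𝒜 (ComplexShape.up ℤ)).map i)) :=
    isIso_G_map F a hK (fun m => fAcyclic_of_injective F _) i
  haveI h2 : IsIso (α.app ((HomotopyCategory.quotient 𝒜 (ComplexShape.up ℤ)).obj I)) :=
    Groth.Agent.Lib.Helper25.KInjDerived.isIso_unit_homotopyCategory (G F) DerivedCategory.Qh RG α I
  haveI h3 : IsIso (DerivedCategory.Qh.map
      ((HomotopyCategory.quotient 𝒜 (ComplexShape.up ℤ)).map i)) :=
    Localization.inverts DerivedCategory.Qh (HomotopyCategory.quasiIso 𝒜 (ComplexShape.up ℤ)) _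
      ((HomotopyCategory.quotient_map_mem_quasiIso_iff i).2 hi)
  have nat := α.naturality ((HomotopyCategory.quotient 𝒜 (ComplexShape.up ℤ)).map i)
  have h4 : IsIso (α.app ((HomotopyCategory.quotient 𝒜 (ComplexShape.up ℤ)).obj K) ≫
      (DerivedCategory.Qh ⋙ RG).map ((HomotopyCategory.quotient 𝒜 (ComplexShape.up ℤ)).map i)) := by
    rw [← nat]
    infer_instance
  haveI : IsIso ((DerivedCategory.Qh ⋙ RG).map
      ((HomotopyCategory.quotient 𝒜 (ComplexShape.up ℤ)).map i)) := by
    show IsIso (RG.map (DerivedCategory.Qh.map _))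
    infer_instance
  exact IsIso.of_isIso_comp_right _ ((DerivedCategory.Qh ⋙ RG).map
    ((HomotopyCategory.quotient 𝒜 (ComplexShape.up ℤ)).map i))

end unit

end Groth.Agent.Lib.Helper89.LerayBdd
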