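import Groth.Agent.Lib.Helper89.BCb
import Groth.Agent.Lib.Helper89.LerayBdd
import Groth.Agent.Lib.Helper89.Lau4

/-!
# Flat base change for `RHom_P(B, -)` along `P → P[σ]` on bounded below complexes

`ψ : P → B` surjective, `P` Noetherian, `L ∈ D^{≥ c}(P)`:
`(Rψ L) ⊗_B B[σ] ≅ R_{ψ[σ]} (L ⊗_P P[σ])`.
-/

set_option autoImplicit false
universe u

namespace Groth.Agent.Lib.Helper89.BCc

open CategoryTheory CategoryTheory.Limits DerivedCategory
open Groth.Agent.Lib.Helper89.BCa Groth.Agent.Lib.Helper89.BCb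
open Groth.Agent.Lib.Helper15.LBCFlat Groth.Agent.Lib.Helper15 Groth.Agent.Lib.Helper84
  Groth.Agent.Lib.Helper25.Coext Groth.Agent.Lib.Helper89.AcycRes

attribute [local instance] HasDerivedCategory.standard

variable {P B : Type u} [CommRing P] [CommRing B] (ψ : P →+* B) (hψ : Function.Surjective ψ)
  (σ : Type)

/-- `β` on complexes -/
noncomputable def betaCx (J : Cx P) :
    (FlatBC.extCx (cB (B := B) σ)).obj ((coextCx ψ).obj J) ≅
      (coextCx (psi' ψ σ)).obj ((FlatBC.extCx (cP (P := P) σ)).obj J) :=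
  HomologicalComplex.Hom.isoOfComponents (fun n => (betaIso ψ hψ σ).app (J.X n))
    (fun i j _ => ((betaIso ψ hψ σ).hom.naturality (J.d i j)).symm)

/-- `γ` on complexes -/
noncomputable def gammaCx (Y : Cx (MvPolynomial σ P)) :
    (resCx (cB (B := B) σ)).obj ((coextCx (psi' ψ σ)).obj Y) ≅
      (coextCx ψ).obj ((resCx (cP (P := P) σ)).obj Y) :=
  HomologicalComplex.Hom.isoOfComponents (fun n => (gammaIso ψ hψ σ).app (Y.X n))
    (fun i j _ => ((gammaIso ψ hψ σ).hom.naturality (Y.d i j)).symm)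

theorem gammaCx_naturality {Y Y' : Cx (MvPolynomial σ P)} (s : Y ⟶ Y') :
    (resCx (cB (B := B) σ)).map ((coextCx (psi' ψ σ)).map s) ≫ (gammaCx ψ hψ σ Y').hom =
      (gammaCx ψ hψ σ Y).hom ≫ (coextCx ψ).map ((resCx (cP (P := P) σ)).map s) := by
  ext n : 1
  exact (gammaIso ψ hψ σ).hom.naturality (s.f n)

variable [IsNoetherianRing P]

include hψ in
theorem quasiIso_coext_map (J : Cx P) (c : ℤ) [J.IsStrictlyGE c] (hJ : ∀ n, Injective (J.X n))
    (I : Cx (MvPolynomial σ P)) [I.IsStrictlyGE c] (hI : ∀ n, Injective (I.X n))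
    (s : (FlatBC.extCx (cP (P := P) σ)).obj J ⟶ I) [QuasiIso s] :
    QuasiIso ((coextCx (psi' ψ σ)).map s) := by
  let s₀ := (resCx (cP (P := P) σ)).map s
  haveI : QuasiIso s₀ := inferInstance
  have hX : ∀ m, FAcyclic (ModuleCat.coextendScalars.{u, u, u} ψ)
      (((resCx (cP (P := P) σ)).obj ((FlatBC.extCx (cP (P := P) σ)).obj J)).X m) := by
    intro m
    haveI := hJ m
    haveI : Injective (((resCx (cP (P := P) σ)).obj ((FlatBC.extCx (cP (P := P) σ)).obj J)).X m) :=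
      injective_res_ext σ (J.X m)
    exact fAcyclic_of_injective _ _
  have hI' : ∀ m, FAcyclic (ModuleCat.coextendScalars.{u, u, u} ψ)
      (((resCx (cP (P := P) σ)).obj I).X m) := by
    intro m
    haveI := hI m
    haveI : Injective (((resCx (cP (P := P) σ)).obj I).X m) :=
      injective_res (cP (P := P) σ) (flat_cP P σ) (I.X m)
    exact fAcyclic_of_injective _ _
  have h1 := LerayBdd.isIso_G_map (ModuleCat.coextendScalars.{u, u, u} ψ) c hX hI' s₀
  have h2 : IsIso (Q.map ((coextCx ψ).map s₀)) := h1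
  have h3 : QuasiIso ((coextCx ψ).map s₀) := by rwa [isIso_Q_map_iff_quasiIso] at h2
  have h4 : QuasiIso ((gammaCx ψ hψ σ _).hom ≫ (coextCx ψ).map s₀) := inferInstance
  rw [← gammaCx_naturality] at h4
  have h5 : QuasiIso ((resCx (cB (B := B) σ)).map ((coextCx (psi' ψ σ)).map s)) :=
    quasiIso_of_comp_right _ (gammaCx ψ hψ σ I).hom
  exact (HomologicalComplex.quasiIso_map_iff_of_preservesHomology _
    (ModuleCat.restrictScalars.{u} (cB (B := B) σ))).1 h5

include hψ in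
/-- **flat base change for `RHom_P(B, -)` along `P → P[σ]`** -/
theorem main {Rψ : Dual.D P ⥤ Dual.D B} (adj : DRing.restrictD ψ ⊣ Rψ)
    {Rψ' : Dual.D (MvPolynomial σ P) ⥤ Dual.D (MvPolynomial σ B)}
    (adj' : DRing.restrictD (psi' ψ σ) ⊣ Rψ') (L : Dual.D P) (c : ℤ) [L.IsGE c] :
    Nonempty ((DRing.LBaseChange (cB (B := B) σ)).obj (Rψ.obj L) ≅
      Rψ'.obj ((DRing.LBaseChange (cP (P := P) σ)).obj L)) := by
  obtain ⟨K, hK, ⟨e0⟩⟩ := exists_iso_Q_obj_of_isGE L c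
  haveI := hK
  obtain ⟨J, i, hi, hJ, hJc⟩ :=
    CochainComplex.Plus.modelCategoryQuillen.exists_quasiIso_injective K c
  haveI := hJc
  haveI : J.IsKInjective := CochainComplex.isKInjective_of_injective J c
  haveI : IsIso (Q.map i) := by
    rw [isIso_Q_map_iff_quasiIso]
    exact hi
  let eJ : L ≅ Q.obj J := e0 ≪≫ asIso (Q.map i)
  obtain ⟨I, s, hs, hI, hIc⟩ :=
    CochainComplex.Plus.modelCategoryQuillen.exists_quasiIso_injective
      ((FlatBC.extCx (cP (P := P) σ)).obj J) c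
  haveI := hIc
  haveI := hs
  haveI : I.IsKInjective := CochainComplex.isKInjective_of_injective I c
  haveI : QuasiIso ((coextCx (psi' ψ σ)).map s) := quasiIso_coext_map ψ hψ σ J c hJ I hI s
  haveI : IsIso (Q.map s) := by
    rw [isIso_Q_map_iff_quasiIso]
    infer_instance
  haveI : IsIso (Q.map ((coextCx (psi' ψ σ)).map s)) := by
    rw [isIso_Q_map_iff_quasiIso]
    infer_instance
  haveI : PreservesFiniteLimits (FlatBC.ext (cP (P := P) σ)) :=
    FlatBC.preservesFiniteLimits_ext _ (flat_cP P σ)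
  haveI : PreservesFiniteLimits (FlatBC.ext (cB (B := B) σ)) :=
    FlatBC.preservesFiniteLimits_ext _ (flat_cP B σ)
  have l1 : (DRing.LBaseChange (cB (B := B) σ)).obj (Rψ.obj L) ≅
      Q.obj ((FlatBC.extCx (cB (B := B) σ)).obj ((coextCx ψ).obj J)) :=
    (DRing.LBaseChange (cB (B := B) σ)).mapIso (Rψ.mapIso eJ ≪≫ (thetaIso ψ J adj).symm) ≪≫
      (lbcFlatIso (cB (B := B) σ)).app _ ≪≫ FlatBC.bcToD (cB (B := B) σ) _
  have l2 : Q.obj ((FlatBC.extCx (cB (B := B) σ)).obj ((coextCx ψ).obj J)) ≅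
      Q.obj ((coextCx (psi' ψ σ)).obj I) :=
    Q.mapIso (betaCx ψ hψ σ J) ≪≫ asIso (Q.map ((coextCx (psi' ψ σ)).map s))
  have r1 : Rψ'.obj ((DRing.LBaseChange (cP (P := P) σ)).obj L) ≅ Rψ'.obj (Q.obj I) :=
    Rψ'.mapIso ((DRing.LBaseChange (cP (P := P) σ)).mapIso eJ ≪≫
      (lbcFlatIso (cP (P := P) σ)).app _ ≪≫ FlatBC.bcToD (cP (P := P) σ) J ≪≫ asIso (Q.map s))
  exact ⟨l1 ≪≫ l2 ≪≫ thetaIso (psi' ψ σ) I adj' ≪≫ r1.symm⟩

end Groth.Agent.Lib.Helper89.BCc
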