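import Groth.Agent.Lib.Helper89.BCa
import Mathlib.RingTheory.Flat.Basic
import Mathlib.LinearAlgebra.TensorProduct.Pi

/-!
# Module-level base change for `Hom_P(B, -)` along a flat ring map `P → P'`

For a commutative square `ψ : P → B`, `ψ' : P' → B'` (both surjective, `ker ψ' = (ker ψ) P'`),
`f : P → P'` flat, `g : B → B'`, `P` Noetherian:
`beta : coext ψ ⋙ ext_g ≅ ext_f ⋙ coext ψ'`.
-/

set_option autoImplicit false
universe u

namespace Groth.Agent.Lib.Helper89.BCd

open CategoryTheory ChangeOfRings TensorProduct Groth.Agent.Lib.Helper89.BCa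
open scoped Classical

section Beta

variable {P P' B B' : Type u} [CommRing P] [CommRing P'] [CommRing B] [CommRing B']
  (f : P →+* P') (g : B →+* B') (ψ : P →+* B) (ψ' : P' →+* B')
  (comm : ψ'.comp f = g.comp ψ)
  (hψ : Function.Surjective ψ) (hψ' : Function.Surjective ψ')
  (hker : ∀ p' : P', ψ' p' = 0 → p' ∈ Ideal.map f (RingHom.ker ψ))

/-- `γ` as an isomorphism -/
noncomputable def gammaIso :
    ModuleCat.coextendScalars.{u, u, u} ψ' ⋙ ModuleCat.restrictScalars.{u} g ≅
      ModuleCat.restrictScalars.{u} f ⋙ ModuleCat.coextendScalars.{u, u, u} ψ :=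
  haveI : ∀ X, IsIso ((gamma f g ψ ψ' comm).app X) := fun X =>
    isIso_gamma_app f g ψ ψ' comm hψ hψ' hker X
  haveI : IsIso (gamma f g ψ ψ' comm) := NatIso.isIso_of_isIso_app _
  asIso (gamma f g ψ ψ' comm)

theorem gammaFun_inv (X : ModuleCat.{u} P')
    (w : (ModuleCat.coextendScalars.{u, u, u} ψ).obj
      ((ModuleCat.restrictScalars.{u} f).obj X)) :
    gammaFun f g ψ ψ' comm X
      (((gammaIso f g ψ ψ' comm hψ hψ' hker).inv.app X).hom w) = w := by
  have h := congrArg (fun k => k.hom w) ((gammaIso f g ψ ψ' comm hψ hψ' hker).inv_hom_id_app X)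
  exact h

/-- the adjunction `ext ⊣ res` along `f` -/
noncomputable abbrev adjF : ModuleCat.extendScalars.{u, u, u} f ⊣
    ModuleCat.restrictScalars.{u} f :=
  ModuleCat.extendRestrictScalarsAdj.{u, u, u} f

/-- `b_N : Hom_P(B, N) → Hom_{P'}(B', P' ⊗ N)` over `B` -/
noncomputable def bApp (N : ModuleCat.{u} P) :
    (ModuleCat.coextendScalars.{u, u, u} ψ).obj N ⟶
      (ModuleCat.restrictScalars.{u} g).obj
        ((ModuleCat.coextendScalars.{u, u, u} ψ').obj
          ((ModuleCat.extendScalars.{u, u, u} f).obj N)) :=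
  (ModuleCat.coextendScalars.{u, u, u} ψ).map ((adjF f).unit.app N) ≫
    (gammaIso f g ψ ψ' comm hψ hψ' hker).inv.app ((ModuleCat.extendScalars.{u, u, u} f).obj N)

theorem bApp_naturality {N N' : ModuleCat.{u} P} (k : N ⟶ N') :
    (ModuleCat.coextendScalars.{u, u, u} ψ).map k ≫ bApp f g ψ ψ' comm hψ hψ' hker N' =
      bApp f g ψ ψ' comm hψ hψ' hker N ≫ (ModuleCat.restrictScalars.{u} g).map
        ((ModuleCat.coextendScalars.{u, u, u} ψ').map
          ((ModuleCat.extendScalars.{u, u, u} f).map k)) := by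
  unfold bApp
  have h1 := (adjF f).unit.naturality k
  have h2 := (gammaIso f g ψ ψ' comm hψ hψ' hker).inv.naturality
    ((ModuleCat.extendScalars.{u, u, u} f).map k)
  simp only [Functor.comp_map, Functor.id_map, Functor.comp_obj, Functor.id_obj] at h1 h2
  rw [← Category.assoc, ← Functor.map_comp, h1, Functor.map_comp, Category.assoc, h2,
    Category.assoc]

/-- `β_N : B' ⊗_B Hom_P(B, N) → Hom_{P'}(B', P' ⊗_P N)` -/
noncomputable def betaApp (N : ModuleCat.{u} P) :
    (ModuleCat.extendScalars.{u, u, u} g).obj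
        ((ModuleCat.coextendScalars.{u, u, u} ψ).obj N) ⟶
      (ModuleCat.coextendScalars.{u, u, u} ψ').obj
          ((ModuleCat.extendScalars.{u, u, u} f).obj N) :=
  ((ModuleCat.extendRestrictScalarsAdj.{u, u, u} g).homEquiv _ _).symm
    (bApp f g ψ ψ' comm hψ hψ' hker N)

/-- `β` as a natural transformation -/
noncomputable def beta :
    ModuleCat.coextendScalars.{u, u, u} ψ ⋙ ModuleCat.extendScalars.{u, u, u} g ⟶
      ModuleCat.extendScalars.{u, u, u} f ⋙
        ModuleCat.coextendScalars.{u, u, u} ψ' where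
  app := betaApp f g ψ ψ' comm hψ hψ' hker
  naturality N N' k := by
    have h1 := (ModuleCat.extendRestrictScalarsAdj.{u, u, u} g).homEquiv_naturality_left_symm
      ((ModuleCat.coextendScalars.{u, u, u} ψ).map k) (bApp f g ψ ψ' comm hψ hψ' hker N')
    have h2 := (ModuleCat.extendRestrictScalarsAdj.{u, u, u} g).homEquiv_naturality_right_symm
      (bApp f g ψ ψ' comm hψ hψ' hker N) ((ModuleCat.coextendScalars.{u, u, u} ψ').map
          ((ModuleCat.extendScalars.{u, u, u} f).map k))
    rw [bApp_naturality] at h1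
    exact h1.symm.trans h2

variable (N : ModuleCat.{u} P)

theorem betaApp_tmul (q : B') (h : (ModuleCat.coextendScalars.{u, u, u} ψ).obj N) :
    (betaApp f g ψ ψ' comm hψ hψ' hker N).hom (q ⊗ₜ[B, g] h) =
      (show ((ModuleCat.coextendScalars.{u, u, u} ψ').obj
          ((ModuleCat.extendScalars.{u, u, u} f).obj N)) from
        q • (show ((ModuleCat.coextendScalars.{u, u, u} ψ').obj
          ((ModuleCat.extendScalars.{u, u, u} f).obj N)) from
            (bApp f g ψ ψ' comm hψ hψ' hker N).hom h)) := rfl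

/-- the value at `1` of `β(ψ' p' ⊗ h)` -/
theorem ap_betaApp_tmul (h : (ModuleCat.coextendScalars.{u, u, u} ψ).obj N) (p' : P') :
    ap ψ' _ ((betaApp f g ψ ψ' comm hψ hψ' hker N).hom ((ψ' p') ⊗ₜ[B, g] h)) 1 =
      (p' ⊗ₜ[P, f] (ap ψ N h 1) : (ModuleCat.extendScalars.{u, u, u} f).obj N) := by
  rw [betaApp_tmul]
  let u : ((ModuleCat.coextendScalars.{u, u, u} ψ').obj
          ((ModuleCat.extendScalars.{u, u, u} f).obj N)) :=
    (bApp f g ψ ψ' comm hψ hψ' hker N).hom h
  change ap ψ' _ ((ψ' p') • u) 1 = _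
  rw [ap_smul, one_mul]
  have h1 : gammaFun f g ψ ψ' comm _ u =
      ((ModuleCat.coextendScalars.{u, u, u} ψ).map ((adjF f).unit.app N)).hom h :=
    gammaFun_inv f g ψ ψ' comm hψ hψ' hker _ _
  have h2 : ap ψ' _ u 1 =
      ((1 : P') ⊗ₜ[P, f] (ap ψ N h 1) : (ModuleCat.extendScalars.{u, u, u} f).obj N) := by
    have h3 := congrArg (fun w => ap ψ _ w 1) h1
    simp only [ap_gammaFun, map_one] at h3
    exact h3
  rw [ap_map, h2]
  refine (ModuleCat.ExtendScalars.smul_tmul f p' 1 (ap ψ N h 1)).trans ?_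
  rw [mul_one]
  rfl

end Beta

section Flat

variable {P P' B B' : Type u} [CommRing P] [CommRing P'] [CommRing B] [CommRing B']
  (f : P →+* P') (g : B →+* B') (ψ : P →+* B) (ψ' : P' →+* B')
  (comm : ψ'.comp f = g.comp ψ)
  (hψ : Function.Surjective ψ) (hψ' : Function.Surjective ψ')
  (hker : ∀ p' : P', ψ' p' = 0 → p' ∈ Ideal.map f (RingHom.ker ψ))
  (N : ModuleCat.{u} P)

/-- `P'` as a `P`-module by restriction of scalars -/
abbrev rP (f : P →+* P') : Type u :=
  ((ModuleCat.restrictScalars.{u} f).obj (ModuleCat.of P' P'))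

/-- `Hom_P(B, N)` as a `P`-module -/
abbrev HP (ψ : P →+* B) (N : ModuleCat.{u} P) : Type u :=
  ((ModuleCat.restrictScalars.{u} ψ).obj ((ModuleCat.coextendScalars.{u, u, u} ψ).obj N))

/-- evaluation at `1` as a `P`-linear map -/
noncomputable def evLin : HP ψ N →ₗ[P] N where
  toFun h := ap ψ N h 1
  map_add' h h' := ap_add_left h h' 1
  map_smul' a h := by
    change ap ψ N ((ψ a) • (show (ModuleCat.coextendScalars.{u, u, u} ψ).obj N from h)) 1 = _
    rw [ap_smul, one_mul, ap_map]
    rfl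

include hψ in
theorem evLin_injective : Function.Injective (evLin ψ N) := by
  intro h h' H
  exact ext_of_ap_one hψ H

/-- the two `P`-actions on `P' ⊗_P N` agree -/
theorem tp_smul_eq (a : P) (x : rP f ⊗[P] N) :
    a • x = ((f a : P') •
      (show ((ModuleCat.extendScalars.{u, u, u} f).obj N) from x)) := by
  induction x using TensorProduct.induction_on with
  | zero => rw [smul_zero]; exact (smul_zero _).symm
  | tmul p n => rfl
  | add x y hx hy =>
    rw [smul_add, hx, hy]
    exact (smul_add _ _ _).symm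

include comm in
theorem kappa_aux (a : P) (p' : P') (h : (ModuleCat.coextendScalars.{u, u, u} ψ).obj N) :
    ((ψ' (f a * p')) ⊗ₜ[B, g] h : (ModuleCat.extendScalars.{u, u, u} g).obj
        ((ModuleCat.coextendScalars.{u, u, u} ψ).obj N)) =
      ((ψ' p') ⊗ₜ[B, g] ((ψ a) • h)) := by
  have h1 : ψ' (f a) = g (ψ a) := RingHom.congr_fun comm a
  rw [map_mul, h1]
  exact TensorProduct.smul_tmul (R := B) (R' := B) (ψ a)
    (show ((ModuleCat.restrictScalars.{u} g).obj (ModuleCat.of B' B')) from ψ' p') h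

/-- the pure tensor `ψ' p' ⊗ h` -/
noncomputable def kfun (p' : P') (h : (ModuleCat.coextendScalars.{u, u, u} ψ).obj N) :
    ((ModuleCat.extendScalars.{u, u, u} g).obj
      ((ModuleCat.coextendScalars.{u, u, u} ψ).obj N)) :=
  ((ψ' p') ⊗ₜ[B, g] h)

theorem kfun_zero_left (h) : kfun g ψ ψ' N 0 h = 0 := by
  unfold kfun
  rw [map_zero]
  exact TensorProduct.zero_tmul _ _

theorem kfun_add_left (p' q' : P') (h) :
    kfun g ψ ψ' N (p' + q') h = kfun g ψ ψ' N p' h + kfun g ψ ψ' N q' h := by
  unfold kfun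
  rw [map_add]
  exact TensorProduct.add_tmul _ _ _

theorem kfun_zero_right (p' : P') : kfun g ψ ψ' N p' 0 = 0 :=
  TensorProduct.tmul_zero _ _

theorem kfun_add_right (p' : P') (h h') :
    kfun g ψ ψ' N p' (h + h') = kfun g ψ ψ' N p' h + kfun g ψ ψ' N p' h' :=
  TensorProduct.tmul_add _ h h'

/-- `κ : P' ⊗_P Hom_P(B, N) → B' ⊗_B Hom_P(B, N)` -/
noncomputable def kappa : (rP f ⊗[P] HP ψ N) →+
    ((ModuleCat.extendScalars.{u, u, u} g).obj
      ((ModuleCat.coextendScalars.{u, u, u} ψ).obj N)) :=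
  TensorProduct.liftAddHom
    { toFun := fun p' =>
        { toFun := fun h => kfun g ψ ψ' N p' h
          map_zero' := kfun_zero_right g ψ ψ' N p'
          map_add' := fun h h' => kfun_add_right g ψ ψ' N p' h h' }
      map_zero' := AddMonoidHom.ext (fun h => kfun_zero_left g ψ ψ' N h)
      map_add' := fun p' q' => AddMonoidHom.ext (fun h => kfun_add_left g ψ ψ' N p' q' h) }
    (fun a p' h => kappa_aux f g ψ ψ' comm N a p' h)

theorem kappa_tmul (p' : P') (h : (ModuleCat.coextendScalars.{u, u, u} ψ).obj N) :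
    kappa f g ψ ψ' comm N ((show rP f from p') ⊗ₜ[P] (show HP ψ N from h)) =
      ((ψ' p') ⊗ₜ[B, g] h) := rfl

include hψ' in
theorem kappa_surjective : Function.Surjective (kappa f g ψ ψ' comm N) := by
  intro t
  induction t using TensorProduct.induction_on with
  | zero => exact ⟨0, map_zero _⟩
  | tmul q h =>
    obtain ⟨p', rfl⟩ := hψ' q
    exact ⟨(show rP f from p') ⊗ₜ[P] (show HP ψ N from h), rfl⟩
  | add x y hx hy =>
    obtain ⟨x', rfl⟩ := hx
    obtain ⟨y', rfl⟩ := hy
    exact ⟨x' + y', map_add _ _ _⟩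

/-- the value at `1` of `β ∘ κ` is `P' ⊗ ev₁` -/
theorem ap_beta_kappa (t' : rP f ⊗[P] HP ψ N) :
    ap ψ' _ ((betaApp f g ψ ψ' comm hψ hψ' hker N).hom (kappa f g ψ ψ' comm N t')) 1 =
      (LinearMap.lTensor (rP f) (evLin ψ N) t' :
        (ModuleCat.extendScalars.{u, u, u} f).obj N) := by
  induction t' using TensorProduct.induction_on with
  | zero =>
    rw [map_zero, map_zero, map_zero]
    rfl
  | tmul p' h => exact ap_betaApp_tmul f g ψ ψ' comm hψ hψ' hker N h p'
  | add x y hx hy =>
    rw [map_add, map_add, ap_add_left, hx, hy, map_add]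
    rfl

end Flat

section FlatIso

variable {P P' B B' : Type u} [CommRing P] [CommRing P'] [CommRing B] [CommRing B']
  (f : P →+* P') (g : B →+* B') (ψ : P →+* B) (ψ' : P' →+* B')
  (comm : ψ'.comp f = g.comp ψ)
  (hψ : Function.Surjective ψ) (hψ' : Function.Surjective ψ')
  (hker : ∀ p' : P', ψ' p' = 0 → p' ∈ Ideal.map f (RingHom.ker ψ))
  (N : ModuleCat.{u} P) [Module.Flat P (rP f)]

theorem betaApp_injective :
    Function.Injective (betaApp f g ψ ψ' comm hψ hψ' hker N).hom := by
  rw [← LinearMap.ker_eq_bot, LinearMap.ker_eq_bot']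
  intro t ht
  obtain ⟨t', rfl⟩ := kappa_surjective f g ψ ψ' comm hψ' N t
  have h1 := ap_beta_kappa f g ψ ψ' comm hψ hψ' hker N t'
  rw [ht, ap_zero_left] at h1
  have h2 : t' = 0 :=
    Module.Flat.lTensor_preserves_injective_linearMap (M := rP f) (evLin ψ N)
      (evLin_injective ψ hψ N) (h1.symm.trans (map_zero _).symm)
  rw [h2, map_zero]

variable [IsNoetherianRing P]

/-- multiplication by the generators of `ker ψ` -/
noncomputable def dLin (s : Finset P) : N →ₗ[P] (s → N) :=
  LinearMap.pi (fun i => LinearMap.lsmul P N (i : P))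

include hψ in
theorem exact_ev_d (s : Finset P) (hs : Ideal.span (s : Set P) = RingHom.ker ψ) :
    Function.Exact (evLin ψ N) (dLin N s) := by
  intro n
  constructor
  · intro hn
    have h1 : ∀ i : s, (i : P) • n = 0 := fun i => congrFun hn i
    have h2 : ∀ a : P, ψ a = 0 → a • n = 0 := by
      intro a ha
      have hmem : a ∈ Ideal.span (s : Set P) := by
        rw [hs]
        exact ha
      refine Submodule.span_induction (p := fun y _ => y • n = 0) ?_ ?_ ?_ ?_ hmem
      · intro y hy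
        exact h1 ⟨y, hy⟩
      · exact zero_smul _ _
      · intro y z _ _ hy hz
        rw [add_smul, hy, hz, add_zero]
      · intro c y _ hy
        rw [smul_eq_mul, mul_smul, hy, smul_zero]
    obtain ⟨h, hh⟩ := exists_ap_one hψ n h2
    exact ⟨h, hh⟩
  · rintro ⟨h, rfl⟩
    funext i
    have hi : ψ (i : P) = 0 := by
      have : (i : P) ∈ Ideal.span (s : Set P) := Ideal.subset_span i.2
      rw [hs] at this
      exact this
    have h4 := ap_map (show (ModuleCat.coextendScalars.{u, u, u} ψ).obj N from h) (i : P)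
    rw [hi, ap_zero_right] at h4
    exact h4.symm

theorem piRight_lTensor_d (s : Finset P) (x : rP f ⊗[P] N) (i : s) :
    TensorProduct.piRight P P (rP f) (fun _ : s => (N : Type u))
      (LinearMap.lTensor (rP f) (dLin N s) x) i = (i : P) • x := by
  induction x using TensorProduct.induction_on with
  | zero => rw [map_zero, map_zero, smul_zero]; rfl
  | tmul p n =>
    rw [LinearMap.lTensor_tmul, TensorProduct.piRight_apply, TensorProduct.piRightHom_tmul]
    exact (TensorProduct.tmul_smul (i : P) p n)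
  | add x y hx hy =>
    rw [map_add, map_add, Pi.add_apply, hx, hy, smul_add]

include hψ in
theorem exists_lTensor_eq (x : (ModuleCat.extendScalars.{u, u, u} f).obj N)
    (hx : ∀ a : P, ψ a = 0 → (f a : P') • x = 0) :
    ∃ t' : rP f ⊗[P] HP ψ N, LinearMap.lTensor (rP f) (evLin ψ N) t' = x := by
  obtain ⟨s, hs'⟩ := (IsNoetherian.noetherian (RingHom.ker ψ) : (RingHom.ker ψ).FG)
  have hs : Ideal.span (s : Set P) = RingHom.ker ψ := hs'
  have hex := Module.Flat.lTensor_exact (rP f) (exact_ev_d ψ hψ N s hs)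
  have h0 : LinearMap.lTensor (rP f) (dLin N s) x = 0 := by
    apply (TensorProduct.piRight P P (rP f) (fun _ : s => (N : Type u))).injective
    rw [map_zero]
    funext i
    have hi : ψ (i : P) = 0 := by
      have : (i : P) ∈ Ideal.span (s : Set P) := Ideal.subset_span i.2
      rw [hs] at this
      exact this
    exact (piRight_lTensor_d f N s x i).trans ((tp_smul_eq f N (i : P) x).trans (hx _ hi))
  exact (hex x).1 h0

include hψ in
theorem betaApp_surjective :
    Function.Surjective (betaApp f g ψ ψ' comm hψ hψ' hker N).hom := by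
  intro w
  let x : (ModuleCat.extendScalars.{u, u, u} f).obj N := ap ψ' _ w 1
  have hx : ∀ a : P, ψ a = 0 → (f a : P') • x = 0 := by
    intro a ha
    have h2 := ap_map w (f a)
    have h3 : ψ' (f a) = 0 := by
      have h5 : ψ' (f a) = g (ψ a) := RingHom.congr_fun comm a
      rw [h5, ha, map_zero]
    rw [h3, ap_zero_right] at h2
    exact h2.symm
  obtain ⟨t', ht'⟩ := exists_lTensor_eq f ψ hψ N x hx
  refine ⟨kappa f g ψ ψ' comm N t', ?_⟩
  apply ext_of_ap_one hψ'
  rw [ap_beta_kappa]
  exact ht'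

theorem isIso_betaApp : IsIso (betaApp f g ψ ψ' comm hψ hψ' hker N) := by
  rw [ConcreteCategory.isIso_iff_bijective]
  exact ⟨betaApp_injective f g ψ ψ' comm hψ hψ' hker N,
    betaApp_surjective f g ψ ψ' comm hψ hψ' hker N⟩

/-- `β` as an isomorphism -/
noncomputable def betaIso :
    ModuleCat.coextendScalars.{u, u, u} ψ ⋙ ModuleCat.extendScalars.{u, u, u} g ≅
      ModuleCat.extendScalars.{u, u, u} f ⋙
        ModuleCat.coextendScalars.{u, u, u} ψ' :=
  haveI : ∀ N, IsIso ((beta f g ψ ψ' comm hψ hψ' hker).app N) := fun N =>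
    isIso_betaApp f g ψ ψ' comm hψ hψ' hker N
  haveI : IsIso (beta f g ψ ψ' comm hψ hψ' hker) := NatIso.isIso_of_isIso_app _
  asIso (beta f g ψ ψ' comm hψ hψ' hker)

end FlatIso

end Groth.Agent.Lib.Helper89.BCd
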