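import Groth.Agent.Lib.Helper89.BCd
import Groth.Agent.Lib.Helper89.BCc
import Mathlib.Algebra.Module.FinitePresentation
import Mathlib.RingTheory.TensorProduct.Basic

/-!
# Flat base change for `RHom_P(B, -)` on bounded below complexes, general flat `P → P'`

`ψ : P → B`, `ψ' : P' → B'` surjective, `f : P → P'` flat, `g : B → B'`, `ψ' f = g ψ`,
`ker ψ' = (ker ψ) P'`, `P` Noetherian, `L ∈ D^{≥ c}(P)`:
`LBC_g (Rψ L) ≅ Rψ' (LBC_f L)`.
-/

set_option autoImplicit false
universe u

namespace Groth.Agent.Lib.Helper89.BCe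

open CategoryTheory CategoryTheory.Limits DerivedCategory TensorProduct
open Groth.Agent.Lib.Helper89.BCa Groth.Agent.Lib.Helper89.BCb Groth.Agent.Lib.Helper89.BCd
open Groth.Agent.Lib.Helper15.LBCFlat Groth.Agent.Lib.Helper15 Groth.Agent.Lib.Helper84
  Groth.Agent.Lib.Helper25.Coext Groth.Agent.Lib.Helper89.AcycRes

attribute [local instance] HasDerivedCategory.standard

theorem baer_tensor (P P' : Type u) [CommRing P] [CommRing P'] [Algebra P P'] [Module.Flat P P']
    [IsNoetherianRing P] (E : Type u) [AddCommGroup E] [Module P E] (hE : Module.Baer P E) :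
    Module.Baer P (P' ⊗[P] E) := by
  intro I g
  haveI : Module.FinitePresentation P I := Module.finitePresentation_of_finite P I
  have hbc := Module.FinitePresentation.isBaseChange_map P I E P'
  let ι : P' ⊗[P] I →ₗ[P'] P' ⊗[P] P := (I.subtype).baseChange P'
  let gt : P' ⊗[P] I →ₗ[P'] P' ⊗[P] E := LinearMap.liftBaseChange P' g
  have key : ∀ φ : P' ⊗[P] I →ₗ[P'] P' ⊗[P] E,
      ∃ φ' : P' ⊗[P] P →ₗ[P'] P' ⊗[P] E, φ'.comp ι = φ := by
    intro φ
    refine hbc.inductionOn φ (fun φ => ∃ φ' : P' ⊗[P] P →ₗ[P'] P' ⊗[P] E, φ'.comp ι = φ)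
      ?_ ?_ ?_ ?_
    · exact ⟨0, LinearMap.zero_comp _⟩
    · intro g₀
      obtain ⟨g₁, hg₁⟩ := hE I g₀
      refine ⟨g₁.baseChange P', ?_⟩
      have h1 : g₁.comp I.subtype = g₀ := by
        ext x
        exact hg₁ x.1 x.2
      change g₁.baseChange P' ∘ₗ (I.subtype).baseChange P' = g₀.baseChange P'
      rw [← LinearMap.baseChange_comp, h1]
    · rintro s φ ⟨φ', rfl⟩
      exact ⟨s • φ', LinearMap.smul_comp _ _ _⟩
    · rintro φ₁ φ₂ ⟨φ₁', rfl⟩ ⟨φ₂', rfl⟩
      exact ⟨φ₁' + φ₂', LinearMap.add_comp _ _ _⟩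
  obtain ⟨φ', hφ'⟩ := key gt
  refine ⟨(φ'.restrictScalars P).comp (TensorProduct.mk P P' P 1), ?_⟩
  intro x hx
  have h2 := congrArg (fun k => k ((1 : P') ⊗ₜ[P] (⟨x, hx⟩ : I))) hφ'
  simp only [LinearMap.comp_apply, ι, gt, LinearMap.baseChange_tmul,
    LinearMap.liftBaseChange_tmul, one_smul] at h2
  exact h2

section Plumbing

variable {P P' : Type u} [CommRing P] [CommRing P'] (f : P →+* P')

/-- the identity `rP f ≃ P'`, linear for the algebra structure `f.toAlgebra` -/
noncomputable def eP : letI := f.toAlgebra; rP f ≃ₗ[P] P' :=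
  letI := f.toAlgebra
  { AddEquiv.refl P' with
    map_smul' := fun a p => (Algebra.smul_def a (show P' from p)).symm }

theorem flat_rP (hf : f.Flat) : Module.Flat P (rP f) := by
  letI := f.toAlgebra
  haveI : Module.Flat P P' := hf
  exact Module.Flat.of_linearEquiv (eP f)

variable [IsNoetherianRing P] (E : ModuleCat.{u} P)

/-- `P' ⊗_P E` in the two languages -/
noncomputable def tensLin : letI := f.toAlgebra
    ((ModuleCat.restrictScalars.{u} f).obj
      ((ModuleCat.extendScalars.{u, u, u} f).obj E) : Type u) ≃ₗ[P] (P' ⊗[P] E) :=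
  letI := f.toAlgebra
  let T : (rP f ⊗[P] E) ≃ₗ[P] (P' ⊗[P] E) := TensorProduct.congr (eP f) (LinearEquiv.refl P E)
  { toFun := fun z => T z
    invFun := fun v => T.symm v
    left_inv := fun z => T.symm_apply_apply z
    right_inv := fun v => T.apply_symm_apply v
    map_add' := fun x y => T.map_add x y
    map_smul' := fun a z => by
      have h1 := BCd.tp_smul_eq f E a z
      have h2 := T.map_smul a z
      exact (congrArg T h1).symm.trans h2 }

theorem injective_res_ext (hf : f.Flat) [Injective E] :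
    Injective ((ModuleCat.restrictScalars.{u} f).obj
      ((ModuleCat.extendScalars.{u, u, u} f).obj E)) := by
  letI := f.toAlgebra
  haveI : Module.Flat P P' := hf
  haveI : Module.Injective P E := Module.injective_module_of_injective_object P E
  have hB : Module.Baer P E := Module.Baer.of_injective inferInstance
  haveI : Module.Injective P (P' ⊗[P] E) := Module.Baer.injective (baer_tensor P P' E hB)
  haveI : Injective (ModuleCat.of P (P' ⊗[P] E)) :=
    Module.injective_object_of_injective_module P _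
  exact Injective.of_iso (tensLin f E).toModuleIso.symm inferInstance

end Plumbing

section Main

variable {P P' B B' : Type u} [CommRing P] [CommRing P'] [CommRing B] [CommRing B']
  (f : P →+* P') (g : B →+* B') (ψ : P →+* B) (ψ' : P' →+* B')
  (comm : ψ'.comp f = g.comp ψ)
  (hψ : Function.Surjective ψ) (hψ' : Function.Surjective ψ')
  (hker : ∀ p' : P', ψ' p' = 0 → p' ∈ Ideal.map f (RingHom.ker ψ))
  [IsNoetherianRing P] (hf : f.Flat)

/-- `β` on complexes -/
noncomputable def betaCx (J : Cx P) :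
    (FlatBC.extCx g).obj ((coextCx ψ).obj J) ≅ (coextCx ψ').obj ((FlatBC.extCx f).obj J) :=
  haveI := flat_rP f hf
  HomologicalComplex.Hom.isoOfComponents
    (fun n => (BCd.betaIso f g ψ ψ' comm hψ hψ' hker).app (J.X n))
    (fun i j _ => ((BCd.betaIso f g ψ ψ' comm hψ hψ' hker).hom.naturality (J.d i j)).symm)

/-- `γ` on complexes -/
noncomputable def gammaCx (Y : Cx P') :
    (resCx g).obj ((coextCx ψ').obj Y) ≅ (coextCx ψ).obj ((resCx f).obj Y) :=
  HomologicalComplex.Hom.isoOfComponents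
    (fun n => (BCd.gammaIso f g ψ ψ' comm hψ hψ' hker).app (Y.X n))
    (fun i j _ => ((BCd.gammaIso f g ψ ψ' comm hψ hψ' hker).hom.naturality (Y.d i j)).symm)

theorem gammaCx_naturality {Y Y' : Cx P'} (s : Y ⟶ Y') :
    (resCx g).map ((coextCx ψ').map s) ≫ (gammaCx f g ψ ψ' comm hψ hψ' hker Y').hom =
      (gammaCx f g ψ ψ' comm hψ hψ' hker Y).hom ≫ (coextCx ψ).map ((resCx f).map s) := by
  ext n : 1
  exact (BCd.gammaIso f g ψ ψ' comm hψ hψ' hker).hom.naturality (s.f n)

include comm hψ hψ' hker hf in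
theorem quasiIso_coext_map (J : Cx P) (c : ℤ) [J.IsStrictlyGE c] (hJ : ∀ n, Injective (J.X n))
    (I : Cx P') [I.IsStrictlyGE c] (hI : ∀ n, Injective (I.X n))
    (s : (FlatBC.extCx f).obj J ⟶ I) [QuasiIso s] :
    QuasiIso ((coextCx ψ').map s) := by
  let s₀ := (resCx f).map s
  haveI : QuasiIso s₀ := inferInstance
  have hX : ∀ m, FAcyclic (ModuleCat.coextendScalars.{u, u, u} ψ)
      (((resCx f).obj ((FlatBC.extCx f).obj J)).X m) := by
    intro m
    haveI := hJ m
    haveI : Injective (((resCx f).obj ((FlatBC.extCx f).obj J)).X m) :=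
      injective_res_ext f (J.X m) hf
    exact fAcyclic_of_injective _ _
  have hI' : ∀ m, FAcyclic (ModuleCat.coextendScalars.{u, u, u} ψ)
      (((resCx f).obj I).X m) := by
    intro m
    haveI := hI m
    haveI : Injective (((resCx f).obj I).X m) := injective_res f hf (I.X m)
    exact fAcyclic_of_injective _ _
  have h1 := LerayBdd.isIso_G_map (ModuleCat.coextendScalars.{u, u, u} ψ) c hX hI' s₀
  have h2 : IsIso (Q.map ((coextCx ψ).map s₀)) := h1
  have h3 : QuasiIso ((coextCx ψ).map s₀) := by rwa [isIso_Q_map_iff_quasiIso] at h2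
  have h4 : QuasiIso ((gammaCx f g ψ ψ' comm hψ hψ' hker _).hom ≫ (coextCx ψ).map s₀) :=
    inferInstance
  rw [← gammaCx_naturality] at h4
  have h5 : QuasiIso ((resCx g).map ((coextCx ψ').map s)) :=
    quasiIso_of_comp_right _ (gammaCx f g ψ ψ' comm hψ hψ' hker I).hom
  exact (HomologicalComplex.quasiIso_map_iff_of_preservesHomology _
    (ModuleCat.restrictScalars.{u} g)).1 h5

include comm hψ hψ' hker hf in
/-- **flat base change for `RHom_P(B, -)`** -/
theorem main (hg : g.Flat) {Rψ : Dual.D P ⥤ Dual.D B} (adj : DRing.restrictD ψ ⊣ Rψ)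
    {Rψ' : Dual.D P' ⥤ Dual.D B'} (adj' : DRing.restrictD ψ' ⊣ Rψ') (L : Dual.D P) (c : ℤ)
    [L.IsGE c] :
    Nonempty ((DRing.LBaseChange g).obj (Rψ.obj L) ≅ Rψ'.obj ((DRing.LBaseChange f).obj L)) := by
  obtain ⟨K, hK, ⟨e0⟩⟩ := exists_iso_Q_obj_of_isGE L c
  haveI := hK
  obtain ⟨J, i, hi, hJ, hJc⟩ :=
    CochainComplex.Plus.modelCategoryQuillen.exists_quasiIso_injective K c
  haveI := hJc
  haveI : J.IsKInjective := CochainComplex.isKInjective_of_injective J c
  haveI : IsIso (Q.map i) := by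
    rw [isIso_Q_map_iff_quasiIso]
    exact hi
  let eJ : L ≅ Q.obj J := e0 ≪≫ asIso (Q.map i)
  obtain ⟨I, s, hs, hI, hIc⟩ :=
    CochainComplex.Plus.modelCategoryQuillen.exists_quasiIso_injective
      ((FlatBC.extCx f).obj J) c
  haveI := hIc
  haveI := hs
  haveI : I.IsKInjective := CochainComplex.isKInjective_of_injective I c
  haveI : QuasiIso ((coextCx ψ').map s) :=
    quasiIso_coext_map f g ψ ψ' comm hψ hψ' hker hf J c hJ I hI s
  haveI : IsIso (Q.map s) := by
    rw [isIso_Q_map_iff_quasiIso]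
    infer_instance
  haveI : IsIso (Q.map ((coextCx ψ').map s)) := by
    rw [isIso_Q_map_iff_quasiIso]
    infer_instance
  haveI : PreservesFiniteLimits (FlatBC.ext f) := FlatBC.preservesFiniteLimits_ext _ hf
  haveI : PreservesFiniteLimits (FlatBC.ext g) := FlatBC.preservesFiniteLimits_ext _ hg
  have l1 : (DRing.LBaseChange g).obj (Rψ.obj L) ≅
      Q.obj ((FlatBC.extCx g).obj ((coextCx ψ).obj J)) :=
    (DRing.LBaseChange g).mapIso (Rψ.mapIso eJ ≪≫ (thetaIso ψ J adj).symm) ≪≫
      (lbcFlatIso g).app _ ≪≫ FlatBC.bcToD g _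
  have l2 : Q.obj ((FlatBC.extCx g).obj ((coextCx ψ).obj J)) ≅ Q.obj ((coextCx ψ').obj I) :=
    Q.mapIso (betaCx f g ψ ψ' comm hψ hψ' hker hf J) ≪≫ asIso (Q.map ((coextCx ψ').map s))
  have r1 : Rψ'.obj ((DRing.LBaseChange f).obj L) ≅ Rψ'.obj (Q.obj I) :=
    Rψ'.mapIso ((DRing.LBaseChange f).mapIso eJ ≪≫
      (lbcFlatIso f).app _ ≪≫ FlatBC.bcToD f J ≪≫ asIso (Q.map s))
  exact ⟨l1 ≪≫ l2 ≪≫ thetaIso ψ' I adj' ≪≫ r1.symm⟩

end Main

end Groth.Agent.Lib.Helper89.BCe
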