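import Mathlib
import Groth.Prelude.Def_CohDer

set_option autoImplicit false
universe v u
open CategoryTheory CategoryTheory.Limits Opposite

namespace Helper89.CompactPreserves

variable {D : Type u} [Category.{v} D] [Preadditive D]

/-- if `⊕ Hom(K, X i) → Hom(K, ∐ X)` is bijective then `Hom(K, -)` preserves the coproduct -/
lemma preservesColimit_of_bijective (K : D) {ι : Type v} (X : ι → D) [HasCoproduct X]
    (h : Function.Bijective (CohDer.homSumToHomCoprod K X)) :
    PreservesColimit (Discrete.functor X) (preadditiveCoyoneda.obj (op K)) := by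
  classical
  let H := preadditiveCoyoneda.obj (op K)
  let φ := CohDer.homSumToHomCoprod K X
  let e : DirectSum ι (fun i => K ⟶ X i) ≃+ (K ⟶ ∐ X) := AddEquiv.ofBijective φ h
  have hφ : ∀ (i : ι) (x : K ⟶ X i), φ (DirectSum.of (fun i => K ⟶ X i) i x) = x ≫ Sigma.ι X i := by
    intro i x
    simp [φ, CohDer.homSumToHomCoprod]
    rfl
  apply preservesColimit_of_preserves_colimit_cocone (coproductIsCoproduct X)
  refine (isColimitMapCoconeCofanMkEquiv H X (Sigma.ι X)).symm ?_
  refine mkCofanColimit _ (fun s => AddCommGrpCat.ofHom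
    ((DirectSum.toAddMonoid (fun i => (s.inj i).hom)).comp e.symm.toAddMonoidHom)) ?_ ?_
  · intro s i
    ext x
    change (DirectSum.toAddMonoid (fun i => (s.inj i).hom)) (e.symm (x ≫ Sigma.ι X i)) = _
    have : e.symm (x ≫ Sigma.ι X i) = DirectSum.of (fun i => K ⟶ X i) i x := by
      rw [AddEquiv.symm_apply_eq]
      exact (hφ i x).symm
    rw [this]
    exact DirectSum.toAddMonoid_of (fun i => (s.inj i).hom) i x
  · intro s m hm
    ext y
    obtain ⟨z, rfl⟩ := e.surjective y
    change m.hom (e z) = (DirectSum.toAddMonoid (fun i => (s.inj i).hom)) (e.symm (e z))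
    rw [AddEquiv.symm_apply_apply]
    have : m.hom.comp e.toAddMonoidHom = DirectSum.toAddMonoid (fun i => (s.inj i).hom) := by
      apply DirectSum.addHom_ext
      intro i x
      refine Eq.trans ?_ (DirectSum.toAddMonoid_of (fun i => (s.inj i).hom) i x).symm
      have h1 := congr_arg (fun f => f.hom x) (hm i)
      refine Eq.trans ?_ h1
      change m.hom (φ _) = _
      rw [hφ]
      rfl
    exact DFunLike.congr_fun this z

end Helper89.CompactPreserves
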