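import Mathlib

set_option autoImplicit false
set_option linter.unusedSectionVars false
universe v u
open CategoryTheory CategoryTheory.Limits Opposite

namespace Helper89.FinSums

variable {A : Type u} [Category.{v} A]

section Factor

variable [Preadditive A]

/-- if `Hom(E, -)` preserves the coproduct of `X`, then every map from `E` to the coproduct is a
finite sum of maps through the summands -/
lemma exists_finset_of_preserves (E : A) {I : Type v} (X : I → A) (c : Cofan X) (hc : IsColimit c)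
    [PreservesColimit (Discrete.functor X) (preadditiveCoyoneda.obj (op E))] (φ : E ⟶ c.pt) :
    ∃ (J : Finset I) (g : ∀ i, E ⟶ X i), φ = ∑ i ∈ J, g i ≫ c.inj i := by
  classical
  let F := preadditiveCoyoneda.obj (op E)
  have hF : IsColimit (F.mapCocone c) := isColimitOfPreserves F hc
  let H : AddSubgroup (E ⟶ c.pt) := AddSubgroup.closure {ψ | ∃ (i : I) (g : E ⟶ X i), ψ = g ≫ c.inj i}
  let p : F.obj c.pt ⟶ AddCommGrpCat.of ((E ⟶ c.pt) ⧸ H) :=
    AddCommGrpCat.ofHom (QuotientAddGroup.mk' H)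
  have hp : p = 0 := by
    apply hF.hom_ext
    rintro ⟨j⟩
    ext (g : E ⟶ X j)
    change QuotientAddGroup.mk' H (g ≫ c.inj j) = 0
    rw [QuotientAddGroup.mk'_apply, QuotientAddGroup.eq_zero_iff]
    exact AddSubgroup.subset_closure ⟨j, g, rfl⟩
  have hφ : φ ∈ H := by
    have h1 : p.hom φ = 0 := by rw [hp]; rfl
    change QuotientAddGroup.mk' H φ = 0 at h1
    rwa [QuotientAddGroup.mk'_apply, QuotientAddGroup.eq_zero_iff] at h1
  refine AddSubgroup.closure_induction (p := fun ψ _ => ∃ (J : Finset I) (g : ∀ i, E ⟶ X i),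
    ψ = ∑ i ∈ J, g i ≫ c.inj i) ?_ ?_ ?_ ?_ hφ
  · rintro ψ ⟨i, g, rfl⟩
    refine ⟨{i}, fun i' => if h : i' = i then g ≫ eqToHom (by rw [h]) else 0, ?_⟩
    simp
  · exact ⟨∅, fun _ => 0, by simp⟩
  · rintro ψ₁ ψ₂ _ _ ⟨J₁, g₁, rfl⟩ ⟨J₂, g₂, rfl⟩
    refine ⟨J₁ ∪ J₂, fun i => (if i ∈ J₁ then g₁ i else 0) + (if i ∈ J₂ then g₂ i else 0), ?_⟩
    simp only [Preadditive.add_comp, Finset.sum_add_distrib]
    congr 1
    · rw [← Finset.sum_subset Finset.subset_union_left]
      · apply Finset.sum_congr rfl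
        intro i hi
        rw [if_pos hi]
      · intro i _ hi
        rw [if_neg hi, zero_comp]
    · rw [← Finset.sum_subset Finset.subset_union_right]
      · apply Finset.sum_congr rfl
        intro i hi
        rw [if_pos hi]
      · intro i _ hi
        rw [if_neg hi, zero_comp]
  · rintro ψ _ ⟨J, g, rfl⟩
    refine ⟨J, fun i => - g i, ?_⟩
    simp

end Factor

section Sub

variable [HasCoproducts.{v} A] [HasZeroMorphisms A] {I : Type v} (E : I → A)

/-- the sub-coproduct indexed by a finite subset -/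
noncomputable abbrev sub (J : Finset I) : A := ∐ (fun j : J => E j.1)

/-- the inclusion of a finite sub-coproduct -/
noncomputable def incl (J : Finset I) : sub E J ⟶ ∐ E := Sigma.desc (fun j => Sigma.ι E j.1)

open Classical in
/-- the retraction onto a finite sub-coproduct -/
noncomputable def retr (J : Finset I) : ∐ E ⟶ sub E J :=
  Sigma.desc (fun i => if h : i ∈ J then Sigma.ι (fun j : J => E j.1) ⟨i, h⟩ else 0)

/-- the transition maps between finite sub-coproducts -/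
noncomputable def trans {J J' : Finset I} (h : J ⊆ J') : sub E J ⟶ sub E J' :=
  Sigma.desc (fun j => Sigma.ι (fun j : J' => E j.1) ⟨j.1, h j.2⟩)

@[reassoc (attr := simp)]
lemma ι_incl (J : Finset I) (j : J) :
    Sigma.ι (fun j : J => E j.1) j ≫ incl E J = Sigma.ι E j.1 := by
  simp [incl]

@[reassoc]
lemma ι_retr_of_mem (J : Finset I) (i : I) (h : i ∈ J) :
    Sigma.ι E i ≫ retr E J = Sigma.ι (fun j : J => E j.1) ⟨i, h⟩ := by
  simp [retr, h]

@[reassoc]
lemma ι_retr_of_not_mem (J : Finset I) (i : I) (h : i ∉ J) :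
    Sigma.ι E i ≫ retr E J = 0 := by
  simp [retr, h]

@[reassoc (attr := simp)]
lemma incl_retr (J : Finset I) : incl E J ≫ retr E J = 𝟙 _ := by
  apply Sigma.hom_ext
  rintro ⟨i, h⟩
  rw [ι_incl_assoc, ι_retr_of_mem E J i h, Category.comp_id]

@[reassoc (attr := simp)]
lemma trans_incl {J J' : Finset I} (h : J ⊆ J') : trans E h ≫ incl E J' = incl E J := by
  apply Sigma.hom_ext
  rintro ⟨i, hi⟩
  simp [trans]

instance (J : Finset I) : Mono (incl E J) := mono_of_mono_fac (incl_retr E J)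

end Sub

section FS

variable (S : Set A)

/-- `Z` is a finite coproduct of members of `S` -/
def FS (Z : A) : Prop :=
  ∃ (J : Type v) (_ : Finite J) (E : J → A) (ι : ∀ j, E j ⟶ Z),
    (∀ j, E j ∈ S) ∧ Nonempty (IsColimit (Cofan.mk Z ι))

variable {S}

lemma FS.of_iso {Z Z' : A} (h : FS S Z) (e : Z ≅ Z') : FS S Z' := by
  obtain ⟨J, hJ, E, ι, hE, ⟨hc⟩⟩ := h
  refine ⟨J, hJ, E, fun j => ι j ≫ e.hom, hE, ⟨?_⟩⟩
  exact IsColimit.ofIsoColimit hc (Cofan.ext e (fun j => rfl))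

lemma FS.zero [HasZeroMorphisms A] {Z : A} (hZ : IsZero Z) : FS S Z := by
  refine ⟨PEmpty, inferInstance, fun j => j.elim, fun j => j.elim, fun j => j.elim, ⟨?_⟩⟩
  exact mkCofanColimit _ (fun s => hZ.to_ s.pt) (fun s j => j.elim) (fun s m _ => hZ.eq_of_src _ _)

lemma FS.biprod [Preadditive A] [HasBinaryBiproducts A] {Z Z' : A} (h : FS S Z) (h' : FS S Z') :
    FS S (Z ⊞ Z') := by
  obtain ⟨J, hJ, E, ι, hE, ⟨hc⟩⟩ := h
  obtain ⟨J', hJ', E', ι', hE', ⟨hc'⟩⟩ := h'
  let bc : BinaryCofan (Cofan.mk Z ι).pt (Cofan.mk Z' ι').pt :=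
    (BinaryBiproduct.bicone Z Z').toCocone
  have hbc : IsColimit bc := BinaryBiproduct.isColimit Z Z'
  refine ⟨J ⊕ J', inferInstance, Sum.elim E E',
    Cofan.combPairHoms (Cofan.mk Z ι) (Cofan.mk Z' ι') bc, ?_, ⟨?_⟩⟩
  · rintro (j | j)
    · exact hE j
    · exact hE' j
  · exact Cofan.combPairIsColimit hc hc' hbc

lemma FS.sub [HasCoproducts.{v} A] {I : Type v} (E : I → A) (hE : ∀ i, E i ∈ S) (J : Finset I) :
    FS S (sub E J) :=
  ⟨J, inferInstance, fun j => E j.1, fun j => Sigma.ι (fun j : J => E j.1) j, fun j => hE j.1,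
    ⟨coproductIsCoproduct _⟩⟩

lemma FS.exists_fin [Preadditive A] [HasFiniteBiproducts A] {Z : A} (h : FS S Z) :
    ∃ (n : ℕ) (E : Fin n → A), (∀ j, E j ∈ S) ∧ Nonempty (Z ≅ ⨁ E) := by
  obtain ⟨J, hJ, E, ι, hE, ⟨hc⟩⟩ := h
  let e : Fin (Nat.card J) ≃ J := (Finite.equivFin J).symm
  refine ⟨Nat.card J, E ∘ e, fun j => hE _, ⟨?_⟩⟩
  have hc' : IsColimit (Cofan.mk Z (fun k : Fin (Nat.card J) => ι (e k))) :=
    (Cofan.isColimitEquivOfEquiv e (Cofan.mk Z ι)) hc
  exact hc'.coconePointUniqueUpToIso (biproduct.isColimit (E ∘ e))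

lemma FS.factor [Preadditive A] [HasCoproducts.{v} A]
    (h2 : ∀ E ∈ S, ∀ ι : Type v,
      PreservesColimitsOfShape (Discrete ι) (preadditiveCoyoneda.obj (op E)))
    {Z : A} (h : FS S Z) {I : Type v} (X : I → A) (φ : Z ⟶ ∐ X) :
    ∃ J : Finset I, φ ≫ retr X J ≫ incl X J = φ := by
  classical
  obtain ⟨K, hK, E, ι, hE, ⟨hc⟩⟩ := h
  haveI := Fintype.ofFinite K
  have key : ∀ k : K, ∃ (J : Finset I) (g : ∀ i, E k ⟶ X i),
      ι k ≫ φ = ∑ i ∈ J, g i ≫ Sigma.ι X i := by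
    intro k
    haveI := h2 (E k) (hE k) I
    exact exists_finset_of_preserves (E k) X (Cofan.mk (∐ X) (Sigma.ι X))
      (coproductIsCoproduct X) (ι k ≫ φ)
  choose Jk g hg using key
  refine ⟨Finset.univ.biUnion Jk, ?_⟩
  apply Cofan.IsColimit.hom_ext hc
  intro k
  change ι k ≫ φ ≫ _ = ι k ≫ φ
  rw [← Category.assoc, hg k, Preadditive.sum_comp]
  apply Finset.sum_congr rfl
  intro i hi
  have : i ∈ Finset.univ.biUnion Jk := Finset.mem_biUnion.2 ⟨k, Finset.mem_univ k, hi⟩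
  rw [Category.assoc, ι_retr_of_mem_assoc X _ i this, ι_incl]

end FS

end Helper89.FinSums
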