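import Groth.Agent.Lib.Helper89.SigmaExact

set_option autoImplicit false
universe w w' v u
open CategoryTheory CategoryTheory.Limits

namespace Helper89.SigmaExact

section Complex2

variable {A : Type u} [Category.{v} A] [Abelian A] [EnoughInjectives A] {J : Type w}
  [HasCoproductsOfShape J A] {ι : Type*} {c : ComplexShape ι}

/-- the termwise coproduct cofan -/
noncomputable abbrev cofanCx (X : J → HomologicalComplex A c) : Cofan X :=
  Cofan.mk (sigmaCx X) (sigmaCxι X)

lemma sigmaCx_hom_ext (X : J → HomologicalComplex A c) {L : HomologicalComplex A c}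
    (a b : sigmaCx X ⟶ L) (h : ∀ j, sigmaCxι X j ≫ a = sigmaCxι X j ≫ b) : a = b := by
  ext n
  apply Limits.Sigma.hom_ext
  intro j
  have := congr_arg (fun φ => φ.f n) (h j)
  exact this

/-- the termwise coproduct is a coproduct of complexes -/
noncomputable def isColimitCofanCx (X : J → HomologicalComplex A c) : IsColimit (cofanCx X) :=
  mkCofanColimit _ (fun s => sigmaCxDesc X s.inj) (fun s j => sigmaCxι_desc X s.inj j)
    (fun s m hm => by
      apply sigmaCx_hom_ext
      intro j
      rw [sigmaCxι_desc]
      exact hm j)

end Complex2

section Derived2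

open DerivedCategory

variable {A : Type u} [Category.{v} A] [Abelian A] [EnoughInjectives A]
  [HasDerivedCategory.{w'} A] {J : Type w} [HasCoproductsOfShape J A]
  (X : J → CochainComplex A ℤ)

instance preservesColimit_Q : PreservesColimit (Discrete.functor X) (Q : _ ⥤ DerivedCategory A) := by
  apply preservesColimit_of_preserves_colimit_cocone (isColimitCofanCx X)
  exact (isColimitMapCoconeCofanMkEquiv Q X (sigmaCxι X)).symm (isColimitCofanQ X)

end Derived2

end Helper89.SigmaExact
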