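import Mathlib
import Groth.Prelude.Def_CohDer
import Groth.Agent.Lib.Helper40.Compact
import Groth.Agent.Lib.Helper89.SigmaExact2
import Groth.Agent.Lib.Helper89.FinSums

set_option autoImplicit false
set_option linter.unusedSectionVars false
universe w v u
open CategoryTheory CategoryTheory.Limits
open Groth.Agent.Lib.Helper40.Cpt

namespace Helper89.ProductTrick

open Helper89.SigmaExact

section FinSumCofan

variable {D : Type u} [Category.{v} D] [Preadditive D] [HasCoproducts.{v} D]

/-- maps from a compact object to the point of any colimit cofan are finite sums -/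
lemma finSum_of_isColimit {K : D} (hK : CohDer.IsCompactObject K) {ι : Type v} (X : ι → D)
    (c : Cofan X) (hc : IsColimit c) (φ : K ⟶ c.pt) : FinSum K c.inj φ := by
  refine finSum_transfer c.inj (Sigma.ι X) (fun i => Iso.refl _)
    (hc.coconePointUniqueUpToIso (coproductIsCoproduct X)) (fun i => ?_) φ
    (finSum_of_compact hK X _)
  rw [Iso.refl_hom, Category.id_comp]
  exact IsColimit.comp_coconePointUniqueUpToIso_hom hc _ _

end FinSumCofan

section Proj

variable {A : Type u} [Category.{v} A] [Abelian A] [EnoughInjectives A] {J : Type w}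
  [HasCoproductsOfShape J A] {ι : Type*} {c : ComplexShape ι} [DecidableEq J]

/-- the projection from the termwise coproduct onto a summand -/
noncomputable def proj (X : J → HomologicalComplex A c) (j : J) : sigmaCx X ⟶ X j :=
  sigmaCxDesc X (fun j' => if h : j' = j then eqToHom (by rw [h]) else 0)

lemma ι_proj_self (X : J → HomologicalComplex A c) (j : J) :
    sigmaCxι X j ≫ proj X j = 𝟙 _ := by
  rw [proj, sigmaCxι_desc, dif_pos rfl, eqToHom_refl]

lemma ι_proj_ne (X : J → HomologicalComplex A c) {j' j : J} (h : j' ≠ j) :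
    sigmaCxι X j' ≫ proj X j = 0 := by
  rw [proj, sigmaCxι_desc, dif_neg h]

end Proj

section Phi

variable {A : Type u} [Category.{v} A] [Abelian A] [EnoughInjectives A]
  [HasCoproductsOfShape (ULift.{v} ℕ) A]
  (P : CochainComplex A ℤ) (R : ℕ → CochainComplex A ℤ) (q : ∀ m, P ⟶ R m)
  (N : ℤ → ℕ) (hN : ∀ (i : ℤ) (m : ℕ), N i ≤ m → IsZero ((R m).X i))

/-- the family reindexed by `ULift ℕ` -/
abbrev liftFam : ULift.{v} ℕ → CochainComplex A ℤ := fun j => R j.down

/-- the degree `i` part of `Φ`, summed up to `M` -/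
noncomputable def φsum (i : ℤ) (M : ℕ) : P.X i ⟶ (sigmaCx (liftFam R)).X i :=
  ∑ m ∈ Finset.range M, (q m).f i ≫ (sigmaCxι (liftFam R) ⟨m⟩).f i

include hN in
lemma φsum_eq (i : ℤ) (M : ℕ) (hM : N i ≤ M) : φsum P R q i M = φsum P R q i (N i) := by
  symm
  apply Finset.sum_subset (Finset.range_mono hM)
  intro m _ hm
  rw [Finset.mem_range, not_lt] at hm
  rw [(hN i m hm).eq_of_tgt ((q m).f i) 0, zero_comp]

/-- the map to the termwise coproduct of a degreewise eventually vanishing family -/
noncomputable def Φ : P ⟶ sigmaCx (liftFam R) where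
  f i := φsum P R q i (N i)
  comm' i j _ := by
    rw [← φsum_eq P R q N hN i (max (N i) (N j)) (le_max_left _ _),
      ← φsum_eq P R q N hN j (max (N i) (N j)) (le_max_right _ _)]
    simp only [φsum, Preadditive.sum_comp, Preadditive.comp_sum, Category.assoc]
    apply Finset.sum_congr rfl
    intro m _
    rw [(sigmaCxι (liftFam R) ⟨m⟩).comm i j, ← Category.assoc, (q m).comm i j, Category.assoc]

lemma Φ_proj (m : ℕ) : Φ P R q N hN ≫ proj (liftFam R) ⟨m⟩ = q m := by
  classical
  ext i
  change φsum P R q i (N i) ≫ (proj (liftFam R) ⟨m⟩).f i = (q m).f i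
  simp only [φsum, Preadditive.sum_comp, Category.assoc]
  have key : ∀ m' : ℕ, (sigmaCxι (liftFam R) ⟨m'⟩).f i ≫ (proj (liftFam R) ⟨m⟩).f i =
      (sigmaCxι (liftFam R) ⟨m'⟩ ≫ proj (liftFam R) ⟨m⟩).f i := fun m' => rfl
  by_cases hm : m < N i
  · rw [Finset.sum_eq_single m]
    · rw [key, ι_proj_self]
      exact Category.comp_id _
    · intro m' _ hm'
      have : (⟨m'⟩ : ULift.{v} ℕ) ≠ ⟨m⟩ := fun h => hm' (congrArg ULift.down h)
      rw [key, ι_proj_ne _ this]
      exact comp_zero
    · intro h
      exact absurd (Finset.mem_range.2 hm) h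
  · rw [not_lt] at hm
    rw [(hN i m hm).eq_of_tgt ((q m).f i) 0]
    apply Finset.sum_eq_zero
    intro m' hm'
    have : (⟨m'⟩ : ULift.{v} ℕ) ≠ ⟨m⟩ := by
      intro h
      have h1 : m' = m := congrArg ULift.down h
      rw [Finset.mem_range] at hm'
      omega
    rw [key, ι_proj_ne _ this]
    exact comp_zero

end Phi

section Main

open DerivedCategory

variable {A : Type u} [Category.{v} A] [Abelian A] [EnoughInjectives A]
  [HasCoproductsOfShape (ULift.{v} ℕ) A] [HasDerivedCategory.{v} A]
  [HasCoproducts.{v} (DerivedCategory A)]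

/-- a map from a compact object to a complex `P` vanishes on all but finitely many members of a
degreewise eventually vanishing family of targets -/
theorem eventually_zero (P : CochainComplex A ℤ) (R : ℕ → CochainComplex A ℤ) (q : ∀ m, P ⟶ R m)
    (hR : ∀ i : ℤ, ∃ N : ℕ, ∀ m : ℕ, N ≤ m → IsZero ((R m).X i))
    {K : DerivedCategory A} (hK : CohDer.IsCompactObject K) (f : K ⟶ Q.obj P) :
    ∃ N : ℕ, ∀ m : ℕ, N ≤ m → f ≫ Q.map (q m) = 0 := by
  classical
  choose N hN using hR
  obtain ⟨F, g, -, hg⟩ := finSum_of_isColimit hK _ (cofanQ (liftFam.{v} R))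
    (isColimitCofanQ (liftFam.{v} R)) (f ≫ Q.map (Φ P R q N hN))
  refine ⟨(F.image ULift.down).sup id + 1, fun m hm => ?_⟩
  rw [← Φ_proj P R q N hN m, Functor.map_comp, ← Category.assoc, hg, Preadditive.sum_comp]
  apply Finset.sum_eq_zero
  intro j hj
  have hne : j ≠ ⟨m⟩ := by
    intro h
    have h1 : j.down ≤ (F.image ULift.down).sup id :=
      Finset.le_sup (f := id) (Finset.mem_image_of_mem ULift.down hj)
    rw [h] at h1
    change m ≤ _ at h1
    omega
  rw [Category.assoc]
  change g j ≫ Q.map (sigmaCxι (liftFam R) j) ≫ Q.map (proj (liftFam R) ⟨m⟩) = 0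
  rw [← Functor.map_comp, ι_proj_ne _ hne, Functor.map_zero, comp_zero]

end Main

section SigmaSingle

open HomologicalComplex

variable {A : Type u} [Category.{v} A] [Abelian A] [EnoughInjectives A] {I : Type w}
  [HasCoproductsOfShape I A] (E : I → A) (c : ℤ)

/-- the family of single complexes -/
noncomputable abbrev singleFam : I → CochainComplex A ℤ :=
  fun i => (single A (ComplexShape.up ℤ) c).obj (E i)

/-- the comparison from the coproduct of single complexes to the single complex of the coproduct -/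
noncomputable def θ : sigmaCx (singleFam E c) ⟶ (single A (ComplexShape.up ℤ) c).obj (∐ E) :=
  sigmaCxDesc _ (fun i => (single A (ComplexShape.up ℤ) c).map (Sigma.ι E i))

lemma ι_θ (i : I) : sigmaCxι (singleFam E c) i ≫ θ E c =
    (single A (ComplexShape.up ℤ) c).map (Sigma.ι E i) :=
  sigmaCxι_desc _ _ _

lemma isZero_sigma_of_isZero {X : I → A} (h : ∀ i, IsZero (X i)) : IsZero (∐ X) := by
  rw [IsZero.iff_id_eq_zero]
  apply Sigma.hom_ext
  intro i
  exact (h i).eq_of_src _ _

instance isIso_θ : IsIso (θ E c) := by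
  have : ∀ n : ℤ, IsIso ((θ E c).f n) := by
    intro n
    by_cases hn : n = c
    · subst hn
      let e : (sigmaCx (singleFam E n)).X n ≅ ((single A (ComplexShape.up ℤ) n).obj (∐ E)).X n :=
        Sigma.mapIso (fun i => singleObjXSelf (ComplexShape.up ℤ) n (E i)) ≪≫
          (singleObjXSelf (ComplexShape.up ℤ) n (∐ E)).symm
      have : (θ E n).f n = e.hom := by
        apply Sigma.hom_ext
        intro i
        have h1 : Sigma.ι (fun i => ((singleFam E n) i).X n) i ≫ (θ E n).f n =
            (sigmaCxι (singleFam E n) i ≫ θ E n).f n := rfl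
        rw [h1, ι_θ, single_map_f_self]
        change _ = Sigma.ι (fun j => (singleFam E n j).X n) i ≫
          (Sigma.mapIso fun i => singleObjXSelf (ComplexShape.up ℤ) n (E i)).hom ≫
            (singleObjXSelf (ComplexShape.up ℤ) n (∐ E)).inv
        rw [Sigma.ι_mapIso_hom_assoc]
      rw [this]
      infer_instance
    · have h1 : IsZero ((sigmaCx (singleFam E c)).X n) :=
        isZero_sigma_of_isZero (fun i => isZero_single_obj_X (ComplexShape.up ℤ) c (E i) n hn)
      have h2 : IsZero (((single A (ComplexShape.up ℤ) c).obj (∐ E)).X n) :=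
        isZero_single_obj_X (ComplexShape.up ℤ) c _ n hn
      exact ⟨0, h1.eq_of_src _ _, h2.eq_of_src _ _⟩
  exact Hom.isIso_of_components _

end SigmaSingle

section CompactSingle

open HomologicalComplex DerivedCategory Helper89.FinSums

variable {A : Type u} [Category.{v} A] [Abelian A] [EnoughInjectives A] [HasCoproducts.{v} A]
  [HasDerivedCategory.{v} A] [HasCoproducts.{v} (DerivedCategory A)] {I : Type v} (E : I → A)
  (c : ℤ)

/-- a map from a compact object to the single complex of a coproduct factors through a finite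
sub-coproduct -/
theorem compact_single_factor {K : DerivedCategory A} (hK : CohDer.IsCompactObject K)
    (h : K ⟶ Q.obj ((single A (ComplexShape.up ℤ) c).obj (∐ E))) :
    ∃ J : Finset I,
      h ≫ Q.map ((single A (ComplexShape.up ℤ) c).map (retr E J ≫ incl E J)) = h := by
  classical
  obtain ⟨F, g, -, hg⟩ := finSum_of_isColimit hK _ (cofanQ (singleFam E c))
    (isColimitCofanQ (singleFam E c)) (h ≫ inv (Q.map (θ E c)))
  have h' : h = ∑ i ∈ F, g i ≫ Q.map ((single A (ComplexShape.up ℤ) c).map (Sigma.ι E i)) := by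
    have h1 : h = (h ≫ inv (Q.map (θ E c))) ≫ Q.map (θ E c) := by
      rw [Category.assoc, IsIso.inv_hom_id, Category.comp_id]
    rw [h1, hg, Preadditive.sum_comp]
    apply Finset.sum_congr rfl
    intro i _
    rw [Category.assoc]
    change g i ≫ Q.map (sigmaCxι (singleFam E c) i) ≫ Q.map (θ E c) = _
    rw [← Functor.map_comp, ι_θ]
  refine ⟨F, ?_⟩
  have key : ∀ i ∈ F, (g i ≫ Q.map ((single A (ComplexShape.up ℤ) c).map (Sigma.ι E i))) ≫
      Q.map ((single A (ComplexShape.up ℤ) c).map (retr E F ≫ incl E F)) =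
      g i ≫ Q.map ((single A (ComplexShape.up ℤ) c).map (Sigma.ι E i)) := by
    intro i hi
    rw [Category.assoc, ← Functor.map_comp, ← Functor.map_comp, ι_retr_of_mem_assoc E F i hi,
      ι_incl]
  calc h ≫ Q.map ((single A (ComplexShape.up ℤ) c).map (retr E F ≫ incl E F))
      = (∑ i ∈ F, g i ≫ Q.map ((single A (ComplexShape.up ℤ) c).map (Sigma.ι E i))) ≫
        Q.map ((single A (ComplexShape.up ℤ) c).map (retr E F ≫ incl E F)) := by rw [← h']
    _ = ∑ i ∈ F, g i ≫ Q.map ((single A (ComplexShape.up ℤ) c).map (Sigma.ι E i)) := by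
        rw [Preadditive.sum_comp]
        exact Finset.sum_congr rfl key
    _ = h := h'.symm

end CompactSingle

end Helper89.ProductTrick
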