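import Mathlib

set_option autoImplicit false
set_option linter.unusedSectionVars false
universe v u
open CategoryTheory CategoryTheory.Limits HomologicalComplex

namespace Helper89.TopCell

variable {A : Type u} [Category.{v} A] [Abelian A]

section EitherOr

variable (S : ShortComplex (CochainComplex A ℤ)) (hS : S.ShortExact)

include hS in
lemma shortExact_eval (n : ℤ) : (S.map (eval A (ComplexShape.up ℤ) n)).ShortExact :=
  hS.map_of_exact _

include hS in
lemma isIso_g_f (n : ℤ) (h : IsZero (S.X₁.X n)) : IsIso (S.g.f n) :=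
  (shortExact_eval S hS n).isIso_g_iff.2 h

include hS in
lemma isIso_f_f (n : ℤ) (h : IsZero (S.X₃.X n)) : IsIso (S.f.f n) :=
  (shortExact_eval S hS n).isIso_f_iff.2 h

include hS in
lemma isZero_X₁_of_isIso (n : ℤ) (h : IsIso (S.g.f n)) : IsZero (S.X₁.X n) :=
  (shortExact_eval S hS n).isIso_g_iff.1 h

include hS in
lemma isZero_X₃_of_isIso (n : ℤ) (h : IsIso (S.f.f n)) : IsZero (S.X₃.X n) :=
  (shortExact_eval S hS n).isIso_f_iff.1 h

open Classical in
/-- the degreewise splitting of a short exact sequence of complexes in which, degreewise, one of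
the outer terms vanishes -/
noncomputable def splitting (h : ∀ n : ℤ, IsZero (S.X₁.X n) ∨ IsZero (S.X₃.X n)) (n : ℤ) :
    (S.map (eval A (ComplexShape.up ℤ) n)).Splitting :=
  if h1 : IsZero (S.X₁.X n) then
    ShortComplex.Splitting.ofIsZeroOfIsIso _ h1 (isIso_g_f S hS n h1)
  else
    ShortComplex.Splitting.ofIsIsoOfIsZero _ (isIso_f_f S hS n ((h n).resolve_left h1))
      ((h n).resolve_left h1)

/-- the attaching map -/
noncomputable def attach (h : ∀ n : ℤ, IsZero (S.X₁.X n) ∨ IsZero (S.X₃.X n)) :
    S.X₃ ⟶ S.X₁⟦(1 : ℤ)⟧ :=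
  CochainComplex.homOfDegreewiseSplit S (splitting S hS h)

/-- the middle term, shifted, is the cone of the attaching map -/
noncomputable def coneIso (h : ∀ n : ℤ, IsZero (S.X₁.X n) ∨ IsZero (S.X₃.X n)) :
    CochainComplex.mappingCone (attach S hS h) ≅ S.X₂⟦(1 : ℤ)⟧ :=
  CochainComplex.mappingConeHomOfDegreewiseSplitIso S (splitting S hS h)

end EitherOr

section Top

variable (P : CochainComplex A ℤ) (b : ℤ) [P.IsStrictlyLE b]

/-- the inclusion of the top cell -/
noncomputable def topι : (single A (ComplexShape.up ℤ) b).obj (P.X b) ⟶ P :=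
  mkHomFromSingle (𝟙 _) (fun k hk => by
    have : b + 1 = k := hk
    exact (P.isZero_of_isStrictlyLE b k (by omega)).eq_of_tgt _ _)

lemma isIso_topι_f : IsIso ((topι P b).f b) := by
  rw [topι, mkHomFromSingle_f]
  infer_instance

instance : Mono (topι P b) := by
  apply mono_of_mono_f
  intro i
  by_cases hi : i = b
  · subst hi
    haveI := isIso_topι_f P i
    infer_instance
  · exact ⟨fun _ _ _ => (isZero_single_obj_X _ b (P.X b) i hi).eq_of_tgt _ _⟩

/-- the complex with the top cell removed -/
noncomputable abbrev rest : CochainComplex A ℤ := cokernel (topι P b)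

/-- the projection -/
noncomputable abbrev restπ : P ⟶ rest P b := cokernel.π (topι P b)

/-- the short exact sequence `top cell → P → rest` -/
noncomputable abbrev topSC : ShortComplex (CochainComplex A ℤ) :=
  ShortComplex.mk (topι P b) (restπ P b) (cokernel.condition _)

lemma topSC_shortExact : (topSC P b).ShortExact :=
  ShortComplex.ShortExact.mk (ShortComplex.exact_cokernel _)

lemma isZero_rest_X (i : ℤ) (hi : b ≤ i) : IsZero ((rest P b).X i) := by
  by_cases h : i = b
  · subst h
    exact isZero_X₃_of_isIso (topSC P i) (topSC_shortExact P i) i (isIso_topι_f P i)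
  · have h1 : IsZero (P.X i) := P.isZero_of_isStrictlyLE b i (by omega)
    have := (shortExact_eval _ (topSC_shortExact P b) i).epi_g
    exact IsZero.of_epi ((restπ P b).f i) h1

lemma eitherOr (n : ℤ) : IsZero ((topSC P b).X₁.X n) ∨ IsZero ((topSC P b).X₃.X n) := by
  by_cases h : n = b
  · exact Or.inr (isZero_rest_X P b n (by omega))
  · exact Or.inl (isZero_single_obj_X _ b (P.X b) n h)

lemma isIso_restπ_f (i : ℤ) (hi : i ≠ b) : IsIso ((restπ P b).f i) :=
  isIso_g_f (topSC P b) (topSC_shortExact P b) i (isZero_single_obj_X _ b (P.X b) i hi)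

/-- the terms of `rest` -/
noncomputable def restXIso (i : ℤ) (hi : i ≠ b) : P.X i ≅ (rest P b).X i :=
  haveI := isIso_restπ_f P b i hi
  asIso ((restπ P b).f i)

lemma rest_isStrictlyLE : (rest P b).IsStrictlyLE (b - 1) := by
  rw [CochainComplex.isStrictlyLE_iff]
  intro i hi
  exact isZero_rest_X P b i (by omega)

lemma rest_isStrictlyGE (a : ℤ) [P.IsStrictlyGE a] : (rest P b).IsStrictlyGE a := by
  rw [CochainComplex.isStrictlyGE_iff]
  intro i hi
  by_cases h : i = b
  · exact isZero_rest_X P b i (by omega)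
  · exact IsZero.of_iso (P.isZero_of_isStrictlyGE a i hi) (restXIso P b i h).symm

/-- the attaching map of the top cell -/
noncomputable def topAttach :
    rest P b ⟶ ((single A (ComplexShape.up ℤ) b).obj (P.X b))⟦(1 : ℤ)⟧ :=
  attach (topSC P b) (topSC_shortExact P b) (eitherOr P b)

/-- `P⟦1⟧` is the cone of the attaching map of the top cell -/
noncomputable def topConeIso : CochainComplex.mappingCone (topAttach P b) ≅ P⟦(1 : ℤ)⟧ :=
  coneIso (topSC P b) (topSC_shortExact P b) (eitherOr P b)

end Top

section Bottom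

variable (P : CochainComplex A ℤ) (c : ℤ)

/-- the quotient complex `σ_{≤ c} P` -/
noncomputable abbrev quot : CochainComplex A ℤ :=
  (P.restriction (ComplexShape.embeddingUpIntLE c)).extend (ComplexShape.embeddingUpIntLE c)

lemma hasLift_quot : (ComplexShape.embeddingUpIntLE c).HasLift
    (𝟙 (P.restriction (ComplexShape.embeddingUpIntLE c))) :=
  fun _ hj => hj.false_of_isTruncLE.elim

/-- the projection onto `σ_{≤ c} P` -/
noncomputable def quotπ : P ⟶ quot P c :=
  (ComplexShape.embeddingUpIntLE c).liftExtend (𝟙 (P.restriction (ComplexShape.embeddingUpIntLE c)))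
    (hasLift_quot P c)

lemma isZero_quot_X (i : ℤ) (hi : c < i) : IsZero ((quot P c).X i) :=
  isZero_extend_X _ _ i ((ComplexShape.notMem_range_embeddingUpIntLE_iff c i).2 hi)

lemma isIso_quotπ_f (i : ℤ) (hi : i ≤ c) : IsIso ((quotπ P c).f i) := by
  have h : (ComplexShape.embeddingUpIntLE c).f (c - i).toNat = i := by
    change c - ((c - i).toNat : ℤ) = i
    omega
  unfold quotπ
  rw [(ComplexShape.embeddingUpIntLE c).isIso_liftExtend_f_iff _ _ h]
  infer_instance

instance : Epi (quotπ P c) := by
  apply epi_of_epi_f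
  intro i
  by_cases hi : i ≤ c
  · have := isIso_quotπ_f P c i hi
    infer_instance
  · exact ⟨fun _ _ _ => (isZero_quot_X P c i (by omega)).eq_of_src _ _⟩

/-- the sub-complex `σ_{> c} P` -/
noncomputable abbrev sub : CochainComplex A ℤ := kernel (quotπ P c)

/-- the inclusion of `σ_{> c} P` -/
noncomputable abbrev subι : sub P c ⟶ P := kernel.ι (quotπ P c)

/-- the short exact sequence `σ_{> c} P → P → σ_{≤ c} P` -/
noncomputable abbrev botSC : ShortComplex (CochainComplex A ℤ) :=
  ShortComplex.mk (subι P c) (quotπ P c) (kernel.condition _)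

lemma botSC_shortExact : (botSC P c).ShortExact :=
  ShortComplex.ShortExact.mk (ShortComplex.exact_kernel _)

lemma isZero_sub_X (i : ℤ) (hi : i ≤ c) : IsZero ((sub P c).X i) :=
  isZero_X₁_of_isIso (botSC P c) (botSC_shortExact P c) i (isIso_quotπ_f P c i hi)

lemma isIso_subι_f (i : ℤ) (hi : c < i) : IsIso ((subι P c).f i) :=
  isIso_f_f (botSC P c) (botSC_shortExact P c) i (isZero_quot_X P c i hi)

/-- the terms of `σ_{> c} P` -/
noncomputable def subXIso (i : ℤ) (hi : c < i) : (sub P c).X i ≅ P.X i :=
  haveI := isIso_subι_f P c i hi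
  asIso ((subι P c).f i)

lemma sub_isStrictlyGE : (sub P c).IsStrictlyGE (c + 1) := by
  rw [CochainComplex.isStrictlyGE_iff]
  intro i hi
  exact isZero_sub_X P c i (by omega)

lemma sub_isStrictlyLE (b : ℤ) [P.IsStrictlyLE b] : (sub P c).IsStrictlyLE b := by
  rw [CochainComplex.isStrictlyLE_iff]
  intro i hi
  by_cases h : i ≤ c
  · exact isZero_sub_X P c i h
  · exact IsZero.of_iso (P.isZero_of_isStrictlyLE b i hi) (subXIso P c i (by omega))

end Bottom

end Helper89.TopCell
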