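import Mathlib
import Groth.Prelude.Def_CohDer
import Groth.Agent.Lib.Helper40.Compact
import Groth.Agent.Lib.Helper89.FinSums
import Groth.Agent.Lib.Helper89.ProductTrick
import Groth.Agent.Lib.Helper89.TopCell

set_option autoImplicit false
set_option linter.unusedSectionVars false
universe v u
open CategoryTheory CategoryTheory.Limits HomologicalComplex Opposite
open Groth.Agent.Lib.Helper40.Cpt

namespace Helper89.ConeDev

open Helper89.FinSums Helper89.ProductTrick DerivedCategory CochainComplex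

section Defs

variable {A : Type u} [Category.{v} A] [Abelian A] (S : Set A)

/-- bounded complexes whose terms are finite coproducts of members of `S` -/
def FinType (L : CochainComplex A ℤ) : Prop :=
  (∃ a b : ℤ, ∀ i : ℤ, i < a ∨ b < i → IsZero (L.X i)) ∧ ∀ i : ℤ, FS S (L.X i)

variable {S}

lemma FinType.of_isZero {L : CochainComplex A ℤ} (h : ∀ i, IsZero (L.X i)) : FinType S L :=
  ⟨⟨0, 0, fun i _ => h i⟩, fun i => FS.zero (h i)⟩

lemma finType_cone {L Y : CochainComplex A ℤ} (hL : FinType S L) (hY : FinType S Y) (w : L ⟶ Y) :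
    FinType S (mappingCone w) := by
  obtain ⟨⟨a, b, hab⟩, hL2⟩ := hL
  obtain ⟨⟨a', b', hab'⟩, hY2⟩ := hY
  have e : ∀ i : ℤ, (mappingCone w).X i ≅ L.X (i + 1) ⊞ Y.X i := fun i =>
    homotopyCofiber.XIsoBiprod w i (i + 1) rfl
  refine ⟨⟨min (a - 1) a', max (b - 1) b', fun i hi => ?_⟩, fun i => ?_⟩
  · refine IsZero.of_iso ?_ (e i)
    have h1 : IsZero (L.X (i + 1)) := hab _ (by omega)
    have h2 : IsZero (Y.X i) := hab' _ (by omega)
    rw [IsZero.iff_id_eq_zero]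
    apply biprod.hom_ext
    · exact h1.eq_of_tgt _ _
    · exact h2.eq_of_tgt _ _
  · exact ((hL2 (i + 1)).biprod (hY2 i)).of_iso (e i).symm

lemma finType_single [HasCoproducts.{v} A] {I : Type v} (E : I → A) (hE : ∀ i, E i ∈ S)
    (J : Finset I) (c : ℤ) :
    FinType S ((single A (ComplexShape.up ℤ) c).obj (sub E J)) := by
  refine ⟨⟨c, c, fun i hi => isZero_single_obj_X _ c _ i (by omega)⟩, fun i => ?_⟩
  by_cases hi : i = c
  · subst hi
    exact (FS.sub E hE J).of_iso (singleObjXSelf (ComplexShape.up ℤ) i _).symm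
  · exact FS.zero (isZero_single_obj_X _ c _ i hi)

end Defs

section Single

variable {A : Type u} [Category.{v} A] [Abelian A] [HasCoproducts.{v} A] {S : Set A}
  {I : Type v} (E : I → A) (c : ℤ)

/-- the top cell -/
noncomputable abbrev cell : CochainComplex A ℤ := (single A (ComplexShape.up ℤ) c).obj (∐ E)

/-- a finite part of the top cell -/
noncomputable abbrev cellJ (J : Finset I) : CochainComplex A ℤ :=
  (single A (ComplexShape.up ℤ) c).obj (sub E J)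

/-- inclusion of a finite part -/
noncomputable abbrev ιY (J : Finset I) : cellJ E c J ⟶ cell E c :=
  (single A (ComplexShape.up ℤ) c).map (incl E J)

/-- retraction onto a finite part -/
noncomputable abbrev rY (J : Finset I) : cell E c ⟶ cellJ E c J :=
  (single A (ComplexShape.up ℤ) c).map (retr E J)

/-- transition between finite parts -/
noncomputable abbrev tY {J J' : Finset I} (h : J ⊆ J') : cellJ E c J ⟶ cellJ E c J' :=
  (single A (ComplexShape.up ℤ) c).map (trans E h)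

lemma ιY_rY (J : Finset I) : ιY E c J ≫ rY E c J = 𝟙 _ := by
  rw [← Functor.map_comp, incl_retr, CategoryTheory.Functor.map_id]

lemma tY_ιY {J J' : Finset I} (h : J ⊆ J') : tY E c h ≫ ιY E c J' = ιY E c J := by
  rw [← Functor.map_comp, trans_incl]

lemma rY_ιY (J : Finset I) : rY E c J ≫ ιY E c J =
    (single A (ComplexShape.up ℤ) c).map (retr E J ≫ incl E J) := by
  rw [← Functor.map_comp]

/-- chain maps from a finite type complex to the top cell factor through a finite part -/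
lemma factor_single
    (h2 : ∀ E ∈ S, ∀ ι : Type v,
      PreservesColimitsOfShape (Discrete ι) (preadditiveCoyoneda.obj (op E)))
    {L : CochainComplex A ℤ} (hL : FinType S L) (v : L ⟶ cell E c) :
    ∃ J : Finset I, v ≫ rY E c J ≫ ιY E c J = v := by
  obtain ⟨J, hJ⟩ := (hL.2 c).factor h2 E (v.f c ≫ (singleObjXSelf (ComplexShape.up ℤ) c _).hom)
  refine ⟨J, ?_⟩
  apply to_single_hom_ext
  rw [rY_ιY, comp_f, single_map_f_self, ← Category.assoc, ← Category.assoc,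
    hJ, Category.assoc, Iso.hom_inv_id, Category.comp_id]

end Single

section Phi

variable {A : Type u} [Category.{v} A] [Abelian A] [HasDerivedCategory.{v} A]

/-- the bijection `Hom(K⟦-1⟧, Q Z) ≃ Hom(K, Q (Z⟦1⟧))` -/
noncomputable def Φ {K : DerivedCategory A} (Z : CochainComplex A ℤ)
    (g : K⟦(-1 : ℤ)⟧ ⟶ Q.obj Z) : K ⟶ Q.obj (Z⟦(1 : ℤ)⟧) :=
  (shiftFunctorCompIsoId (DerivedCategory A) (-1 : ℤ) 1 (by omega)).inv.app K ≫ g⟦(1 : ℤ)⟧' ≫
    (Q.commShiftIso (1 : ℤ)).inv.app Z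

lemma Φ_surj {K : DerivedCategory A} (Z : CochainComplex A ℤ) (f : K ⟶ Q.obj (Z⟦(1 : ℤ)⟧)) :
    ∃ g : K⟦(-1 : ℤ)⟧ ⟶ Q.obj Z, Φ Z g = f := by
  refine ⟨(CategoryTheory.shiftFunctor (DerivedCategory A) (1 : ℤ)).preimage
    ((shiftFunctorCompIsoId (DerivedCategory A) (-1 : ℤ) 1 (by omega)).hom.app K ≫ f ≫
      (Q.commShiftIso (1 : ℤ)).hom.app Z), ?_⟩
  rw [Φ, Functor.map_preimage]
  simp

lemma Φ_naturality {K : DerivedCategory A} {Z Z' : CochainComplex A ℤ} (u : Z ⟶ Z')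
    (g : K⟦(-1 : ℤ)⟧ ⟶ Q.obj Z) : Φ Z g ≫ Q.map (u⟦(1 : ℤ)⟧') = Φ Z' (g ≫ Q.map u) := by
  have h := (Q.commShiftIso (1 : ℤ)).inv.naturality u
  dsimp at h
  simp only [Φ, Category.assoc, Functor.map_comp]
  rw [h]

end Phi

section Dev

open CategoryTheory.Pretriangulated

variable {A : Type u} [Category.{v} A] [Abelian A] [EnoughInjectives A] [HasCoproducts.{v} A]
  [HasDerivedCategory.{v} A] [HasCoproducts.{v} (DerivedCategory A)] (S : Set A)

/-- the factorization property: maps from compact objects factor through finite type complexes -/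
def Fact (X : CochainComplex A ℤ) : Prop :=
  ∀ (K : DerivedCategory A), CohDer.IsCompactObject K → ∀ f : K ⟶ Q.obj X,
    ∃ (L : CochainComplex A ℤ) (u : L ⟶ X) (g : K ⟶ Q.obj L), FinType S L ∧ g ≫ Q.map u = f

variable {S}

lemma Fact.of_iso {X X' : CochainComplex A ℤ} (h : Fact S X) (e : X ≅ X') : Fact S X' := by
  intro K hK f
  obtain ⟨L, u, g, hL, hg⟩ := h K hK (f ≫ Q.map e.inv)
  refine ⟨L, u ≫ e.hom, g, hL, ?_⟩
  rw [Functor.map_comp, ← Category.assoc, hg, Category.assoc, ← Functor.map_comp, e.inv_hom_id,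
    CategoryTheory.Functor.map_id, Category.comp_id]

lemma Fact.of_isZero {X : CochainComplex A ℤ} (h : ∀ i, IsZero (X.X i)) : Fact S X := by
  intro K hK f
  exact ⟨X, 𝟙 X, f, FinType.of_isZero h, by simp⟩

lemma map_congr' {K₁ L₁ K₂ L₂ : CochainComplex A ℤ} (φ₁ : K₁ ⟶ L₁) (φ₂ : K₂ ⟶ L₂)
    {a a' : K₁ ⟶ K₂} {b b' : L₁ ⟶ L₂} (ha : a = a') (hb : b = b') (comm : φ₁ ≫ b = a ≫ φ₂)
    (comm' : φ₁ ≫ b' = a' ≫ φ₂) :
    mappingCone.map φ₁ φ₂ a b comm = mappingCone.map φ₁ φ₂ a' b' comm' := by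
  subst ha hb
  rfl

lemma commShift_nat {Z Z' : CochainComplex A ℤ} (u : Z ⟶ Z') :
    Q.map (u⟦(1 : ℤ)⟧') ≫ (Q.commShiftIso (1 : ℤ)).hom.app Z' =
      (Q.commShiftIso (1 : ℤ)).hom.app Z ≫ (Q.map u)⟦(1 : ℤ)⟧' :=
  (Q.commShiftIso (1 : ℤ)).hom.naturality u

/-- the connecting map of the mapping cone -/
noncomputable def δc {X Y : CochainComplex A ℤ} (w : X ⟶ Y) : mappingCone w ⟶ X⟦(1 : ℤ)⟧ :=
  (mappingCone.triangle w).mor₃

lemma T_dist {X Y : CochainComplex A ℤ} (w : X ⟶ Y) :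
    Triangle.mk (Q.map w) (Q.map (mappingCone.inr w))
      (Q.map (δc w) ≫ (Q.commShiftIso (1 : ℤ)).hom.app X) ∈ distTriang (DerivedCategory A) :=
  mappingCone_triangle_distinguished w

lemma map_δc {X Y X' Y' : CochainComplex A ℤ} (w₁ : X ⟶ Y) (w : X' ⟶ Y') (u : X ⟶ X')
    (ι : Y ⟶ Y') (comm : w₁ ≫ ι = u ≫ w) :
    mappingCone.map w₁ w u ι comm ≫ δc w = δc w₁ ≫ u⟦(1 : ℤ)⟧' :=
  ((mappingCone.triangleMap w₁ w u ι comm).comm₃).symm

lemma inr_map {X Y X' Y' : CochainComplex A ℤ} (w₁ : X ⟶ Y) (w : X' ⟶ Y') (u : X ⟶ X')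
    (ι : Y ⟶ Y') (comm : w₁ ≫ ι = u ≫ w) :
    mappingCone.inr w₁ ≫ mappingCone.map w₁ w u ι comm = ι ≫ mappingCone.inr w :=
  (mappingCone.triangleMap w₁ w u ι comm).comm₂

omit [Abelian A] [EnoughInjectives A] [HasCoproducts.{v} A] [HasDerivedCategory.{v} A]
  [HasCoproducts.{v} (DerivedCategory A)] in
/-- the abstract diagram chase -/
lemma chase {D : Type*} [Category D] [Preadditive D] [HasZeroObject D] [HasShift D ℤ]
    [∀ n : ℤ, (CategoryTheory.shiftFunctor D n).Additive] [Pretriangulated D]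
    {X Y C L₁ Y₁ C₁ K : D} (a : X ⟶ Y) (b : Y ⟶ C) (d : C ⟶ X⟦(1 : ℤ)⟧)
    (hT : Triangle.mk a b d ∈ distTriang D)
    (a₁ : L₁ ⟶ Y₁) (b₁ : Y₁ ⟶ C₁) (d₁ : C₁ ⟶ L₁⟦(1 : ℤ)⟧)
    (hT₁ : Triangle.mk a₁ b₁ d₁ ∈ distTriang D)
    (u : L₁ ⟶ X) (ι : Y₁ ⟶ Y) (r : Y ⟶ Y₁) (m : C₁ ⟶ C) (hr : ι ≫ r = 𝟙 _)
    (c₁ : a₁ ≫ ι = u ≫ a) (c₃ : m ≫ d = d₁ ≫ u⟦(1 : ℤ)⟧')
    (f : K ⟶ C) (g : K ⟶ L₁⟦(1 : ℤ)⟧) (hg : g ≫ u⟦(1 : ℤ)⟧' = f ≫ d) :
    ∃ (g₂ : K ⟶ C₁) (h : K ⟶ Y), f = g₂ ≫ m + h ≫ b := by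
  have hda : d ≫ a⟦(1 : ℤ)⟧' = 0 := comp_distTriang_mor_zero₃₁ _ hT
  have h0 : g ≫ a₁⟦(1 : ℤ)⟧' = 0 := by
    have h1 : g ≫ a₁⟦(1 : ℤ)⟧' = (g ≫ a₁⟦(1 : ℤ)⟧' ≫ ι⟦(1 : ℤ)⟧') ≫ r⟦(1 : ℤ)⟧' := by
      rw [Category.assoc, Category.assoc, ← Functor.map_comp, hr, CategoryTheory.Functor.map_id,
        Category.comp_id]
    have h3 : g ≫ a₁⟦(1 : ℤ)⟧' ≫ ι⟦(1 : ℤ)⟧' = 0 := by
      rw [← Functor.map_comp, c₁, Functor.map_comp, ← Category.assoc, hg, Category.assoc, hda,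
        comp_zero]
    rw [h1, h3, zero_comp]
  obtain ⟨g₂, hg₂⟩ : ∃ g₂ : K ⟶ C₁, g = g₂ ≫ d₁ := Triangle.coyoneda_exact₁ _ hT₁ g h0
  have h1 : (f - g₂ ≫ m) ≫ d = 0 := by
    rw [Preadditive.sub_comp, Category.assoc, c₃, ← Category.assoc, ← hg₂, hg, sub_self]
  obtain ⟨h, hh⟩ : ∃ h : K ⟶ Y, f - g₂ ≫ m = h ≫ b := Triangle.coyoneda_exact₃ _ hT _ h1
  exact ⟨g₂, h, by rw [← hh]; abel⟩

/-- the dévissage step: attaching a cell preserves the factorization property -/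
theorem fact_cone
    (h2 : ∀ E ∈ S, ∀ ι : Type v,
      PreservesColimitsOfShape (Discrete ι) (preadditiveCoyoneda.obj (op E)))
    {X : CochainComplex A ℤ} (hX : Fact S X) {I : Type v} (E : I → A)
    (hE : ∀ i, E i ∈ S) (c : ℤ) (w : X ⟶ cell E c) : Fact S (mappingCone w) := by
  classical
  intro K hK f
  obtain ⟨f', hf'⟩ := Φ_surj X (f ≫ Q.map (δc w))
  obtain ⟨L₁, u₁, g', hL₁, hg'⟩ := hX (K⟦(-1 : ℤ)⟧) (isCompact_shift hK (-1)) f'
  obtain ⟨J, hJ⟩ := factor_single E c h2 hL₁ (u₁ ≫ w)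
  let w₁ : L₁ ⟶ cellJ E c J := (u₁ ≫ w) ≫ rY E c J
  have comm : w₁ ≫ ιY E c J = u₁ ≫ w := by
    rw [Category.assoc]
    exact hJ
  let m : mappingCone w₁ ⟶ mappingCone w := mappingCone.map w₁ w u₁ (ιY E c J) comm
  let g₁ : K ⟶ Q.obj (L₁⟦(1 : ℤ)⟧) := Φ L₁ g'
  have hg₁ : g₁ ≫ Q.map (u₁⟦(1 : ℤ)⟧') = f ≫ Q.map (δc w) := by
    rw [Φ_naturality, hg', hf']
  obtain ⟨g₂, h, hfgh⟩ := chase (Q.map w) (Q.map (mappingCone.inr w))
    (Q.map (δc w) ≫ (Q.commShiftIso (1 : ℤ)).hom.app X) (T_dist w)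
    (Q.map w₁) (Q.map (mappingCone.inr w₁))
    (Q.map (δc w₁) ≫ (Q.commShiftIso (1 : ℤ)).hom.app L₁) (T_dist w₁)
    (Q.map u₁) (Q.map (ιY E c J)) (Q.map (rY E c J)) (Q.map m)
    (by rw [← Functor.map_comp, ιY_rY, CategoryTheory.Functor.map_id])
    (by rw [← Functor.map_comp, ← Functor.map_comp, comm])
    (by rw [← Functor.map_comp_assoc, map_δc, Functor.map_comp, Category.assoc, commShift_nat,
      Category.assoc])
    f (g₁ ≫ (Q.commShiftIso (1 : ℤ)).hom.app L₁)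
    (by rw [Category.assoc, ← commShift_nat, ← Category.assoc, hg₁, Category.assoc])
  obtain ⟨J'', hJ''⟩ := compact_single_factor E c hK h
  let J' := J ∪ J''
  have hJJ' : J ⊆ J' := Finset.subset_union_left
  have hJ''J' : J'' ⊆ J' := Finset.subset_union_right
  let w₁' : L₁ ⟶ cellJ E c J' := w₁ ≫ tY E c hJJ'
  have comm' : w₁' ≫ ιY E c J' = u₁ ≫ w := by
    rw [Category.assoc, tY_ιY, comm]
  let m' : mappingCone w₁' ⟶ mappingCone w := mappingCone.map w₁' w u₁ (ιY E c J') comm'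
  have comm₁ : w₁ ≫ tY E c hJJ' = 𝟙 L₁ ≫ w₁' := by rw [Category.id_comp]
  let m₁ : mappingCone w₁ ⟶ mappingCone w₁' :=
    mappingCone.map w₁ w₁' (𝟙 L₁) (tY E c hJJ') comm₁
  have hm : m₁ ≫ m' = m := by
    rw [← mappingCone.map_comp]
    exact map_congr' _ _ (Category.id_comp _) (tY_ιY E c hJJ') _ _
  have hinr : mappingCone.inr w₁' ≫ m' = ιY E c J' ≫ mappingCone.inr w := inr_map _ _ _ _ _
  refine ⟨mappingCone w₁', m', g₂ ≫ Q.map m₁ +
    (h ≫ Q.map (rY E c J'' ≫ tY E c hJ''J')) ≫ Q.map (mappingCone.inr w₁'),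
    finType_cone hL₁ (finType_single E hE J' c) w₁', ?_⟩
  have e1 : (g₂ ≫ Q.map m₁) ≫ Q.map m' = g₂ ≫ Q.map m := by
    rw [Category.assoc, ← Functor.map_comp, hm]
  have e2 : ((h ≫ Q.map (rY E c J'' ≫ tY E c hJ''J')) ≫ Q.map (mappingCone.inr w₁')) ≫
      Q.map m' = h ≫ Q.map (mappingCone.inr w) := by
    have e3 : (rY E c J'' ≫ tY E c hJ''J') ≫ mappingCone.inr w₁' ≫ m' =
        (single A (ComplexShape.up ℤ) c).map (retr E J'' ≫ incl E J'') ≫ mappingCone.inr w := by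
      rw [hinr, Category.assoc, ← Category.assoc (tY E c hJ''J'), tY_ιY, ← Category.assoc, rY_ιY]
    have e4 : Q.map (rY E c J'' ≫ tY E c hJ''J') ≫ Q.map (mappingCone.inr w₁') ≫ Q.map m' =
        Q.map ((single A (ComplexShape.up ℤ) c).map (retr E J'' ≫ incl E J'')) ≫
          Q.map (mappingCone.inr w) := by
      rw [← Q.map_comp, ← Q.map_comp, e3, Q.map_comp]
    rw [Category.assoc, Category.assoc, e4, ← Category.assoc, hJ'']
  rw [Preadditive.add_comp, e1, e2, ← hfgh]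

/-- the mapping cone only depends on the target up to isomorphism -/
noncomputable def coneIsoOfIso {X Y Y' : CochainComplex A ℤ} (w : X ⟶ Y) (e : Y ≅ Y') :
    mappingCone w ≅ mappingCone (w ≫ e.hom) where
  hom := mappingCone.map w (w ≫ e.hom) (𝟙 X) e.hom (by rw [Category.id_comp])
  inv := mappingCone.map (w ≫ e.hom) w (𝟙 X) e.inv
    (by rw [Category.assoc, e.hom_inv_id, Category.comp_id, Category.id_comp])
  hom_inv_id := by
    rw [← mappingCone.map_comp, ← mappingCone.map_id]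
    exact map_congr' _ _ (Category.id_comp _) e.hom_inv_id _ _
  inv_hom_id := by
    rw [← mappingCone.map_comp, ← mappingCone.map_id]
    exact map_congr' _ _ (Category.id_comp _) e.inv_hom_id _ _

variable (S) in
/-- coproducts of members of `S` -/
def CoprodS (Z : A) : Prop := ∃ (I : Type v) (E : I → A), (∀ i, E i ∈ S) ∧ Nonempty (Z ≅ ∐ E)

lemma CoprodS.of_iso {Z Z' : A} (h : CoprodS S Z) (e : Z ≅ Z') : CoprodS S Z' := by
  obtain ⟨I, E, hE, ⟨e'⟩⟩ := h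
  exact ⟨I, E, hE, ⟨e.symm ≪≫ e'⟩⟩

lemma CoprodS.of_isZero {Z : A} (h : IsZero Z) : CoprodS S Z :=
  ⟨PEmpty, fun i => i.elim, fun i => i.elim,
    ⟨h.iso (isZero_sigma_of_isZero (fun i => i.elim))⟩⟩

/-- bounded complexes whose terms are coproducts of members of `S` have the factorization
property -/
theorem fact_of_bounded
    (h2 : ∀ E ∈ S, ∀ ι : Type v,
      PreservesColimitsOfShape (Discrete ι) (preadditiveCoyoneda.obj (op E)))
    (n : ℕ) : ∀ (P : CochainComplex A ℤ) (a b : ℤ), P.IsStrictlyGE a → P.IsStrictlyLE b →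
      b - a < n → (∀ i, CoprodS S (P.X i)) → Fact S P := by
  induction n with
  | zero =>
    intro P a b ha hb hab hP
    apply Fact.of_isZero
    intro i
    by_cases hi : i < a
    · exact P.isZero_of_isStrictlyGE a i hi
    · exact P.isZero_of_isStrictlyLE b i (by omega)
  | succ n ih =>
    intro P a b ha hb hab hP
    let P' : CochainComplex A ℤ := P⟦(-1 : ℤ)⟧
    haveI : P'.IsStrictlyLE (b + 1) := P.isStrictlyLE_shift b (-1) (b + 1) (by omega)
    haveI : P'.IsStrictlyGE (a + 1) := P.isStrictlyGE_shift a (-1) (a + 1) (by omega)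
    have hP' : ∀ i, CoprodS S (P'.X i) := fun i => hP (i + -1)
    let R := TopCell.rest P' (b + 1)
    have hR1 : R.IsStrictlyLE b := by
      have := TopCell.rest_isStrictlyLE P' (b + 1)
      rwa [add_sub_cancel_right] at this
    have hR2 : R.IsStrictlyGE (a + 1) := TopCell.rest_isStrictlyGE P' (b + 1) (a + 1)
    have hR3 : ∀ i, CoprodS S (R.X i) := by
      intro i
      by_cases hi : i = b + 1
      · exact CoprodS.of_isZero (TopCell.isZero_rest_X P' (b + 1) i (by omega))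
      · exact (hP' i).of_iso (TopCell.restXIso P' (b + 1) i hi)
    have hR : Fact S R := ih R (a + 1) b hR2 hR1 (by omega) hR3
    obtain ⟨I, E, hE, ⟨e⟩⟩ := hP' (b + 1)
    let iso₁ : ((single A (ComplexShape.up ℤ) (b + 1)).obj (P'.X (b + 1)))⟦(1 : ℤ)⟧ ≅
        (single A (ComplexShape.up ℤ) b).obj (P'.X (b + 1)) :=
      ((CochainComplex.singleFunctors A).shiftIso 1 b (b + 1) (by omega)).app _
    let iso₂ : (single A (ComplexShape.up ℤ) b).obj (P'.X (b + 1)) ≅ cell E b :=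
      (single A (ComplexShape.up ℤ) b).mapIso e
    have h1 : Fact S (mappingCone (TopCell.topAttach P' (b + 1) ≫ (iso₁ ≪≫ iso₂).hom)) :=
      fact_cone h2 hR E hE b _
    have h3 : Fact S (mappingCone (TopCell.topAttach P' (b + 1))) :=
      h1.of_iso (coneIsoOfIso _ _).symm
    have h4 : Fact S (P'⟦(1 : ℤ)⟧) := h3.of_iso (TopCell.topConeIso P' (b + 1))
    exact h4.of_iso ((shiftFunctorCompIsoId (CochainComplex A ℤ) (-1 : ℤ) 1 (by omega)).app P)

end Dev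

end Helper89.ConeDev
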