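import Mathlib

set_option autoImplicit false
universe v u
open CategoryTheory CategoryTheory.Limits

namespace Helper89.Resolution

section PushoutExact

variable {A : Type u} [Category.{v} A] [Abelian A]

lemma pushout_exact {X Y Z : A} (f : X ⟶ Y) (g : X ⟶ Z) {T : A} (a : T ⟶ Y) (b : T ⟶ Z)
    (h : a ≫ pushout.inl f g = b ≫ pushout.inr f g) :
    ∃ (T' : A) (π : T' ⟶ T) (_ : Epi π) (z : T' ⟶ X), z ≫ f = π ≫ a ∧ z ≫ g = π ≫ b := by
  have hp : IsPushout f g (pushout.inl f g) (pushout.inr f g) := IsPushout.of_hasPushout f g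
  have hex := hp.exact_shortComplex
  rw [ShortComplex.exact_iff_exact_up_to_refinements] at hex
  have h0 : biprod.lift a (-b) ≫ biprod.desc (pushout.inl f g) (pushout.inr f g) = 0 := by
    rw [biprod.lift_desc, Preadditive.neg_comp, h]
    abel
  obtain ⟨T', π, hπ, (z : T' ⟶ X),
    (hz : π ≫ biprod.lift a (-b) = z ≫ biprod.lift f (-g))⟩ := hex (biprod.lift a (-b)) h0
  refine ⟨T', π, hπ, z, ?_, ?_⟩
  · have := congrArg (fun t => t ≫ biprod.fst) hz
    simpa using this.symm
  · have := congrArg (fun t => t ≫ biprod.snd) hz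
    simp only [Category.assoc, biprod.lift_snd, Preadditive.comp_neg, neg_inj] at this
    exact this.symm

end PushoutExact

section Abstract

variable {A : Type u} [Category.{v} A] [Abelian A]

lemma quasiIso_of_stages (K L : CochainComplex A ℕ) (φ : K ⟶ L)
    (Q : ℕ → A) (π : ∀ n, L.X n ⟶ Q n) (β : ∀ n, K.opcycles n ⟶ Q n) (hβ : ∀ n, Mono (β n))
    (comm : ∀ n, φ.f n ≫ π n = K.pOpcycles n ≫ β n)
    (h0 : ∀ {T : A} (w : T ⟶ L.X 0), w ≫ π 0 = 0 → w = 0)
    (hdπ : ∀ n, L.d n (n + 1) ≫ π (n + 1) = 0)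
    (hex : ∀ (n : ℕ) {T : A} (w : T ⟶ L.X (n + 1)), w ≫ π (n + 1) = 0 →
      ∃ (T' : A) (p : T' ⟶ T) (_ : Epi p) (y : T' ⟶ L.X n), p ≫ w = y ≫ L.d n (n + 1))
    (hcyc : ∀ (n : ℕ) {T : A} (y : T ⟶ L.X n), y ≫ L.d n (n + 1) = 0 →
      ∃ (T' : A) (p : T' ⟶ T) (_ : Epi p) (z : T' ⟶ K.opcycles n),
        z ≫ K.fromOpcycles n (n + 1) = 0 ∧ z ≫ β n = p ≫ y ≫ π n) :
    QuasiIso φ := by
  have hdπ' : ∀ i n, L.d i n ≫ π n = 0 := by
    intro i n
    by_cases h : i + 1 = n
    · subst h
      exact hdπ i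
    · rw [L.shape i n h, zero_comp]
  have hexy : ∀ (n : ℕ) {T : A} (w : T ⟶ L.X n), w ≫ π n = 0 →
      ∃ (T' : A) (p : T' ⟶ T) (_ : Epi p) (y : T' ⟶ L.X ((ComplexShape.up ℕ).prev n)),
        p ≫ w = y ≫ L.d ((ComplexShape.up ℕ).prev n) n := by
    intro n T w hw
    cases n with
    | zero =>
      refine ⟨T, 𝟙 T, inferInstance, 0, ?_⟩
      rw [h0 w hw, comp_zero, zero_comp]
    | succ m =>
      have hp : (ComplexShape.up ℕ).prev (m + 1) = m := by simp
      rw [hp]
      exact hex m w hw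
  constructor
  intro n
  rw [quasiIsoAt_iff_isIso_homologyMap]
  have hmono : Mono (HomologicalComplex.homologyMap φ n) := by
    rw [HomologicalComplex.mono_homologyMap_iff_up_to_refinements φ
      ((ComplexShape.up ℕ).prev n) n (n + 1) rfl (by simp)]
    intro T x₂ hx₂ y₁ hy
    have h1 : x₂ ≫ K.pOpcycles n = 0 := by
      haveI := hβ n
      rw [← cancel_mono (β n), Category.assoc, ← comm n, reassoc_of% hy, hdπ', comp_zero,
        zero_comp]
    exact (K.comp_pOpcycles_eq_zero_iff_up_to_refinements x₂ _ rfl).1 h1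
  have hepi : Epi (HomologicalComplex.homologyMap φ n) := by
    rw [HomologicalComplex.epi_homologyMap_iff_up_to_refinements φ
      ((ComplexShape.up ℕ).prev n) n (n + 1) rfl (by simp)]
    intro T y₂ hy₂
    obtain ⟨T₁, p₁, _, z, hz₁, hz₂⟩ := hcyc n y₂ hy₂
    obtain ⟨T₂, p₂, _, x₂, hx₂⟩ := surjective_up_to_refinements_of_epi (K.pOpcycles n) z
    have hx₂d : x₂ ≫ K.d n (n + 1) = 0 := by
      rw [← K.p_fromOpcycles n (n + 1), ← reassoc_of% hx₂, hz₁, comp_zero]
    have hw : (p₂ ≫ p₁ ≫ y₂ - x₂ ≫ φ.f n) ≫ π n = 0 := by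
      rw [Preadditive.sub_comp, Category.assoc, Category.assoc, Category.assoc, comm n,
        ← reassoc_of% hx₂, hz₂, sub_self]
    obtain ⟨T₃, p₃, _, y₁, hy₁⟩ := hexy n _ hw
    refine ⟨T₃, p₃ ≫ p₂ ≫ p₁, inferInstance, p₃ ≫ x₂, ?_, y₁, ?_⟩
    · rw [Category.assoc, hx₂d, comp_zero]
    · rw [← hy₁, Preadditive.comp_sub]
      simp only [Category.assoc]
      abel
  exact isIso_of_mono_of_epi _

end Abstract

section Core

variable {A : Type u} [Category.{v} A] [Abelian A] (I : A → Prop)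
  (hI : ∀ X : A, ∃ (Y : A) (ι : X ⟶ Y), I Y ∧ Mono ι)
  (K : CochainComplex A ℕ)

/-- chosen embedding -/
noncomputable def emb (X : A) : A := (hI X).choose
noncomputable def embι (X : A) : X ⟶ emb I hI X := (hI X).choose_spec.choose
lemma emb_mem (X : A) : I (emb I hI X) := (hI X).choose_spec.choose_spec.1
instance (X : A) : Mono (embι I hI X) := (hI X).choose_spec.choose_spec.2

structure Stage (n : ℕ) where
  L : A
  hL : I L
  α : K.X n ⟶ L
  mono_α : Mono α
  Q : A
  π : L ⟶ Q
  epi_π : Epi π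
  β : K.opcycles n ⟶ Q
  mono_β : Mono β
  comm : α ≫ π = K.pOpcycles n ≫ β

attribute [instance] Stage.mono_α Stage.epi_π Stage.mono_β

noncomputable def stage0 : Stage I K 0 where
  L := emb I hI (K.X 0)
  hL := emb_mem _ _ _
  α := embι I hI (K.X 0)
  mono_α := inferInstance
  Q := emb I hI (K.X 0)
  π := 𝟙 _
  epi_π := inferInstance
  β := K.descOpcycles (embι I hI (K.X 0)) 0 (by simp) (by simp)
  mono_β := by
    have : IsIso (K.pOpcycles 0) := K.isIso_pOpcycles 0 0 (by simp) (by simp)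
    have h : K.descOpcycles (embι I hI (K.X 0)) 0 (by simp) (by simp) =
        inv (K.pOpcycles 0) ≫ embι I hI (K.X 0) := by
      rw [← cancel_epi (K.pOpcycles 0), HomologicalComplex.p_descOpcycles,
        IsIso.hom_inv_id_assoc]
    rw [h]
    infer_instance
  comm := by simp

variable {I K}

/-- the pushout used in the inductive step -/
noncomputable abbrev P {n : ℕ} (s : Stage I K n) : A := pushout (K.fromOpcycles n (n + 1)) s.β

/-- the new differential -/
noncomputable def dNext {n : ℕ} (s : Stage I K n) : s.L ⟶ emb I hI (P s) :=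
  s.π ≫ pushout.inr _ _ ≫ embι I hI (P s)

/-- the new component of the chain map -/
noncomputable def αNext {n : ℕ} (s : Stage I K n) : K.X (n + 1) ⟶ emb I hI (P s) :=
  pushout.inl _ _ ≫ embι I hI (P s)

instance {n : ℕ} (s : Stage I K n) : Mono (αNext hI s) := by
  unfold αNext
  infer_instance

lemma d_αNext {n : ℕ} (s : Stage I K n) :
    K.d n (n + 1) ≫ αNext hI s = s.α ≫ dNext hI s := by
  unfold αNext dNext
  rw [← K.p_fromOpcycles n (n + 1), Category.assoc, pushout.condition_assoc,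
    ← reassoc_of% s.comm]


lemma d_αNext_π {n : ℕ} (s : Stage I K n) :
    K.d n (n + 1) ≫ αNext hI s ≫ cokernel.π (dNext hI s) = 0 := by
  rw [reassoc_of% d_αNext hI s, cokernel.condition, comp_zero]

/-- the new comparison map on opcycles -/
noncomputable def βNext {n : ℕ} (s : Stage I K n) :
    K.opcycles (n + 1) ⟶ cokernel (dNext hI s) :=
  K.descOpcycles (αNext hI s ≫ cokernel.π (dNext hI s)) n (by simp) (d_αNext_π hI s)

lemma p_βNext {n : ℕ} (s : Stage I K n) :
    K.pOpcycles (n + 1) ≫ βNext hI s = αNext hI s ≫ cokernel.π (dNext hI s) := by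
  unfold βNext
  rw [HomologicalComplex.p_descOpcycles]

lemma fromOpcycles_pOpcycles (n : ℕ) : K.fromOpcycles n (n + 1) ≫ K.pOpcycles (n + 1) = 0 := by
  rw [← cancel_epi (K.pOpcycles n), K.p_fromOpcycles_assoc, K.d_pOpcycles, comp_zero]

instance {n : ℕ} (s : Stage I K n) : Mono (βNext hI s) := by
  apply Preadditive.mono_of_cancel_zero
  intro T x hx
  obtain ⟨T₁, π₁, _, x₁, hx₁⟩ := surjective_up_to_refinements_of_epi (K.pOpcycles (n + 1)) x
  have h1 : (x₁ ≫ αNext hI s) ≫ cokernel.π (dNext hI s) = 0 := by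
    rw [Category.assoc, ← p_βNext, ← reassoc_of% hx₁, hx, comp_zero]
  have hex : (ShortComplex.mk (dNext hI s) (cokernel.π _) (cokernel.condition _)).Exact :=
    ShortComplex.exact_cokernel _
  rw [ShortComplex.exact_iff_exact_up_to_refinements] at hex
  obtain ⟨T₂, π₂, _, (y : T₂ ⟶ s.L), (hy : π₂ ≫ x₁ ≫ αNext hI s = y ≫ dNext hI s)⟩ :=
    hex (x₁ ≫ αNext hI s) h1
  have h2 : (π₂ ≫ x₁) ≫ pushout.inl (K.fromOpcycles n (n + 1)) s.β =
      (y ≫ s.π) ≫ pushout.inr (K.fromOpcycles n (n + 1)) s.β := by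
    rw [← cancel_mono (embι I hI (P s))]
    simpa [αNext, dNext] using hy
  obtain ⟨T₃, π₃, _, z, hz₁, hz₂⟩ := pushout_exact _ _ _ _ h2
  rw [← cancel_epi π₁, ← cancel_epi π₂, ← cancel_epi π₃, comp_zero, comp_zero, comp_zero, hx₁,
    ← Category.assoc π₂, ← Category.assoc π₃, ← hz₁, Category.assoc, fromOpcycles_pOpcycles,
    comp_zero]

/-- the inductive step -/
noncomputable def next {n : ℕ} (s : Stage I K n) : Stage I K (n + 1) where
  L := emb I hI (P s)
  hL := emb_mem _ _ _
  α := αNext hI s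
  mono_α := inferInstance
  Q := cokernel (dNext hI s)
  π := cokernel.π _
  epi_π := inferInstance
  β := βNext hI s
  mono_β := inferInstance
  comm := (p_βNext hI s).symm

/-- the differential, typed into the next stage -/
noncomputable def dN {n : ℕ} (s : Stage I K n) : s.L ⟶ (next hI s).L := dNext hI s

lemma dN_π {n : ℕ} (s : Stage I K n) : dN hI s ≫ (next hI s).π = 0 :=
  cokernel.condition (dNext hI s)

lemma dN_eq {n : ℕ} (s : Stage I K n) :
    dN hI (next hI s) = (next hI s).π ≫ (pushout.inr _ _ ≫ embι I hI (P (next hI s)) :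
      (next hI s).Q ⟶ (next hI (next hI s)).L) := rfl

lemma dN_comp_dN {n : ℕ} (s : Stage I K n) : dN hI s ≫ dN hI (next hI s) = 0 := by
  rw [dN_eq, reassoc_of% dN_π hI s, zero_comp]

lemma d_α_next {n : ℕ} (s : Stage I K n) :
    K.d n (n + 1) ≫ (next hI s).α = s.α ≫ dN hI s := d_αNext hI s

/-- exactness of `L^n → L^{n+1} → Q^{n+1}` up to refinements -/
lemma exists_of_comp_π_next {n : ℕ} (s : Stage I K n) {T : A} (w : T ⟶ (next hI s).L)
    (hw : w ≫ (next hI s).π = 0) :
    ∃ (T' : A) (π : T' ⟶ T) (_ : Epi π) (y : T' ⟶ s.L), π ≫ w = y ≫ dN hI s := by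
  have hex : (ShortComplex.mk (dNext hI s) (cokernel.π _) (cokernel.condition _)).Exact :=
    ShortComplex.exact_cokernel _
  rw [ShortComplex.exact_iff_exact_up_to_refinements] at hex
  exact hex w hw

/-- cycles of `L` in degree `n` come from homology classes of `K` -/
lemma exists_of_comp_dN {n : ℕ} (s : Stage I K n) {T : A} (y : T ⟶ s.L)
    (hy : y ≫ dN hI s = 0) :
    ∃ (T' : A) (π : T' ⟶ T) (_ : Epi π) (z : T' ⟶ K.opcycles n),
      z ≫ K.fromOpcycles n (n + 1) = 0 ∧ z ≫ s.β = π ≫ y ≫ s.π := by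
  have h2 : (0 : T ⟶ K.X (n + 1)) ≫ pushout.inl (K.fromOpcycles n (n + 1)) s.β =
      (y ≫ s.π) ≫ pushout.inr (K.fromOpcycles n (n + 1)) s.β := by
    rw [← cancel_mono (embι I hI (P s)), zero_comp, zero_comp]
    have : y ≫ s.π ≫ pushout.inr _ _ ≫ embι I hI (P s) = 0 := hy
    simpa using this.symm
  obtain ⟨T', π, hπ, z, hz₁, hz₂⟩ := pushout_exact _ _ _ _ h2
  refine ⟨T', π, hπ, z, ?_, ?_⟩
  · rw [hz₁, comp_zero]
  · rw [hz₂]

variable (I K) in
/-- the sequence of stages -/
noncomputable def seq : ∀ n : ℕ, Stage I K n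
  | 0 => stage0 I hI K
  | n + 1 => next hI (seq n)

lemma seq_succ (n : ℕ) : seq I hI K (n + 1) = next hI (seq I hI K n) := rfl

/-- the differentials of the resolving complex -/
noncomputable def dS (n : ℕ) : (seq I hI K n).L ⟶ (seq I hI K (n + 1)).L := dN hI (seq I hI K n)

lemma dS_comp_dS (n : ℕ) : dS hI n ≫ dS (K := K) hI (n + 1) = 0 :=
  dN_comp_dN hI (seq I hI K n)

lemma dS_π (n : ℕ) : dS hI n ≫ (seq I hI K (n + 1)).π = 0 := dN_π hI (seq I hI K n)

lemma d_α_seq (n : ℕ) :
    K.d n (n + 1) ≫ (seq I hI K (n + 1)).α = (seq I hI K n).α ≫ dS hI n :=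
  d_α_next hI (seq I hI K n)

lemma exists_of_comp_π_seq (n : ℕ) {T : A} (w : T ⟶ (seq I hI K (n + 1)).L)
    (hw : w ≫ (seq I hI K (n + 1)).π = 0) :
    ∃ (T' : A) (π : T' ⟶ T) (_ : Epi π) (y : T' ⟶ (seq I hI K n).L), π ≫ w = y ≫ dS hI n :=
  exists_of_comp_π_next hI (seq I hI K n) w hw

lemma exists_of_comp_dS (n : ℕ) {T : A} (y : T ⟶ (seq I hI K n).L) (hy : y ≫ dS hI n = 0) :
    ∃ (T' : A) (π : T' ⟶ T) (_ : Epi π) (z : T' ⟶ K.opcycles n),
      z ≫ K.fromOpcycles n (n + 1) = 0 ∧ z ≫ (seq I hI K n).β = π ≫ y ≫ (seq I hI K n).π :=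
  exists_of_comp_dN hI (seq I hI K n) y hy

lemma seq_zero_π {T : A} (w : T ⟶ (seq I hI K 0).L) (hw : w ≫ (seq I hI K 0).π = 0) : w = 0 := by
  have h : w ≫ 𝟙 _ = 0 := hw
  simpa using h

variable (I K) in
/-- the resolving complex -/
noncomputable def resL : CochainComplex A ℕ :=
  CochainComplex.of (fun n => (seq I hI K n).L) (fun n => dS hI n) (fun n => dS_comp_dS hI n)


lemma resL_d (n : ℕ) : (resL I hI K).d n (n + 1) = dS hI n :=
  CochainComplex.of_d (fun n => (seq I hI K n).L) (fun n => dS hI n) n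

variable (I K) in
/-- the resolution map -/
noncomputable def resα : K ⟶ resL I hI K where
  f n := (seq I hI K n).α
  comm' i j hij := by
    obtain rfl : i + 1 = j := hij
    rw [resL_d]
    exact (d_α_seq hI i).symm

variable (I K) in
include hI in
theorem exists_resolution_nat :
    ∃ (L : CochainComplex A ℕ) (α : K ⟶ L), (∀ n, I (L.X n)) ∧ (∀ n, Mono (α.f n)) ∧
      QuasiIso α := by
  refine ⟨resL I hI K, resα I hI K, fun n => (seq I hI K n).hL, fun n => (seq I hI K n).mono_α, ?_⟩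
  refine quasiIso_of_stages K (resL I hI K) (resα I hI K) (fun n => (seq I hI K n).Q)
    (fun n => (seq I hI K n).π) (fun n => (seq I hI K n).β) (fun n => (seq I hI K n).mono_β)
    (fun n => (seq I hI K n).comm) (fun w hw => seq_zero_π hI w hw) ?_ ?_ ?_
  · intro n
    rw [resL_d]
    exact dS_π hI n
  · intro n T w hw
    rw [resL_d]
    exact exists_of_comp_π_seq hI n w hw
  · intro n T y hy
    rw [resL_d] at hy
    exact exists_of_comp_dS hI n y hy

end Core

section ReplaceObj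

variable {A : Type u} [Category.{v} A] [HasZeroMorphisms A] {ι : Type*} {c : ComplexShape ι}

/-- replace the objects of a complex by isomorphic ones -/
def replaceObj (L : HomologicalComplex A c) (Y : ι → A) (φ : ∀ i, L.X i ≅ Y i) :
    HomologicalComplex A c where
  X := Y
  d i j := (φ i).inv ≫ L.d i j ≫ (φ j).hom
  shape i j h := by rw [L.shape i j h, zero_comp, comp_zero]
  d_comp_d' i j k _ _ := by simp

def replaceObjIso (L : HomologicalComplex A c) (Y : ι → A) (φ : ∀ i, L.X i ≅ Y i) :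
    L ≅ replaceObj L Y φ :=
  HomologicalComplex.Hom.isoOfComponents φ (fun i j _ => by simp [replaceObj])

lemma exists_replace (I : A → Prop) (L : HomologicalComplex A c)
    (h : ∀ i, ∃ Y : A, I Y ∧ Nonempty (L.X i ≅ Y)) :
    ∃ (L' : HomologicalComplex A c) (_ : L ≅ L'), ∀ i, I (L'.X i) := by
  choose Y hY hφ using h
  exact ⟨replaceObj L Y (fun i => (hφ i).some), replaceObjIso L Y _, hY⟩

end ReplaceObj

section Transfer

variable {A : Type u} [Category.{v} A] [HasZeroMorphisms A] [HasZeroObject A]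
  {ι ι' : Type*} {c : ComplexShape ι} {c' : ComplexShape ι'} (e : c.Embedding c') [e.IsRelIff]

lemma hasLift_id (K : HomologicalComplex A c') [K.IsStrictlySupported e] :
    e.HasLift (𝟙 (K.restriction e)) := by
  intro j hj i' hrel
  apply (K.isZero_X_of_isStrictlySupported e i' (hj.notMem hrel)).eq_of_src

/-- a strictly supported complex maps isomorphically to the extension of its restriction -/
noncomputable def toExtendRestriction (K : HomologicalComplex A c') [K.IsStrictlySupported e] :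
    K ⟶ (K.restriction e).extend e :=
  e.liftExtend (𝟙 _) (hasLift_id e K)

instance (K : HomologicalComplex A c') [K.IsStrictlySupported e] :
    IsIso (toExtendRestriction e K) := by
  have : ∀ i', IsIso ((toExtendRestriction e K).f i') := by
    intro i'
    by_cases hi' : ∃ i, e.f i = i'
    · obtain ⟨i, hi⟩ := hi'
      unfold toExtendRestriction
      rw [e.isIso_liftExtend_f_iff _ _ hi]
      infer_instance
    · have h1 : IsZero (K.X i') :=
        K.isZero_X_of_isStrictlySupported e i' (by simpa using hi')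
      have h2 : IsZero (((K.restriction e).extend e).X i') :=
        (K.restriction e).isZero_extend_X e i' (by simpa using hi')
      exact ⟨⟨0, h1.eq_of_src _ _, h2.eq_of_src _ _⟩⟩
  exact HomologicalComplex.Hom.isIso_of_components _

lemma mono_extendMap_f {K L : HomologicalComplex A c} (φ : K ⟶ L) (h : ∀ i, Mono (φ.f i))
    (i' : ι') : Mono ((HomologicalComplex.extendMap φ e).f i') := by
  by_cases hi' : ∃ i, e.f i = i'
  · obtain ⟨i, hi⟩ := hi'
    rw [HomologicalComplex.extendMap_f φ e hi]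
    haveI := h i
    infer_instance
  · have h1 : IsZero ((K.extend e).X i') := K.isZero_extend_X e i' (by simpa using hi')
    exact ⟨fun a b _ => h1.eq_of_tgt a b⟩

lemma epi_extendMap_f {K L : HomologicalComplex A c} (φ : K ⟶ L) (h : ∀ i, Epi (φ.f i))
    (i' : ι') : Epi ((HomologicalComplex.extendMap φ e).f i') := by
  by_cases hi' : ∃ i, e.f i = i'
  · obtain ⟨i, hi⟩ := hi'
    rw [HomologicalComplex.extendMap_f φ e hi]
    haveI := h i
    infer_instance
  · have h1 : IsZero ((L.extend e).X i') := L.isZero_extend_X e i' (by simpa using hi')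
    exact ⟨fun a b _ => h1.eq_of_src a b⟩

/-- the terms of an extension are, up to isomorphism, the terms of the original complex or a
fixed zero object -/
lemma extend_X_mem (I : A → Prop) (Z : A) (hZ : IsZero Z) (hIZ : I Z)
    (L : HomologicalComplex A c) (hL : ∀ i, I (L.X i)) (i' : ι') :
    ∃ Y : A, I Y ∧ Nonempty ((L.extend e).X i' ≅ Y) := by
  by_cases hi' : ∃ i, e.f i = i'
  · obtain ⟨i, hi⟩ := hi'
    exact ⟨L.X i, hL i, ⟨L.extendXIso e hi⟩⟩
  · exact ⟨Z, hIZ, ⟨(L.isZero_extend_X e i' (by simpa using hi')).iso hZ⟩⟩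

end Transfer

section RightResolution

variable {A : Type u} [Category.{v} A] [Abelian A]

/-- S6590: right resolutions of bounded below complexes by a class of objects -/
theorem exists_right_resolution (I : A → Prop) (hI0 : ∃ Z : A, IsZero Z ∧ I Z)
    (hI : ∀ X : A, ∃ (Y : A) (ι : X ⟶ Y), I Y ∧ Mono ι)
    (K : CochainComplex A ℤ) (a : ℤ) [K.IsStrictlyGE a] :
    ∃ (L : CochainComplex A ℤ) (α : K ⟶ L), L.IsStrictlyGE a ∧ (∀ n, I (L.X n)) ∧
      (∀ n, Mono (α.f n)) ∧ QuasiIso α := by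
  obtain ⟨Z, hZ, hIZ⟩ := hI0
  let e := ComplexShape.embeddingUpIntGE a
  obtain ⟨L₀, α₀, hL₀, hα₀, hq⟩ := exists_resolution_nat I hI (K.restriction e)
  obtain ⟨L, iso, hL⟩ := exists_replace I (L₀.extend e)
    (fun i' => extend_X_mem e I Z hZ hIZ L₀ hL₀ i')
  refine ⟨L, toExtendRestriction e K ≫ HomologicalComplex.extendMap α₀ e ≫ iso.hom, ?_, hL, ?_, ?_⟩
  · exact HomologicalComplex.isStrictlySupported_of_iso iso e
  · intro n
    have := mono_extendMap_f e α₀ hα₀ n
    rw [HomologicalComplex.comp_f, HomologicalComplex.comp_f]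
    infer_instance
  · infer_instance

end RightResolution

end Helper89.Resolution
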