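import Mathlib
import Groth.Agent.Lib.Helper89.Resolution

set_option autoImplicit false
universe v u
open CategoryTheory CategoryTheory.Limits Opposite

namespace Helper89.Resolution

section RightResolution'

variable {A : Type u} [Category.{v} A] [Abelian A]

/-- S6591: right resolutions of cohomologically bounded below complexes by a class of objects -/
theorem exists_right_resolution' (I : A → Prop) (hI0 : ∃ Z : A, IsZero Z ∧ I Z)
    (hI : ∀ X : A, ∃ (Y : A) (ι : X ⟶ Y), I Y ∧ Mono ι)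
    (K : CochainComplex A ℤ) (a : ℤ) (hK : ∀ n : ℤ, n < a → IsZero (K.homology n)) :
    ∃ (L : CochainComplex A ℤ) (α : K ⟶ L), L.IsStrictlyGE a ∧ (∀ n, I (L.X n)) ∧
      QuasiIso α := by
  have hGE : K.IsGE a := by
    rw [CochainComplex.isGE_iff]
    intro i hi
    rw [HomologicalComplex.exactAt_iff_isZero_homology]
    exact hK i hi
  have hq : QuasiIso (K.πTruncGE a) := (CochainComplex.quasiIso_πTruncGE_iff K a).2 hGE
  obtain ⟨L, α, hL, hIL, _, hα⟩ := exists_right_resolution I hI0 hI (K.truncGE a) a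
  exact ⟨L, K.πTruncGE a ≫ α, hL, hIL, inferInstance⟩

end RightResolution'

section Dual

variable {A : Type u} [Category.{v} A] [Abelian A]

/-- dual of `exists_resolution_nat`: left resolutions of `ℕ`-indexed chain complexes -/
theorem exists_resolution_nat_dual (P : A → Prop)
    (hP : ∀ X : A, ∃ (Y : A) (π : Y ⟶ X), P Y ∧ Epi π) (K : ChainComplex A ℕ) :
    ∃ (Q : ChainComplex A ℕ) (α : Q ⟶ K), (∀ n, P (Q.X n)) ∧ (∀ n, Epi (α.f n)) ∧
      QuasiIso α := by
  let I' : Aᵒᵖ → Prop := fun X => P X.unop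
  have hI' : ∀ X : Aᵒᵖ, ∃ (Y : Aᵒᵖ) (ι : X ⟶ Y), I' Y ∧ Mono ι := by
    intro X
    obtain ⟨Y, π, hY, hπ⟩ := hP X.unop
    exact ⟨op Y, π.op, hY, inferInstance⟩
  let K' : CochainComplex Aᵒᵖ ℕ := K.op
  obtain ⟨L', α', hL', hα', hq⟩ := exists_resolution_nat I' hI' K'
  let Q : ChainComplex A ℕ :=
    { X := fun n => (L'.X n).unop
      d := fun i j => (L'.d j i).unop
      shape := fun i j h => by
        have : L'.d j i = 0 := L'.shape j i h
        rw [this]; rfl
      d_comp_d' := fun i j k _ _ => by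
        rw [← unop_comp, L'.d_comp_d, unop_zero] }
  let α : Q ⟶ K :=
    { f := fun n => (α'.f n).unop
      comm' := fun i j _ => by
        have h2 := congrArg Quiver.Hom.unop (α'.comm j i)
        rw [unop_comp, unop_comp] at h2
        exact h2.symm }
  refine ⟨Q, α, hL', ?_, ?_⟩
  · intro n
    have := hα' n
    exact inferInstanceAs (Epi (α'.f n).unop)
  · rw [← HomologicalComplex.quasiIso_opFunctor_map_iff]
    exact hq

end Dual


section LeftResolution

variable {A : Type u} [Category.{v} A] [Abelian A]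

/-- S0970: left resolutions of bounded above complexes by a class of objects -/
theorem exists_left_resolution (P : A → Prop) (hP0 : ∃ Z : A, IsZero Z ∧ P Z)
    (hP : ∀ X : A, ∃ (Y : A) (π : Y ⟶ X), P Y ∧ Epi π)
    (K : CochainComplex A ℤ) (a : ℤ) [K.IsStrictlyLE a] :
    ∃ (Q : CochainComplex A ℤ) (α : Q ⟶ K), Q.IsStrictlyLE a ∧ (∀ n, P (Q.X n)) ∧
      (∀ n, Epi (α.f n)) ∧ QuasiIso α := by
  obtain ⟨Z, hZ, hPZ⟩ := hP0
  let e := ComplexShape.embeddingUpIntLE a
  obtain ⟨Q₀, β₀, hQ₀, hβ₀, hq⟩ := exists_resolution_nat_dual P hP (K.restriction e)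
  obtain ⟨Q, iso, hQ⟩ := exists_replace P (Q₀.extend e)
    (fun i' => extend_X_mem e P Z hZ hPZ Q₀ hQ₀ i')
  refine ⟨Q, iso.inv ≫ HomologicalComplex.extendMap β₀ e ≫ inv (toExtendRestriction e K),
    ?_, hQ, ?_, ?_⟩
  · exact HomologicalComplex.isStrictlySupported_of_iso iso e
  · intro n
    have := epi_extendMap_f e β₀ hβ₀ n
    have h2 : IsIso ((inv (toExtendRestriction e K)).f n) := inferInstance
    rw [HomologicalComplex.comp_f, HomologicalComplex.comp_f]
    infer_instance
  · infer_instance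

/-- S0971: left resolutions of cohomologically bounded above complexes by a class of objects -/
theorem exists_left_resolution' (P : A → Prop) (hP0 : ∃ Z : A, IsZero Z ∧ P Z)
    (hP : ∀ X : A, ∃ (Y : A) (π : Y ⟶ X), P Y ∧ Epi π)
    (K : CochainComplex A ℤ) (a : ℤ) (hK : ∀ n : ℤ, a < n → IsZero (K.homology n)) :
    ∃ (Q : CochainComplex A ℤ) (α : Q ⟶ K), Q.IsStrictlyLE a ∧ (∀ n, P (Q.X n)) ∧
      QuasiIso α := by
  have hLE : K.IsLE a := by
    rw [CochainComplex.isLE_iff]
    intro i hi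
    rw [HomologicalComplex.exactAt_iff_isZero_homology]
    exact hK i hi
  have hq : QuasiIso (K.ιTruncLE a) := (CochainComplex.quasiIso_ιTruncLE_iff K a).2 hLE
  obtain ⟨Q, α, hQ, hPQ, _, hα⟩ := exists_left_resolution P hP0 hP (K.truncLE a) a
  exact ⟨Q, α ≫ K.ιTruncLE a, hQ, hPQ, inferInstance⟩

end LeftResolution

end Helper89.Resolution
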