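import Mathlib
import Groth.Prelude.Def_CohDer
import Groth.Agent.Lib.Helper40.Compact
import Groth.Agent.Lib.Helper89.ConeDev
import Groth.Agent.Lib.Helper89.Resolution2

set_option autoImplicit false
set_option linter.unusedSectionVars false
universe v u
open CategoryTheory CategoryTheory.Limits HomologicalComplex Opposite
open Groth.Agent.Lib.Helper40.Cpt

namespace Helper89.CompactRetract

open Helper89.FinSums Helper89.ProductTrick Helper89.ConeDev DerivedCategory CochainComplex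
open CategoryTheory.Pretriangulated ZeroObject

variable {A : Type u} [Category.{v} A] [Abelian A] [EnoughInjectives A] [HasCoproducts.{v} A]
  [HasDerivedCategory.{v} A] [HasCoproducts.{v} (DerivedCategory A)]

/-- a compact object is cohomologically bounded above -/
theorem exists_bound (Kc : CochainComplex A ℤ) (hK : CohDer.IsCompactObject (Q.obj Kc)) :
    ∃ N : ℤ, ∀ i : ℤ, N < i → IsZero (Kc.homology i) := by
  obtain ⟨N, hN⟩ := eventually_zero Kc (fun m : ℕ => Kc.truncGE (m : ℤ))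
    (fun m => Kc.πTruncGE (m : ℤ)) (fun i => ⟨(i + 1).toNat, fun m hm =>
      (Kc.truncGE (m : ℤ)).isZero_of_isStrictlyGE (m : ℤ) i (by omega)⟩) hK (𝟙 _)
  have h0 : Q.map (Kc.πTruncGE (N : ℤ)) = 0 := by
    have := hN N le_rfl
    rwa [Category.id_comp] at this
  refine ⟨(N : ℤ) - 1, fun i hi => ?_⟩
  have hq : QuasiIsoAt (Kc.πTruncGE (N : ℤ)) i := Kc.quasiIsoAt_πTruncGE (N : ℤ) i (by omega)
  rw [quasiIsoAt_iff_isIso_homologyMap] at hq
  have hz : homologyMap (Kc.πTruncGE (N : ℤ)) i = 0 := by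
    have h1 := homologyFunctorFactors_hom_naturality (Kc.πTruncGE (N : ℤ)) i
    rw [h0, Functor.map_zero, zero_comp] at h1
    have h4 : ∀ (Z : A) (e : Z ≅ Kc.homology i)
        (φ : Kc.homology i ⟶ (Kc.truncGE (N : ℤ)).homology i), 0 = e.hom ≫ φ → φ = 0 := by
      intro Z e φ h
      rw [← cancel_epi e.hom, ← h, comp_zero]
    exact h4 _ ((homologyFunctorFactors A i).app Kc) _ h1
  have h2 := IsIso.hom_inv_id (homologyMap (Kc.πTruncGE (N : ℤ)) i)
  rw [IsZero.iff_id_eq_zero, ← h2]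
  have h3 : ∀ (Z : A) (φ : Kc.homology i ⟶ Z) (ψ : Z ⟶ Kc.homology i), φ = 0 → φ ≫ ψ = 0 := by
    intro Z φ ψ h
    rw [h, zero_comp]
  exact h3 _ _ _ hz

/-- maps from a compact object to a bounded above complex factor through a brutal truncation -/
theorem exists_factor_sub (P : CochainComplex A ℤ) {K : DerivedCategory A}
    (hK : CohDer.IsCompactObject K) (f : K ⟶ Q.obj P) (a : ℤ) :
    ∃ (M : ℕ) (f' : K ⟶ Q.obj (TopCell.sub P (a - M))),
      f' ≫ Q.map (TopCell.subι P (a - M)) = f := by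
  obtain ⟨M, hM⟩ := eventually_zero P (fun m : ℕ => TopCell.quot P (a - m))
    (fun m => TopCell.quotπ P (a - m)) (fun i => ⟨(a - i + 1).toNat, fun m hm =>
      TopCell.isZero_quot_X P (a - m) i (by omega)⟩) hK f
  have hT := triangleOfSES_distinguished (TopCell.botSC_shortExact P (a - M))
  obtain ⟨f', hf'⟩ : ∃ f' : K ⟶ Q.obj (TopCell.sub P (a - M)),
      f = f' ≫ Q.map (TopCell.subι P (a - M)) :=
    Triangle.coyoneda_exact₂ _ hT f (hM M le_rfl)
  exact ⟨M, f', hf'.symm⟩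

/-- S9035: compact objects of `D(A)` are retracts of bounded complexes of finite sums of members
of a generating set `S` whose members have `Hom` commuting with coproducts -/
theorem main [HasFiniteBiproducts A] (S : Set A)
    (h1 : ∀ X : A, ∃ (ι : Type v) (E : ι → A) (π : ∐ E ⟶ X), (∀ i, E i ∈ S) ∧ Epi π)
    (h2 : ∀ E ∈ S, ∀ ι : Type v,
      PreservesColimitsOfShape (Discrete ι) (preadditiveCoyoneda.obj (op E)))
    (K : DerivedCategory A) (hK : CohDer.IsCompactObject K) :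
    ∃ (L : CochainComplex A ℤ) (a b : ℤ),
      (∀ i : ℤ, i < a ∨ b < i → IsZero (L.X i)) ∧
      (∀ i : ℤ, ∃ (n : ℕ) (E : Fin n → A), (∀ j, E j ∈ S) ∧ Nonempty (L.X i ≅ ⨁ E)) ∧
      Nonempty (Retract K (DerivedCategory.Q.obj L)) := by
  let Kc : CochainComplex A ℤ := Q.objPreimage K
  let e : Q.obj Kc ≅ K := Q.objObjPreimageIso K
  have hK' : CohDer.IsCompactObject (Q.obj Kc) := isCompact_of_iso e.symm hK
  obtain ⟨N, hN⟩ := exists_bound Kc hK'
  obtain ⟨Qc, α, hQc, hQc2, hα⟩ := Helper89.Resolution.exists_left_resolution' (CoprodS S)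
    ⟨(0 : A), isZero_zero A, CoprodS.of_isZero (isZero_zero A)⟩
    (fun X => by
      obtain ⟨ι, E, π, hE, hπ⟩ := h1 X
      exact ⟨∐ E, π, ⟨ι, E, hE, ⟨Iso.refl _⟩⟩, hπ⟩) Kc N hN
  have : IsIso (Q.map α) := by
    rw [isIso_Q_map_iff_quasiIso]
    exact hα
  obtain ⟨M, f', hf'⟩ := exists_factor_sub Qc hK' (inv (Q.map α)) N
  let c : ℤ := N - M
  have := hQc
  have hsub : Fact S (TopCell.sub Qc c) := by
    refine fact_of_bounded h2 (M + 1) (TopCell.sub Qc c) (c + 1) N
      (TopCell.sub_isStrictlyGE Qc c) (TopCell.sub_isStrictlyLE Qc c N) (by omega) ?_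
    intro i
    by_cases hi : c < i
    · exact (hQc2 i).of_iso (TopCell.subXIso Qc c i hi).symm
    · exact CoprodS.of_isZero (TopCell.isZero_sub_X Qc c i (by omega))
  obtain ⟨L, u, g, ⟨⟨a, b, hab⟩, hL2⟩, hg⟩ := hsub (Q.obj Kc) hK' f'
  refine ⟨L, a, b, hab, fun i => (hL2 i).exists_fin, ⟨?_⟩⟩
  refine ⟨e.inv ≫ g, Q.map u ≫ Q.map (TopCell.subι Qc c) ≫ Q.map α ≫ e.hom, ?_⟩
  rw [Category.assoc, ← Category.assoc g, hg, ← Category.assoc f', hf', IsIso.inv_hom_id_assoc,
    e.inv_hom_id]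

end Helper89.CompactRetract
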