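import Mathlib.Topology.Spectral.Basic
import Mathlib.Topology.Spectral.Hom
import Mathlib.Topology.Spectral.ConstructibleTopology

set_option autoImplicit false

namespace Groth.Agent.Lib.Helper89

open Topology

variable {X Y : Type*} [TopologicalSpace X] [TopologicalSpace Y]

theorem compactSpace_constructible [CompactSpace X] [QuasiSober X] [PrespectralSpace X]
    [QuasiSeparatedSpace X] : @CompactSpace X (constructibleTopology X) := by
  have h : CompactSpace (WithConstructibleTopology X) := inferInstance
  exact @Function.Surjective.compactSpace (WithConstructibleTopology X) X _ (constructibleTopology X)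
    WithTopology.ofTopology (WithTopology.continuous_ofTopology _) h
    (WithTopology.ofTopology_surjective _)

theorem isOpen_constructible_of_isOpen [PrespectralSpace X] {s : Set X} (hs : IsOpen s) :
    IsOpen[constructibleTopology X] s := by
  obtain ⟨S, hS, rfl⟩ := PrespectralSpace.isTopologicalBasis.open_eq_sUnion hs
  apply @isOpen_sUnion _ (constructibleTopology X)
  intro t ht
  exact (hS ht).2.isOpen_constructibleTopology_of_isOpen (hS ht).1

theorem isClosed_constructible_of_isClosed [PrespectralSpace X] {s : Set X} (hs : IsClosed s) :
    IsClosed[constructibleTopology X] s := by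
  rw [← @isOpen_compl_iff _ _ (constructibleTopology X)]
  exact isOpen_constructible_of_isOpen hs.isOpen_compl

theorem isClosed_constructible_of_isCompact_isOpen {s : Set X} (hc : IsCompact s) (ho : IsOpen s) :
    IsClosed[constructibleTopology X] s := by
  rw [← @isOpen_compl_iff _ _ (constructibleTopology X)]
  apply IsCompact.isOpen_constructibleTopology_of_isClosed
  · rwa [compl_compl]
  · exact ho.isClosed_compl

theorem continuous_id_constructible [PrespectralSpace X] :
    Continuous[constructibleTopology X, ‹TopologicalSpace X›] (id : X → X) := by
  refine @Continuous.mk _ _ (constructibleTopology X) _ _ ?_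
  intro s hs
  exact isOpen_constructible_of_isOpen hs

theorem isCompact_of_isCompact_constructible [PrespectralSpace X] {s : Set X}
    (hs : @IsCompact X (constructibleTopology X) s) : IsCompact s := by
  have := @IsCompact.image _ _ (constructibleTopology X) _ _ _ hs continuous_id_constructible
  rwa [Set.image_id] at this

theorem isCompact_of_isClosed_constructible [CompactSpace X] [QuasiSober X] [PrespectralSpace X]
    [QuasiSeparatedSpace X] {s : Set X} (hs : IsClosed[constructibleTopology X] s) : IsCompact s :=
  isCompact_of_isCompact_constructible
    (@IsClosed.isCompact _ (constructibleTopology X) _ compactSpace_constructible hs)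

theorem t2Space_constructible [T0Space X] [PrespectralSpace X] :
    @T2Space X (constructibleTopology X) := by
  refine @T2Space.mk _ (constructibleTopology X) ?_
  intro x y hxy
  obtain ⟨U, hU, hxor⟩ := exists_isOpen_xor'_mem hxy
  rcases hxor with ⟨hx, hy⟩ | ⟨hy, hx⟩
  · obtain ⟨V, ⟨hVo, hVc⟩, hxV, hVU⟩ :=
      PrespectralSpace.isTopologicalBasis.exists_subset_of_mem_open hx hU
    refine ⟨V, Vᶜ, hVc.isOpen_constructibleTopology_of_isOpen hVo, ?_, hxV, fun h => hy (hVU h),
      disjoint_compl_right⟩
    exact IsCompact.isOpen_constructibleTopology_of_isClosed (by rwa [compl_compl]) hVo.isClosed_compl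
  · obtain ⟨V, ⟨hVo, hVc⟩, hyV, hVU⟩ :=
      PrespectralSpace.isTopologicalBasis.exists_subset_of_mem_open hy hU
    refine ⟨Vᶜ, V, ?_, hVc.isOpen_constructibleTopology_of_isOpen hVo, fun h => hx (hVU h), hyV,
      disjoint_compl_left⟩
    exact IsCompact.isOpen_constructibleTopology_of_isClosed (by rwa [compl_compl]) hVo.isClosed_compl

theorem continuous_constructible_of_isSpectralMap {f : X → Y} (hf : IsSpectralMap f) :
    Continuous[constructibleTopology X, constructibleTopology Y] f := by
  apply continuous_generateFrom_iff.2
  rintro s (⟨ho, hc⟩ | ⟨hcl, hc⟩)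
  · exact (hc.preimage_of_isOpen hf ho).isOpen_constructibleTopology_of_isOpen
      (ho.preimage hf.continuous)
  · apply IsCompact.isOpen_constructibleTopology_of_isClosed
    · rw [← Set.preimage_compl]
      exact hc.preimage_of_isOpen hf hcl.isOpen_compl
    · exact hcl.preimage hf.continuous

theorem isSpectralMap_of_continuous_constructible [CompactSpace X] [QuasiSober X] [PrespectralSpace X]
    [QuasiSeparatedSpace X] {f : X → Y} (hf : Continuous f)
    (hfc : Continuous[constructibleTopology X, constructibleTopology Y] f) : IsSpectralMap f := by
  refine ⟨hf, fun s ho hc => ?_⟩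
  apply isCompact_of_isClosed_constructible
  exact @IsClosed.preimage _ _ (constructibleTopology X) (constructibleTopology Y) _ hfc _
    (isClosed_constructible_of_isCompact_isOpen hc ho)

end Groth.Agent.Lib.Helper89
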