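import Groth.Agent.Lib.Helper39.Dual.LocExt

/-!
# A non-local version of the local model of a dualizing complex at a prime
-/

set_option autoImplicit false
universe u

namespace Groth.Agent.Lib.Helper89.CplDim

open CategoryTheory CategoryTheory.Limits CategoryTheory.Pretriangulated DerivedCategory
open Groth.Agent.Lib.Helper84 Groth.Agent.Lib.Helper25.Bidual Groth.Agent.Lib.Helper25.LocDual
open Groth.Agent.Lib.Helper39.Dual

attribute [local instance] HasDerivedCategory.standard

/-- localization at a prime of a (not necessarily local) Noetherian ring with a dualizing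
complex: there is a normalized dualizing complex on `A_p` computing the localized `Ext`. -/
theorem exists_local_model' {A : Type u} [CommRing A] [IsNoetherianRing A]
    (ω : Dual.D A) (hω : Dual.IsDualizing A ω) (p : PrimeSpectrum A) :
    ∃ (d : ℤ) (_ : IsNoetherianRing (Localization.AtPrime p.asIdeal))
      (ω' : Dual.D (Localization.AtPrime p.asIdeal)),
      Dual.IsDualizing (Localization.AtPrime p.asIdeal) ω' ∧
      Dual.IsNormalized (Localization.AtPrime p.asIdeal) ω' ∧
      (∀ i : ℤ, LocZero p.asIdeal.primeCompl (Dual.inD A (A ⧸ p.asIdeal) ⟶ ω⟦i⟧) ↔ i ≠ d) ∧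
      ∀ (M : ModuleCat.{u} A) [Module.Finite A M] (i : ℤ),
        LocZero p.asIdeal.primeCompl
          ((DerivedCategory.singleFunctor (ModuleCat.{u} A) 0).obj M ⟶ ω⟦i⟧) ↔
        Subsingleton ((DerivedCategory.singleFunctor
          (ModuleCat.{u} (Localization.AtPrime p.asIdeal)) 0).obj
            ((ModuleCat.extendScalars.{u, u, u}
              (algebraMap A (Localization.AtPrime p.asIdeal))).obj M) ⟶ ω'⟦i - d⟧) := by
  obtain ⟨I, a, b, hI, hz, ⟨eI⟩⟩ := exists_bounded_injective_model ω hω
  have hz' : ∀ i, (i < a ∨ max a b < i) → IsZero (I.X i) := fun i hi => by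
    rcases hi with hi | hi
    · exact hz i (Or.inl hi)
    · exact hz i (Or.inr (lt_of_le_of_lt (le_max_right a b) hi))
  have hωI := isDualizing_of_iso eI.symm hω
  obtain ⟨n, hn, hcov⟩ := dimFun_model I a (max a b) (le_max_left a b) hI hz' hωI
  let S := p.asIdeal.primeCompl
  let B := Localization.AtPrime p.asIdeal
  let φ : A →+* B := algebraMap A B
  have hloc : @IsLocalization A _ S B _ φ.toAlgebra := by
    have h : φ.toAlgebra = (inferInstance : Algebra A B) :=
      Algebra.algebra_ext _ _ (fun _ => rfl)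
    rw [h]
    infer_instance
  have hB : Dual.IsDualizing B (Q.obj ((DTen.extCx φ).obj I)) :=
    isDualizing_ext φ S hloc I a (max a b) (le_max_left a b) hI hz' hωI
  haveI hBn : IsNoetherianRing B := hB.isNoetherianRing
  have hiff : ∀ (M : ModuleCat.{u} A) (i : ℤ),
      LocZero S ((DerivedCategory.singleFunctor (ModuleCat.{u} A) 0).obj M ⟶ ω⟦i⟧) ↔
      LocZero S ((DerivedCategory.singleFunctor (ModuleCat.{u} A) 0).obj M ⟶ (Q.obj I)⟦i⟧) :=
    fun M i => ⟨fun h => h.of_linearEquiv (Linear.homCongr A (Iso.refl _)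
        ((shiftFunctor (Dual.D A) i).mapIso eI.symm)),
      fun h => h.of_linearEquiv (Linear.homCongr A (Iso.refl _)
        ((shiftFunctor (Dual.D A) i).mapIso eI))⟩
  refine ⟨n p, hBn, (Q.obj (JJ φ I))⟦n p⟧, isDualizing_shift _ hB _, ?_, ?_, ?_⟩
  · intro i hi
    have h1 : Subsingleton (Dual.inD B (B ⧸ IsLocalRing.maximalIdeal B) ⟶
        (Q.obj (JJ φ I))⟦n p + i⟧) :=
      (locZero_hom_quot_prime_iff φ p.asIdeal hloc I a (max a b) hI hz' (n p + i)).1
        ((hn p (n p + i)).2 (by omega))
    exact (subsingleton_hom_congr_right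
      ((shiftFunctorAdd' (Dual.D B) (n p) i (n p + i) rfl).app (Q.obj (JJ φ I)))).1 h1
  · intro i
    rw [← hn p i]
    exact hiff (ModuleCat.of A (A ⧸ p.asIdeal)) i
  · intro M _ i
    rw [hiff, locZero_hom_single_iff φ S hloc I a (max a b) hI hz' M i]
    have hidx : n p + (i - n p) = i := by omega
    exact subsingleton_hom_congr_right
      ((shiftFunctorAdd' (Dual.D B) (n p) (i - n p) i hidx).app (Q.obj (JJ φ I)))

end Groth.Agent.Lib.Helper89.CplDim
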