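import Groth.Agent.Lib.Helper89.CplDimA
import Groth.Agent.Lib.Helper67.Depth2

/-!
# Depth at a prime via the top non-vanishing `Ext` into a dualizing complex
-/

set_option autoImplicit false
universe u

namespace Groth.Agent.Lib.Helper89.CplDim

open CategoryTheory CategoryTheory.Limits CategoryTheory.Pretriangulated DerivedCategory
open Groth.Agent.Lib.Helper84 Groth.Agent.Lib.Helper25.Bidual Groth.Agent.Lib.Helper25.LocDual
open Groth.Agent.Lib.Helper39.Dual

attribute [local instance] HasDerivedCategory.standard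

/-- `Ext^{d-j}(M, ω)_p = 0` for `j < depth M_p` and `Ext^{d - depth M_p}(M, ω)_p ≠ 0`, where `d`
is the unique degree with `Ext^d(A/p, ω)_p ≠ 0`. -/
theorem locZero_of_depth {A : Type u} [CommRing A] [IsNoetherianRing A]
    (ω : Dual.D A) (hω : Dual.IsDualizing A ω) (p : PrimeSpectrum A) (d : ℤ)
    (hd : ∀ i : ℤ, LocZero p.asIdeal.primeCompl (Dual.inD A (A ⧸ p.asIdeal) ⟶ ω⟦i⟧) ↔ i ≠ d)
    (M : Type u) [AddCommGroup M] [Module A M] [Module.Finite A M] (k : ℕ)
    (hk : LocCoh.depth (Localization.AtPrime p.asIdeal)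
      (LocalizedModule p.asIdeal.primeCompl M) = (k : ℕ∞)) :
    (∀ i : ℤ, d - (k : ℤ) < i → LocZero p.asIdeal.primeCompl (Dual.inD A M ⟶ ω⟦i⟧)) ∧
      ¬ LocZero p.asIdeal.primeCompl (Dual.inD A M ⟶ ω⟦d - (k : ℤ)⟧) := by
  obtain ⟨d', hBn, ω', hω', hn', hd', hiff⟩ := exists_local_model' ω hω p
  have hdd : d' = d := by
    by_contra hne
    exact ((hd' d').1 ((hd d').2 hne)) rfl
  subst hdd
  obtain ⟨eN⟩ := nonempty_extendScalars_equiv_localizedModule p.asIdeal M
  have hfinB := finite_extendScalars (algebraMap A (Localization.AtPrime p.asIdeal)) M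
  rw [← Groth.Agent.Lib.Helper67.depth_congr eN] at hk
  have hnt : Nontrivial ((ModuleCat.extendScalars.{u, u, u}
      (algebraMap A (Localization.AtPrime p.asIdeal))).obj (ModuleCat.of A M)) := by
    by_contra hsub
    rw [not_nontrivial_iff_subsingleton] at hsub
    have hdtop : LocCoh.depth (Localization.AtPrime p.asIdeal)
        ((ModuleCat.extendScalars.{u, u, u}
          (algebraMap A (Localization.AtPrime p.asIdeal))).obj (ModuleCat.of A M)) = ⊤ := by
      unfold LocCoh.depth LocCoh.idealDepth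
      rw [if_pos (Subsingleton.elim _ _)]
    rw [hdtop] at hk
    exact ENat.top_ne_coe k hk
  constructor
  · intro i hi
    have := hiff (ModuleCat.of A M) i
    change LocZero _ ((DerivedCategory.singleFunctor (ModuleCat.{u} A) 0).obj (ModuleCat.of A M) ⟶ _)
    rw [this]
    exact vanProp ω' hω' hn' (i - d')
      ((ModuleCat.extendScalars.{u, u, u}
          (algebraMap A (Localization.AtPrime p.asIdeal))).obj (ModuleCat.of A M)) k
      (le_of_eq hk.symm) (by omega)
  · have := hiff (ModuleCat.of A M) (d' - (k : ℤ))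
    change ¬ LocZero _ ((DerivedCategory.singleFunctor (ModuleCat.{u} A) 0).obj (ModuleCat.of A M) ⟶ _)
    rw [this, not_subsingleton_iff_nontrivial]
    have hntk := nontrivial_hom_of_depth_eq ω' hω' hn' k
      ((ModuleCat.extendScalars.{u, u, u}
          (algebraMap A (Localization.AtPrime p.asIdeal))).obj (ModuleCat.of A M)) hk
    have hidx : d' - (k : ℤ) - d' = -(k : ℤ) := by ring
    rw [hidx]
    exact hntk

end Groth.Agent.Lib.Helper89.CplDim
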