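import Groth.Agent.Lib.Helper89.BCHom4
import Groth.Agent.Lib.Helper25.LocDual.HomLoc

/-!
# Flat base change and vanishing of localizations of `Hom` modules
-/

set_option autoImplicit false
universe u v

namespace Groth.Agent.Lib.Helper89.CplDim

open CategoryTheory CategoryTheory.Limits DerivedCategory TensorProduct
open Groth.Agent.Lib.Helper84 Groth.Agent.Lib.Helper25.LocDual

attribute [local instance] HasDerivedCategory.standard

section Tensor

variable {A B : Type u} [CommRing A] [CommRing B] [Algebra A B]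

theorem locZero_tensor_of_locZero (H : Type v) [AddCommGroup H] [Module A H] (p' : Ideal B)
    [p'.IsPrime] (h : LocZero (p'.comap (algebraMap A B)).primeCompl H) :
    LocZero p'.primeCompl (B ⊗[A] H) := by
  intro t
  induction t using TensorProduct.induction_on with
  | zero => exact ⟨1, Submonoid.one_mem _, by simp⟩
  | tmul b x =>
    obtain ⟨s, hs, h0⟩ := h x
    refine ⟨algebraMap A B s, hs, ?_⟩
    rw [algebraMap_smul, ← TensorProduct.tmul_smul, h0, TensorProduct.tmul_zero]
  | add x y hx hy =>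
    obtain ⟨r, hr, h1⟩ := hx
    obtain ⟨r', hr', h2⟩ := hy
    refine ⟨r * r', Submonoid.mul_mem _ hr hr', ?_⟩
    rw [smul_add, mul_smul r r' y, h2, smul_zero, mul_comm, mul_smul r' r x, h1, smul_zero,
      add_zero]

theorem locZero_of_locZero_tensor [Module.Flat A B] (H : Type v) [AddCommGroup H] [Module A H]
    (p' : Ideal B) [p'.IsPrime] (h : LocZero p'.primeCompl (B ⊗[A] H)) :
    LocZero (p'.comap (algebraMap A B)).primeCompl H := by
  intro x
  let a : Ideal A := LinearMap.ker (LinearMap.toSpanSingleton A H x)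
  by_contra hcon
  have hle : a ≤ p'.comap (algebraMap A B) := by
    intro s hs
    by_contra hsp
    exact hcon ⟨s, hsp, by simpa [a, LinearMap.toSpanSingleton_apply] using hs⟩
  -- the injection `A ⧸ a → H`
  let ι : (A ⧸ a) →ₗ[A] H := Submodule.liftQ a (LinearMap.toSpanSingleton A H x) le_rfl
  have hι : Function.Injective ι := by
    rw [← LinearMap.ker_eq_bot]
    exact Submodule.ker_liftQ_eq_bot _ _ _ le_rfl
  have hinj : Function.Injective (ι.lTensor B) :=
    Module.Flat.lTensor_preserves_injective_linearMap ι hι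
  obtain ⟨t, ht, h0⟩ := h ((1 : B) ⊗ₜ[A] x)
  have h1 : (ι.lTensor B) (t ⊗ₜ[A] (Submodule.Quotient.mk (1 : A) : A ⧸ a)) = 0 := by
    rw [LinearMap.lTensor_tmul]
    have : ι (Submodule.Quotient.mk (1 : A)) = x := by
      change (Submodule.liftQ a (LinearMap.toSpanSingleton A H x) le_rfl)
        (Submodule.Quotient.mk (1 : A)) = x
      rw [Submodule.liftQ_apply, LinearMap.toSpanSingleton_apply, one_smul]
    rw [this]
    rw [TensorProduct.smul_tmul', smul_eq_mul, mul_one] at h0
    exact h0
  have h2 : t ⊗ₜ[A] (Submodule.Quotient.mk (1 : A) : A ⧸ a) = (0 : B ⊗[A] (A ⧸ a)) :=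
    hinj (h1.trans (map_zero _).symm)
  have h3 := congrArg (TensorProduct.tensorQuotEquivQuotSMul B a) h2
  rw [map_zero] at h3
  have h4 : (Submodule.Quotient.mk t : B ⧸ (a • ⊤ : Submodule A B)) = 0 := by
    have := TensorProduct.tensorQuotEquivQuotSMul_tmul_mk (M := B) a t (1 : A)
    simpa using this.symm.trans h3
  rw [Submodule.Quotient.mk_eq_zero, Ideal.smul_top_eq_map] at h4
  have h5 : t ∈ Ideal.map (algebraMap A B) a := h4
  exact ht ((Ideal.map_le_iff_le_comap.2 hle) h5)

end Tensor

section BC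

variable {A B : Type u} [CommRing A] [CommRing B] [IsNoetherianRing A]

/-- flat base change: the localization at `p'` of `Hom(bc M, bc N)` vanishes iff the localization
at `p' ∩ A` of `Hom(M, N)` does. -/
theorem locZero_bc_iff (f : A →+* B) (hf : f.Flat) [PreservesFiniteLimits (FlatBC.ext f)]
    (M N : Dual.D A) (hM : HomFinite.BddFin M)
    (c : ℤ) (hN : N.IsGE c) (p' : Ideal B) [p'.IsPrime] :
    LocZero p'.primeCompl ((FlatBC.bc f).obj M ⟶ (FlatBC.bc f).obj N) ↔
      LocZero (p'.comap f).primeCompl (M ⟶ N) := by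
  letI := f.toAlgebra
  haveI : Module.Flat A B := hf
  obtain ⟨hi, hs⟩ := BCHom.bij_of_bddFin f hf M N hM c hN
  let e : (B ⊗[A] (M ⟶ N)) ≃ₗ[B] ((FlatBC.bc f).obj M ⟶ (FlatBC.bc f).obj N) :=
    LinearEquiv.ofBijective (BCHom.Θ B M N) ⟨hi, hs⟩
  constructor
  · intro h
    exact locZero_of_locZero_tensor (M ⟶ N) p' (h.of_linearEquiv e.symm)
  · intro h
    exact (locZero_tensor_of_locZero (M ⟶ N) p' h).of_linearEquiv e

end BC

end Groth.Agent.Lib.Helper89.CplDim
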