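import Groth.Agent.Lib.Helper89.CplDimB
import Groth.Agent.Lib.Helper89.CplDimC
import Groth.Agent.Lib.Helper89.Bass2

/-!
# Comparison of the dimension functions of `ω` and of its flat base change
-/

set_option autoImplicit false
set_option linter.style.haveILetI false
universe u

namespace Groth.Agent.Lib.Helper89.CplDim

open CategoryTheory CategoryTheory.Limits CategoryTheory.Pretriangulated DerivedCategory
  TensorProduct
open Groth.Agent.Lib.Helper84 Groth.Agent.Lib.Helper25.LocDual Groth.Agent.Lib.Helper89.BCHom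

attribute [local instance] HasDerivedCategory.standard

variable {A B : Type u} [CommRing A] [CommRing B] (f : A →+* B) [IsNoetherianRing A]
  [PreservesFiniteLimits (FlatBC.ext f)]

/-- transfer of the vanishing of localized `Ext` modules along a flat base change -/
theorem locZero_transfer (hf : f.Flat) (ω : Dual.D A) (a : ℤ) (hGE : ω.IsGE a)
    (N : Type u) [AddCommGroup N] [Module A N] [Module.Finite A N]
    (N' : Type u) [AddCommGroup N'] [Module B N']
    (e : ((FlatBC.ext f).obj (ModuleCat.of A N)) ≃ₗ[B] N') (i : ℤ) (p' : Ideal B) [p'.IsPrime] :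
    LocZero p'.primeCompl (Dual.inD B N' ⟶ ((FlatBC.bc f).obj ω)⟦i⟧) ↔
      LocZero (p'.comap f).primeCompl (Dual.inD A N ⟶ ω⟦i⟧) := by
  have hGEs : (ω⟦i⟧).IsGE (a - i) :=
    DerivedCategory.TStructure.t.isGE_shift ω a i (a - i) (by lia)
  rw [← locZero_bc_iff f hf (Dual.inD A N) (ω⟦i⟧) (bddFin_inD N) (a - i) hGEs p']
  let e1 : (FlatBC.bc f).obj (Dual.inD A N) ≅ Dual.inD B N' :=
    FlatBC.bcSingle f (ModuleCat.of A N) 0 ≪≫
      (singleFunctor (ModuleCat.{u} B) 0).mapIso e.toModuleIso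
  let e2 : (FlatBC.bc f).obj (ω⟦i⟧) ≅ ((FlatBC.bc f).obj ω)⟦i⟧ :=
    ((FlatBC.bc f).commShiftIso i).app ω
  exact ⟨fun h => h.of_linearEquiv (Linear.homCongr B e1.symm e2.symm),
    fun h => h.of_linearEquiv (Linear.homCongr B e1 e2)⟩

variable [IsNoetherianRing B]

/-- the key comparison: `d - depth N_p = d' - depth N'_{p'}` -/
theorem degree_sub_depth_eq (hf : f.Flat) (ω : Dual.D A) (hω : Dual.IsDualizing A ω)
    (hω' : Dual.IsDualizing B ((FlatBC.bc f).obj ω))
    (p' : PrimeSpectrum B) (p : PrimeSpectrum A) (hp : p.asIdeal = p'.asIdeal.comap f)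
    (d d' : ℤ)
    (hd : ∀ i : ℤ, LocZero p.asIdeal.primeCompl (Dual.inD A (A ⧸ p.asIdeal) ⟶ ω⟦i⟧) ↔ i ≠ d)
    (hd' : ∀ i : ℤ, LocZero p'.asIdeal.primeCompl
      (Dual.inD B (B ⧸ p'.asIdeal) ⟶ ((FlatBC.bc f).obj ω)⟦i⟧) ↔ i ≠ d')
    (N : Type u) [AddCommGroup N] [Module A N] [Module.Finite A N]
    (N' : Type u) [AddCommGroup N'] [Module B N'] [Module.Finite B N']
    (e : ((FlatBC.ext f).obj (ModuleCat.of A N)) ≃ₗ[B] N') (k k' : ℕ)
    (hk : LocCoh.depth (Localization.AtPrime p.asIdeal)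
      (LocalizedModule p.asIdeal.primeCompl N) = (k : ℕ∞))
    (hk' : LocCoh.depth (Localization.AtPrime p'.asIdeal)
      (LocalizedModule p'.asIdeal.primeCompl N') = (k' : ℕ∞)) :
    d - (k : ℤ) = d' - (k' : ℤ) := by
  obtain ⟨a₀, b₀, hab₀⟩ := hω.finite_injective_dimension
  have hGE₀ : ω.IsGE a₀ := Bass.isGE_of_fid ω a₀ b₀ hab₀
  obtain ⟨h1, h2⟩ := locZero_of_depth ω hω p d hd N k hk
  obtain ⟨h1', h2'⟩ := locZero_of_depth ((FlatBC.bc f).obj ω) hω' p' d' hd' N' k' hk'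
  have htr : ∀ i : ℤ, LocZero p'.asIdeal.primeCompl
      (Dual.inD B N' ⟶ ((FlatBC.bc f).obj ω)⟦i⟧) ↔
      LocZero p.asIdeal.primeCompl (Dual.inD A N ⟶ ω⟦i⟧) := by
    intro i
    have := locZero_transfer f hf ω a₀ hGE₀ N N' e i p'.asIdeal
    rw [this]
    have hS : (p'.asIdeal.comap f).primeCompl = p.asIdeal.primeCompl := by
      ext x
      simp only [Ideal.primeCompl, Submonoid.mem_mk, Subsemigroup.mem_mk]
      rw [hp]
    rw [hS]
  by_contra hne
  rcases lt_or_gt_of_ne hne with hlt | hgt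
  · -- `d - k < d' - k'`
    exact h2' ((htr _).2 (h1 (d' - (k' : ℤ)) hlt))
  · exact h2 ((htr _).1 (h1' (d - (k : ℤ)) hgt))

end Groth.Agent.Lib.Helper89.CplDim
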