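import Groth.Agent.Lib.Helper89.CplDimD

/-!
# Equality of degrees at a prime extended from the base
-/

set_option autoImplicit false
set_option linter.style.haveILetI false
universe u

namespace Groth.Agent.Lib.Helper89.CplDim

open CategoryTheory CategoryTheory.Limits CategoryTheory.Pretriangulated DerivedCategory
  TensorProduct
open Groth.Agent.Lib.Helper84 Groth.Agent.Lib.Helper25.LocDual Groth.Agent.Lib.Helper89.BCHom

attribute [local instance] HasDerivedCategory.standard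

variable {A B : Type u} [CommRing A] [CommRing B] (f : A →+* B) [IsNoetherianRing A]
  [PreservesFiniteLimits (FlatBC.ext f)]

theorem degree_eq_of_map_eq (hf : f.Flat) (ω : Dual.D A) (a : ℤ) (hGE : ω.IsGE a)
    (q' : PrimeSpectrum B) (q : PrimeSpectrum A) (hq : q.asIdeal = q'.asIdeal.comap f)
    (hmap : q.asIdeal.map f = q'.asIdeal) (d d' : ℤ)
    (hd : ∀ i : ℤ, LocZero q.asIdeal.primeCompl (Dual.inD A (A ⧸ q.asIdeal) ⟶ ω⟦i⟧) ↔ i ≠ d)
    (hd' : ∀ i : ℤ, LocZero q'.asIdeal.primeCompl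
      (Dual.inD B (B ⧸ q'.asIdeal) ⟶ ((FlatBC.bc f).obj ω)⟦i⟧) ↔ i ≠ d') :
    d = d' := by
  letI := f.toAlgebra
  let e : ((FlatBC.ext f).obj (ModuleCat.of A (A ⧸ q.asIdeal))) ≃ₗ[B] (B ⧸ q'.asIdeal) :=
    (Algebra.TensorProduct.quotIdealMapEquivTensorQuotAux B q.asIdeal).symm ≪≫ₗ
      Submodule.quotEquivOfEq _ _ hmap
  have htr := locZero_transfer f hf ω a hGE (A ⧸ q.asIdeal) (B ⧸ q'.asIdeal) e d q'.asIdeal
  have hS : (q'.asIdeal.comap f).primeCompl = q.asIdeal.primeCompl := by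
    ext x
    simp only [Ideal.primeCompl, Submonoid.mem_mk, Subsemigroup.mem_mk]
    rw [hq]
  rw [hS, hd d, hd' d] at htr
  by_contra hne
  exact (htr.1 hne) rfl

end Groth.Agent.Lib.Helper89.CplDim
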