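import Groth.Agent.Lib.Helper89.CplDimE
import Groth.Agent.Lib.Helper92.BootDepth
import Groth.Agent.S0543

/-!
# Depth and dimension under `I`-adic completion (Noetherian rings with a dualizing complex)
-/

set_option autoImplicit false
set_option linter.style.haveILetI false
universe u

namespace Groth.Agent.Lib.Helper89.CplDim

open CategoryTheory CategoryTheory.Limits CategoryTheory.Pretriangulated DerivedCategory
  TensorProduct
open Groth.Agent.Lib.Helper84 Groth.Agent.Lib.Helper25.LocDual Groth.Agent.Lib.Helper89.BCHom

attribute [local instance] HasDerivedCategory.standard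

/-- `ext (algebraMap A B) N` is `B ⊗[A] N` -/
theorem nonempty_ext_equiv_tensor {A B : Type u} [CommRing A] [CommRing B] [alg : Algebra A B]
    (N : Type u) [AddCommGroup N] [Module A N] :
    Nonempty (((FlatBC.ext (algebraMap A B)).obj (ModuleCat.of A N)) ≃ₗ[B] (B ⊗[A] N)) := by
  have key : ∀ (f : A →+* B) (alg' : Algebra A B), f.toAlgebra = alg' →
      letI := alg'
      Nonempty (((FlatBC.ext f).obj (ModuleCat.of A N)) ≃ₗ[B] (B ⊗[A] N)) := by
    intro f alg' h'
    subst h'
    exact ⟨LinearEquiv.refl _ _⟩
  exact key (algebraMap A B) alg (Algebra.algebra_ext _ _ (fun _ => rfl))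

/-- ideals of the completion containing `I A'` are extended from `A` -/
theorem map_comap_eq_of_le {A : Type u} [CommRing A] [IsNoetherianRing A] (I : Ideal A)
    (n : Ideal (AdicCompletion I A)) (hIn : I.map (algebraMap A (AdicCompletion I A)) ≤ n) :
    (n.comap (algebraMap A (AdicCompletion I A))).map (algebraMap A (AdicCompletion I A)) = n := by
  have fg : I.FG := IsNoetherian.noetherian I
  refine le_antisymm Ideal.map_comap_le ?_
  intro b hb
  obtain ⟨a, ha⟩ := Ideal.Quotient.mk_surjective (AdicCompletion.evalOneₐ I b)
  have hab : algebraMap A (AdicCompletion I A) a - b ∈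
      I.map (algebraMap A (AdicCompletion I A)) := by
    rw [← AdicCompletion.ker_evalOneₐ_eq_map I fg, RingHom.mem_ker, map_sub]
    have h1 : (AdicCompletion.evalOneₐ I).toRingHom (algebraMap A (AdicCompletion I A) a) =
        Ideal.Quotient.mk I a := (AdicCompletion.evalOneₐ I).commutes a
    have h2 : (AdicCompletion.evalOneₐ I).toRingHom b = Ideal.Quotient.mk I a := ha.symm
    rw [h1, h2, sub_self]
  have ha' : algebraMap A (AdicCompletion I A) a ∈ n := by
    have := n.add_mem (hIn hab) hb
    simpa using this
  have hIm : I.map (algebraMap A (AdicCompletion I A)) ≤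
      (n.comap (algebraMap A (AdicCompletion I A))).map (algebraMap A (AdicCompletion I A)) :=
    Ideal.map_mono (Ideal.map_le_iff_le_comap.1 hIn)
  have h1 : algebraMap A (AdicCompletion I A) a ∈
      (n.comap (algebraMap A (AdicCompletion I A))).map (algebraMap A (AdicCompletion I A)) :=
    Ideal.mem_map_of_mem _ ha'
  have h2 := Ideal.sub_mem _ h1 (hIm hab)
  simpa using h2

end Groth.Agent.Lib.Helper89.CplDim
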