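import Groth.Agent.Lib.Helper89.CplDimF

/-!
# Depth and dimension under `I`-adic completion: the main theorem
-/

set_option autoImplicit false
set_option linter.style.haveILetI false
universe u

namespace Groth.Agent.Lib.Helper89.CplDim

open CategoryTheory CategoryTheory.Limits CategoryTheory.Pretriangulated DerivedCategory
  TensorProduct
open Groth.Agent.Lib.Helper84 Groth.Agent.Lib.Helper25.LocDual Groth.Agent.Lib.Helper89.BCHom

attribute [local instance] HasDerivedCategory.standard

/-- the interval dimension statement used below -/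
def IccStatement : Prop :=
  ∀ (R : Type u) [CommRing R] [IsNoetherianRing R] (δ : PrimeSpectrum R → ℤ)
    (_ : ∀ p q : PrimeSpectrum R, p ⋖ q → δ p = δ q + 1) (p q : PrimeSpectrum R) (_ : p ≤ q),
    ∃ n : ℕ, Order.krullDim (Set.Icc p q) = ((n : ℕ∞) : WithBot ℕ∞) ∧ δ p = δ q + (n : ℤ)

theorem depth_eq_top_of_subsingleton {R : Type u} [CommRing R] [IsLocalRing R] (M : Type u)
    [AddCommGroup M] [Module R M] [Subsingleton M] : LocCoh.depth R M = ⊤ := by
  unfold LocCoh.depth LocCoh.idealDepth
  rw [if_pos (Subsingleton.elim _ _)]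

theorem main (hIcc : IccStatement.{u}) (A : Type u) [CommRing A] [IsNoetherianRing A]
    (ω : Dual.D A) (hω : Dual.IsDualizing A ω)
    (I : Ideal A) (M : Type u) [AddCommGroup M] [Module A M] [Module.Finite A M]
    (p' q' : PrimeSpectrum (AdicCompletion I A)) (hpq : p' ≤ q')
    (hq : Ideal.map (algebraMap A (AdicCompletion I A)) I ≤ q'.asIdeal) :
    LocCoh.depth (Localization.AtPrime (p'.asIdeal.comap (algebraMap A (AdicCompletion I A))))
        (LocalizedModule (p'.asIdeal.comap (algebraMap A (AdicCompletion I A))).primeCompl M) ≤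
      LocCoh.depth (Localization.AtPrime p'.asIdeal)
        (LocalizedModule p'.asIdeal.primeCompl (AdicCompletion I M)) ∧
    ((LocCoh.depth (Localization.AtPrime p'.asIdeal)
        (LocalizedModule p'.asIdeal.primeCompl (AdicCompletion I M)) : ℕ∞) : WithBot ℕ∞) +
        Order.krullDim (Set.Icc p' q') =
      ((LocCoh.depth (Localization.AtPrime (p'.asIdeal.comap (algebraMap A (AdicCompletion I A))))
        (LocalizedModule (p'.asIdeal.comap (algebraMap A (AdicCompletion I A))).primeCompl M) : ℕ∞) :
          WithBot ℕ∞) +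
        Order.krullDim (Set.Icc ((PrimeSpectrum.comap (algebraMap A (AdicCompletion I A))) p')
          ((PrimeSpectrum.comap (algebraMap A (AdicCompletion I A))) q')) := by
  haveI : IsNoetherianRing (AdicCompletion I A) := Groth.Agent.S0543.result A I
  let f : A →+* AdicCompletion I A := algebraMap A (AdicCompletion I A)
  have hf : f.Flat := RingHom.flat_algebraMap_iff.2 inferInstance
  haveI : PreservesFiniteLimits (FlatBC.ext f) := FlatBC.preservesFiniteLimits_ext _ hf
  have hJ : I.map f ≤ (⊥ : Ideal (AdicCompletion I A)).jacobson := by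
    haveI := AdicCompletion.isAdicComplete_self I (IsNoetherian.noetherian I)
    exact IsAdicComplete.le_jacobson_bot _
  have hmax : ∀ n : Ideal (AdicCompletion I A), n.IsMaximal → ∃ m : Ideal A, n = m.map f :=
    fun n hn => ⟨n.comap f,
      (map_comap_eq_of_le I n (hJ.trans (sInf_le ⟨bot_le, hn⟩))).symm⟩
  have hω' : Dual.IsDualizing (AdicCompletion I A) ((FlatBC.bc f).obj ω) :=
    Bass.isDualizing_bc f hf hmax ω hω
  obtain ⟨a₀, b₀, hab₀⟩ := hω.finite_injective_dimension
  have hGE₀ : ω.IsGE a₀ := Bass.isGE_of_fid ω a₀ b₀ hab₀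
  obtain ⟨δ, hδ1, hδ2⟩ := dimFun_main ω hω
  obtain ⟨δ', hδ1', hδ2'⟩ := dimFun_main ((FlatBC.bc f).obj ω) hω'
  have hd : ∀ (P : PrimeSpectrum A) (i : ℤ), LocZero P.asIdeal.primeCompl
      (Dual.inD A (A ⧸ P.asIdeal) ⟶ ω⟦i⟧) ↔ i ≠ -δ P := by
    intro P i
    rw [locZero_iff_subsingleton, ← not_nontrivial_iff_subsingleton, hδ1 P i]
  have hd' : ∀ (P : PrimeSpectrum (AdicCompletion I A)) (i : ℤ), LocZero P.asIdeal.primeCompl
      (Dual.inD (AdicCompletion I A) (AdicCompletion I A ⧸ P.asIdeal) ⟶
        ((FlatBC.bc f).obj ω)⟦i⟧) ↔ i ≠ -δ' P := by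
    intro P i
    rw [locZero_iff_subsingleton, ← not_nontrivial_iff_subsingleton, hδ1' P i]
  let p : PrimeSpectrum A := PrimeSpectrum.comap f p'
  let q : PrimeSpectrum A := PrimeSpectrum.comap f q'
  have hpq' : p ≤ q := by
    change Ideal.comap f p'.asIdeal ≤ Ideal.comap f q'.asIdeal
    exact Ideal.comap_mono hpq
  -- the degrees at `q` and `q'` agree
  have hqq : -δ q = -δ' q' :=
    degree_eq_of_map_eq f hf ω a₀ hGE₀ q' q rfl (map_comap_eq_of_le I q'.asIdeal hq) _ _
      (hd q) (hd' q')
  obtain ⟨n, hn1, hn2⟩ := hIcc A δ (fun x y h => hδ2 x y h) p q hpq'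
  obtain ⟨n', hn1', hn2'⟩ := hIcc (AdicCompletion I A) δ' (fun x y h => hδ2' x y h) p' q' hpq
  -- the depth formula
  haveI : IsNoetherianRing (Localization.AtPrime p'.asIdeal) :=
    IsLocalization.isNoetherianRing p'.asIdeal.primeCompl _ inferInstance
  let e := AdicCompletion.ofTensorProductEquivOfFiniteNoetherian I M
  let eloc := IsLocalizedModule.mapEquiv p'.asIdeal.primeCompl
    (LocalizedModule.mkLinearMap p'.asIdeal.primeCompl (AdicCompletion I A ⊗[A] M))
    (LocalizedModule.mkLinearMap p'.asIdeal.primeCompl (AdicCompletion I M))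
    (Localization.AtPrime p'.asIdeal) e
  have hcongr := Groth.Agent.Lib.Helper67.depth_congr eloc
  obtain ⟨h1, -⟩ := Groth.Agent.Lib.Helper80.TensorLoc.formulas (A := A)
    (B := AdicCompletion I A) M (AdicCompletion I A) p'.asIdeal
  rw [hcongr] at h1
  refine ⟨?_, ?_⟩
  · rw [h1]
    exact le_self_add
  · change _ = _ + Order.krullDim (Set.Icc p q)
    rw [hn1, hn1']
    -- case distinction on the depth of `M_p`
    by_cases htop : LocCoh.depth (Localization.AtPrime (p'.asIdeal.comap f))
        (LocalizedModule (p'.asIdeal.comap f).primeCompl M) = ⊤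
    · have htop' : LocCoh.depth (Localization.AtPrime p'.asIdeal)
          (LocalizedModule p'.asIdeal.primeCompl (AdicCompletion I M)) = ⊤ := by
        rw [h1, htop, top_add]
      rw [htop, htop', ← WithBot.coe_add, ← WithBot.coe_add, top_add, top_add]
    · obtain ⟨k, hk⟩ := ENat.ne_top_iff_exists.1 htop
      have htop' : LocCoh.depth (Localization.AtPrime p'.asIdeal)
          (LocalizedModule p'.asIdeal.primeCompl (AdicCompletion I M)) ≠ ⊤ := by
        intro h
        rw [← hcongr] at h
        have hsub : Subsingleton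
            (LocalizedModule p'.asIdeal.primeCompl (AdicCompletion I A ⊗[A] M)) := by
          by_contra hns
          rw [not_subsingleton_iff_nontrivial] at hns
          exact Groth.Agent.Lib.Helper67.depth_ne_top (R := Localization.AtPrime p'.asIdeal)
            (M := LocalizedModule p'.asIdeal.primeCompl (AdicCompletion I A ⊗[A] M)) h
        have hlz : LocZero p'.asIdeal.primeCompl (AdicCompletion I A ⊗[A] M) :=
          (locZero_iff_subsingleton _ _).2 hsub
        have hlz' := locZero_of_locZero_tensor M p'.asIdeal hlz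
        haveI : Subsingleton (LocalizedModule (p'.asIdeal.comap f).primeCompl M) :=
          (locZero_iff_subsingleton _ _).1 hlz'
        exact htop (depth_eq_top_of_subsingleton _)
      obtain ⟨k', hk'⟩ := ENat.ne_top_iff_exists.1 htop'
      obtain ⟨e0⟩ := nonempty_ext_equiv_tensor (A := A) (B := AdicCompletion I A) M
      haveI : Module.Finite (AdicCompletion I A) (AdicCompletion I M) :=
        Module.Finite.equiv e
      have key := degree_sub_depth_eq f hf ω hω hω' p' p rfl (-δ p) (-δ' p') (hd p) (hd' p')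
        M (AdicCompletion I M) (e0 ≪≫ₗ e) k k' hk.symm hk'.symm
      have hsum : k' + n' = k + n := by omega
      rw [← hk, ← hk', ← WithBot.coe_add, ← WithBot.coe_add]
      have : ((k' : ℕ∞) + (n' : ℕ∞)) = ((k : ℕ∞) + (n : ℕ∞)) := by exact_mod_cast hsum
      rw [this]

end Groth.Agent.Lib.Helper89.CplDim
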