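import Groth.Agent.Lib.Helper89.CplDimG
import Groth.Agent.Lib.Helper67.IterLoc2
import Groth.Agent.Lib.Helper25.LocDual.DimFunLocal

/-!
# Depth on completions of the local rings `A_q` from the depth/dimension condition
-/

set_option autoImplicit false
set_option linter.style.haveILetI false
universe u

namespace Groth.Agent.Lib.Helper89.CplDim

open CategoryTheory CategoryTheory.Limits CategoryTheory.Pretriangulated DerivedCategory
  TensorProduct
open Groth.Agent.Lib.Helper84 Groth.Agent.Lib.Helper25.LocDual Groth.Agent.Lib.Helper89.BCHom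

attribute [local instance] HasDerivedCategory.standard

/-- the bound of interval dimensions by the cohomological dimension used below -/
def IccCdStatement : Prop :=
  ∀ (A R : Type u) [CommRing A] [IsNoetherianRing A] [CommRing R]
    [IsNoetherianRing R] [Algebra A R] (I : Ideal A) (d : ℕ) (_ : LocCoh.CdLE A I d)
    (p' q' : PrimeSpectrum R) (_ : p' ≤ q')
    (_ : I.map (algebraMap A R) ≤ q'.asIdeal)
    (_ : ∀ r : PrimeSpectrum R, p' ≤ r → r ≤ q' → I.map (algebraMap A R) ≤ r.asIdeal → r = q'),
    Order.krullDim (Set.Icc p' q') ≤ ((d : ℕ∞) : WithBot ℕ∞)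

theorem exists_sub_mem_map {A : Type u} [CommRing A] [IsNoetherianRing A] (I : Ideal A)
    (b : AdicCompletion I A) :
    ∃ a : A, algebraMap A (AdicCompletion I A) a - b ∈
      I.map (algebraMap A (AdicCompletion I A)) := by
  have fg : I.FG := IsNoetherian.noetherian I
  obtain ⟨a, ha⟩ := Ideal.Quotient.mk_surjective (AdicCompletion.evalOneₐ I b)
  refine ⟨a, ?_⟩
  rw [← AdicCompletion.ker_evalOneₐ_eq_map I fg, RingHom.mem_ker, map_sub]
  have h1 : (AdicCompletion.evalOneₐ I).toRingHom (algebraMap A (AdicCompletion I A) a) =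
      Ideal.Quotient.mk I a := (AdicCompletion.evalOneₐ I).commutes a
  have h2 : (AdicCompletion.evalOneₐ I).toRingHom b = Ideal.Quotient.mk I a := ha.symm
  rw [h1, h2, sub_self]

/-- the contraction of a maximal ideal containing `I A'` is maximal -/
theorem comap_isMaximal {A : Type u} [CommRing A] [IsNoetherianRing A] (I : Ideal A)
    (n : Ideal (AdicCompletion I A)) (hn : n.IsMaximal)
    (hIn : I.map (algebraMap A (AdicCompletion I A)) ≤ n) :
    (n.comap (algebraMap A (AdicCompletion I A))).IsMaximal := by
  let g : A →+* (AdicCompletion I A ⧸ n) :=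
    (Ideal.Quotient.mk n).comp (algebraMap A (AdicCompletion I A))
  have hg : Function.Surjective g := by
    intro y
    obtain ⟨b, rfl⟩ := Ideal.Quotient.mk_surjective y
    obtain ⟨a, ha⟩ := exists_sub_mem_map I b
    refine ⟨a, ?_⟩
    change Ideal.Quotient.mk n (algebraMap A (AdicCompletion I A) a) = Ideal.Quotient.mk n b
    rw [Ideal.Quotient.eq]
    exact hIn ha
  haveI : (⊥ : Ideal (AdicCompletion I A ⧸ n)).IsMaximal := by
    haveI := hn
    letI := Ideal.Quotient.field n
    exact Ideal.bot_isMaximal
  have h1 := Ideal.comap_isMaximal_of_surjective g hg (K := ⊥)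
  have h2 : Ideal.comap g ⊥ = n.comap (algebraMap A (AdicCompletion I A)) := by
    change Ideal.comap ((Ideal.Quotient.mk n).comp (algebraMap A (AdicCompletion I A))) ⊥ = _
    rw [← Ideal.comap_comap, ← RingHom.ker_eq_comap_bot, Ideal.mk_ker]
  rw [← h2]
  exact h1

end Groth.Agent.Lib.Helper89.CplDim
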