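import Groth.Agent.Lib.Helper89.CplDimH
import Groth.Prelude.Def_Formal2

/-!
# Depth on completions of the local rings `A_q` from the depth/dimension condition: main theorem
-/

set_option autoImplicit false
set_option linter.style.haveILetI false
universe u

namespace Groth.Agent.Lib.Helper89.CplDim

open CategoryTheory CategoryTheory.Limits CategoryTheory.Pretriangulated DerivedCategory
  TensorProduct
open Groth.Agent.Lib.Helper84 Groth.Agent.Lib.Helper25.LocDual Groth.Agent.Lib.Helper89.BCHom

attribute [local instance] HasDerivedCategory.standard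

theorem main2 (hIcc : IccStatement.{u}) (hIccCd : IccCdStatement.{u})
    (A : Type u) [CommRing A] [IsNoetherianRing A]
    (hdc : ∃ ω : Dual.D A, Dual.IsDualizing A ω) (I 𝔞 : Ideal A) (hI𝔞 : I ≤ 𝔞) (d : ℕ)
    (hcd : LocCoh.CdLE A I d) (M : Type u) [AddCommGroup M] [Module A M] [Module.Finite A M]
    (s : ℕ)
    (hc : ∀ p q : PrimeSpectrum A, p ≤ q → ¬ I ≤ p.asIdeal → 𝔞 ≤ q.asIdeal →
      (s : ℕ∞) < LocCoh.depth (Localization.AtPrime p.asIdeal)
        (LocalizedModule p.asIdeal.primeCompl M) ∨
      (((d + s : ℕ) : ℕ∞) : WithBot ℕ∞) <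
        ((LocCoh.depth (Localization.AtPrime p.asIdeal)
          (LocalizedModule p.asIdeal.primeCompl M) : ℕ∞) : WithBot ℕ∞) +
          Formal2.dimBetween A p.asIdeal q.asIdeal)
    (q : PrimeSpectrum A) (h𝔞q : 𝔞 ≤ q.asIdeal)
    (p' : PrimeSpectrum (AdicCompletion (I.map (algebraMap A (Localization.AtPrime q.asIdeal)))
      (Localization.AtPrime q.asIdeal)))
    (hp' : ¬ (I.map (algebraMap A (AdicCompletion
      (I.map (algebraMap A (Localization.AtPrime q.asIdeal)))
      (Localization.AtPrime q.asIdeal)))) ≤ p'.asIdeal)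
    (hmaxp' : ∀ q' : PrimeSpectrum (AdicCompletion
      (I.map (algebraMap A (Localization.AtPrime q.asIdeal)))
      (Localization.AtPrime q.asIdeal)), p' ≤ q' →
      (I.map (algebraMap A (AdicCompletion (I.map (algebraMap A (Localization.AtPrime q.asIdeal)))
        (Localization.AtPrime q.asIdeal)))) ≤ q'.asIdeal → q'.asIdeal.IsMaximal) :
    (s : ℕ∞) < LocCoh.depth (Localization.AtPrime p'.asIdeal)
      (LocalizedModule p'.asIdeal.primeCompl
        (AdicCompletion (I.map (algebraMap A (Localization.AtPrime q.asIdeal)))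
          (LocalizedModule q.asIdeal.primeCompl M))) := by
  have hIq : I ≤ q.asIdeal := hI𝔞.trans h𝔞q
  obtain ⟨ω, hω⟩ := hdc
  obtain ⟨-, hBn, ωB, hωB, -, -, -⟩ := exists_local_model' ω hω q
  -- notation
  let B := Localization.AtPrime q.asIdeal
  let J : Ideal B := I.map (algebraMap A B)
  let B' := AdicCompletion J B
  haveI : IsNoetherianRing B' := Groth.Agent.S0543.result B J
  have hIJ : I.map (algebraMap A B') = J.map (algebraMap B B') := by
    rw [Ideal.map_map, ← IsScalarTower.algebraMap_eq]
  -- a maximal ideal above `p'`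
  obtain ⟨Q, hQmax, hpQ⟩ := Ideal.exists_le_maximal p'.asIdeal p'.isPrime.ne_top
  let q' : PrimeSpectrum B' := ⟨Q, hQmax.isPrime⟩
  have hJQ : J.map (algebraMap B B') ≤ Q := by
    haveI := AdicCompletion.isAdicComplete_self J (IsNoetherian.noetherian J)
    exact (IsAdicComplete.le_jacobson_bot _).trans (sInf_le ⟨bot_le, hQmax⟩)
  obtain ⟨h1, h2⟩ := main hIcc B ωB hωB J (LocalizedModule q.asIdeal.primeCompl M) p' q' hpQ hJQ
  have hqB : Q.comap (algebraMap B B') = IsLocalRing.maximalIdeal B :=
    IsLocalRing.eq_maximalIdeal (comap_isMaximal J Q hQmax hJQ)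
  let pB : PrimeSpectrum B := PrimeSpectrum.comap (algebraMap B B') p'
  let qB : PrimeSpectrum B := PrimeSpectrum.comap (algebraMap B B') q'
  let pA : PrimeSpectrum A := PrimeSpectrum.comap (algebraMap A B) pB
  have hqBc : qB = IsLocalRing.closedPoint B := PrimeSpectrum.ext hqB
  have hpAq : pA ≤ q := by
    change Ideal.comap (algebraMap A B) pB.asIdeal ≤ q.asIdeal
    have h3 : pB.asIdeal ≤ IsLocalRing.maximalIdeal B :=
      IsLocalRing.le_maximalIdeal pB.isPrime.ne_top
    have h4 := Ideal.comap_mono (f := algebraMap A B) h3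
    have h5 : Ideal.comap (algebraMap A B) (IsLocalRing.maximalIdeal B) = q.asIdeal :=
      Localization.AtPrime.under_maximalIdeal (I := q.asIdeal)
    exact h4.trans (le_of_eq h5)
  have hIpA : ¬ I ≤ pA.asIdeal := by
    intro h
    apply hp'
    rw [Ideal.map_le_iff_le_comap]
    intro x hx
    have h5 : x ∈ Ideal.comap (algebraMap A B) (Ideal.comap (algebraMap B B') p'.asIdeal) := h hx
    rw [Ideal.comap_comap, ← IsScalarTower.algebraMap_eq] at h5
    exact h5
  -- depth transfer
  obtain ⟨hdep, -⟩ := Groth.Agent.Lib.Helper67.depth_supportDim_localization_localization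
    q.asIdeal.primeCompl pB.asIdeal M
  -- the dimension
  have hdim : Formal2.dimBetween A pA.asIdeal q.asIdeal = Order.krullDim (Set.Icc pB qB) := by
    have hmap : pA.asIdeal.map (algebraMap A B) = pB.asIdeal :=
      IsLocalization.map_comap q.asIdeal.primeCompl B pB.asIdeal
    change ringKrullDim (B ⧸ pA.asIdeal.map (algebraMap A B)) = _
    rw [hmap, ringKrullDim_quotient_eq_coheight pB, Order.coheight_eq_krullDim_Ici]
    have hset : Set.Icc pB qB = Set.Ici pB := by
      ext x
      constructor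
      · intro h; exact h.1
      · intro h
        refine ⟨h, ?_⟩
        rw [hqBc]
        exact IsLocalRing.le_maximalIdeal x.isPrime.ne_top
    rw [hset]
  -- the bound by the cohomological dimension
  have hle : Order.krullDim (Set.Icc p' q') ≤ ((d : ℕ∞) : WithBot ℕ∞) := by
    refine hIccCd A B' I d hcd p' q' hpQ (hIJ ▸ hJQ) ?_
    intro r hpr hrq hIr
    have hr := hmaxp' r hpr hIr
    exact PrimeSpectrum.ext (hr.eq_of_le q'.isPrime.ne_top hrq)
  rcases hc pA q hpAq hIpA h𝔞q with hs | hds
  · have hs' : (s : ℕ∞) < LocCoh.depth (Localization.AtPrime pB.asIdeal)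
        (LocalizedModule pB.asIdeal.primeCompl (LocalizedModule q.asIdeal.primeCompl M)) :=
      lt_of_lt_of_eq hs hdep.symm
    exact lt_of_lt_of_le hs' h1
  · have hds' : (((d + s : ℕ) : ℕ∞) : WithBot ℕ∞) <
        ((LocCoh.depth (Localization.AtPrime pB.asIdeal)
          (LocalizedModule pB.asIdeal.primeCompl (LocalizedModule q.asIdeal.primeCompl M)) : ℕ∞) :
            WithBot ℕ∞) + Order.krullDim (Set.Icc pB qB) := by
      rw [← hdim, hdep]
      exact hds
    have hds'' := lt_of_lt_of_eq hds' h2.symm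
    have h3 := lt_of_lt_of_le hds'' (add_le_add_right hle _)
    rw [← WithBot.coe_add, WithBot.coe_lt_coe] at h3
    by_contra hcon
    rw [not_lt] at hcon
    have h4 := add_le_add_left hcon (d : ℕ∞)
    have h5 : ((d + s : ℕ) : ℕ∞) = (s : ℕ∞) + (d : ℕ∞) := by push_cast; ring
    rw [h5] at h3
    exact absurd (lt_of_lt_of_le h3 h4) (lt_irrefl _)

end Groth.Agent.Lib.Helper89.CplDim
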