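import Groth.Agent.Lib.Helper89.CplDimI
import Groth.Agent.Lib.Helper98.CechRestrict
import Groth.Agent.Lib.Helper73.FFDelta.RelCodim

/-!
# The completed data are again in the bootstrap situation: dualizing complex, cd, condition (4)
-/

set_option autoImplicit false
set_option linter.style.haveILetI false
universe u

namespace Groth.Agent.Lib.Helper89.CplDim

open CategoryTheory CategoryTheory.Limits CategoryTheory.Pretriangulated DerivedCategory
  TensorProduct
open Groth.Agent.Lib.Helper84 Groth.Agent.Lib.Helper25.LocDual Groth.Agent.Lib.Helper89.BCHom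

attribute [local instance] HasDerivedCategory.standard

/-- cohomological dimension does not grow under base change -/
theorem cdLE_map {A R : Type u} [CommRing A] [IsNoetherianRing A] [CommRing R]
    [IsNoetherianRing R] [Algebra A R] (I : Ideal A) (d : ℕ) (hcd : LocCoh.CdLE A I d) :
    LocCoh.CdLE R (I.map (algebraMap A R)) d := by
  intro N _ _ i hi
  letI : Module A N := Module.compHom N (algebraMap A R)
  haveI : IsScalarTower A R N := IsScalarTower.of_compHom A R N
  obtain ⟨φ, -⟩ := _root_.Helper98.CechRestrict.lc_restrict (R := A) (R' := R) I N i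
  have := hcd N i hi
  exact φ.toEquiv.subsingleton

/-- the completion has a dualizing complex -/
theorem exists_dualizing_cpl (A : Type u) [CommRing A] [IsNoetherianRing A]
    (hdc : ∃ ω : Dual.D A, Dual.IsDualizing A ω) (I : Ideal A) :
    ∃ ω' : Dual.D (AdicCompletion I A), Dual.IsDualizing (AdicCompletion I A) ω' := by
  obtain ⟨ω, hω⟩ := hdc
  haveI : IsNoetherianRing (AdicCompletion I A) := Groth.Agent.S0543.result A I
  let f : A →+* AdicCompletion I A := algebraMap A (AdicCompletion I A)
  have hf : f.Flat := RingHom.flat_algebraMap_iff.2 inferInstance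
  haveI : PreservesFiniteLimits (FlatBC.ext f) := FlatBC.preservesFiniteLimits_ext _ hf
  have hJ : I.map f ≤ (⊥ : Ideal (AdicCompletion I A)).jacobson := by
    haveI := AdicCompletion.isAdicComplete_self I (IsNoetherian.noetherian I)
    exact IsAdicComplete.le_jacobson_bot _
  have hmax : ∀ n : Ideal (AdicCompletion I A), n.IsMaximal → ∃ m : Ideal A, n = m.map f :=
    fun n hn => ⟨n.comap f,
      (map_comap_eq_of_le I n (hJ.trans (sInf_le ⟨bot_le, hn⟩))).symm⟩
  exact ⟨_, Bass.isDualizing_bc f hf hmax ω hω⟩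

/-- condition (4) for the completed data -/
theorem cond4_cpl (hIcc : IccStatement.{u}) (A : Type u) [CommRing A] [IsNoetherianRing A]
    (hdc : ∃ ω : Dual.D A, Dual.IsDualizing A ω) (I : Ideal A) (d : ℕ)
    (M : Type u) [AddCommGroup M] [Module A M] [Module.Finite A M]
    (T : Set (PrimeSpectrum A)) (s : ℕ)
    (h4 : ∀ p r q : PrimeSpectrum A, p ≤ r → r ≤ q → ¬ I ≤ p.asIdeal → I ≤ r.asIdeal → r ∉ T →
      q ∈ T → (s : ℕ∞) ≤ LocCoh.depth (Localization.AtPrime p.asIdeal)
        (LocalizedModule p.asIdeal.primeCompl M) ∨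
      ((d + s : ℕ) : WithBot ℕ∞) < (LocCoh.depth (Localization.AtPrime p.asIdeal)
        (LocalizedModule p.asIdeal.primeCompl M) : WithBot ℕ∞) +
          Formal2.dimBetween A p.asIdeal q.asIdeal)
    (p r q : PrimeSpectrum (AdicCompletion I A)) (hpr : p ≤ r) (hrq : r ≤ q)
    (hp : ¬ (I.map (algebraMap A (AdicCompletion I A))) ≤ p.asIdeal)
    (hr : (I.map (algebraMap A (AdicCompletion I A))) ≤ r.asIdeal)
    (hrT : r ∉ ((PrimeSpectrum.comap (algebraMap A (AdicCompletion I A))) ⁻¹' T))
    (hqT : q ∈ ((PrimeSpectrum.comap (algebraMap A (AdicCompletion I A))) ⁻¹' T)) :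
    (s : ℕ∞) ≤ LocCoh.depth (Localization.AtPrime p.asIdeal)
        (LocalizedModule p.asIdeal.primeCompl (AdicCompletion I M)) ∨
      ((d + s : ℕ) : WithBot ℕ∞) < (LocCoh.depth (Localization.AtPrime p.asIdeal)
        (LocalizedModule p.asIdeal.primeCompl (AdicCompletion I M)) : WithBot ℕ∞) +
          Formal2.dimBetween (AdicCompletion I A) p.asIdeal q.asIdeal := by
  obtain ⟨ω, hω⟩ := hdc
  let f : A →+* AdicCompletion I A := algebraMap A (AdicCompletion I A)
  let pA : PrimeSpectrum A := PrimeSpectrum.comap f p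
  let rA : PrimeSpectrum A := PrimeSpectrum.comap f r
  let qA : PrimeSpectrum A := PrimeSpectrum.comap f q
  have hprA : pA ≤ rA := by
    change Ideal.comap f p.asIdeal ≤ Ideal.comap f r.asIdeal
    exact Ideal.comap_mono hpr
  have hrqA : rA ≤ qA := by
    change Ideal.comap f r.asIdeal ≤ Ideal.comap f q.asIdeal
    exact Ideal.comap_mono hrq
  have hpA : ¬ I ≤ pA.asIdeal := by
    intro h
    apply hp
    rw [Ideal.map_le_iff_le_comap]
    exact h
  have hrA : I ≤ rA.asIdeal := Ideal.map_le_iff_le_comap.1 hr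
  have hpq : p ≤ q := hpr.trans hrq
  have hq : I.map f ≤ q.asIdeal := hr.trans hrq
  obtain ⟨h1, h2⟩ := main hIcc A ω hω I M p q hpq hq
  have hdimA : Formal2.dimBetween A pA.asIdeal qA.asIdeal = Order.krullDim (Set.Icc pA qA) :=
    Groth.Agent.Lib.Helper73.ringKrullDim_localization_quotient_eq_krullDim_Icc
      pA qA (hprA.trans hrqA)
  have hdimA' : Formal2.dimBetween (AdicCompletion I A) p.asIdeal q.asIdeal =
      Order.krullDim (Set.Icc p q) :=
    Groth.Agent.Lib.Helper73.ringKrullDim_localization_quotient_eq_krullDim_Icc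
      p q hpq
  rcases h4 pA rA qA hprA hrqA hpA hrA hrT hqT with hs | hds
  · exact Or.inl (hs.trans h1)
  · right
    rw [hdimA', h2, ← hdimA]
    exact hds

end Groth.Agent.Lib.Helper89.CplDim
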