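import Mathlib
import Groth.Agent.S0543

/-!
# A semilinear isomorphism between completions of base-changed modules
-/

set_option autoImplicit false
set_option linter.style.haveILetI false
universe u

namespace Groth.Agent.Lib.Helper89.CplDim

open TensorProduct

/-- completion of a base-changed finite module as a tensor product over the base -/
theorem nonempty_cpl_equiv_tensor {A B : Type u} [CommRing A] [CommRing B] [Algebra A B]
    [IsNoetherianRing B] (J : Ideal B)
    (M : Type u) [AddCommGroup M] [Module A M] (N : Type u) [AddCommGroup N] [Module A N]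
    [Module B N] [IsScalarTower A B N] [Module.Finite B N]
    (g : M →ₗ[A] N) (hg : IsBaseChange B g) :
    Nonempty (AdicCompletion J N ≃ₗ[AdicCompletion J B] (AdicCompletion J B ⊗[A] M)) := by
  let e1 := (AdicCompletion.ofTensorProductEquivOfFiniteNoetherian J N).symm
  let e2 : (AdicCompletion J B ⊗[B] N) ≃ₗ[AdicCompletion J B]
      (AdicCompletion J B ⊗[B] (B ⊗[A] M)) :=
    TensorProduct.AlgebraTensorModule.congr (LinearEquiv.refl (AdicCompletion J B) _)
      hg.equiv.symm
  let e3 := TensorProduct.AlgebraTensorModule.cancelBaseChange A B (AdicCompletion J B)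
    (AdicCompletion J B) M
  exact ⟨e1 ≪≫ₗ e2 ≪≫ₗ e3⟩

/-- a ring isomorphism compatible with the base induces a semilinear isomorphism on base changes -/
theorem exists_semilinear_tensor {A R R' : Type u} [CommRing A] [CommRing R] [CommRing R']
    [Algebra A R] [Algebra A R'] (σ : R ≃+* R')
    (hσ : ∀ a : A, σ (algebraMap A R a) = algebraMap A R' a)
    (M : Type u) [AddCommGroup M] [Module A M] :
    ∃ τ : (R ⊗[A] M) ≃+ (R' ⊗[A] M), ∀ (r : R) (x : R ⊗[A] M), τ (r • x) = σ r • τ x := by
  let σA : R ≃ₗ[A] R' :=
    { σ.toAddEquiv with
      map_smul' := fun a r => by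
        change σ (a • r) = a • σ r
        rw [Algebra.smul_def, Algebra.smul_def, map_mul, hσ] }
  let τ := TensorProduct.congr σA (LinearEquiv.refl A M)
  refine ⟨τ.toAddEquiv, ?_⟩
  intro r x
  change τ (r • x) = σ r • τ x
  induction x using TensorProduct.induction_on with
  | zero => simp
  | add x y hx hy => rw [smul_add, map_add, map_add, smul_add, hx, hy]
  | tmul b m =>
    rw [TensorProduct.smul_tmul', TensorProduct.congr_tmul, TensorProduct.congr_tmul,
      TensorProduct.smul_tmul']
    congr 1
    change σ (r * b) = σ r * σ b
    exact map_mul σ r b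

/-- the completion map `M → M^` is a base change for finite modules over Noetherian rings -/
theorem isBaseChange_of {A : Type u} [CommRing A] [IsNoetherianRing A] (I : Ideal A)
    (M : Type u) [AddCommGroup M] [Module A M] [Module.Finite A M] :
    IsBaseChange (AdicCompletion I A) (AdicCompletion.of I M) := by
  refine IsBaseChange.of_equiv (AdicCompletion.ofTensorProductEquivOfFiniteNoetherian I M) ?_
  intro x
  simp

end Groth.Agent.Lib.Helper89.CplDim
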