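import Groth.Agent.Lib.Helper89.CplDimJ
import Groth.Agent.Lib.Helper89.CplDimK

/-!
# The completed data are again in the bootstrap situation: condition (6)
-/

set_option autoImplicit false
set_option linter.style.haveILetI false
universe u

namespace Groth.Agent.Lib.Helper89.CplDim

open TensorProduct

/-- invariance of depth at primes under semilinear isomorphisms -/
def TransportStatement : Prop :=
  ∀ {R R' : Type u} [CommRing R] [CommRing R']
    [IsNoetherianRing R] [IsNoetherianRing R'] (σ : R ≃+* R')
    {X X' : Type u} [AddCommGroup X] [Module R X] [Module.Finite R X]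
    [AddCommGroup X'] [Module R' X'] (τ : X ≃+ X')
    (_ : ∀ (r : R) (x : X), τ (r • x) = σ r • τ x)
    (P' : Ideal R') [P'.IsPrime] (P : Ideal R) [P.IsPrime]
    (_ : P = P'.comap (σ : R →+* R')),
    LocCoh.depth (Localization.AtPrime P) (LocalizedModule P.primeCompl X) =
      LocCoh.depth (Localization.AtPrime P') (LocalizedModule P'.primeCompl X')

/-- the comparison of completions of local rings of `A` and of its completion -/
def CplIsoStatement : Prop :=
  ∀ {A : Type u} [CommRing A] [IsNoetherianRing A] (I : Ideal A)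
    (q : Ideal (AdicCompletion I A)) [q.IsPrime]
    (_ : I.map (algebraMap A (AdicCompletion I A)) ≤ q)
    (qA : Ideal A) [qA.IsPrime] (_ : qA = q.comap (algebraMap A (AdicCompletion I A))),
    ∃ σ : AdicCompletion (I.map (algebraMap A (Localization.AtPrime qA))) (Localization.AtPrime qA) ≃+*
        AdicCompletion ((I.map (algebraMap A (AdicCompletion I A))).map
          (algebraMap (AdicCompletion I A) (Localization.AtPrime q))) (Localization.AtPrime q),
      ∀ a : A, σ (algebraMap A _ a) = algebraMap A _ a

theorem cond6_cpl (hT3 : TransportStatement.{u}) (hT4 : CplIsoStatement.{u})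
    (A : Type u) [CommRing A] [IsNoetherianRing A] (I : Ideal A)
    (M : Type u) [AddCommGroup M] [Module A M] [Module.Finite A M] (s : ℕ)
    (q : PrimeSpectrum (AdicCompletion I A))
    (hq : I.map (algebraMap A (AdicCompletion I A)) ≤ q.asIdeal)
    (qA : PrimeSpectrum A)
    (hqA : qA = PrimeSpectrum.comap (algebraMap A (AdicCompletion I A)) q)
    (h6q : ∀ p' : PrimeSpectrum (AdicCompletion (I.map (algebraMap A (Localization.AtPrime qA.asIdeal))) (Localization.AtPrime qA.asIdeal)), ¬ (I.map (algebraMap A (AdicCompletion (I.map (algebraMap A (Localization.AtPrime qA.asIdeal))) (Localization.AtPrime qA.asIdeal)))) ≤ p'.asIdeal → (∀ q' : PrimeSpectrum (AdicCompletion (I.map (algebraMap A (Localization.AtPrime qA.asIdeal))) (Localization.AtPrime qA.asIdeal)), p' ≤ q' → (I.map (algebraMap A (AdicCompletion (I.map (algebraMap A (Localization.AtPrime qA.asIdeal))) (Localization.AtPrime qA.asIdeal)))) ≤ q'.asIdeal → q'.asIdeal.IsMaximal) → (s : ℕ∞) < LocCoh.depth (Localization.AtPrime p'.asIdeal) (LocalizedModule p'.asIdeal.primeCompl (AdicCompletion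 (I.map (algebraMap A (Localization.AtPrime qA.asIdeal))) (LocalizedModule qA.asIdeal.primeCompl M)))) :
    ∀ p' : PrimeSpectrum (AdicCompletion ((I.map (algebraMap A (AdicCompletion I A))).map (algebraMap (AdicCompletion I A) (Localization.AtPrime q.asIdeal))) (Localization.AtPrime q.asIdeal)), ¬ ((I.map (algebraMap A (AdicCompletion I A))).map (algebraMap (AdicCompletion I A) (AdicCompletion ((I.map (algebraMap A (AdicCompletion I A))).map (algebraMap (AdicCompletion I A) (Localization.AtPrime q.asIdeal))) (Localization.AtPrime q.asIdeal)))) ≤ p'.asIdeal → (∀ q' : PrimeSpectrum (AdicCompletion ((I.map (algebraMap A (AdicCompletion I A))).map (algebraMap (AdicCompletion I A) (Localization.AtPrime q.asIdeal))) (Localization.AtPrime q.asIdeal)), p' ≤ q' → ((I.map (algebraMap A (AdicCompletion I A))).map (algebraMap (AdicCompletion I A) (AdicCompletion ((I.map (algebraMap A (AdicCompletion I A))).map (algebraMap (AdicCompletion I A) (Localization.AtPrime q.asIdeal))) (Localization.AtPrime q.asIdeal)))) ≤ q'.asIdeal → q'.asIdeal.IsMaximal) → (s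 : ℕ∞) < LocCoh.depth (Localization.AtPrime p'.asIdeal) (LocalizedModule p'.asIdeal.primeCompl (AdicCompletion ((I.map (algebraMap A (AdicCompletion I A))).map (algebraMap (AdicCompletion I A) (Localization.AtPrime q.asIdeal))) (LocalizedModule q.asIdeal.primeCompl (AdicCompletion I M)))) := by
  subst hqA
  intro p' hp' hmaxp'
  haveI : IsNoetherianRing (AdicCompletion I A) := Groth.Agent.S0543.result A I
  let f : A →+* AdicCompletion I A := algebraMap A (AdicCompletion I A)
  let qA : PrimeSpectrum A := PrimeSpectrum.comap f q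
  let B := Localization.AtPrime qA.asIdeal
  let J : Ideal B := I.map (algebraMap A B)
  let B' := AdicCompletion J B
  let C := Localization.AtPrime q.asIdeal
  let K : Ideal C := (I.map f).map (algebraMap (AdicCompletion I A) C)
  let C' := AdicCompletion K C
  haveI : IsNoetherianRing B' := Groth.Agent.S0543.result B J
  haveI : IsNoetherianRing C' := Groth.Agent.S0543.result C K
  obtain ⟨σ, hσ⟩ := hT4 I q.asIdeal hq qA.asIdeal rfl
  haveI : Module.Finite (AdicCompletion I A) (AdicCompletion I M) :=
    Module.Finite.equiv (AdicCompletion.ofTensorProductEquivOfFiniteNoetherian I M)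
  let N := LocalizedModule qA.asIdeal.primeCompl M
  let N' := LocalizedModule q.asIdeal.primeCompl (AdicCompletion I M)
  have hgB : IsBaseChange B (LocalizedModule.mkLinearMap qA.asIdeal.primeCompl M) :=
    IsLocalizedModule.isBaseChange qA.asIdeal.primeCompl B _
  have hgC : IsBaseChange C
      ((LocalizedModule.mkLinearMap q.asIdeal.primeCompl (AdicCompletion I M)).restrictScalars A ∘ₗ
        AdicCompletion.of I M) :=
    IsBaseChange.comp (isBaseChange_of I M)
      (IsLocalizedModule.isBaseChange q.asIdeal.primeCompl C _)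
  obtain ⟨eB⟩ := nonempty_cpl_equiv_tensor J M N _ hgB
  obtain ⟨eC⟩ := nonempty_cpl_equiv_tensor K M N' _ hgC
  obtain ⟨τ0, hτ0⟩ := exists_semilinear_tensor (A := A) σ hσ M
  let τ : AdicCompletion J N ≃+ AdicCompletion K N' :=
    eB.toAddEquiv.trans (τ0.trans eC.symm.toAddEquiv)
  have hτ : ∀ (r : B') (x : AdicCompletion J N), τ (r • x) = σ r • τ x := by
    intro r x
    change eC.symm (τ0 (eB (r • x))) = σ r • eC.symm (τ0 (eB x))
    rw [map_smul, hτ0, map_smul]
  let P'' : Ideal B' := p'.asIdeal.comap (σ : B' →+* C')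
  haveI : P''.IsPrime := Ideal.comap_isPrime _ _
  haveI : Module.Finite B' (AdicCompletion J N) :=
    Module.Finite.equiv (AdicCompletion.ofTensorProductEquivOfFiniteNoetherian J N)
  have hII : (I.map f).map (algebraMap (AdicCompletion I A) C') = I.map (algebraMap A C') := by
    have h := Ideal.map_map (I := I) f (algebraMap (AdicCompletion I A) C')
    rw [h, ← IsScalarTower.algebraMap_eq A (AdicCompletion I A) C']
  have key := hT3 σ τ hτ p'.asIdeal P'' rfl
  rw [← key]
  refine h6q ⟨P'', inferInstance⟩ ?_ ?_
  · intro h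
    apply hp'
    refine hII.le.trans ?_
    rw [Ideal.map_le_iff_le_comap]
    intro a ha
    have h1 : algebraMap A B' a ∈ P'' := h (Ideal.mem_map_of_mem _ ha)
    have h2 : σ (algebraMap A B' a) ∈ p'.asIdeal := h1
    rw [hσ] at h2
    exact h2
  · intro Q'' hPQ hIQ
    let Q' : PrimeSpectrum C' :=
      ⟨Q''.asIdeal.comap (σ.symm : C' →+* B'), Ideal.comap_isPrime _ _⟩
    have h1 : p' ≤ Q' := by
      intro x hx
      change σ.symm x ∈ Q''.asIdeal
      apply hPQ
      change σ (σ.symm x) ∈ p'.asIdeal
      rw [σ.apply_symm_apply]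
      exact hx
    have h2 : (I.map f).map (algebraMap (AdicCompletion I A) C') ≤ Q'.asIdeal := by
      refine hII.le.trans ?_
      rw [Ideal.map_le_iff_le_comap]
      intro a ha
      change σ.symm (algebraMap A C' a) ∈ Q''.asIdeal
      rw [← hσ, σ.symm_apply_apply]
      exact hIQ (Ideal.mem_map_of_mem _ ha)
    have h3 := hmaxp' Q' h1 h2
    have h4 : Q''.asIdeal = Q'.asIdeal.comap (σ : B' →+* C') := by
      ext x
      change x ∈ Q''.asIdeal ↔ σ.symm (σ x) ∈ Q''.asIdeal
      rw [σ.symm_apply_apply]
    rw [h4]
    haveI := h3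
    exact Ideal.comap_isMaximal_of_equiv σ

end Groth.Agent.Lib.Helper89.CplDim
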