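import Mathlib
import Groth.Agent.Lib.Helper89.PtDual3
import Groth.Agent.Lib.Helper39.Dual.LocExt
import Groth.Agent.Lib.Helper15.LBCFlat
import Groth.Agent.Lib.Helper66.OT8
import Groth.Agent.S1747
import Groth.Agent.S1775

/-!
# Hom between two dualizing complexes is locally free of rank ≤ 1 (helper89)
-/

set_option autoImplicit false
set_option linter.style.haveILetI false
universe u v w

open CategoryTheory CategoryTheory.Limits CategoryTheory.Pretriangulated DerivedCategory TensorProduct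

attribute [local instance] HasDerivedCategory.standard

namespace Groth.Agent.Lib.Helper89.DualUniq

open Groth.Agent.Lib.Helper84 Groth.Agent.Lib.Helper25.LocDual Groth.Agent.Lib.Helper89.BCHom
open Groth.Agent.Lib.Helper25.Bidual Groth.Agent.Lib.Helper89.PtDual

section Transport

theorem transport_alg {A B : Type u} [CommRing A] [CommRing B] [inst : Algebra A B]
    (E : Type v) [AddCommGroup E] [Module A E] (T : Type w) [AddCommGroup T] [Module B T]
    (h : letI := (algebraMap A B).toAlgebra; Nonempty (B ⊗[A] E ≃ₗ[B] T)) :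
    Nonempty (B ⊗[A] E ≃ₗ[B] T) := by
  have hEq : (algebraMap A B).toAlgebra = inst := Algebra.algebra_ext _ _ (fun _ => rfl)
  rw [hEq] at h
  exact h

end Transport

section Theta

variable {A B : Type u} [CommRing A] [CommRing B] [IsNoetherianRing A] (f : A →+* B)
  [PreservesFiniteLimits (FlatBC.ext f)]

theorem nonempty_theta_equiv (hf : f.Flat) (X Y : Dual.D A) (hX : HomFinite.BddFin X) (c : ℤ)
    (hY : Y.IsGE c) :
    letI := f.toAlgebra
    Nonempty (B ⊗[A] (X ⟶ Y) ≃ₗ[B] ((FlatBC.bc f).obj X ⟶ (FlatBC.bc f).obj Y)) := by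
  letI := f.toAlgebra
  haveI : Module.Flat A B := hf
  obtain ⟨hi, hs⟩ := bij_of_bddFin f hf X Y hX c hY
  exact ⟨LinearEquiv.ofBijective (Θ B X Y) ⟨hi, hs⟩⟩

end Theta

section Local

variable {B : Type u} [CommRing B] [IsLocalRing B] [IsNoetherianRing B]

theorem local_dichotomy (X Y : Dual.D B) (hX : Dual.IsDualizing B X) (hY : Dual.IsDualizing B Y) :
    Subsingleton (X ⟶ Y) ∨ (Nonempty (X ≅ Y) ∧ Nonempty ((X ⟶ Y) ≃ₗ[B] B)) := by
  obtain ⟨m, ⟨e⟩⟩ := Groth.Agent.S1747.result B X Y hX hY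
  by_cases hm : m = 0
  · subst hm
    right
    let e' : X ≅ Y := ((shiftFunctorZero (Dual.D B) ℤ).app X).symm ≪≫ e.symm
    refine ⟨⟨e'⟩, ⟨?_⟩⟩
    exact (Linear.homCongr B (Iso.refl X) e'.symm) ≪≫ₗ
      (LinearEquiv.ofBijective (LinearMap.toSpanSingleton B (X ⟶ X) (𝟙 X))
        hX.toEnd_bijective).symm
  · left
    haveI := hX.ext_self_subsingleton m hm
    exact (Linear.homCongr B (Iso.refl X) e).toEquiv.subsingleton

end Local

section Global

variable {A : Type u} [CommRing A] [IsNoetherianRing A]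

theorem bddFin_of_dualizing (ω : Dual.D A) (hω : Dual.IsDualizing A ω) :
    HomFinite.BddFin ω ∧ ∃ a : ℤ, ω.IsGE a := by
  obtain ⟨J, a, b, hJ, hJz, ⟨eJ⟩⟩ := exists_bounded_injective_model ω hω
  have hvan : ∀ i : ℤ, (i < a ∨ b < i) →
      IsZero ((homologyFunctor (ModuleCat.{u} A) i).obj ω) := fun i hi =>
    IsZero.of_iso (HomFinite.isZero_homology_Q J i (hJz i hi))
      ((homologyFunctor (ModuleCat.{u} A) i).mapIso eJ.symm)
  exact ⟨⟨⟨a, b, hvan⟩, hω.finite_cohomology⟩, a,
    (DerivedCategory.isGE_iff ω a).2 fun i hi => hvan i (Or.inl hi)⟩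

theorem hasFiniteInjDim_of_dualizing (ω : Dual.D A) (hω : Dual.IsDualizing A ω) :
    DRing.HasFiniteInjDim A ω := by
  obtain ⟨J, a, b, hJ, hJz, ⟨eJ⟩⟩ := exists_bounded_injective_model ω hω
  exact ⟨a, b, J, hJz, fun n => (Module.injective_iff_injective_object A (J.X n)).2 (hJ n), ⟨eJ⟩⟩

theorem finite_hom_dualizing (X Y : Dual.D A) (hX : Dual.IsDualizing A X)
    (hY : Dual.IsDualizing A Y) : Module.Finite A (X ⟶ Y) := by
  haveI := HomFinite.finite_hom X Y hX.finite_cohomology hY.finite_cohomology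
    (hasFiniteInjDim_of_dualizing Y hY) 0
  exact Module.Finite.equiv
    (Linear.homCongr A (Iso.refl X) ((shiftFunctorZero (Dual.D A) ℤ).app Y))

/-- base change of a dualizing complex to the localization at a prime is dualizing -/
theorem isDualizing_bc_atPrime (X : Dual.D A) (hX : Dual.IsDualizing A X) (p : Ideal A) [p.IsPrime]
    [PreservesFiniteLimits (FlatBC.ext (algebraMap A (Localization.AtPrime p)))] :
    Dual.IsDualizing (Localization.AtPrime p)
      ((FlatBC.bc (algebraMap A (Localization.AtPrime p))).obj X) :=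
  isDualizing_of_iso ((Groth.Agent.Lib.Helper15.LBCFlat.lbcFlatIso _).app X)
    (Groth.Agent.S1775.result A p.primeCompl X hX)

theorem localized_dichotomy (X Y : Dual.D A) (hX : Dual.IsDualizing A X)
    (hY : Dual.IsDualizing A Y) (p : Ideal A) [p.IsPrime] :
    Subsingleton (LocalizedModule p.primeCompl (X ⟶ Y)) ∨
      Nonempty (LocalizedModule p.primeCompl (X ⟶ Y) ≃ₗ[Localization.AtPrime p]
        Localization.AtPrime p) := by
  have hflat : (algebraMap A (Localization.AtPrime p)).Flat :=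
    RingHom.flat_algebraMap_iff.2 inferInstance
  haveI : PreservesFiniteLimits (FlatBC.ext (algebraMap A (Localization.AtPrime p))) :=
    FlatBC.preservesFiniteLimits_ext _ hflat
  obtain ⟨hBF, c, hGE⟩ := bddFin_of_dualizing X hX
  obtain ⟨-, c', hGE'⟩ := bddFin_of_dualizing Y hY
  rcases local_dichotomy _ _ (isDualizing_bc_atPrime X hX p) (isDualizing_bc_atPrime Y hY p)
    with h | ⟨-, ⟨e⟩⟩
  · left
    rw [← locZero_iff_subsingleton,
      ← subsingleton_bc_iff_locZero (algebraMap A (Localization.AtPrime p)) hflat p.primeCompl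
        (locAlg p) X Y hBF c' hGE']
    exact h
  · right
    have h1 : Nonempty (Localization.AtPrime p ⊗[A] (X ⟶ Y) ≃ₗ[Localization.AtPrime p]
        ((FlatBC.bc (algebraMap A (Localization.AtPrime p))).obj X ⟶
          (FlatBC.bc (algebraMap A (Localization.AtPrime p))).obj Y)) := by
      apply transport_alg
      exact nonempty_theta_equiv (algebraMap A (Localization.AtPrime p)) hflat X Y hBF c' hGE'
    obtain ⟨l⟩ := h1
    exact ⟨(LocalizedModule.equivTensorProduct p.primeCompl (X ⟶ Y)) ≪≫ₗ l ≪≫ₗ e⟩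

theorem projective_hom (X Y : Dual.D A) (hX : Dual.IsDualizing A X) (hY : Dual.IsDualizing A Y) :
    Module.Projective A (X ⟶ Y) := by
  haveI := finite_hom_dualizing X Y hX hY
  haveI : Module.FinitePresentation A (X ⟶ Y) := Module.finitePresentation_of_finite A _
  apply Module.projective_of_localization_maximal
  intro I hI
  haveI := hI.isPrime
  rcases localized_dichotomy X Y hX hY I with h | ⟨⟨e⟩⟩
  · haveI := h
    infer_instance
  · exact Module.Projective.of_equiv e.symm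

theorem rankAtStalk_hom (X Y : Dual.D A) (hX : Dual.IsDualizing A X) (hY : Dual.IsDualizing A Y)
    (p : PrimeSpectrum A) :
    (Subsingleton (LocalizedModule p.asIdeal.primeCompl (X ⟶ Y)) ∧
      Module.rankAtStalk (X ⟶ Y) p = 0) ∨
    (Nonempty (LocalizedModule p.asIdeal.primeCompl (X ⟶ Y) ≃ₗ[Localization.AtPrime p.asIdeal]
        Localization.AtPrime p.asIdeal) ∧ Module.rankAtStalk (X ⟶ Y) p = 1) := by
  rcases localized_dichotomy X Y hX hY p.asIdeal with h | ⟨⟨e⟩⟩
  · left
    refine ⟨h, ?_⟩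
    haveI := h
    unfold Module.rankAtStalk
    exact Module.finrank_zero_of_subsingleton
  · right
    refine ⟨⟨e⟩, ?_⟩
    unfold Module.rankAtStalk
    rw [LinearEquiv.finrank_eq e, Module.finrank_self]

theorem rank_one_hom [ConnectedSpace (PrimeSpectrum A)] (X Y : Dual.D A)
    (hX : Dual.IsDualizing A X) (hY : Dual.IsDualizing A Y) (p₀ : PrimeSpectrum A)
    (h₀ : ¬ Subsingleton (LocalizedModule p₀.asIdeal.primeCompl (X ⟶ Y))) :
    ∀ q : PrimeSpectrum A, Module.rankAtStalk (X ⟶ Y) q = 1 := by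
  haveI := finite_hom_dualizing X Y hX hY
  haveI := projective_hom X Y hX hY
  haveI : Module.FinitePresentation A (X ⟶ Y) := Module.finitePresentation_of_finite A _
  have hlc := Module.isLocallyConstant_rankAtStalk (R := A) (M := X ⟶ Y)
  have h₀' : Module.rankAtStalk (X ⟶ Y) p₀ = 1 := by
    rcases rankAtStalk_hom X Y hX hY p₀ with ⟨h, -⟩ | ⟨-, h⟩
    · exact absurd h h₀
    · exact h
  intro q
  rw [hlc.apply_eq_of_preconnectedSpace q p₀]
  exact h₀'

/-- a small invertible model of `Hom(X, Y)` -/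
theorem exists_invertible_model [ConnectedSpace (PrimeSpectrum A)] (X Y : Dual.D A)
    (hX : Dual.IsDualizing A X) (hY : Dual.IsDualizing A Y) (p₀ : PrimeSpectrum A)
    (h₀ : ¬ Subsingleton (LocalizedModule p₀.asIdeal.primeCompl (X ⟶ Y))) :
    ∃ (P : Type u) (_ : AddCommGroup P) (_ : Module A P) (_ : Module.Invertible A P),
      Nonempty (P ≃ₗ[A] (X ⟶ Y)) := by
  haveI := finite_hom_dualizing X Y hX hY
  haveI := projective_hom X Y hX hY
  obtain ⟨n, π, hπ⟩ := Module.Finite.exists_fin' A (X ⟶ Y)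
  obtain ⟨K, e⟩ : ∃ K : Submodule A (Fin n → A), Nonempty (((Fin n → A) ⧸ K) ≃ₗ[A] (X ⟶ Y)) :=
    ⟨LinearMap.ker π, ⟨π.quotKerEquivOfSurjective hπ⟩⟩
  obtain ⟨e⟩ := e
  haveI : Module.Finite A ((Fin n → A) ⧸ K) := Module.Finite.equiv e.symm
  haveI : Module.Projective A ((Fin n → A) ⧸ K) := Module.Projective.of_equiv e.symm
  refine ⟨(Fin n → A) ⧸ K, inferInstance, inferInstance, ?_, ⟨e⟩⟩
  apply Groth.Agent.Lib.Helper66.OT8.invertible_of_rank_one
  intro q
  rw [Module.rankAtStalk_eq_of_equiv e]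
  exact rank_one_hom X Y hX hY p₀ h₀ q

theorem exists_shift_invertible [ConnectedSpace (PrimeSpectrum A)] (ω ω' : Dual.D A)
    (hω : Dual.IsDualizing A ω) (hω' : Dual.IsDualizing A ω') :
    ∃ (n : ℤ) (P : Type u) (_ : AddCommGroup P) (_ : Module A P) (_ : Module.Invertible A P),
      Nonempty (P ≃ₗ[A] (ω ⟶ ω'⟦n⟧)) := by
  obtain ⟨p₀⟩ := (inferInstance : Nonempty (PrimeSpectrum A))
  have hflat : (algebraMap A (Localization.AtPrime p₀.asIdeal)).Flat :=
    RingHom.flat_algebraMap_iff.2 inferInstance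
  haveI : PreservesFiniteLimits (FlatBC.ext (algebraMap A (Localization.AtPrime p₀.asIdeal))) :=
    FlatBC.preservesFiniteLimits_ext _ hflat
  have hF := isDualizing_bc_atPrime ω hω p₀.asIdeal
  have hF' := isDualizing_bc_atPrime ω' hω' p₀.asIdeal
  obtain ⟨m, ⟨e⟩⟩ := Groth.Agent.S1747.result _ _ _ hF hF'
  refine ⟨-m, exists_invertible_model ω (ω'⟦-m⟧) hω
    (Groth.Agent.Lib.Helper39.Dual.isDualizing_shift ω' hω' (-m)) p₀ ?_⟩
  obtain ⟨hBF, c, hGE⟩ := bddFin_of_dualizing ω hω
  obtain ⟨-, c', hGE'⟩ := bddFin_of_dualizing ω' hω'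
  have hGEs : (ω'⟦-m⟧).IsGE (c' - -m) :=
    DerivedCategory.TStructure.t.isGE_shift ω' c' (-m) (c' - -m) (by lia)
  rw [← locZero_iff_subsingleton,
    ← subsingleton_bc_iff_locZero (algebraMap A (Localization.AtPrime p₀.asIdeal)) hflat
      p₀.asIdeal.primeCompl (locAlg p₀.asIdeal) ω (ω'⟦-m⟧) hBF _ hGEs]
  intro hsub
  let F := FlatBC.bc (algebraMap A (Localization.AtPrime p₀.asIdeal))
  let e1 : F.obj (ω'⟦-m⟧) ≅ F.obj ω :=
    (F.commShiftIso (-m)).app ω' ≪≫ (shiftFunctor _ (-m)).mapIso e ≪≫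
      ((shiftFunctorAdd' (Dual.D (Localization.AtPrime p₀.asIdeal)) m (-m) 0 (by lia)).app _).symm ≪≫
      (shiftFunctorZero _ ℤ).app _
  have h1 : e1.inv = 0 := hsub.elim _ _
  have h2 : 𝟙 (F.obj ω) = 0 := by rw [← e1.inv_hom_id, h1, zero_comp]
  have h3 : (1 : Localization.AtPrime p₀.asIdeal) = 0 := hF.toEnd_bijective.1 (by
    show (1 : Localization.AtPrime p₀.asIdeal) • 𝟙 (F.obj ω) =
      (0 : Localization.AtPrime p₀.asIdeal) • 𝟙 (F.obj ω)
    rw [h2, smul_zero, smul_zero])
  exact one_ne_zero h3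

end Global

end Groth.Agent.Lib.Helper89.DualUniq
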