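import Mathlib
import Groth.Agent.Lib.Helper89.DualUniq1
import Groth.Agent.Lib.Helper85.InvTensorUnique

/-!
# Global uniqueness of dualizing complexes up to an invertible module and a shift (helper89)
-/

set_option autoImplicit false
set_option linter.style.haveILetI false
universe u v w

open CategoryTheory CategoryTheory.Limits CategoryTheory.Pretriangulated DerivedCategory TensorProduct
open MonoidalCategory

attribute [local instance] HasDerivedCategory.standard

namespace Groth.Agent.Lib.Helper89.DualUniq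

open Groth.Agent.Lib.Helper84 Groth.Agent.Lib.Helper25.LocDual Groth.Agent.Lib.Helper89.BCHom
open Groth.Agent.Lib.Helper25.Bidual Groth.Agent.Lib.Helper89.PtDual

section IsoLocal

variable {A : Type u} [CommRing A]

/-- a morphism of `D(A)` which becomes an isomorphism after localization at every prime is an
isomorphism -/
theorem isIso_of_bc_family {X Y : Dual.D A} (g : X ⟶ Y)
    [∀ p : PrimeSpectrum A,
      PreservesFiniteLimits (FlatBC.ext (algebraMap A (Localization.AtPrime p.asIdeal)))]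
    (h : ∀ p : PrimeSpectrum A,
      IsIso ((FlatBC.bc (algebraMap A (Localization.AtPrime p.asIdeal))).map g)) : IsIso g := by
  obtain ⟨Z, a, b, hT⟩ := Pretriangulated.distinguished_cocone_triangle g
  refine (Triangle.isZero₃_iff_isIso₁ _ hT).1 ?_
  change IsZero Z
  have hZ : ∀ p : PrimeSpectrum A,
      IsZero ((FlatBC.bc (algebraMap A (Localization.AtPrime p.asIdeal))).obj Z) := by
    intro p
    have hT' := (FlatBC.bc (algebraMap A (Localization.AtPrime p.asIdeal))).map_distinguished _ hT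
    exact (Triangle.isZero₃_iff_isIso₁ _ hT').2 (h p)
  have hH : ∀ j : ℤ, IsZero ((homologyFunctor (ModuleCat.{u} A) j).obj Z) := by
    intro j
    haveI : Subsingleton ((homologyFunctor (ModuleCat.{u} A) j).obj Z) := by
      refine subsingleton_of_family (fun p : PrimeSpectrum A => Localization.AtPrime p.asIdeal)
        (fun p => algebraMap A (Localization.AtPrime p.asIdeal)) (fun p => p.asIdeal)
        (fun p => p.isPrime) (fun m hm => ⟨⟨m, hm.isPrime⟩, rfl⟩) (fun p => locAlg p.asIdeal) _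
        (fun p => ?_)
      have h1 : IsZero ((FlatBC.ext (algebraMap A (Localization.AtPrime p.asIdeal))).obj
          ((homologyFunctor (ModuleCat.{u} A) j).obj Z)) :=
        IsZero.of_iso ((homologyFunctor _ j).map_isZero (hZ p))
          ((kappa (algebraMap A (Localization.AtPrime p.asIdeal)) j).app Z).symm
      exact ModuleCat.subsingleton_of_isZero h1
    exact ModuleCat.isZero_of_subsingleton _
  have h0 : IsIso (0 : Z ⟶ Z) := by
    rw [DerivedCategory.isIso_iff]
    intro n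
    exact ⟨0, (hH n).eq_of_src _ _, (hH n).eq_of_src _ _⟩
  rw [IsZero.iff_id_eq_zero]
  have h1 : 𝟙 Z = inv (0 : Z ⟶ Z) ≫ 0 := (IsIso.inv_hom_id _).symm
  rw [h1, comp_zero]

end IsoLocal

section Chain

open Groth.Agent.Lib.Helper85.InvTensorUnique

variable {A : Type u} [CommRing A] (P : Type u) [AddCommGroup P] [Module A P]
  [Module.Invertible A P] (K : DRing.Cx A)

theorem sCx_tCx (x : P) (lam : P →ₗ[A] A) : sCx P K lam ≫ tCx P K x = lam x • 𝟙 (KL P K) := by
  ext i : 1
  apply ModuleCat.hom_ext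
  apply TensorProduct.ext'
  intro m y
  show (lam y • m) ⊗ₜ[A] x = lam x • (m ⊗ₜ[A] y)
  rw [TensorProduct.smul_tmul, Groth.Agent.Lib.Helper66.OT8.rank_one lam y x,
    TensorProduct.tmul_smul]

end Chain

section LocalStep

open Groth.Agent.Lib.Helper85.InvTensorUnique

variable {A B : Type u} [CommRing A] [CommRing B] [IsNoetherianRing A] [IsNoetherianRing B]
  [IsLocalRing B] (f : A →+* B) [PreservesFiniteLimits (FlatBC.ext f)]

theorem local_step (hf : f.Flat) (X Y : Dual.D A) (hX : HomFinite.BddFin X) (c : ℤ) (hY : Y.IsGE c)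
    (hFX : Dual.IsDualizing B ((FlatBC.bc f).obj X))
    (hFY : Dual.IsDualizing B ((FlatBC.bc f).obj Y))
    (P : Type u) [AddCommGroup P] [Module A P] [Module.Invertible A P] (e : P ≃ₗ[A] (X ⟶ Y))
    (K : DRing.Cx A) (eK : Q.obj K ≅ X) (ev : Q.obj (KL P K) ⟶ Y)
    (hev : ∀ x : P, Q.map (tCx P K x) ≫ ev = eK.hom ≫ e x) :
    IsIso ((FlatBC.bc f).map ev) := by
  classical
  letI := f.toAlgebra
  haveI : Module.Flat A B := hf
  obtain ⟨hi, hs⟩ := bij_of_bddFin f hf X Y hX c hY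
  have hmapsmul : ∀ (a : A) {U V : Dual.D A} (g : U ⟶ V),
      (FlatBC.bc f).map (a • g) = f a • (FlatBC.bc f).map g := fun a U V g => E_map_smul a g
  -- `Hom(FX, FY)` is nonzero
  have hne : ¬ Subsingleton ((FlatBC.bc f).obj X ⟶ (FlatBC.bc f).obj Y) := by
    intro hsub
    haveI : Subsingleton (B ⊗[A] (X ⟶ Y)) := hi.subsingleton
    haveI : Subsingleton (B ⊗[A] P) :=
      (TensorProduct.AlgebraTensorModule.congr (LinearEquiv.refl B B) e).toEquiv.subsingleton
    haveI : Module.Free B (B ⊗[A] P) := Module.free_of_flat_of_isLocalRing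
    obtain ⟨e2⟩ := Module.Invertible.free_iff_linearEquiv.1 (inferInstance : Module.Free B (B ⊗[A] P))
    exact one_ne_zero (e2.symm.injective (Subsingleton.elim (e2.symm 1) (e2.symm 0)))
  -- an isomorphism `ψ`
  obtain ⟨⟨ψ⟩, -⟩ : Nonempty ((FlatBC.bc f).obj X ≅ (FlatBC.bc f).obj Y) ∧ _ :=
    (local_dichotomy _ _ hFX hFY).resolve_left hne
  have hcoef : ∀ g : (FlatBC.bc f).obj X ⟶ (FlatBC.bc f).obj Y, ∃ b : B, g = b • ψ.hom := by
    intro g
    obtain ⟨b, hb⟩ := hFX.toEnd_bijective.2 (g ≫ ψ.inv)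
    refine ⟨b, ?_⟩
    have hb' : b • 𝟙 ((FlatBC.bc f).obj X) = g ≫ ψ.inv := hb
    rw [← Category.id_comp ψ.hom, ← Linear.smul_comp, hb', Category.assoc, ψ.inv_hom_id,
      Category.comp_id]
  have hunit : ∀ b : B, IsIso (b • ψ.hom) → IsUnit b := by
    intro b hb
    have h1 : IsIso (b • 𝟙 ((FlatBC.bc f).obj X)) := by
      have : b • 𝟙 ((FlatBC.bc f).obj X) = (b • ψ.hom) ≫ ψ.inv := by
        rw [Linear.smul_comp, ψ.hom_inv_id]
      rw [this]
      infer_instance
    obtain ⟨b', hb'⟩ := hFX.toEnd_bijective.2 (inv (b • 𝟙 ((FlatBC.bc f).obj X)))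
    have hb'' : b' • 𝟙 ((FlatBC.bc f).obj X) = inv (b • 𝟙 ((FlatBC.bc f).obj X)) := hb'
    have h2 : (b * b') • 𝟙 ((FlatBC.bc f).obj X) = (1 : B) • 𝟙 ((FlatBC.bc f).obj X) := by
      have h3 : b • inv (b • 𝟙 ((FlatBC.bc f).obj X)) =
          (b • 𝟙 ((FlatBC.bc f).obj X)) ≫ inv (b • 𝟙 ((FlatBC.bc f).obj X)) := by
        rw [Linear.smul_comp, Category.id_comp]
      rw [mul_smul, hb'', one_smul, h3, IsIso.hom_inv_id]
    have h4 : b * b' = 1 := hFX.toEnd_bijective.1 h2
    exact ⟨⟨b, b', h4, by rw [mul_comm]; exact h4⟩, rfl⟩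
  have hsmulIso : ∀ (b : B) {U V : Dual.D B} (g : U ⟶ V), IsUnit b → IsIso g → IsIso (b • g) := by
    rintro _ U V g ⟨u, rfl⟩ hg
    refine ⟨⟨(↑u⁻¹ : B) • inv g, ?_, ?_⟩⟩
    · rw [Linear.smul_comp, Linear.comp_smul, smul_smul, IsIso.hom_inv_id, Units.mul_inv, one_smul]
    · rw [Linear.smul_comp, Linear.comp_smul, smul_smul, IsIso.inv_hom_id, Units.inv_mul, one_smul]
  have hs' : Function.Surjective (Θ B X Y) := hs
  -- some `y₀ : X ⟶ Y` becomes an isomorphism
  have hy₀ : ∃ y₀ : X ⟶ Y, IsIso ((FlatBC.bc f).map y₀) := by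
    by_contra hcon
    push_neg at hcon
    have hm : ∀ t : B ⊗[A] (X ⟶ Y), ∃ b ∈ IsLocalRing.maximalIdeal B,
        Θ B X Y t = b • ψ.hom := by
      intro t
      induction t using TensorProduct.induction_on with
      | zero => exact ⟨0, Ideal.zero_mem _, by rw [map_zero, zero_smul]⟩
      | tmul b y =>
        obtain ⟨b', hb'⟩ := hcoef ((FlatBC.bc f).map y)
        have hb'm : b' ∈ IsLocalRing.maximalIdeal B := by
          rw [IsLocalRing.mem_maximalIdeal, mem_nonunits_iff]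
          intro hu
          apply hcon y
          rw [hb']
          exact hsmulIso b' ψ.hom hu inferInstance
        refine ⟨b * b', Ideal.mul_mem_left _ _ hb'm, ?_⟩
        rw [Θ_tmul]
        change b • (FlatBC.bc f).map y = _
        rw [hb', mul_smul]
      | add t₁ t₂ h₁ h₂ =>
        obtain ⟨b₁, hb₁, e₁⟩ := h₁
        obtain ⟨b₂, hb₂, e₂⟩ := h₂
        exact ⟨b₁ + b₂, Ideal.add_mem _ hb₁ hb₂, by rw [map_add, e₁, e₂, add_smul]⟩
    obtain ⟨t, ht⟩ := hs' ψ.hom
    obtain ⟨b, hb, hbψ⟩ := hm t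
    rw [ht] at hbψ
    have h1 : (1 : B) • 𝟙 ((FlatBC.bc f).obj X) = b • 𝟙 ((FlatBC.bc f).obj X) := by
      rw [one_smul, ← ψ.hom_inv_id]
      conv_lhs => rw [hbψ]
      rw [Linear.smul_comp]
    have h2 : (1 : B) = b := hFX.toEnd_bijective.1 h1
    exact (IsLocalRing.maximalIdeal.isMaximal B).ne_top
      ((Ideal.eq_top_iff_one _).2 (h2 ▸ hb))
  obtain ⟨y₀, hy₀iso⟩ := hy₀
  obtain ⟨k, l, lam, hdual⟩ := exists_dualBasis (A := A) P
  obtain ⟨x₀, hx₀⟩ : ∃ x₀ : P, e x₀ = y₀ := ⟨e.symm y₀, e.apply_symm_apply y₀⟩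
  obtain ⟨b₀, hb₀⟩ := hcoef ((FlatBC.bc f).map y₀)
  have hb₀u : IsUnit b₀ := hunit b₀ (hb₀ ▸ hy₀iso)
  choose cj hcj using fun j => hcoef ((FlatBC.bc f).map (e (l j)))
  have hsum : b₀ = ∑ j, f (lam j x₀) * cj j := by
    have h1 : y₀ = ∑ j, lam j x₀ • e (l j) := by
      rw [← hx₀]
      conv_lhs => rw [← hdual x₀]
      rw [map_sum]
      simp only [map_smul]
    have h2 : (FlatBC.bc f).map y₀ = (∑ j, f (lam j x₀) * cj j) • ψ.hom := by
      rw [h1, Functor.map_sum, Finset.sum_smul]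
      refine Finset.sum_congr rfl (fun j _ => ?_)
      rw [hmapsmul, hcj j, mul_smul]
    have h3 : b₀ • ψ.hom = (∑ j, f (lam j x₀) * cj j) • ψ.hom := hb₀.symm.trans h2
    have h4 : b₀ • 𝟙 ((FlatBC.bc f).obj X) =
        (∑ j, f (lam j x₀) * cj j) • 𝟙 ((FlatBC.bc f).obj X) := by
      have := congrArg (fun g => g ≫ ψ.inv) h3
      simpa [Linear.smul_comp] using this
    exact hFX.toEnd_bijective.1 h4
  obtain ⟨j, hj⟩ : ∃ j, IsUnit (f (lam j x₀)) := by
    by_contra hcon
    push_neg at hcon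
    have : b₀ ∈ IsLocalRing.maximalIdeal B := by
      rw [hsum]
      exact Ideal.sum_mem _ (fun j _ => Ideal.mul_mem_right _ _
        ((IsLocalRing.mem_maximalIdeal _).2 (hcon j)))
    exact (IsLocalRing.mem_maximalIdeal _).1 this hb₀u
  have h5 : IsIso ((FlatBC.bc f).map (Q.map (tCx P K x₀))) := by
    have hA : Q.map (tCx P K x₀) ≫ Q.map (sCx P K (lam j)) = lam j x₀ • 𝟙 _ :=
      Q_tCx_sCx P K x₀ (lam j)
    have hB : Q.map (sCx P K (lam j)) ≫ Q.map (tCx P K x₀) = lam j x₀ • 𝟙 _ := by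
      rw [← Functor.map_comp, sCx_tCx, Functor.map_smul, Q.map_id]
    obtain ⟨u, hu⟩ := hj
    refine ⟨⟨(↑u⁻¹ : B) • (FlatBC.bc f).map (Q.map (sCx P K (lam j))), ?_, ?_⟩⟩
    · rw [Linear.comp_smul, ← Functor.map_comp, hA, hmapsmul, CategoryTheory.Functor.map_id,
        smul_smul, ← hu, Units.inv_mul, one_smul]
    · rw [Linear.smul_comp, ← Functor.map_comp, hB, hmapsmul, CategoryTheory.Functor.map_id,
        smul_smul, ← hu, Units.inv_mul, one_smul]
  have h6 : (FlatBC.bc f).map (Q.map (tCx P K x₀)) ≫ (FlatBC.bc f).map ev =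
      (FlatBC.bc f).map eK.hom ≫ (FlatBC.bc f).map y₀ := by
    rw [← Functor.map_comp, hev x₀, Functor.map_comp, hx₀]
  have h7 : IsIso ((FlatBC.bc f).map (Q.map (tCx P K x₀)) ≫ (FlatBC.bc f).map ev) := by
    rw [h6]
    infer_instance
  exact IsIso.of_isIso_comp_left ((FlatBC.bc f).map (Q.map (tCx P K x₀))) _

end LocalStep

section Main

open Groth.Agent.Lib.Helper85.InvTensorUnique Groth.Agent.Lib.Helper85.InvTensorD

variable {A : Type u} [CommRing A] [IsNoetherianRing A]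

theorem exists_iso_tensor (X Y : Dual.D A) (hX : Dual.IsDualizing A X) (hY : Dual.IsDualizing A Y)
    (P : Type u) [AddCommGroup P] [Module A P] [Module.Invertible A P] (e : P ≃ₗ[A] (X ⟶ Y))
    [Module.Flat A (ModuleCat.of A P)] :
    Nonempty ((G (ModuleCat.of A P)).obj X ≅ Y) := by
  classical
  let K := (DerivedCategory.Q (C := ModuleCat.{u} A)).objPreimage X
  let eK : Q.obj K ≅ X := (DerivedCategory.Q (C := ModuleCat.{u} A)).objObjPreimageIso X
  obtain ⟨k, l, lam, hdual⟩ := exists_dualBasis (A := A) P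
  let ev : Q.obj (KL P K) ⟶ Y := ∑ j, Q.map (sCx P K (lam j)) ≫ eK.hom ≫ e (l j)
  have hev : ∀ x : P, Q.map (tCx P K x) ≫ ev = eK.hom ≫ e x := by
    intro x
    change Q.map (tCx P K x) ≫ ∑ j, Q.map (sCx P K (lam j)) ≫ eK.hom ≫ e (l j) = _
    rw [Preadditive.comp_sum]
    have h1 : ∀ j, Q.map (tCx P K x) ≫ Q.map (sCx P K (lam j)) ≫ eK.hom ≫ e (l j) =
        lam j x • (eK.hom ≫ e (l j)) := by
      intro j
      rw [← Category.assoc, Q_tCx_sCx, Linear.smul_comp, Category.id_comp]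
    simp only [h1]
    conv_rhs => rw [← hdual x, map_sum, Preadditive.comp_sum]
    refine Finset.sum_congr rfl (fun j _ => ?_)
    rw [map_smul, Linear.comp_smul]
  have hflat : ∀ p : PrimeSpectrum A, (algebraMap A (Localization.AtPrime p.asIdeal)).Flat :=
    fun p => RingHom.flat_algebraMap_iff.2 inferInstance
  haveI : ∀ p : PrimeSpectrum A,
      PreservesFiniteLimits (FlatBC.ext (algebraMap A (Localization.AtPrime p.asIdeal))) :=
    fun p => FlatBC.preservesFiniteLimits_ext _ (hflat p)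
  obtain ⟨hBF, -, -⟩ := bddFin_of_dualizing X hX
  obtain ⟨-, c', hGE'⟩ := bddFin_of_dualizing Y hY
  have hiso : IsIso ev := by
    apply isIso_of_bc_family
    intro p
    exact local_step (algebraMap A (Localization.AtPrime p.asIdeal)) (hflat p) X Y hBF c' hGE'
      (isDualizing_bc_atPrime X hX p.asIdeal) (isDualizing_bc_atPrime Y hY p.asIdeal) P e K eK ev hev
  exact ⟨(G (ModuleCat.of A P)).mapIso eK.symm ≪≫
    (tensorRight (ModuleCat.of A P)).mapDerivedCategoryFactors.app K ≪≫ asIso ev⟩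

/-- **dualizing complexes on a connected Noetherian affine scheme are unique up to an invertible
module and a shift** -/
theorem main [ConnectedSpace (PrimeSpectrum A)] (ω ω' : Dual.D A)
    (hω : Dual.IsDualizing A ω) (hω' : Dual.IsDualizing A ω') :
    ∃ (P : ModuleCat.{u} A) (_ : Module.Invertible A P) (n : ℤ),
      ∀ [DRing.HasLTensor A P], Nonempty (ω' ≅ ((DRing.LTensor A P).obj ω)⟦n⟧) := by
  obtain ⟨n, P, _, _, hinv, ⟨e⟩⟩ := exists_shift_invertible ω ω' hω hω'
  haveI : Module.Flat A (ModuleCat.of A P) := inferInstanceAs (Module.Flat A P)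
  refine ⟨ModuleCat.of A P, inferInstanceAs (Module.Invertible A P), -n, ?_⟩
  intro _
  obtain ⟨φ⟩ := exists_iso_tensor ω (ω'⟦n⟧) hω
    (Groth.Agent.Lib.Helper39.Dual.isDualizing_shift ω' hω' n) P e
  exact ⟨(shiftFunctorCompIsoId (Dual.D A) n (-n) (by simp)).symm.app ω' ≪≫
    (shiftFunctor (Dual.D A) (-n)).mapIso
      (φ.symm ≪≫ (ltFlatIso (ModuleCat.of A P)).symm.app ω)⟩

end Main

end Groth.Agent.Lib.Helper89.DualUniq
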