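import Groth.Agent.Lib.Helper89.SigmaExact2

/-!
# Telescopes of inverse systems of complexes (helper89)

For a family `X : ℤ → CochainComplex A ℤ` with maps `τ j : X (j+1) ⟶ X j` and an upward closed
predicate `P` on `ℤ`, the telescope `tel X τ P` is the mapping cone of
`⨁_{P j} X (j+1) ⟶ ⨁_{P j} X j`, `ι_{j+1} - τ_j ≫ ι_j`.  Inclusions of predicates induce termwise
monomorphisms of telescopes, and `X i ⟶ tel X τ (i ≤ ·)` is a quasi-isomorphism.
-/

set_option autoImplicit false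
universe v u
open CategoryTheory CategoryTheory.Limits

namespace Helper89.FilTel

open Helper89.SigmaExact

variable {A : Type u} [Category.{v} A] [Abelian A] [EnoughInjectives A] [HasCoproducts.{0} A]

section Sig

variable (Y : ℤ → CochainComplex A ℤ) (P : ℤ → Prop)

/-- the coproduct of the `Y j` with `P j` -/
noncomputable def sig : CochainComplex A ℤ := sigmaCx (fun j : {j : ℤ // P j} => Y j.1)

/-- the inclusions -/
noncomputable def sigι (j : ℤ) (hj : P j) : Y j ⟶ sig Y P :=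
  sigmaCxι (fun j : {j : ℤ // P j} => Y j.1) ⟨j, hj⟩

variable {Y P} in
/-- the universal property -/
noncomputable def sigDesc {L : CochainComplex A ℤ} (f : ∀ j, P j → (Y j ⟶ L)) : sig Y P ⟶ L :=
  sigmaCxDesc (fun j : {j : ℤ // P j} => Y j.1) (fun j => f j.1 j.2)

@[reassoc (attr := simp)]
lemma sigι_desc {L : CochainComplex A ℤ} (f : ∀ j, P j → (Y j ⟶ L)) (j : ℤ) (hj : P j) :
    sigι Y P j hj ≫ sigDesc f = f j hj :=
  sigmaCxι_desc (fun j : {j : ℤ // P j} => Y j.1) (fun j => f j.1 j.2) ⟨j, hj⟩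

variable {Y P} in
lemma sig_hom_ext {L : CochainComplex A ℤ} (a b : sig Y P ⟶ L)
    (h : ∀ j hj, sigι Y P j hj ≫ a = sigι Y P j hj ≫ b) : a = b :=
  sigmaCx_hom_ext (fun j : {j : ℤ // P j} => Y j.1) a b (fun j => h j.1 j.2)

variable {P} {P' P'' : ℤ → Prop} (h : ∀ j, P j → P' j) (h' : ∀ j, P' j → P'' j)

/-- the map induced by an inclusion of predicates -/
noncomputable def sigMap : sig Y P ⟶ sig Y P' := sigDesc (fun j hj => sigι Y P' j (h j hj))

@[reassoc (attr := simp)]
lemma sigι_map (j : ℤ) (hj : P j) : sigι Y P j hj ≫ sigMap Y h = sigι Y P' j (h j hj) := by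
  simp [sigMap]

lemma sigMap_comp : sigMap Y h ≫ sigMap Y h' = sigMap Y (fun j hj => h' j (h j hj)) := by
  apply sig_hom_ext
  intro j hj
  simp

open Classical in
/-- a retraction of `sigMap` -/
noncomputable def sigRetr : sig Y P' ⟶ sig Y P :=
  sigDesc (fun j _ => if hj : P j then sigι Y P j hj else 0)

@[reassoc (attr := simp)]
lemma sigMap_retr : sigMap Y h ≫ sigRetr Y (P := P) (P' := P') = 𝟙 _ := by
  apply sig_hom_ext
  intro j hj
  simp [sigRetr, dif_pos hj]

instance sigMap_f_mono (n : ℤ) : Mono ((sigMap Y h).f n) := by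
  have : (sigMap Y h).f n ≫ (sigRetr Y (P := P) (P' := P')).f n = 𝟙 _ := by
    rw [← HomologicalComplex.comp_f, sigMap_retr, HomologicalComplex.id_f]
  exact mono_of_mono_fac this

end Sig

section Tel

open CochainComplex

variable (X : ℤ → CochainComplex A ℤ) (τ : ∀ j, X (j + 1) ⟶ X j)
  (P : ℤ → Prop) (hP : ∀ j, P j → P (j + 1))

/-- the source of the telescope map -/
noncomputable abbrev src : CochainComplex A ℤ := sig (fun j => X (j + 1)) P

/-- the target of the telescope map -/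
noncomputable abbrev tgt : CochainComplex A ℤ := sig X P

/-- the telescope map `ι_{j+1} - τ_j ≫ ι_j` -/
noncomputable def φ : src X P ⟶ tgt X P :=
  sigDesc (fun j hj => sigι X P (j + 1) (hP j hj) - τ j ≫ sigι X P j hj)

@[reassoc]
lemma sigι_φ (j : ℤ) (hj : P j) : sigι (fun j => X (j + 1)) P j hj ≫ φ X τ P hP =
    sigι X P (j + 1) (hP j hj) - τ j ≫ sigι X P j hj := by
  simp [φ]

/-- the telescope -/
noncomputable abbrev tel : CochainComplex A ℤ := mappingCone (φ X τ P hP)

variable {P} {P' P'' : ℤ → Prop} (hP' : ∀ j, P' j → P' (j + 1)) (hP'' : ∀ j, P'' j → P'' (j + 1))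
  (h : ∀ j, P j → P' j) (h' : ∀ j, P' j → P'' j)

lemma φ_comm : φ X τ P hP ≫ sigMap X h = sigMap (fun j => X (j + 1)) h ≫ φ X τ P' hP' := by
  apply sig_hom_ext
  intro j hj
  rw [sigι_φ_assoc, sigι_map_assoc, sigι_φ, Preadditive.sub_comp, Category.assoc, sigι_map,
    sigι_map]

/-- the map of telescopes induced by an inclusion of predicates -/
noncomputable def telMap : tel X τ P hP ⟶ tel X τ P' hP' :=
  mappingCone.map (φ X τ P hP) (φ X τ P' hP') (sigMap _ h) (sigMap _ h) (φ_comm X τ hP hP' h)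

omit [EnoughInjectives A] [HasCoproducts A] in
lemma map_congr {K₁ L₁ K₂ L₂ : CochainComplex A ℤ} (φ₁ : K₁ ⟶ L₁) (φ₂ : K₂ ⟶ L₂)
    {a a' : K₁ ⟶ K₂} {b b' : L₁ ⟶ L₂} (ha : a = a') (hb : b = b')
    (comm : φ₁ ≫ b = a ≫ φ₂) (comm' : φ₁ ≫ b' = a' ≫ φ₂) :
    mappingCone.map φ₁ φ₂ a b comm = mappingCone.map φ₁ φ₂ a' b' comm' := by
  subst ha hb
  rfl

lemma telMap_comp : telMap X τ hP hP' h ≫ telMap X τ hP' hP'' h' =
    telMap X τ hP hP'' (fun j hj => h' j (h j hj)) := by
  dsimp only [telMap]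
  rw [← mappingCone.map_comp]
  exact map_congr _ _ (sigMap_comp _ h h') (sigMap_comp _ h h') _ _

omit [EnoughInjectives A] [HasCoproducts A] in
lemma map_f_fst {K₁ L₁ K₂ L₂ : CochainComplex A ℤ} (φ₁ : K₁ ⟶ L₁) (φ₂ : K₂ ⟶ L₂)
    (a : K₁ ⟶ K₂) (b : L₁ ⟶ L₂) (comm : φ₁ ≫ b = a ≫ φ₂) (n m : ℤ) (hnm : n + 1 = m) :
    (mappingCone.map φ₁ φ₂ a b comm).f n ≫ (mappingCone.fst φ₂).1.v n m hnm =
      (mappingCone.fst φ₁).1.v n m hnm ≫ a.f m := by
  subst hnm
  simp [mappingCone.ext_from_iff _ (n + 1) n rfl, mappingCone.map]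

omit [EnoughInjectives A] [HasCoproducts A] in
lemma map_f_snd {K₁ L₁ K₂ L₂ : CochainComplex A ℤ} (φ₁ : K₁ ⟶ L₁) (φ₂ : K₂ ⟶ L₂)
    (a : K₁ ⟶ K₂) (b : L₁ ⟶ L₂) (comm : φ₁ ≫ b = a ≫ φ₂) (n : ℤ) :
    (mappingCone.map φ₁ φ₂ a b comm).f n ≫ (mappingCone.snd φ₂).v n n (add_zero n) =
      (mappingCone.snd φ₁).v n n (add_zero n) ≫ b.f n := by
  simp [mappingCone.ext_from_iff _ (n + 1) n rfl, mappingCone.map]

omit [EnoughInjectives A] [HasCoproducts A] in
lemma map_f_mono {K₁ L₁ K₂ L₂ : CochainComplex A ℤ} (φ₁ : K₁ ⟶ L₁) (φ₂ : K₂ ⟶ L₂)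
    (a : K₁ ⟶ K₂) (b : L₁ ⟶ L₂) (comm : φ₁ ≫ b = a ≫ φ₂) (n : ℤ) [Mono (a.f (n + 1))]
    [Mono (b.f n)] : Mono ((mappingCone.map φ₁ φ₂ a b comm).f n) := by
  apply Preadditive.mono_of_cancel_zero
  intro W g hg
  rw [mappingCone.ext_to_iff _ n (n + 1) rfl]
  have h1 := hg =≫ (mappingCone.fst φ₂).1.v n (n + 1) rfl
  have h2 := hg =≫ (mappingCone.snd φ₂).v n n (add_zero n)
  rw [Category.assoc, zero_comp] at h1 h2
  rw [map_f_fst] at h1
  rw [map_f_snd] at h2
  constructor
  · rw [Limits.zero_comp, ← cancel_mono (a.f (n + 1)), Category.assoc, h1, Limits.zero_comp]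
  · rw [Limits.zero_comp, ← cancel_mono (b.f n), Category.assoc, h2, Limits.zero_comp]

instance telMap_f_mono (n : ℤ) : Mono ((telMap X τ hP hP' h).f n) :=
  map_f_mono _ _ _ _ _ n

/-- the canonical map from `X i` to a telescope containing the index `i` -/
noncomputable def u (i : ℤ) (hi : P i) : X i ⟶ tel X τ P hP :=
  sigι X P i hi ≫ mappingCone.inr (φ X τ P hP)

@[reassoc (attr := simp)]
lemma u_telMap (i : ℤ) (hi : P i) :
    u X τ hP i hi ≫ telMap X τ hP hP' h = u X τ hP' i (h i hi) := by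
  simp [u, telMap, mappingCone.map]

lemma u_succ_sub (i : ℤ) (hi : P i) :
    u X τ hP (i + 1) (hP i hi) - τ i ≫ u X τ hP i hi =
      sigι (fun j => X (j + 1)) P i hi ≫ φ X τ P hP ≫ mappingCone.inr (φ X τ P hP) := by
  rw [sigι_φ_assoc, Preadditive.sub_comp, Category.assoc]
  rfl

end Tel

section Split

open CochainComplex

variable (X : ℤ → CochainComplex A ℤ) (τ : ∀ j, X (j + 1) ⟶ X j) (i : ℤ)

/-- the predicate `i ≤ ·` -/
abbrev geP (i : ℤ) : ℤ → Prop := fun j => i ≤ j

lemma geP_up (i : ℤ) : ∀ j, geP i j → geP i (j + 1) := fun j hj => by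
  dsimp [geP] at hj ⊢
  lia

/-- the composite `X j ⟶ X i` of the transition maps (zero when `j < i`) -/
noncomputable def tc (j : ℤ) : X j ⟶ X i :=
  Int.inductionOn' (motive := fun j => (X j ⟶ X i)) j i (𝟙 _) (fun k _ c => τ k ≫ c)
    (fun _ _ _ => 0)

lemma tc_self : tc X τ i i = 𝟙 _ := Int.inductionOn'_self

lemma tc_succ (k : ℤ) (hk : i ≤ k) : tc X τ i (k + 1) = τ k ≫ tc X τ i k :=
  Int.inductionOn'_add_one hk

/-- the components of the retraction of the telescope map -/
noncomputable def rc (j : ℤ) : X j ⟶ src X (geP i) :=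
  Int.inductionOn' (motive := fun j => (X j ⟶ src X (geP i))) j i 0
    (fun k hk r => sigι (fun j => X (j + 1)) (geP i) k hk + τ k ≫ r) (fun _ _ _ => 0)

lemma rc_self : rc X τ i i = 0 := Int.inductionOn'_self

lemma rc_succ (k : ℤ) (hk : i ≤ k) : rc X τ i (k + 1) =
    sigι (fun j => X (j + 1)) (geP i) k hk + τ k ≫ rc X τ i k :=
  Int.inductionOn'_add_one hk

/-- the projection of the target of the telescope map onto `X i` -/
noncomputable def π : tgt X (geP i) ⟶ X i := sigDesc (fun j _ => tc X τ i j)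

/-- the retraction of the telescope map -/
noncomputable def retr : tgt X (geP i) ⟶ src X (geP i) := sigDesc (fun j _ => rc X τ i j)

lemma φ_π : φ X τ (geP i) (geP_up i) ≫ π X τ i = 0 := by
  apply sig_hom_ext
  intro j hj
  rw [sigι_φ_assoc, Preadditive.sub_comp, Category.assoc]
  simp only [π, sigι_desc, comp_zero]
  rw [tc_succ X τ i j hj, sub_self]

lemma φ_retr : φ X τ (geP i) (geP_up i) ≫ retr X τ i = 𝟙 _ := by
  apply sig_hom_ext
  intro j hj
  rw [sigι_φ_assoc, Preadditive.sub_comp, Category.assoc]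
  simp only [retr, sigι_desc, Category.comp_id]
  rw [rc_succ X τ i j hj, add_sub_cancel_right]

lemma sigι_π : sigι X (geP i) i le_rfl ≫ π X τ i = 𝟙 _ := by
  simp only [π, sigι_desc]
  exact tc_self X τ i

lemma retr_φ_add : retr X τ i ≫ φ X τ (geP i) (geP_up i) + π X τ i ≫ sigι X (geP i) i le_rfl =
    𝟙 _ := by
  apply sig_hom_ext
  intro j hj
  rw [Preadditive.comp_add, Category.comp_id]
  simp only [retr, π, sigι_desc_assoc]
  induction j, hj using Int.le_induction with
  | base =>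
    rw [rc_self, tc_self, zero_comp, zero_add, Category.id_comp]
  | succ k hk ih =>
    rw [rc_succ X τ i k hk, tc_succ X τ i k hk, Preadditive.add_comp, sigι_φ, Category.assoc,
      Category.assoc, add_assoc, ← Preadditive.comp_add, ih]
    abel

/-- the short complex `src ⟶ tgt ⟶ X i` -/
noncomputable abbrev telSC : ShortComplex (CochainComplex A ℤ) :=
  ShortComplex.mk (φ X τ (geP i) (geP_up i)) (π X τ i) (φ_π X τ i)

/-- the telescope short complex is split -/
noncomputable def telSplitting : (telSC X τ i).Splitting where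
  r := retr X τ i
  s := sigι X (geP i) i le_rfl
  f_r := φ_retr X τ i
  s_g := sigι_π X τ i
  id := retr_φ_add X τ i

lemma telSC_shortExact : (telSC X τ i).ShortExact := (telSplitting X τ i).shortExact

lemma u_desc : u X τ (geP_up i) i le_rfl ≫ mappingCone.descShortComplex (telSC X τ i) = 𝟙 _ := by
  dsimp only [u]
  rw [Category.assoc]
  have := mappingCone.inr_descShortComplex (telSC X τ i)
  dsimp only at this
  rw [this]
  exact sigι_π X τ i

instance quasiIso_u : QuasiIso (u X τ (geP_up i) i le_rfl) := by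
  have h1 : QuasiIso (mappingCone.descShortComplex (telSC X τ i)) :=
    mappingCone.quasiIso_descShortComplex (telSC_shortExact X τ i)
  have h2 : QuasiIso (u X τ (geP_up i) i le_rfl ≫
      mappingCone.descShortComplex (telSC X τ i)) := by
    rw [u_desc]
    infer_instance
  exact quasiIso_of_comp_right _ (mappingCone.descShortComplex (telSC X τ i))

end Split

end Helper89.FilTel
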