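import Groth.Agent.Lib.Helper89.FilTel1
import Groth.Agent.Lib.Helper84.KInj

/-!
# Filtered complexes representing inverse systems in the derived category (helper89)
-/

set_option autoImplicit false
universe w v u
open CategoryTheory CategoryTheory.Limits

namespace Helper89.FilTel

open Helper89.SigmaExact CochainComplex DerivedCategory

section Derived

variable {A : Type u} [Category.{v} A] [Abelian A] [EnoughInjectives A] [HasCoproducts.{0} A]
  [HasDerivedCategory.{w} A]

lemma Q_sig_eq_zero (Y : ℤ → CochainComplex A ℤ) (P : ℤ → Prop) (L : DerivedCategory A)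
    (c : Q.obj (sig Y P) ⟶ L) (hc : ∀ j hj, Q.map (sigι Y P j hj) ≫ c = 0) : c = 0 :=
  eq_zero_of_comp_ι (fun j : {j : ℤ // P j} => Y j.1) L c (fun j => hc j.1 j.2)

omit [EnoughInjectives A] [HasCoproducts A] in
lemma Q_map_comp_inr {K L : CochainComplex A ℤ} (f : K ⟶ L) :
    Q.map (f ≫ mappingCone.inr f) = 0 := by
  have h := Q_map_eq_of_homotopy A (HomologicalComplex.homotopyCofiber.inrCompHomotopy f
    (fun j => ⟨j - 1, by simp⟩))
  rw [Functor.map_zero] at h
  exact h

variable (X : ℤ → CochainComplex A ℤ) (τ : ∀ j, X (j + 1) ⟶ X j)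

lemma Q_u_succ {P : ℤ → Prop} (hP : ∀ j, P j → P (j + 1)) (i : ℤ) (hi : P i) :
    Q.map (u X τ hP (i + 1) (hP i hi)) = Q.map (τ i ≫ u X τ hP i hi) := by
  have h := u_succ_sub X τ hP i hi
  have h2 : Q.map (u X τ hP (i + 1) (hP i hi) - τ i ≫ u X τ hP i hi) = 0 := by
    rw [h, Q.map_comp, Q_map_comp_inr, comp_zero]
  rw [Functor.map_sub, sub_eq_zero] at h2
  exact h2

variable (I : CochainComplex A ℤ) (α : ∀ j, X j ⟶ I)

/-- the predicate that is always true -/
abbrev topP : ℤ → Prop := fun _ => True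

lemma topP_up : ∀ j, topP j → topP (j + 1) := fun _ _ => trivial

/-- the map from the full coproduct to `I` -/
noncomputable def β : tgt X topP ⟶ I := sigDesc (fun j _ => α j)

lemma Q_φ_β (hα : ∀ j, Q.map (τ j ≫ α j) = Q.map (α (j + 1))) :
    Q.map (φ X τ topP topP_up ≫ β X I α) = 0 := by
  apply Q_sig_eq_zero
  intro j hj
  rw [← Q.map_comp, sigι_φ_assoc, Preadditive.sub_comp, Category.assoc]
  simp only [β, sigι_desc]
  rw [Functor.map_sub, hα, sub_self]

omit [EnoughInjectives A] [HasCoproducts A] [HasDerivedCategory A] in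
/-- the mapping cylinder factorization: every morphism of complexes factors as a termwise
monomorphism followed by a quasi-isomorphism -/
lemma exists_cylinder {T I : CochainComplex A ℤ} (g : T ⟶ I) :
    ∃ (K : CochainComplex A ℤ) (m : T ⟶ K) (p : K ⟶ I), (∀ n, Mono (m.f n)) ∧ QuasiIso p ∧
      m ≫ p = g := by
  let ψ : T ⟶ T ⊞ I := biprod.lift (𝟙 T) (-g)
  let S : ShortComplex (CochainComplex A ℤ) :=
    ShortComplex.mk ψ (biprod.desc g (𝟙 I)) (by simp [ψ])
  let spl : S.Splitting :=
    { r := biprod.fst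
      s := biprod.inr
      f_r := by simp [S, ψ]
      s_g := by simp [S]
      id := by
        dsimp [S, ψ]
        apply biprod.hom_ext'
        · apply biprod.hom_ext <;> simp
        · apply biprod.hom_ext <;> simp }
  refine ⟨mappingCone ψ, biprod.inl ≫ mappingCone.inr ψ, mappingCone.descShortComplex S, ?_,
    mappingCone.quasiIso_descShortComplex spl.shortExact, ?_⟩
  · intro n
    have h1 : (biprod.inl ≫ mappingCone.inr ψ).f n ≫
        ((mappingCone.snd ψ).v n n (add_zero n) ≫ (biprod.fst : T ⊞ I ⟶ T).f n) = 𝟙 _ := by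
      rw [HomologicalComplex.comp_f, Category.assoc, mappingCone.inr_f_snd_v_assoc,
        ← HomologicalComplex.comp_f, biprod.inl_fst, HomologicalComplex.id_f]
    exact mono_of_mono_fac h1
  · rw [Category.assoc]
    have := mappingCone.inr_descShortComplex S
    dsimp only [S] at this
    rw [this, biprod.inl_desc]

/-- An inverse system of complexes over a K-injective complex `I`, compatible in the derived
category, is represented by a filtered complex. -/
theorem exists_filtration [I.IsKInjective]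
    (hα : ∀ j, Q.map (τ j ≫ α j) = Q.map (α (j + 1))) :
    ∃ (K : CochainComplex A ℤ) (fil : ℤ → Subobject K) (anti : Antitone fil) (p : K ⟶ I)
      (v : ∀ i, X i ⟶ (fil i : CochainComplex A ℤ)),
      QuasiIso p ∧ (∀ i, QuasiIso (v i)) ∧ (∀ i, v i ≫ (fil i).arrow ≫ p = α i) ∧
      (∀ i, Q.map (v (i + 1) ≫ (fil (i + 1)).ofLE (fil i) (anti (by lia))) =
        Q.map (τ i ≫ v i)) := by
  obtain ⟨H⟩ := Groth.Agent.Lib.Helper84.KInj.nonempty_homotopy_of_Q_map_eq _ I
    (φ X τ topP topP_up ≫ β X I α) 0 (by rw [Q_φ_β X τ I α hα, Functor.map_zero])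
  let g : tel X τ topP topP_up ⟶ I :=
    HomologicalComplex.homotopyCofiber.desc (φ X τ topP topP_up) (β X I α) H
  have hg : mappingCone.inr (φ X τ topP topP_up) ≫ g = β X I α :=
    HomologicalComplex.homotopyCofiber.inr_desc _ _ _
  obtain ⟨K, m, p, hm, hp, hmp⟩ := exists_cylinder g
  have hm' : Mono m := HomologicalComplex.mono_of_mono_f m hm
  let inc : ∀ i, tel X τ (geP i) (geP_up i) ⟶ tel X τ topP topP_up :=
    fun i => telMap X τ (geP_up i) topP_up (fun _ _ => trivial)
  have hinc : ∀ i, Mono (inc i) := fun i =>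
    HomologicalComplex.mono_of_mono_f _ (fun n => inferInstance)
  let mi : ∀ i, tel X τ (geP i) (geP_up i) ⟶ K := fun i => inc i ≫ m
  have hmi : ∀ i, Mono (mi i) := fun i => mono_comp _ _
  let tm : ∀ i j (hij : i ≤ j), tel X τ (geP j) (geP_up j) ⟶ tel X τ (geP i) (geP_up i) :=
    fun i j hij => telMap X τ (geP_up j) (geP_up i) (fun k hk => le_trans hij hk)
  have htm : ∀ i j (hij : i ≤ j), tm i j hij ≫ mi i = mi j := fun i j hij => by
    dsimp only [tm, mi, inc]
    rw [← Category.assoc, telMap_comp]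
  let fil : ℤ → Subobject K := fun i => Subobject.mk (mi i)
  have anti : Antitone fil := fun i j hij => Subobject.mk_le_mk_of_comm (tm i j hij) (htm i j hij)
  let ui : ∀ i, ((fil i : CochainComplex A ℤ)) ≅ tel X τ (geP i) (geP_up i) :=
    fun i => Subobject.underlyingIso (mi i)
  let v : ∀ i, X i ⟶ (fil i : CochainComplex A ℤ) :=
    fun i => u X τ (geP_up i) i le_rfl ≫ (ui i).inv
  refine ⟨K, fil, anti, p, v, hp, fun i => ?_, fun i => ?_, fun i => ?_⟩
  · dsimp only [v]
    infer_instance
  · dsimp only [v, fil, ui]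
    rw [Category.assoc, Subobject.underlyingIso_arrow_assoc]
    dsimp only [mi, inc]
    rw [Category.assoc, hmp, u_telMap_assoc]
    dsimp only [u]
    rw [Category.assoc, hg]
    simp [β]
  · have hi : i ≤ i + 1 := le_of_lt (Int.lt_succ_self i)
    have h1 : (ui (i + 1)).inv ≫ (fil (i + 1)).ofLE (fil i) (anti hi) =
        tm i (i + 1) hi ≫ (ui i).inv := by
      rw [← cancel_mono (fil i).arrow, Category.assoc, Subobject.ofLE_arrow, Category.assoc]
      dsimp only [fil, ui]
      rw [Subobject.underlyingIso_arrow, Subobject.underlyingIso_arrow, htm i (i + 1) hi]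
    dsimp only [v]
    rw [Category.assoc, h1]
    dsimp only [tm]
    rw [u_telMap_assoc, Q.map_comp, Q_u_succ X τ (geP_up i) i le_rfl, ← Q.map_comp,
      Category.assoc]

end Derived

end Helper89.FilTel
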