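import Groth.Agent.Lib.Helper89.ShriekBC
import Mathlib.Algebra.Algebra.Epi

/-!
# The upper shriek along a flat epimorphism of finite type is the base change
-/

set_option autoImplicit false
universe u

namespace Groth.Agent.Lib.Helper89.FlatEpi

open CategoryTheory CategoryTheory.Limits DerivedCategory CategoryTheory.Pretriangulated
open TensorProduct
open Groth.Agent.Lib.Helper15.PseudoCohRes Groth.Agent.Lib.Helper15.LBCFlat
  Groth.Agent.Lib.Helper15 Groth.Agent.Lib.Helper89.Shriek2 Groth.Agent.Lib.Helper89.Shriek6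
  Groth.Agent.Lib.Helper84

attribute [local instance] HasDerivedCategory.standard

section

variable (R S : Type u) [CommRing R] [CommRing S] [Algebra R S] [Algebra.IsEpi R S]

theorem one_tmul_eq (s : S) : (1 : S) ⊗ₜ[R] s = s ⊗ₜ[R] (1 : S) :=
  (Algebra.isEpi_iff_forall_one_tmul_eq R S).1 inferInstance s

theorem exists_tmul_one (x : S ⊗[R] S) : ∃ a : S, x = a ⊗ₜ[R] (1 : S) := by
  induction x using TensorProduct.induction_on with
  | zero => exact ⟨0, (TensorProduct.zero_tmul _ _).symm⟩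
  | tmul u v =>
    refine ⟨u * v, ?_⟩
    calc u ⊗ₜ[R] v = u ⊗ₜ[R] 1 * 1 ⊗ₜ[R] v := by simp
      _ = u ⊗ₜ[R] 1 * v ⊗ₜ[R] 1 := by rw [one_tmul_eq]
      _ = (u * v) ⊗ₜ[R] 1 := by simp
  | add u v hu hv =>
    obtain ⟨u, rfl⟩ := hu
    obtain ⟨v, rfl⟩ := hv
    exact ⟨u + v, (TensorProduct.add_tmul _ _ _).symm⟩

/-- `S ≅ S ⊗_R S` for an epimorphism -/
noncomputable def iotaEquiv : S ≃ₐ[S] (S ⊗[R] S) :=
  AlgEquiv.ofBijective (Algebra.ofId S (S ⊗[R] S)) (by
    constructor
    · intro a b hab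
      have h := congrArg (Algebra.TensorProduct.lmul' R (S := S)) hab
      change Algebra.TensorProduct.lmul' R (S := S) (a ⊗ₜ[R] (1 : S)) =
        Algebra.TensorProduct.lmul' R (S := S) (b ⊗ₜ[R] (1 : S)) at h
      rw [Algebra.TensorProduct.lmul'_apply_tmul, Algebra.TensorProduct.lmul'_apply_tmul,
        mul_one, mul_one] at h
      exact h
    · intro x
      obtain ⟨a, rfl⟩ := exists_tmul_one R S x
      exact ⟨a, rfl⟩)

/-- the presentation of `S ⊗_R S` over `S` with no variables -/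
noncomputable def sigma0 : MvPolynomial (Fin 0) S ≃ₐ[S] (S ⊗[R] S) :=
  (MvPolynomial.isEmptyAlgEquiv S (Fin 0)).trans (iotaEquiv R S)

theorem includeRight_eq :
    (Algebra.TensorProduct.includeRight : S →ₐ[R] S ⊗[R] S).toRingHom =
      algebraMap S (S ⊗[R] S) :=
  RingHom.ext (fun s => one_tmul_eq R S s)

theorem lmul_comp :
    (Algebra.TensorProduct.lmul' R (S := S)).toRingHom.comp
      (Algebra.TensorProduct.includeRight : S →ₐ[R] S ⊗[R] S).toRingHom = RingHom.id S := by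
  refine RingHom.ext (fun s => ?_)
  change Algebra.TensorProduct.lmul' R (S := S) ((1 : S) ⊗ₜ[R] s) = s
  rw [Algebra.TensorProduct.lmul'_apply_tmul, one_mul]

end

section Main

variable (R S : Type u) [CommRing R] [CommRing S] [Algebra R S] [Algebra.IsEpi R S]
  [IsNoetherianRing R] [Module.Flat R S]
  (m : ℕ) (χ : MvPolynomial (Fin m) R →ₐ[R] S) (hχ : Function.Surjective χ)
  {Rχ : Dual.D (MvPolynomial (Fin m) R) ⥤ Dual.D S} (adjχ : DRing.restrictD χ.toRingHom ⊣ Rχ)

include hχ adjχ in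
/-- **the upper shriek along a flat epimorphism of finite type is the base change** -/
theorem main (K : Dual.D R) (c : ℤ) [K.IsGE c] :
    Nonempty ((Rχ.obj ((DRing.LBaseChange
        (algebraMap R (MvPolynomial (Fin m) R))).obj K))⟦(m : ℤ)⟧ ≅
      (DRing.LBaseChange (algebraMap R S)).obj K) := by
  let X : Dual.D S := (Rχ.obj ((DRing.LBaseChange
        (algebraMap R (MvPolynomial (Fin m) R))).obj K))⟦(m : ℤ)⟧
  let Y : Dual.D S := (DRing.LBaseChange (algebraMap R S)).obj K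
  -- the presentation with no variables
  obtain ⟨R', ⟨adj'⟩⟩ := exists_rightAdjoint (sigma0 R S).toAlgHom.toRingHom
  have hσ : Function.Surjective (sigma0 R S).toAlgHom := (sigma0 R S).surjective
  obtain ⟨e1⟩ := ShriekBC.main R S S m χ hχ adjχ 0 (sigma0 R S).toAlgHom hσ adj' K c
  -- the right adjoint along the isomorphism `sigma0` is the base change
  have h0 : (((sigma0 R S).toRingEquiv : MvPolynomial (Fin 0) S ≃+* (S ⊗[R] S)) :
      MvPolynomial (Fin 0) S →+* (S ⊗[R] S)) = (sigma0 R S).toAlgHom.toRingHom := rfl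
  have adj'' : DRing.restrictD (((sigma0 R S).toRingEquiv :
      MvPolynomial (Fin 0) S ≃+* (S ⊗[R] S)) : MvPolynomial (Fin 0) S →+* (S ⊗[R] S)) ⊣ R' :=
    adj'.ofNatIsoLeft (restrictDOfEq h0.symm)
  have e2 : R' ≅ DRing.LBaseChange (((sigma0 R S).toRingEquiv :
      MvPolynomial (Fin 0) S ≃+* (S ⊗[R] S)) : MvPolynomial (Fin 0) S →+* (S ⊗[R] S)) :=
    rightAdjIso (sigma0 R S).toRingEquiv adj''
  have h1 : (((sigma0 R S).toRingEquiv : MvPolynomial (Fin 0) S ≃+* (S ⊗[R] S)) :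
      MvPolynomial (Fin 0) S →+* (S ⊗[R] S)).comp (algebraMap S (MvPolynomial (Fin 0) S)) =
      (Algebra.TensorProduct.includeRight : S →ₐ[R] S ⊗[R] S).toRingHom := by
    rw [includeRight_eq]
    exact RingHom.ext (fun s => (sigma0 R S).commutes s)
  have e3 : R'.obj ((DRing.LBaseChange (algebraMap S (MvPolynomial (Fin 0) S))).obj Y) ≅
      (DRing.LBaseChange (ShriekBC.gA R S S)).obj Y :=
    e2.app _ ≪≫ (lbcComp (algebraMap S (MvPolynomial (Fin 0) S)) _).app Y ≪≫
      (lbcOfEq h1).app Y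
  have e4 : (DRing.LBaseChange (ShriekBC.gA R S S)).obj X ≅
      (DRing.LBaseChange (ShriekBC.gA R S S)).obj Y :=
    e1 ≪≫ (shiftFunctorZero' (Dual.D (S ⊗[R] S)) ((0 : ℕ) : ℤ) (by simp)).app _ ≪≫ e3
  -- `LBC` along `S → S ⊗ S` is split by `LBC` along the multiplication
  have e5 : DRing.LBaseChange (ShriekBC.gA R S S) ⋙
      DRing.LBaseChange (Algebra.TensorProduct.lmul' R (S := S)).toRingHom ≅ 𝟭 (Dual.D S) :=
    lbcComp _ _ ≪≫ lbcOfEq (lmul_comp R S) ≪≫ lbcId
  exact ⟨(e5.app X).symm ≪≫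
    (DRing.LBaseChange (Algebra.TensorProduct.lmul' R (S := S)).toRingHom).mapIso e4 ≪≫ e5.app Y⟩

end Main

end Groth.Agent.Lib.Helper89.FlatEpi
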