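import Groth.Agent.Lib.Helper89.GaloisFunctor

set_option autoImplicit false
universe u v w
open CategoryTheory PreGaloisCategory Limits

namespace Groth.Agent.Lib.Helper89.GaloisExact

open Groth.Agent.Lib.Helper89.GaloisFunctor

section Exact

variable {C : Type u} [Category.{v} C] [GaloisCategory C] (E : C ⥤ FintypeCat.{w})
  [PreservesFiniteLimits E] [PreservesFiniteCoproducts E] [E.PreservesEpimorphisms]

omit [GaloisCategory C] [PreservesFiniteCoproducts E] [E.PreservesEpimorphisms] in
lemma nonempty_obj_terminal [HasTerminal C] : Nonempty (E.obj (⊤_ C)) := by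
  have h1 : IsTerminal (E.obj (⊤_ C)) := terminalIsTerminal.isTerminalObj E (⊤_ C)
  exact ⟨(h1.from (FintypeCat.of PUnit.{w+1})) PUnit.unit⟩

omit [GaloisCategory C] [PreservesFiniteLimits E] [E.PreservesEpimorphisms] in
lemma isEmpty_obj_of_isInitial {X : C} (hX : IsInitial X) : IsEmpty (E.obj X) := by
  have h1 : IsInitial (E.obj X) := hX.isInitialObj E X
  exact ⟨fun p => ((h1.to (FintypeCat.of PEmpty.{w+1})) p).elim⟩

lemma nonempty_obj_of_not_initial {X : C} (hX : IsInitial X → False) : Nonempty (E.obj X) := by
  let F := GaloisCategory.getFiberFunctor C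
  obtain ⟨x⟩ := (not_initial_iff_fiber_nonempty F X).mp hX
  have hsurj : Function.Surjective (F.map (terminal.from X)) := by
    intro t
    exact ⟨x, ((uniqueFiberTerminal F).uniq _).trans ((uniqueFiberTerminal F).uniq _).symm⟩
  have hepi' : Epi (F.map (terminal.from X)) := ConcreteCategory.epi_of_surjective _ hsurj
  have hepi : Epi (terminal.from X) := F.epi_of_epi_map hepi'
  have hepiE : Epi (E.map (terminal.from X)) := inferInstance
  have hsurjE : Function.Surjective (E.map (terminal.from X)) :=
    surjective_of_epi (FintypeCat.incl.map (E.map (terminal.from X)))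
  obtain ⟨t⟩ := nonempty_obj_terminal E
  obtain ⟨y, -⟩ := hsurjE t
  exact ⟨y⟩

lemma isIso_of_mono_of_isIso_map {A B : C} (i : A ⟶ B) [Mono i] (hi : IsIso (E.map i)) :
    IsIso i := by
  let F := GaloisCategory.getFiberFunctor C
  by_contra hni
  have hns : ¬ Function.Surjective (F.map i) := by
    intro hs
    apply hni
    have : IsIso (F.map i) := by
      rw [ConcreteCategory.isIso_iff_bijective]
      exact ⟨map_injective_of_mono F i, hs⟩
    exact isIso_of_reflects_iso i F
  simp only [Function.Surjective, not_forall, not_exists] at hns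
  obtain ⟨b, hb⟩ := hns
  obtain ⟨B₀, j, b₀, hb₀, hconn, hmono⟩ := fiber_in_connected_component F B b
  have hP : IsInitial (pullback i j) → False → False := fun _ h => h
  have hinit : Nonempty (IsInitial (pullback i j)) := by
    by_contra hne
    have hne' : IsInitial (pullback i j) → False := fun h => hne ⟨h⟩
    have : IsIso (pullback.snd i j) := hconn.noTrivialComponent _ (pullback.snd i j) hne'
    have hs : Function.Surjective (F.map (pullback.snd i j)) := by
      have : IsIso (F.map (pullback.snd i j)) := inferInstance
      exact ((ConcreteCategory.isIso_iff_bijective _).mp this).2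
    obtain ⟨p, hp⟩ := hs b₀
    apply hb (F.map (pullback.fst i j) p)
    rw [map_map_apply, pullback.condition, ← map_map_apply, hp, hb₀]
  obtain ⟨hinit⟩ := hinit
  have hempty : IsEmpty (E.obj (pullback i j)) := isEmpty_obj_of_isInitial E hinit
  obtain ⟨y⟩ := nonempty_obj_of_not_initial E hconn.notInitial
  have hsq : IsPullback (E.map (pullback.fst i j)) (E.map (pullback.snd i j)) (E.map i) (E.map j) :=
    (IsPullback.of_hasPullback i j).map E
  let x : E.obj A := (inv (E.map i)) (E.map j y)
  have hx : E.map i x = E.map j y := by
    show (inv (E.map i) ≫ E.map i) (E.map j y) = _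
    rw [IsIso.inv_hom_id]
    rfl
  let T : FintypeCat.{w} := FintypeCat.of PUnit.{w+1}
  let l : T ⟶ E.obj (pullback i j) := hsq.lift (FintypeCat.homMk (fun _ => x))
    (FintypeCat.homMk (fun _ => y)) (by ext; exact hx)
  exact hempty.false (l PUnit.unit)

lemma reflectsIsomorphisms_of_preserves : E.ReflectsIsomorphisms where
  reflects {X Y} f hf := by
    have hsq : IsPullback (E.map (pullback.fst f f)) (E.map (pullback.snd f f)) (E.map f) (E.map f) :=
      (IsPullback.of_hasPullback f f).map E
    have h1 : IsIso (E.map (pullback.fst f f)) := hsq.isIso_fst_of_isIso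
    have h2 : E.map (pullback.diagonal f) ≫ E.map (pullback.fst f f) = 𝟙 _ := by
      rw [← E.map_comp, pullback.diagonal_fst, E.map_id]
    have h3 : IsIso (E.map (pullback.diagonal f)) := by
      have : E.map (pullback.diagonal f) = inv (E.map (pullback.fst f f)) := by
        rw [← cancel_mono (E.map (pullback.fst f f)), h2, IsIso.inv_hom_id]
      rw [this]
      infer_instance
    have h4 : IsIso (pullback.diagonal f) := isIso_of_mono_of_isIso_map E _ h3
    have h5 : pullback.fst f f = pullback.snd f f := by
      rw [← cancel_epi (pullback.diagonal f), pullback.diagonal_fst, pullback.diagonal_snd]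
    have h6 : Mono f := by
      constructor
      intro Z g h hgh
      have e1 : g = pullback.lift g h hgh ≫ pullback.fst f f := (pullback.lift_fst _ _ _).symm
      have e2 : h = pullback.lift g h hgh ≫ pullback.snd f f := (pullback.lift_snd _ _ _).symm
      rw [e1, h5, ← e2]
    exact isIso_of_mono_of_isIso_map E f hf

lemma fiberFunctor_of_preserves
    (hq : ∀ (G : Type v) [Group G] [Finite G], PreservesColimitsOfShape (SingleObj G) E) :
    FiberFunctor E where
  preservesQuotientsByFiniteGroups G _ _ := hq G
  reflectsIsos := reflectsIsomorphisms_of_preserves E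

end Exact

section Exact2

variable {C : Type u} [Category.{v} C] [GaloisCategory C]

lemma preservesQuotients_of_preservesFiniteColimits {D : Type*} [Category* D] (E : C ⥤ D)
    [PreservesFiniteColimits E] (G : Type v) [Group G] [Finite G] :
    PreservesColimitsOfShape (SingleObj G) E := by
  obtain ⟨G', hg, hf, ⟨e⟩⟩ := Finite.exists_type_univ_nonempty_mulEquiv G
  exact Limits.preservesColimitsOfShape_of_equiv e.toSingleObjEquiv.symm E

/-- An exact functor from a Galois category to finite sets is a fibre functor. -/
lemma fiberFunctor_of_exact (E : C ⥤ FintypeCat.{w})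
    [PreservesFiniteLimits E] [PreservesFiniteColimits E] : FiberFunctor E :=
  fiberFunctor_of_preserves E (fun G _ _ => preservesQuotients_of_preservesFiniteColimits E G)

/-- The composite of an exact functor of Galois categories with a fibre functor is a fibre
functor. -/
lemma fiberFunctor_comp {D : Type u} [Category.{v} D] [GaloisCategory D] (H : C ⥤ D)
    [PreservesFiniteLimits H] [PreservesFiniteColimits H]
    (F' : D ⥤ FintypeCat.{w}) [FiberFunctor F'] : FiberFunctor (H ⋙ F') := by
  have : PreservesFiniteLimits (H ⋙ F') := comp_preservesFiniteLimits H F'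
  exact fiberFunctor_of_preserves (H ⋙ F') (fun G _ _ => by
    have : PreservesColimitsOfShape (SingleObj G) H :=
      preservesQuotients_of_preservesFiniteColimits H G
    infer_instance)

end Exact2

section Connected

variable {C : Type u} [Category.{v} C] [GaloisCategory C] (F : C ⥤ FintypeCat.{w}) [FiberFunctor F]

lemma isConnected_of_isPretransitive (X : C) [Nonempty (F.obj X)]
    [MulAction.IsPretransitive (Aut F) (F.obj X)] : IsConnected X where
  notInitial := not_initial_of_inhabited F (Classical.arbitrary _)
  noTrivialComponent Y i _ hY := by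
    obtain ⟨y₀⟩ := (not_initial_iff_fiber_nonempty F Y).mp hY
    have : IsIso (F.map i) := by
      rw [ConcreteCategory.isIso_iff_bijective]
      refine ⟨map_injective_of_mono F i, fun x => ?_⟩
      obtain ⟨σ, hσ⟩ := MulAction.exists_smul_eq (Aut F) (F.map i y₀) x
      exact ⟨σ.hom.app Y y₀, by rw [← app_map]; exact hσ⟩
    exact isIso_of_reflects_iso i F

end Connected

section Main

variable {C D : Type u} [Category.{v} C] [Category.{v} D] [GaloisCategory C] [GaloisCategory D]
  (H : C ⥤ D) [PreservesFiniteLimits H] [PreservesFiniteColimits H]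

theorem full_faithful_iff_preservesConnected :
    (H.Full ∧ H.Faithful) ↔ ∀ X : C, IsConnected X → IsConnected (H.obj X) := by
  let F' := GaloisCategory.getFiberFunctor D
  have : FiberFunctor (H ⋙ F') := fiberFunctor_comp H F'
  rw [← surjective_iff H F']
  constructor
  · intro hs X hX
    obtain ⟨x⟩ := nonempty_fiber_of_isConnected (H ⋙ F') X
    have : Nonempty (F'.obj (H.obj X)) := ⟨x⟩
    have : MulAction.IsPretransitive (Aut F') (F'.obj (H.obj X)) := by
      constructor
      intro x y
      obtain ⟨g, hg⟩ :=
        (FiberFunctor.isPretransitive_of_isConnected (H ⋙ F') X).exists_smul_eq x y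
      obtain ⟨τ, rfl⟩ := hs g
      exact ⟨τ, hg⟩
    exact isConnected_of_isPretransitive F' (H.obj X)
  · intro h
    rw [autWhisker_eq_toAut]
    let _ := smulComp H F'
    have := isNaturalSMul_comp H F'
    have := continuousSMul_comp H F'
    apply toAut_surjective_of_isPretransitive (H ⋙ F') (Aut F')
    intro X _
    have : IsConnected (H.obj X) := h X inferInstance
    exact FiberFunctor.isPretransitive_of_isConnected F' (H.obj X)

end Main

end Groth.Agent.Lib.Helper89.GaloisExact
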