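import Groth.Prelude.Def_Pi1X
import Mathlib.CategoryTheory.Galois.Equivalence
import Mathlib.CategoryTheory.Galois.IsFundamentalgroup
import Mathlib.CategoryTheory.Galois.Full

set_option autoImplicit false
universe u v w
open CategoryTheory PreGaloisCategory Limits

namespace Groth.Agent.Lib.Helper89.GaloisFunctor

section Single

variable {C : Type u} [Category.{v} C] [GaloisCategory C] (F : C ⥤ FintypeCat.{w}) [FiberFunctor F]

/-- Equivariant maps between fibres lift to morphisms. -/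
lemma exists_hom_of_equivariant {X Y : C} (φ : F.obj X ⟶ F.obj Y)
    (hφ : ∀ (σ : Aut F) (x : F.obj X), φ (σ.hom.app X x) = σ.hom.app Y (φ x)) :
    ∃ f : X ⟶ Y, F.map f = φ := by
  let ψ : (functorToAction F).obj X ⟶ (functorToAction F).obj Y :=
    ⟨φ, fun σ => by ext x; exact hφ σ x⟩
  obtain ⟨f, hf⟩ := (functorToAction F).map_surjective ψ
  exact ⟨f, congrArg Action.Hom.hom hf⟩

lemma smul_eq_app (σ : Aut F) {X : C} (x : F.obj X) : σ • x = σ.hom.app X x := rfl

lemma app_map (σ : Aut F) {X Y : C} (f : X ⟶ Y) (x : F.obj X) :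
    σ.hom.app Y (F.map f x) = F.map f (σ.hom.app X x) :=
  FunctorToFintypeCat.naturality F F σ.hom f x

omit [GaloisCategory C] [FiberFunctor F] in
lemma map_map_apply {X Y Z : C} (f : X ⟶ Y) (g : Y ⟶ Z) (x : F.obj X) :
    F.map g (F.map f x) = F.map (f ≫ g) x := by
  rw [F.map_comp]
  rfl

lemma map_injective_of_mono {X Y : C} (f : X ⟶ Y) [Mono f] : Function.Injective (F.map f) :=
  ConcreteCategory.injective_of_mono_of_preservesPullback (F.map f)

lemma mono_of_map_injective {X Y : C} (f : X ⟶ Y) (h : Function.Injective (F.map f)) : Mono f := by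
  have : Mono (F.map f) := ConcreteCategory.mono_of_injective _ h
  exact F.mono_of_mono_map this

lemma prod_fiber_ext {X Y : C} (w₁ w₂ : F.obj (X ⨯ Y))
    (h1 : F.map prod.fst w₁ = F.map prod.fst w₂) (h2 : F.map prod.snd w₁ = F.map prod.snd w₂) :
    w₁ = w₂ := by
  apply (fiberBinaryProductEquiv F X Y).injective
  have key : ∀ w : F.obj (X ⨯ Y),
      fiberBinaryProductEquiv F X Y w = (F.map prod.fst w, F.map prod.snd w) := by
    intro w
    obtain ⟨⟨a, b⟩, rfl⟩ := (fiberBinaryProductEquiv F X Y).symm.surjective w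
    simp
  rw [key, key, h1, h2]

/-- The fibre of the terminal object is a singleton. -/
noncomputable def uniqueFiberTerminal : Unique (F.obj (⊤_ C)) :=
  ((IsTerminal.isTerminalIffObj (F ⋙ FintypeCat.incl) _).trans
    (Types.isTerminalEquivUnique _)) terminalIsTerminal

lemma app_eq_id_of_iso_coprod_terminal (Y : C) (n : ℕ)
    (e : Y ≅ ∐ fun _ : Fin n => ⊤_ C) (σ : Aut F) : σ.hom.app Y = 𝟙 _ := by
  ext x
  have hx : F.map e.inv (F.map e.hom x) = x := by
    rw [map_map_apply]
    simp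
  obtain ⟨⟨j⟩, (t : F.obj (⊤_ C)), ht⟩ := Limits.FintypeCat.jointly_surjective
    (Discrete.functor (fun _ : Fin n => ⊤_ C) ⋙ F) _
    (isColimitOfPreserves F (coproductIsCoproduct (fun _ : Fin n => ⊤_ C))) (F.map e.hom x)
  replace ht : F.map (Sigma.ι (fun _ : Fin n => ⊤_ C) j) t = F.map e.hom x := ht
  have h1 : σ.hom.app (⊤_ C) t = t := (uniqueFiberTerminal F).uniq _ |>.trans
    ((uniqueFiberTerminal F).uniq _).symm
  rw [← hx, ← ht, app_map, app_map, h1]
  rfl

lemma exists_iso_coprod_terminal_of_app_eq_id (Y : C)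
    (h : ∀ σ : Aut F, σ.hom.app Y = 𝟙 _) :
    ∃ n : ℕ, Nonempty (Y ≅ ∐ fun _ : Fin n => ⊤_ C) := by
  obtain ⟨ι, hι, f, e, hc⟩ := has_decomp_connected_components' Y
  have hiso : ∀ i, IsIso (terminal.from (f i)) := by
    intro i
    have : IsConnected (f i) := hc i
    have hmono : Mono (Sigma.ι f i ≫ e.hom) := by
      have : Mono (Sigma.ι f i) := MonoCoprod.mono_inj _ _ (coproductIsCoproduct f) i
      exact mono_comp _ _
    have htriv : ∀ (σ : Aut F) (y : F.obj (f i)), σ.hom.app _ y = y := by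
      intro σ y
      apply map_injective_of_mono F (Sigma.ι f i ≫ e.hom)
      rw [← app_map, h]
      rfl
    have hsub : Subsingleton (F.obj (f i)) := by
      constructor
      intro y₁ y₂
      obtain ⟨σ, rfl⟩ := MulAction.exists_smul_eq (Aut F) y₁ y₂
      exact (htriv σ y₁).symm
    obtain ⟨y₀⟩ := nonempty_fiber_of_isConnected F (f i)
    have : IsIso (F.map (terminal.from (f i))) := by
      rw [ConcreteCategory.isIso_iff_bijective]
      refine ⟨fun a b _ => Subsingleton.elim a b, fun t => ⟨y₀, ?_⟩⟩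
      exact ((uniqueFiberTerminal F).uniq _).trans ((uniqueFiberTerminal F).uniq _).symm
    exact isIso_of_reflects_iso _ F
  have : Fintype ι := Fintype.ofFinite ι
  refine ⟨Fintype.card ι, ⟨e.symm ≪≫ Sigma.whiskerEquiv (Fintype.equivFin ι)
    (fun i => (@asIso _ _ _ _ _ (hiso i)).symm)⟩⟩

theorem app_eq_id_iff (Y : C) : (∀ σ : Aut F, σ.hom.app Y = 𝟙 _) ↔
    ∃ n : ℕ, Nonempty (Y ≅ ∐ fun _ : Fin n => ⊤_ C) :=
  ⟨exists_iso_coprod_terminal_of_app_eq_id F Y,
    fun ⟨n, ⟨e⟩⟩ σ => app_eq_id_of_iso_coprod_terminal F Y n e σ⟩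

open scoped FintypeCatDiscrete in
lemma exists_obj_of_action' (Q : FintypeCat.{w}) [MulAction (Aut F) Q]
    (hQ : ∀ q : Q, IsOpen (MulAction.stabilizer (Aut F) q : Set (Aut F))) :
    ∃ (X : C) (e : F.obj X ≃ Q), ∀ (σ : Aut F) (x : F.obj X), e (σ.hom.app X x) = σ • e x := by
  let Y : Action FintypeCat.{w} (Aut F) := Action.FintypeCat.ofMulAction (Aut F) Q
  have hY : Y.IsContinuous := by
    show ContinuousSMul (Aut F) Q
    exact continuousSMul_iff_stabilizer_isOpen.mpr hQ
  let Yc : ContAction FintypeCat (Aut F) := ⟨Y, hY⟩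
  let X := (functorToContAction F).objPreimage Yc
  let i : (functorToContAction F).obj X ≅ Yc := (functorToContAction F).objObjPreimageIso Yc
  let i' : (functorToAction F).obj X ≅ Y := (ObjectProperty.ι _).mapIso i
  refine ⟨X, FintypeCat.equivEquivIso.symm ((Action.forget _ _).mapIso i'), ?_⟩
  intro σ x
  exact ConcreteCategory.congr_hom (i'.hom.comm σ) x

lemma exists_obj_of_action (Q : Type w) [Finite Q] [inst : MulAction (Aut F) Q]
    (hQ : ∀ q : Q, IsOpen (MulAction.stabilizer (Aut F) q : Set (Aut F))) :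
    ∃ (X : C) (e : F.obj X ≃ Q), ∀ (σ : Aut F) (x : F.obj X), e (σ.hom.app X x) = σ • e x :=
  @exists_obj_of_action' _ _ _ F _ (FintypeCat.of Q) inst hQ

omit [GaloisCategory C] [FiberFunctor F] in
lemma isOpen_of_forall_stabilizer_le {Q : Type*} [MulAction (Aut F) Q] (X : C)
    (q : Q) (h : ∀ σ : Aut F, σ.hom.app X = 𝟙 _ → σ • q = q) :
    IsOpen (MulAction.stabilizer (Aut F) q : Set (Aut F)) := by
  let K₀ : Subgroup (Aut F) := ⨅ x : F.obj X, MulAction.stabilizer (Aut F) x
  have hK₀ : IsOpen (K₀ : Set (Aut F)) := by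
    rw [Subgroup.coe_iInf]
    exact isOpen_iInter_of_finite (fun x => stabilizer_isOpen (Aut F) x)
  refine Subgroup.isOpen_mono (H₁ := K₀) ?_ hK₀
  intro σ hσ
  rw [Subgroup.mem_iInf] at hσ
  apply h
  ext x
  exact hσ x

open Pointwise in
lemma exists_obj_separating (N : Subgroup (Aut F)) [hNn : N.Normal]
    (hN : IsClosed (N : Set (Aut F))) (τ : Aut F) (hτ : τ ∉ N) :
    ∃ X : C, (∀ n ∈ N, n.hom.app X = 𝟙 _) ∧ τ.hom.app X ≠ 𝟙 _ := by
  have hopen : IsOpen {g : Aut F | τ * g ∉ N} :=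
    (hN.isOpen_compl).preimage (continuous_const_mul τ)
  have h1 : {g : Aut F | τ * g ∉ N} ∈ nhds (1 : Aut F) :=
    hopen.mem_nhds (by simpa using hτ)
  obtain ⟨A, -, hA⟩ := (nhds_one_has_basis_stabilizers F).mem_iff.mp h1
  let p : SubMulAction (Aut F) (Set (F.obj A.obj)) :=
    { carrier := {S | ∀ n ∈ N, n • S = S}
      smul_mem' := by
        intro g S hS n hn
        have h2 : n • g • S = g • ((g⁻¹ * n * g) • S) := by
          simp [smul_smul, mul_assoc]
        have h3 : g⁻¹ * n * g ∈ N := by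
          have := hNn.conj_mem n hn g⁻¹
          simpa using this
        rw [h2, hS _ h3] }
  have hstab : ∀ q : p, IsOpen (MulAction.stabilizer (Aut F) q : Set (Aut F)) := by
    intro q
    apply isOpen_of_forall_stabilizer_le F A.obj
    intro σ hσ
    apply Subtype.ext
    show σ • (q : Set (F.obj A.obj)) = q
    ext y
    rw [Set.mem_smul_set]
    constructor
    · rintro ⟨x, hx, rfl⟩
      have : σ • x = x := by
        rw [smul_eq_app, hσ]; rfl
      rwa [this]
    · intro hy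
      refine ⟨y, hy, ?_⟩
      rw [smul_eq_app, hσ]; rfl
  obtain ⟨X, e, he⟩ := exists_obj_of_action F p hstab
  refine ⟨X, ?_, ?_⟩
  · intro n hn
    ext x
    apply e.injective
    rw [he]
    apply Subtype.ext
    exact (e x).2 n hn
  · intro hτX
    let S₀ : Set (F.obj A.obj) := {y | ∃ n ∈ N, n • A.pt = y}
    have hS₀ : S₀ ∈ p := by
      intro n hn
      ext y
      rw [Set.mem_smul_set]
      constructor
      · rintro ⟨x, ⟨m, hm, rfl⟩, rfl⟩
        exact ⟨n * m, N.mul_mem hn hm, mul_smul _ _ _⟩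
      · rintro ⟨m, hm, rfl⟩
        exact ⟨(n⁻¹ * m) • A.pt, ⟨n⁻¹ * m, N.mul_mem (N.inv_mem hn) hm, rfl⟩, by
          rw [smul_smul, mul_inv_cancel_left]⟩
    have h4 : τ • (⟨S₀, hS₀⟩ : p) = ⟨S₀, hS₀⟩ := by
      obtain ⟨x, hx⟩ := e.surjective ⟨S₀, hS₀⟩
      rw [← hx, ← he, hτX]
      rfl
    have h5 : τ • S₀ = S₀ := congrArg Subtype.val h4
    have h6 : τ • A.pt ∈ S₀ := by
      rw [← h5]
      exact Set.smul_mem_smul_set ⟨1, N.one_mem, one_smul _ _⟩
    obtain ⟨n, hn, hn'⟩ := h6
    have h7 : τ⁻¹ * n ∈ MulAction.stabilizer (Aut F) A.pt := by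
      rw [MulAction.mem_stabilizer_iff, mul_smul, hn', inv_smul_smul]
    have h8 := hA h7
    simp only [Set.mem_ofPred_eq, mul_inv_cancel_left] at h8
    exact h8 hn


/-- The subgroup of automorphisms of `F` acting trivially on the fibre of `X`. -/
def fixSubgroup (X : C) : Subgroup (Aut F) := (MulAction.toPermHom (Aut F) (F.obj X)).ker

instance (X : C) : (fixSubgroup F X).Normal := by
  unfold fixSubgroup
  infer_instance

lemma mem_fixSubgroup {X : C} {σ : Aut F} : σ ∈ fixSubgroup F X ↔ σ.hom.app X = 𝟙 _ := by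
  unfold fixSubgroup
  rw [MonoidHom.mem_ker]
  constructor
  · intro h
    ext x
    exact congrArg (fun π : Equiv.Perm (F.obj X) => π x) h
  · intro h
    ext x
    show σ.hom.app X x = x
    rw [h]
    rfl

lemma isClosed_fixSubgroup (X : C) : IsClosed (fixSubgroup F X : Set (Aut F)) := by
  have : (fixSubgroup F X : Set (Aut F)) = ⋂ x : F.obj X, (MulAction.stabilizer (Aut F) x : Set (Aut F)) := by
    ext σ
    simp only [SetLike.mem_coe, mem_fixSubgroup, Set.mem_iInter, MulAction.mem_stabilizer_iff]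
    constructor
    · intro h x
      rw [smul_eq_app, h]
      rfl
    · intro h
      ext x
      exact h x
  rw [this]
  exact isClosed_iInter (fun x => Subgroup.isClosed_of_isOpen _ (stabilizer_isOpen (Aut F) x))

end Single

section Pair

variable {C C' : Type u} [Category.{v} C] [Category.{v} C'] [GaloisCategory C] [GaloisCategory C']
  (H : C ⥤ C') (F' : C' ⥤ FintypeCat.{w}) [FiberFunctor F'] [FiberFunctor (H ⋙ F')]

@[simp]
lemma autWhisker_hom_app (σ : Aut F') (X : C) :
    (Pi1X.autWhisker H F' σ).hom.app X = σ.hom.app (H.obj X) := rfl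

/-- The action of `Aut F'` on the fibres of `H ⋙ F'`. -/
@[reducible] def smulComp (X : C) : MulAction (Aut F') ((H ⋙ F').obj X) :=
  inferInstanceAs (MulAction (Aut F') (F'.obj (H.obj X)))

attribute [local instance] smulComp

lemma isNaturalSMul_comp : IsNaturalSMul (H ⋙ F') (Aut F') where
  naturality g X Y f x := (FunctorToFintypeCat.naturality F' F' g.hom (H.map f) x).symm

attribute [local instance] isNaturalSMul_comp

lemma autWhisker_eq_toAut : Pi1X.autWhisker H F' = toAut (H ⋙ F') (Aut F') := by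
  ext σ X x
  rfl

lemma continuousSMul_comp (X : C) : ContinuousSMul (Aut F') ((H ⋙ F').obj X) :=
  continuousSMul_aut_fiber F' (H.obj X)

attribute [local instance] continuousSMul_comp

lemma continuous_autWhisker : Continuous (Pi1X.autWhisker H F') := by
  rw [autWhisker_eq_toAut]
  exact toAut_continuous (H ⋙ F') (Aut F')

include F' in
omit [GaloisCategory C'] [FiberFunctor F'] in
lemma faithful_of_fiberFunctor_comp : H.Faithful :=
  have : (H ⋙ F').Faithful := inferInstance
  Functor.Faithful.of_comp H F'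

lemma full_of_surjective (hs : Function.Surjective (Pi1X.autWhisker H F')) : H.Full where
  map_surjective {X Y} f := by
    obtain ⟨g, hg⟩ := exists_hom_of_equivariant (H ⋙ F') (X := X) (Y := Y) (F'.map f) (by
      intro τ x
      obtain ⟨σ, rfl⟩ := hs τ
      exact (FunctorToFintypeCat.naturality F' F' σ.hom f x).symm)
    exact ⟨g, F'.map_injective hg⟩

open Classical in
lemma isPretransitive_of_full [H.Full] (X : C) [IsGalois X] :
    MulAction.IsPretransitive (Aut F') (F'.obj (H.obj X)) := by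
  constructor
  intro x y
  by_contra hxy
  obtain ⟨a, ha⟩ := (isPretransitive_of_isGalois (H ⋙ F') X).exists_smul_eq y x
  replace ha : F'.map (H.map a.hom) y = x := ha
  let O : Set (F'.obj (H.obj X)) := {z | ∃ τ : Aut F', τ.hom.app _ x = z}
  have hxO : x ∈ O := ⟨1, rfl⟩
  have hyO : y ∉ O := fun ⟨τ, hτ⟩ => hxy ⟨τ, hτ⟩
  have hO : ∀ (σ : Aut F') z, σ.hom.app _ z ∈ O ↔ z ∈ O := by
    intro σ z
    constructor
    · rintro ⟨τ, hτ⟩
      refine ⟨σ⁻¹ * τ, ?_⟩
      have : (σ⁻¹ * τ).hom.app (H.obj X) x = σ⁻¹.hom.app _ (τ.hom.app _ x) := rfl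
      rw [this, hτ]
      exact FintypeCat.hom_inv_id_apply (σ.app _) z
    · rintro ⟨τ, rfl⟩
      exact ⟨σ * τ, rfl⟩
  let φ : F'.obj (H.obj X) ⟶ F'.obj (H.obj X) :=
    FintypeCat.homMk (fun z => if z ∈ O then z else F'.map (H.map a.hom) z)
  have hφ : ∀ (σ : Aut F') z, φ (σ.hom.app _ z) = σ.hom.app _ (φ z) := by
    intro σ z
    simp only [φ, FintypeCat.homMk_apply, hO]
    split_ifs
    · rfl
    · exact (FunctorToFintypeCat.naturality F' F' σ.hom (H.map a.hom) z).symm
  obtain ⟨f, hf⟩ := exists_hom_of_equivariant F' φ hφ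
  obtain ⟨g, rfl⟩ := H.map_surjective f
  have hx : (H ⋙ F').map g x = (H ⋙ F').map (𝟙 X) x := by
    rw [Functor.comp_map, hf]
    simp [φ, hxO]
  have hg : g = 𝟙 X := evaluation_injective_of_isConnected (H ⋙ F') X X x hx
  have hy : φ y = x := by
    simp only [φ, FintypeCat.homMk_apply, if_neg hyO]
    exact ha
  have hy' : φ y = y := by
    rw [← hf, hg]
    simp
  exact hxy ⟨1, by rw [one_smul]; exact hy.symm.trans hy'⟩

lemma surjective_of_full [H.Full] : Function.Surjective (Pi1X.autWhisker H F') := by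
  rw [autWhisker_eq_toAut]
  exact toAut_surjective_of_isPretransitive (H ⋙ F') (Aut F')
    (fun X _ => isPretransitive_of_full H F' X)

theorem surjective_iff : Function.Surjective (Pi1X.autWhisker H F') ↔ (H.Full ∧ H.Faithful) :=
  ⟨fun hs => ⟨full_of_surjective H F' hs, faithful_of_fiberFunctor_comp H F'⟩,
    fun ⟨_, _⟩ => surjective_of_full H F'⟩

lemma injective_of_dominated
    (hdom : ∀ X' : C', IsConnected X' →
      ∃ (X : C) (Y' : C') (p : Y' ⟶ X') (q : Y' ⟶ H.obj X), Epi p ∧ Mono q) :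
    Function.Injective (Pi1X.autWhisker H F') := by
  rw [injective_iff_map_eq_one]
  intro σ hσ
  have h1 : ∀ X : C, σ.hom.app (H.obj X) = 𝟙 _ := fun X =>
    congrArg (fun τ : Aut (H ⋙ F') => τ.hom.app X) hσ
  apply Iso.ext
  apply natTrans_ext_of_isGalois
  intro X' _
  obtain ⟨X, Y', p, q, hp, hq⟩ := hdom X' inferInstance
  ext x'
  obtain ⟨y, rfl⟩ := surjective_on_fiber_of_epi F' p x'
  have hy : σ.hom.app Y' y = y := by
    apply map_injective_of_mono F' q
    rw [← app_map, h1]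
    rfl
  rw [app_map, hy]
  rfl

lemma dominated_of_injective (hinj : Function.Injective (Pi1X.autWhisker H F'))
    (X' : C') [IsConnected X'] :
    ∃ (X : C) (Y' : C') (p : Y' ⟶ X') (q : Y' ⟶ H.obj X), Epi p ∧ Mono q := by
  obtain ⟨x'⟩ := nonempty_fiber_of_isConnected F' X'
  have hemb : Topology.IsClosedEmbedding (Pi1X.autWhisker H F') :=
    (continuous_autWhisker H F').isClosedEmbedding hinj
  have hU : (MulAction.stabilizer (Aut F') x' : Set (Aut F')) ∈ nhds (1 : Aut F') :=
    (stabilizer_isOpen (Aut F') x').mem_nhds (Subgroup.one_mem _)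
  rw [hemb.isInducing.nhds_eq_comap, map_one, Filter.mem_comap] at hU
  obtain ⟨V, hV, hVU⟩ := hU
  obtain ⟨A, -, hA⟩ := (nhds_one_has_basis_stabilizers (H ⋙ F')).mem_iff.mp hV
  have hstab : ∀ σ : Aut F', σ.hom.app (H.obj A.obj) A.pt = A.pt → σ.hom.app X' x' = x' := by
    intro σ hσ
    exact hVU (hA (show Pi1X.autWhisker H F' σ ∈ MulAction.stabilizer (Aut (H ⋙ F')) A.pt from hσ))
  let a : F'.obj (H.obj A.obj) := A.pt
  let z₀ : F'.obj (H.obj A.obj ⨯ X') := (fiberBinaryProductEquiv F' (H.obj A.obj) X').symm (a, x')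
  obtain ⟨Y', i, y, hy, hconn, hmono⟩ := fiber_in_connected_component F' _ z₀
  have hqy : F'.map (i ≫ prod.fst) y = a := by
    rw [F'.map_comp, FintypeCat.comp_apply, hy]
    exact fiberBinaryProductEquiv_symm_fst_apply F' a x'
  have hpy : F'.map (i ≫ prod.snd) y = x' := by
    rw [F'.map_comp, FintypeCat.comp_apply, hy]
    exact fiberBinaryProductEquiv_symm_snd_apply F' a x'
  refine ⟨A.obj, Y', i ≫ prod.snd, i ≫ prod.fst, ?_, ?_⟩
  · have : Nonempty (F'.obj Y') := ⟨y⟩
    exact epi_of_nonempty_of_isConnected F' _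
  · apply mono_of_map_injective F'
    intro y₁ y₂ h12
    obtain ⟨σ₁, rfl⟩ := MulAction.exists_smul_eq (Aut F') y y₁
    obtain ⟨σ₂, rfl⟩ := MulAction.exists_smul_eq (Aut F') y y₂
    simp only [smul_eq_app] at h12 ⊢
    rw [← app_map, ← app_map, hqy] at h12
    have h3 : (σ₂⁻¹ * σ₁).hom.app X' x' = x' := by
      apply hstab
      show σ₂⁻¹.hom.app _ (σ₁.hom.app _ a) = a
      rw [h12]
      exact FintypeCat.hom_inv_id_apply (σ₂.app _) a
    have h4 : σ₁.hom.app X' x' = σ₂.hom.app X' x' := by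
      have : σ₂.hom.app X' ((σ₂⁻¹ * σ₁).hom.app X' x') = σ₁.hom.app X' x' :=
        FintypeCat.inv_hom_id_apply (σ₂.app _) _
      rw [← this, h3]
    apply map_injective_of_mono F' i
    apply prod_fiber_ext F'
    · rw [map_map_apply, map_map_apply, ← app_map, ← app_map, hqy]
      exact h12
    · rw [map_map_apply, map_map_apply, ← app_map, ← app_map, hpy]
      exact h4

theorem injective_iff : Function.Injective (Pi1X.autWhisker H F') ↔
    ∀ X' : C', IsConnected X' →
      ∃ (X : C) (Y' : C') (p : Y' ⟶ X') (q : Y' ⟶ H.obj X), Epi p ∧ Mono q :=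
  ⟨fun h X' _ => dominated_of_injective H F' h X', injective_of_dominated H F'⟩

lemma exists_preimage_of_ker_fixes (hs : Function.Surjective (Pi1X.autWhisker H F'))
    (X' : C') (hX' : ∀ τ : Aut F', Pi1X.autWhisker H F' τ = 1 → τ.hom.app X' = 𝟙 _) :
    ∃ X : C, Nonempty (H.obj X ≅ X') := by
  have hwd : ∀ τ₁ τ₂ : Aut F', Pi1X.autWhisker H F' τ₁ = Pi1X.autWhisker H F' τ₂ →
      ∀ x : F'.obj X', τ₁ • x = τ₂ • x := by
    intro τ₁ τ₂ h12 x
    have h1 : Pi1X.autWhisker H F' (τ₂⁻¹ * τ₁) = 1 := by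
      rw [map_mul, map_inv, h12, inv_mul_cancel]
    have h2 : (τ₂⁻¹ * τ₁) • x = x := by
      rw [smul_eq_app, hX' _ h1]
      rfl
    rw [mul_smul, inv_smul_eq_iff] at h2
    exact h2
  let s : Aut (H ⋙ F') → Aut F' := Function.surjInv hs
  have hs' : ∀ g, Pi1X.autWhisker H F' (s g) = g := Function.surjInv_eq hs
  let act : MulAction (Aut (H ⋙ F')) (F'.obj X') :=
    { smul := fun g x => (s g) • x
      one_smul := fun x => by
        show s 1 • x = x
        have := hwd (s 1) 1 (by rw [hs', map_one]) x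
        rwa [one_smul] at this
      mul_smul := fun g₁ g₂ x => by
        show s (g₁ * g₂) • x = s g₁ • s g₂ • x
        rw [← mul_smul]
        exact hwd _ _ (by rw [hs', map_mul, hs', hs']) x }
  have hkey : ∀ (τ : Aut F') (x : F'.obj X'), (Pi1X.autWhisker H F' τ) • x = τ • x :=
    fun τ x => hwd (s (Pi1X.autWhisker H F' τ)) τ (hs' _) x
  have hq : Topology.IsQuotientMap (Pi1X.autWhisker H F') :=
    (continuous_autWhisker H F').isClosedMap.isQuotientMap (continuous_autWhisker H F') hs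
  have hstab : ∀ q : F'.obj X',
      IsOpen (MulAction.stabilizer (Aut (H ⋙ F')) q : Set (Aut (H ⋙ F'))) := by
    intro q
    rw [← hq.isOpen_preimage]
    have : (Pi1X.autWhisker H F') ⁻¹' (MulAction.stabilizer (Aut (H ⋙ F')) q : Set (Aut (H ⋙ F')))
        = (MulAction.stabilizer (Aut F') q : Set (Aut F')) := by
      ext τ
      simp only [Set.mem_preimage, SetLike.mem_coe, MulAction.mem_stabilizer_iff, hkey]
    rw [this]
    exact stabilizer_isOpen (Aut F') q
  obtain ⟨X, e, he⟩ := exists_obj_of_action (H ⋙ F') (F'.obj X') hstab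
  have heq : ∀ (τ : Aut F') (x : F'.obj (H.obj X)),
      e (τ.hom.app (H.obj X) x) = τ.hom.app X' (e x) := by
    intro τ x
    have := he (Pi1X.autWhisker H F' τ) x
    rw [hkey] at this
    exact this
  obtain ⟨f, hf⟩ := exists_hom_of_equivariant F' (X := H.obj X) (Y := X') (FintypeCat.homMk e) heq
  have : IsIso (F'.map f) := by
    rw [ConcreteCategory.isIso_iff_bijective, hf]
    exact e.bijective
  have : IsIso f := isIso_of_reflects_iso f F'
  exact ⟨X, ⟨asIso f⟩⟩

end Pair

section Triple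

variable {C C' C'' : Type u} [Category.{v} C] [Category.{v} C'] [Category.{v} C'']
  [GaloisCategory C] [GaloisCategory C'] [GaloisCategory C'']
  (H : C ⥤ C') (H' : C' ⥤ C'')
  (F'' : C'' ⥤ FintypeCat.{w}) [FiberFunctor F''] [FiberFunctor (H' ⋙ F'')]
  [FiberFunctor (H ⋙ (H' ⋙ F''))]

omit [GaloisCategory C'] [FiberFunctor (H' ⋙ F'')] in
lemma whisker_app_eq_id_iff (X' : C') :
    (∀ σ : Aut F'', (Pi1X.autWhisker H' F'' σ).hom.app X' = 𝟙 _) ↔
      ∃ n : ℕ, Nonempty (H'.obj X' ≅ ∐ fun _ : Fin n => ⊤_ C'') :=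
  app_eq_id_iff F'' (H'.obj X')

theorem exact_iff :
    (Function.Surjective (Pi1X.autWhisker H (H' ⋙ F'')) ∧
      (∀ σ : Aut F'', Pi1X.autWhisker H (H' ⋙ F'') (Pi1X.autWhisker H' F'' σ) = 1) ∧
      (Pi1X.autWhisker H (H' ⋙ F'')).ker =
        (Subgroup.normalClosure (Set.range (Pi1X.autWhisker H' F''))).topologicalClosure) ↔
    ((H.Full ∧ H.Faithful) ∧
      ∀ X' : C', (∃ X : C, Nonempty (H.obj X ≅ X')) ↔
        ∃ n : ℕ, Nonempty (H'.obj X' ≅ ∐ fun _ : Fin n => ⊤_ C'')) := by
  constructor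
  · rintro ⟨hs, htriv, hker⟩
    refine ⟨(surjective_iff H (H' ⋙ F'')).mp hs, fun X' => ⟨?_, ?_⟩⟩
    · rintro ⟨X, ⟨i⟩⟩
      obtain ⟨n, ⟨j⟩⟩ := (app_eq_id_iff F'' (H'.obj (H.obj X))).mp (fun σ =>
        congrArg (fun τ : Aut (H ⋙ (H' ⋙ F'')) => τ.hom.app X) (htriv σ))
      exact ⟨n, ⟨H'.mapIso i.symm ≪≫ j⟩⟩
    · intro hn
      have hfix := (whisker_app_eq_id_iff H' F'' X').mpr hn
      apply exists_preimage_of_ker_fixes H (H' ⋙ F'') hs X'
      intro τ hτ
      have hτ' : τ ∈ (Pi1X.autWhisker H (H' ⋙ F'')).ker := hτ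
      rw [hker] at hτ'
      have hle : (Subgroup.normalClosure (Set.range (Pi1X.autWhisker H' F''))).topologicalClosure ≤
          fixSubgroup (H' ⋙ F'') X' := by
        apply Subgroup.topologicalClosure_minimal _ _ (isClosed_fixSubgroup _ X')
        apply Subgroup.normalClosure_le_normal
        rintro _ ⟨σ, rfl⟩
        exact (mem_fixSubgroup (H' ⋙ F'')).mpr (hfix σ)
      exact (mem_fixSubgroup (H' ⋙ F'')).mp (hle hτ')
  · rintro ⟨⟨hfull, hfaith⟩, hess⟩
    have hs : Function.Surjective (Pi1X.autWhisker H (H' ⋙ F'')) := surjective_of_full H (H' ⋙ F'')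
    have htriv : ∀ σ : Aut F'',
        Pi1X.autWhisker H (H' ⋙ F'') (Pi1X.autWhisker H' F'' σ) = 1 := by
      intro σ
      apply Iso.ext
      ext X : 2
      exact (app_eq_id_iff F'' (H'.obj (H.obj X))).mpr
        ((hess (H.obj X)).mp ⟨X, ⟨Iso.refl _⟩⟩) σ
    refine ⟨hs, htriv, le_antisymm ?_ ?_⟩
    · intro τ hτ
      by_contra hτN
      have hcl : IsClosed ((Subgroup.normalClosure
          (Set.range (Pi1X.autWhisker H' F''))).topologicalClosure : Set (Aut (H' ⋙ F''))) :=
        Subgroup.isClosed_topologicalClosure _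
      have hnorm : ((Subgroup.normalClosure
          (Set.range (Pi1X.autWhisker H' F''))).topologicalClosure).Normal :=
        Subgroup.is_normal_topologicalClosure _
      obtain ⟨X', hX'1, hX'2⟩ := exists_obj_separating (H' ⋙ F'') _ hcl τ hτN
      have hfix : ∀ σ : Aut F'', (Pi1X.autWhisker H' F'' σ).hom.app X' = 𝟙 _ := fun σ =>
        hX'1 _ (Subgroup.le_topologicalClosure _ (Subgroup.subset_normalClosure ⟨σ, rfl⟩))
      obtain ⟨X, ⟨i⟩⟩ := (hess X').mpr ((whisker_app_eq_id_iff H' F'' X').mp hfix)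
      apply hX'2
      have h1 : τ.hom.app (H.obj X) = 𝟙 _ :=
        congrArg (fun ρ : Aut (H ⋙ (H' ⋙ F'')) => ρ.hom.app X) (show _ = 1 from hτ)
      ext x'
      have hx' : (H' ⋙ F'').map i.hom ((H' ⋙ F'').map i.inv x') = x' := by
        rw [map_map_apply]
        simp
      rw [← hx', app_map, h1]
      rfl
    · apply Subgroup.topologicalClosure_minimal
      · apply Subgroup.normalClosure_le_normal
        rintro _ ⟨σ, rfl⟩
        exact htriv σ
      · rw [MonoidHom.coe_ker]
        exact isClosed_singleton.preimage (continuous_autWhisker H (H' ⋙ F''))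

end Triple

end Groth.Agent.Lib.Helper89.GaloisFunctor
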