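import Groth.Agent.Lib.Helper89.GaloisExact
import Mathlib.CategoryTheory.Galois.Prorepresentability

set_option autoImplicit false
universe u v w
open CategoryTheory PreGaloisCategory Limits

namespace Groth.Agent.Lib.Helper89.GaloisUnique

open Groth.Agent.Lib.Helper89.GaloisFunctor Groth.Agent.Lib.Helper89.GaloisExact

variable {C : Type u} [Category.{v} C] [GaloisCategory C] (F F' : C ⥤ FintypeCat.{w})
  [FiberFunctor F] [FiberFunctor F']

/-- The category of pointed Galois objects is cofiltered (any universe). -/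
lemma isCofilteredOrEmpty_pointed : IsCofilteredOrEmpty (PointedGaloisObject F) where
  cone_objs := fun ⟨A, a, _⟩ ⟨B, b, _⟩ ↦ by
    obtain ⟨Z, f, z, hgal, hfz⟩ := exists_hom_from_galois_of_fiber F (A ⨯ B)
      <| (fiberBinaryProductEquiv F A B).symm (a, b)
    refine ⟨⟨Z, z, hgal⟩, ⟨f ≫ prod.fst, ?_⟩, ⟨f ≫ prod.snd, ?_⟩, trivial⟩
    · simp only [F.map_comp, hfz, FintypeCat.comp_apply, fiberBinaryProductEquiv_symm_fst_apply]
    · simp only [F.map_comp, hfz, FintypeCat.comp_apply, fiberBinaryProductEquiv_symm_snd_apply]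
  cone_maps := fun ⟨A, a, _⟩ ⟨B, b, _⟩ ⟨f, hf⟩ ⟨g, hg⟩ ↦ by
    obtain ⟨Z, h, z, hgal, hhz⟩ := exists_hom_from_galois_of_fiber F A a
    refine ⟨⟨Z, z, hgal⟩, ⟨h, hhz⟩, PointedGaloisObject.hom_ext ?_⟩
    apply evaluation_injective_of_isConnected F Z B z
    simp [hhz, hf, hg]

lemma exists_compatible : ∃ a' : ∀ A : PointedGaloisObject F, F'.obj A.obj,
    ∀ {A B : PointedGaloisObject F} (f : A ⟶ B), F'.map f.val (a' A) = a' B := by
  have := isCofilteredOrEmpty_pointed F
  let S : PointedGaloisObject F ⥤ Type w := PointedGaloisObject.incl F ⋙ F' ⋙ FintypeCat.incl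
  have hfin : ∀ A, Finite (S.obj A) := fun A => inferInstanceAs (Finite (F'.obj A.obj))
  have hne : ∀ A, Nonempty (S.obj A) := fun A => nonempty_fiber_of_isConnected F' A.obj
  obtain ⟨s, hs⟩ := nonempty_sections_of_finite_cofiltered_system S
  exact ⟨s, fun f => hs f⟩

section T

variable (a' : ∀ A : PointedGaloisObject F, F'.obj A.obj)

lemma exists_rep (X : C) (x : F.obj X) :
    ∃ (A : PointedGaloisObject F) (f : A.obj ⟶ X), F.map f A.pt = x := by
  obtain ⟨A, f, a, hgal, hfa⟩ := exists_hom_from_galois_of_fiber F X x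
  exact ⟨⟨A, a, hgal⟩, f, hfa⟩

/-- The components of the comparison map between two fibre functors. -/
noncomputable def tFun (X : C) (x : F.obj X) : F'.obj X :=
  F'.map (exists_rep F X x).choose_spec.choose (a' (exists_rep F X x).choose)

variable (ha' : ∀ {A B : PointedGaloisObject F} (f : A ⟶ B), F'.map f.val (a' A) = a' B)

include ha' in
lemma tFun_eq (X : C) (A : PointedGaloisObject F) (f : A.obj ⟶ X) :
    tFun F F' a' X (F.map f A.pt) = F'.map f (a' A) := by
  have hg := (exists_rep F X (F.map f A.pt)).choose_spec.choose_spec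
  unfold tFun
  generalize (exists_rep F X (F.map f A.pt)).choose_spec.choose = g at hg ⊢
  generalize (exists_rep F X (F.map f A.pt)).choose = B at g hg ⊢
  have := isCofilteredOrEmpty_pointed F
  obtain ⟨D, u, v, -⟩ := IsCofilteredOrEmpty.cone_objs A B
  have huv : u.val ≫ f = v.val ≫ g := by
    apply evaluation_injective_of_isConnected F D.obj X D.pt
    show F.map (u.val ≫ f) D.pt = F.map (v.val ≫ g) D.pt
    rw [← map_map_apply, ← map_map_apply, u.comp, v.comp, hg]
  calc F'.map g (a' B) = F'.map g (F'.map v.val (a' D)) := by rw [ha' v]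
    _ = F'.map (v.val ≫ g) (a' D) := map_map_apply F' _ _ _
    _ = F'.map (u.val ≫ f) (a' D) := by rw [huv]
    _ = F'.map f (F'.map u.val (a' D)) := (map_map_apply F' _ _ _).symm
    _ = F'.map f (a' A) := by rw [ha' u]

include ha' in
lemma tFun_naturality {X Y : C} (h : X ⟶ Y) (x : F.obj X) :
    tFun F F' a' Y (F.map h x) = F'.map h (tFun F F' a' X x) := by
  obtain ⟨A, f, rfl⟩ := exists_rep F X x
  rw [map_map_apply, tFun_eq F F' a' ha', tFun_eq F F' a' ha', map_map_apply]

include ha' in
lemma tFun_bijective_of_isGalois (A : C) [IsGalois A] :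
    Function.Bijective (tFun F F' a' A) := by
  constructor
  · intro x y hxy
    obtain ⟨γ, hγ⟩ := (isPretransitive_of_isGalois F A).exists_smul_eq x y
    replace hγ : F.map γ.hom x = y := hγ
    have h1 : F'.map γ.hom (tFun F F' a' A x) = F'.map (𝟙 A) (tFun F F' a' A x) := by
      rw [← tFun_naturality F F' a' ha', hγ, ← hxy]
      simp
    have h2 : γ.hom = 𝟙 A :=
      evaluation_injective_of_isConnected F' A A (tFun F F' a' A x) h1
    rw [← hγ, h2]
    simp
  · intro y'
    obtain ⟨x⟩ := nonempty_fiber_of_isConnected F A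
    obtain ⟨γ, hγ⟩ := (isPretransitive_of_isGalois F' A).exists_smul_eq (tFun F F' a' A x) y'
    replace hγ : F'.map γ.hom (tFun F F' a' A x) = y' := hγ
    exact ⟨F.map γ.hom x, by rw [tFun_naturality F F' a' ha', hγ]⟩

include ha' in
lemma tFun_bijective (X : C) : Function.Bijective (tFun F F' a' X) := by
  constructor
  · intro x₁ x₂ h12
    obtain ⟨A, f, a, hgal, hfa⟩ := exists_hom_from_galois_of_fiber F (X ⨯ X)
      ((fiberBinaryProductEquiv F X X).symm (x₁, x₂))
    have h1 : F.map (f ≫ prod.fst) a = x₁ := by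
      rw [← map_map_apply, hfa]
      exact fiberBinaryProductEquiv_symm_fst_apply F x₁ x₂
    have h2 : F.map (f ≫ prod.snd) a = x₂ := by
      rw [← map_map_apply, hfa]
      exact fiberBinaryProductEquiv_symm_snd_apply F x₁ x₂
    rw [← h1, ← h2, tFun_naturality F F' a' ha', tFun_naturality F F' a' ha'] at h12
    have h3 : f ≫ prod.fst = f ≫ prod.snd :=
      evaluation_injective_of_isConnected F' A X (tFun F F' a' A a) h12
    rw [← h1, ← h2, h3]
  · intro y
    obtain ⟨A, f, a'', hgal, hfa⟩ := exists_hom_from_galois_of_fiber F' X y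
    obtain ⟨a, rfl⟩ := (tFun_bijective_of_isGalois F F' a' ha' A).2 a''
    exact ⟨F.map f a, by rw [tFun_naturality F F' a' ha', hfa]⟩

end T

/-- Two fibre functors on a Galois category are isomorphic. -/
theorem nonempty_iso : Nonempty (F ≅ F') := by
  obtain ⟨a', ha'⟩ := exists_compatible F F'
  refine ⟨NatIso.ofComponents (fun X => FintypeCat.equivEquivIso
    (Equiv.ofBijective _ (tFun_bijective F F' a' ha' X))) ?_⟩
  intro X Y h
  ext x
  exact tFun_naturality F F' a' ha' h x

end Groth.Agent.Lib.Helper89.GaloisUnique
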