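import Mathlib
import Groth.Agent.Lib.Helper89.GorBC3
import Groth.Agent.Lib.Helper94.FibE
import Groth.Agent.Lib.Helper43.KRCodescent
import Groth.Agent.S1827

/-!
# Fibres of flat lci maps are Gorenstein (helper89)

`gor_fibres_of_lci`: for a flat lci ring map `A → B`, all fibre rings `B ⊗_A κ(p)` are Gorenstein.
Uses helper94 `FibE.isLCIHom_tensorMap` (base change of lci maps between flat algebras) and
S1827 (lci over Gorenstein is Gorenstein).
-/

set_option autoImplicit false
universe u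
open CategoryTheory
open scoped TensorProduct

namespace Groth.Agent.Lib.Helper89.GorBC

open Groth.Agent.Lib.Helper43.KRComp Groth.Agent.Lib.Helper43.KRCodescent
  Groth.Agent.Lib.Helper94.FibE Groth.Agent.Lib.Helper85.GorRing

variable {A B : Type u} [CommRing A] [CommRing B] [Algebra A B]

/-- base change of a flat lci map to a field is Gorenstein -/
theorem gor_tensor_field_of_lci [Module.Flat A B] (hl : LCI.IsLCI A B)
    (κ : Type u) [Field κ] [Algebra A κ] : LocCoh.IsGorensteinRing (B ⊗[A] κ) := by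
  have h1 : IsLCIHom (tensorMap A κ A B) := isLCIHom_tensorMap A κ A B hl
  let e1 : κ ≃+* κ ⊗[A] A := (Algebra.TensorProduct.rid A κ κ).symm.toRingEquiv
  let e2 : κ ⊗[A] B ≃+* B ⊗[A] κ := (Algebra.TensorProduct.comm A κ B).toRingEquiv
  have h2 : IsLCIHom ((tensorMap A κ A B).comp (e1 : κ →+* κ ⊗[A] A)) :=
    isLCIHom_respectsIso.2 _ e1 h1
  have h3 : IsLCIHom ((e2 : κ ⊗[A] B →+* B ⊗[A] κ).comp
      ((tensorMap A κ A B).comp (e1 : κ →+* κ ⊗[A] A))) :=
    isLCIHom_respectsIso.1 _ e2 h2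
  haveI : LocCoh.IsGorensteinLocalRing κ := gor_of_isField κ (Field.toIsField κ)
  haveI : LocCoh.IsGorensteinRing κ := gorRing_of_gorLocal κ
  exact @Groth.Agent.S1827.result κ (B ⊗[A] κ) _ _
    ((e2 : κ ⊗[A] B →+* B ⊗[A] κ).comp
      ((tensorMap A κ A B).comp (e1 : κ →+* κ ⊗[A] A))).toAlgebra inferInstance h3

/-- fibres of a flat lci map are Gorenstein -/
theorem gor_fibres_of_lci [Module.Flat A B] (hl : LCI.IsLCI A B) (p : PrimeSpectrum A) :
    LocCoh.IsGorensteinRing (B ⊗[A] p.asIdeal.ResidueField) :=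
  gor_tensor_field_of_lci hl _

end Groth.Agent.Lib.Helper89.GorBC
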