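import Mathlib
import Groth.Agent.Lib.Helper89.GorBC2
import Groth.Agent.S1772

/-!
# Converse of ascent: if `ω` and `ω ⊗ B` are dualizing, the closed fibre is Gorenstein (helper89)

`local_conv`: for a flat local homomorphism `f : A → B` of Noetherian local rings, `ω` dualizing for
`A` and `ω ⊗ B` dualizing for `B` imply that `B ⧸ 𝔪_A B` is a Gorenstein local ring.
-/

set_option autoImplicit false
set_option linter.style.haveILetI false
universe u

open CategoryTheory CategoryTheory.Limits CategoryTheory.Pretriangulated DerivedCategory TensorProduct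

attribute [local instance] HasDerivedCategory.standard

namespace Groth.Agent.Lib.Helper89.GorBC

open Groth.Agent.Lib.Helper84 Groth.Agent.Lib.Helper89.BCHom Groth.Agent.Lib.Helper89.Bass
open Groth.Agent.Lib.Helper25.Bidual Groth.Agent.Lib.Helper25.TrivDual

section Local

variable {A B : Type u} [CommRing A] [CommRing B] [IsNoetherianRing A] [IsNoetherianRing B]
  (f : A →+* B) [PreservesFiniteLimits (FlatBC.ext f)]

/-- **the closed fibre is Gorenstein if `ω` and `ω ⊗ B` are both dualizing** -/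
theorem local_conv [IsLocalRing A] [IsLocalRing B] (hf : f.Flat)
    (hne : (IsLocalRing.maximalIdeal A).map f ≠ ⊤)
    (ω : Dual.D A) (hω : Dual.IsDualizing A ω)
    (hW : Dual.IsDualizing B ((FlatBC.bc f).obj ω)) :
    LocCoh.IsGorensteinLocalRing (B ⧸ (IsLocalRing.maximalIdeal A).map f) := by
  classical
  obtain ⟨d, hd1, ⟨ed⟩⟩ := residue_main (IsLocalRing.maximalIdeal A) ω hω
  obtain ⟨a₀, b₀, hab₀⟩ := hω.finite_injective_dimension
  have hGE₀ : ω.IsGE a₀ := isGE_of_fid ω a₀ b₀ hab₀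
  -- notation
  let I : Ideal B := (IsLocalRing.maximalIdeal A).map f
  let W : Dual.D B := (FlatBC.bc f).obj ω
  haveI : Nontrivial (B ⧸ I) := Ideal.Quotient.nontrivial_iff.2 hne
  haveI : IsLocalRing (B ⧸ I) :=
    IsLocalRing.of_surjective' (Ideal.Quotient.mk I) Ideal.Quotient.mk_surjective
  haveI : IsNoetherianRing (B ⧸ I) := inferInstance
  have hT0 : ∀ i : ℤ, i ≠ d → Subsingleton (Dual.inD B (B ⧸ I) ⟶ W⟦i⟧) := fun i hi =>
    subsingleton_inD_bc f hf ω a₀ hGE₀ (IsLocalRing.maximalIdeal A) i (hd1 i hi)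
  obtain ⟨eTd⟩ := nonempty_top_equiv f hf ω a₀ hGE₀ (IsLocalRing.maximalIdeal A) d ed
  -- the right adjoint of restriction along `B → F`
  have hs : Function.Surjective (algebraMap B (B ⧸ I)) := Ideal.Quotient.mk_surjective
  let Rπ := (DRing.restrictD (algebraMap B (B ⧸ I))).rightAdjoint
  let adj : DRing.restrictD (algebraMap B (B ⧸ I)) ⊣ Rπ := Adjunction.ofIsLeftAdjoint _
  let X : Dual.D (B ⧸ I) := Rπ.obj W
  let β : (DRing.restrictD (algebraMap B (B ⧸ I))).obj (Dual.inD (B ⧸ I) (B ⧸ I)) ≅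
      Dual.inD B (B ⧸ I) :=
    resSingleIso (algebraMap B (B ⧸ I)) (ModuleCat.of (B ⧸ I) (B ⧸ I)) ≪≫
      (DerivedCategory.singleFunctor (ModuleCat.{u} B) 0).mapIso (quotResIso' I).symm
  -- cohomology of `X`
  have hX0 : ∀ i : ℤ, i ≠ d → Subsingleton (Dual.HD (B ⧸ I) X i) := by
    intro i hi
    obtain ⟨E, -⟩ := exists_semilinearEquiv Rπ adj (Dual.inD (B ⧸ I) (B ⧸ I)) W i
    haveI := hT0 i hi
    have h1 : Subsingleton (Dual.inD (B ⧸ I) (B ⧸ I) ⟶ X⟦i⟧) :=
      (E.toEquiv.trans (β.homCongr (Iso.refl _))).subsingleton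
    apply DRingInjAmp.subsingleton_HD_of_hom_eq_zero
    intro φ
    let e0 : (singleFunctor (ModuleCat.{u} (B ⧸ I)) i).obj
        (ModuleCat.of (B ⧸ I) ((B ⧸ I) ⧸ (⊥ : Ideal (B ⧸ I)))) ≅
        (singleFunctor (ModuleCat.{u} (B ⧸ I)) i).obj (ModuleCat.of (B ⧸ I) (B ⧸ I)) :=
      (singleFunctor (ModuleCat.{u} (B ⧸ I)) i).mapIso
        (Submodule.quotEquivOfEqBot (⊥ : Ideal (B ⧸ I)) rfl).toModuleIso
    have h2 : e0.inv ≫ φ = 0 := eq_zero_of_subsingleton_shift _ _ i h1 _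
    rw [← cancel_epi e0.inv, h2, comp_zero]
  obtain ⟨V', ⟨ι⟩, ⟨l⟩⟩ := Groth.Agent.Lib.Helper25.GorUniq.single_model X d hX0
  -- `V' ≅ F`
  obtain ⟨E, hE⟩ := exists_semilinearEquiv Rπ adj (Dual.inD (B ⧸ I) (B ⧸ I)) W d
  let c1 : V' ≃ₗ[B ⧸ I] (Dual.inD (B ⧸ I) (B ⧸ I) ⟶ X⟦d⟧) :=
    singleHomEquiv V' ≪≫ₗ Linear.homCongr (B ⧸ I) (Iso.refl _) ι.symm
  let c3 : ((DRing.restrictD (algebraMap B (B ⧸ I))).obj (Dual.inD (B ⧸ I) (B ⧸ I)) ⟶ W⟦d⟧) ≃ₗ[B]
      (B ⧸ I) := Linear.homCongr B β (Iso.refl _) ≪≫ₗ eTd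
  let c : V' ≃ₗ[B ⧸ I] (B ⧸ I) :=
    { toFun := fun v => c3 (E (c1 v))
      invFun := fun x => c1.symm (E.symm (c3.symm x))
      left_inv := fun v => by simp
      right_inv := fun x => by simp
      map_add' := fun v w => by rw [map_add, map_add, map_add]
      map_smul' := fun x v => by
        obtain ⟨b, rfl⟩ := Ideal.Quotient.mk_surjective x
        rw [RingHom.id_apply, map_smul]
        have h1 := hE b (c1 v)
        change c3 (E (algebraMap B (B ⧸ I) b • c1 v)) = _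
        rw [h1, map_smul]
        rfl }
  have hXdual : Dual.IsDualizing (B ⧸ I) X := Groth.Agent.S1772.result B (B ⧸ I) Rπ adj W hW
  exact (Groth.Agent.Lib.Helper25.GorUniq.gor_iff X hXdual).2 ⟨d, hX0, ⟨l ≪≫ₗ c⟩⟩

end Local

end Groth.Agent.Lib.Helper89.GorBC
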