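import Mathlib
import Groth.Agent.Lib.Helper89.GorBC5
import Groth.Agent.Lib.Helper89.GorBC3

/-!
# Fibres of a flat map along which a dualizing complex stays dualizing are Gorenstein (helper89)

* `gor_fibLoc_of_dualizing`: `A → B` flat, Noetherian, `K` dualizing for `A` and `K ⊗ B` dualizing
  for `B`; then every fibre local ring `B_q / p B_q` is Gorenstein.
* `gorRing_fiber_of_dualizing`: hence all fibre rings `κ(p) ⊗_A B` are Gorenstein rings.
* `gorRing_formalFibre`: formal fibres of a Noetherian local ring with a dualizing complex are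
  Gorenstein.
-/

set_option autoImplicit false
set_option linter.style.haveILetI false
universe u

open CategoryTheory CategoryTheory.Limits CategoryTheory.Pretriangulated DerivedCategory TensorProduct

attribute [local instance] HasDerivedCategory.standard

namespace Groth.Agent.Lib.Helper89.GorBC

open Groth.Agent.Lib.Helper84 Groth.Agent.Lib.Helper89.BCHom Groth.Agent.Lib.Helper89.Bass
open Groth.Agent.Lib.Helper25.Bidual Groth.Agent.Lib.Helper15.LBCFlat

section Conv

variable (A B : Type u) [CommRing A] [CommRing B] [Algebra A B] [IsNoetherianRing A]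
  [IsNoetherianRing B]

theorem gor_fibLoc_of_dualizing [Module.Flat A B]
    [PreservesFiniteLimits (FlatBC.ext (algebraMap A B))]
    (K : Dual.D A) (hK : Dual.IsDualizing A K)
    (hW : Dual.IsDualizing B ((FlatBC.bc (algebraMap A B)).obj K))
    (q : Ideal B) [q.IsPrime] : LocCoh.IsGorensteinLocalRing (EGA4.FibLocRing A B q) := by
  have hφ : (Localization.localRingHom (q.comap (algebraMap A B)) q
      (algebraMap A B) rfl).Flat :=
    RingHom.Flat.localRingHom (RingHom.flat_algebraMap_iff.2 inferInstance) q _ rfl
  have hfp : (algebraMap A (Localization.AtPrime (q.comap (algebraMap A B)))).Flat :=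
    RingHom.flat_algebraMap_iff.2 inferInstance
  have hfq : (algebraMap B (Localization.AtPrime q)).Flat :=
    RingHom.flat_algebraMap_iff.2 inferInstance
  haveI : PreservesFiniteLimits (FlatBC.ext (Localization.localRingHom
      (q.comap (algebraMap A B)) q (algebraMap A B) rfl)) :=
    FlatBC.preservesFiniteLimits_ext _ hφ
  haveI : PreservesFiniteLimits (FlatBC.ext
      (algebraMap A (Localization.AtPrime (q.comap (algebraMap A B))))) :=
    FlatBC.preservesFiniteLimits_ext _ hfp
  haveI : PreservesFiniteLimits (FlatBC.ext (algebraMap B (Localization.AtPrime q))) :=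
    FlatBC.preservesFiniteLimits_ext _ hfq
  have hKp : Dual.IsDualizing (Localization.AtPrime (q.comap (algebraMap A B)))
      ((FlatBC.bc (algebraMap A (Localization.AtPrime (q.comap (algebraMap A B))))).obj K) :=
    isDualizing_of_iso ((lbcFlatIso _).app K)
      (Groth.Agent.S1775.result A (q.comap (algebraMap A B)).primeCompl K hK)
  have hWq : Dual.IsDualizing (Localization.AtPrime q)
      ((FlatBC.bc (algebraMap B (Localization.AtPrime q))).obj
        ((FlatBC.bc (algebraMap A B)).obj K)) :=
    isDualizing_of_iso ((lbcFlatIso _).app _)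
      (Groth.Agent.S1775.result B q.primeCompl _ hW)
  have hcomp : (Localization.localRingHom (q.comap (algebraMap A B)) q
      (algebraMap A B) rfl).comp
        (algebraMap A (Localization.AtPrime (q.comap (algebraMap A B)))) =
      (algebraMap B (Localization.AtPrime q)).comp (algebraMap A B) :=
    RingHom.ext fun x => by
      rw [RingHom.comp_apply, Localization.localRingHom_to_map]
      rfl
  have e : (FlatBC.bc (Localization.localRingHom (q.comap (algebraMap A B)) q
      (algebraMap A B) rfl)).obj
        ((FlatBC.bc (algebraMap A (Localization.AtPrime (q.comap (algebraMap A B))))).obj K) ≅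
      (FlatBC.bc (algebraMap B (Localization.AtPrime q))).obj
        ((FlatBC.bc (algebraMap A B)).obj K) :=
    ((lbcFlatIso _).app _).symm ≪≫
    (DRing.LBaseChange (Localization.localRingHom (q.comap (algebraMap A B)) q
      (algebraMap A B) rfl)).mapIso ((lbcFlatIso _).app K).symm ≪≫
    (lbcComp _ _).app K ≪≫ (lbcOfEq hcomp).app K ≪≫
    ((lbcComp (algebraMap A B) (algebraMap B (Localization.AtPrime q))).app K).symm ≪≫
    (DRing.LBaseChange (algebraMap B (Localization.AtPrime q))).mapIso
      ((lbcFlatIso _).app K) ≪≫ (lbcFlatIso _).app _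
  have hW' := isDualizing_of_iso e.symm hWq
  have hle : (IsLocalRing.maximalIdeal (Localization.AtPrime (q.comap (algebraMap A B)))).map
      (Localization.localRingHom (q.comap (algebraMap A B)) q (algebraMap A B) rfl) ≤
      IsLocalRing.maximalIdeal (Localization.AtPrime q) :=
    ((IsLocalRing.local_hom_TFAE (Localization.localRingHom (q.comap (algebraMap A B)) q
      (algebraMap A B) rfl)).out 0 2 rfl rfl).mp
      (Localization.isLocalHom_localRingHom _ _ _ rfl)
  have hne : (IsLocalRing.maximalIdeal (Localization.AtPrime (q.comap (algebraMap A B)))).map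
      (Localization.localRingHom (q.comap (algebraMap A B)) q (algebraMap A B) rfl) ≠ ⊤ :=
    fun h => (IsLocalRing.maximalIdeal.isMaximal _).ne_top (top_le_iff.1 (h ▸ hle))
  haveI := local_conv (Localization.localRingHom (q.comap (algebraMap A B)) q
      (algebraMap A B) rfl) hφ hne _ hKp hW'
  have hI : (q.comap (algebraMap A B)).map (algebraMap A (Localization.AtPrime q)) =
      (IsLocalRing.maximalIdeal (Localization.AtPrime (q.comap (algebraMap A B)))).map
        (Localization.localRingHom (q.comap (algebraMap A B)) q (algebraMap A B) rfl) := by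
    rw [← Localization.AtPrime.map_eq_maximalIdeal, Ideal.map_map]
    congr 1
    ext x
    rw [RingHom.comp_apply, Localization.localRingHom_to_map]
    exact IsScalarTower.algebraMap_apply A B (Localization.AtPrime q) x
  exact Groth.Agent.Lib.Helper85.GorRing.gor_of_ringEquiv (Ideal.quotEquivOfEq hI).symm

attribute [local instance] Algebra.TensorProduct.rightAlgebra in
omit [IsNoetherianRing A] in
theorem isNoetherianRing_fiber (p : Ideal A) [p.IsPrime] : IsNoetherianRing (p.Fiber B) :=
  isNoetherianRing_of_ringEquiv _ (Ideal.Fiber.algEquivQuotient (S := B) p).symm.toRingEquiv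

theorem gorRing_fiber_of_dualizing [Module.Flat A B]
    [PreservesFiniteLimits (FlatBC.ext (algebraMap A B))]
    (K : Dual.D A) (hK : Dual.IsDualizing A K)
    (hW : Dual.IsDualizing B ((FlatBC.bc (algebraMap A B)).obj K))
    (p : Ideal A) [p.IsPrime] : LocCoh.IsGorensteinRing (p.Fiber B) := by
  haveI := isNoetherianRing_fiber A B p
  refine { isGorensteinLocalRing_localization := fun Q _ => ?_ }
  haveI := gor_fibLoc_of_dualizing A B K hK hW
    (Q.comap (Algebra.TensorProduct.includeRight : B →ₐ[A] p.Fiber B))
  exact Groth.Agent.Lib.Helper85.GorRing.gor_of_ringEquiv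
    (Groth.Agent.Lib.Helper56.fiberLocEquiv A B p Q).symm

end Conv

section Formal

variable (A : Type u) [CommRing A] [IsLocalRing A] [IsNoetherianRing A]

/-- formal fibres of a Noetherian local ring with a dualizing complex are Gorenstein -/
theorem gorRing_formalFibre (ω : Dual.D A) (hω : Dual.IsDualizing A ω) (p : Ideal A) [p.IsPrime] :
    LocCoh.IsGorensteinRing (EGA4.formalFibre A p) := by
  haveI : IsNoetherianRing (EGA4.Cpl A) := Groth.Agent.S0543.result _ _
  have hf : (algebraMap A (EGA4.Cpl A)).Flat := RingHom.flat_algebraMap_iff.2 inferInstance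
  haveI : PreservesFiniteLimits (FlatBC.ext (algebraMap A (EGA4.Cpl A))) :=
    FlatBC.preservesFiniteLimits_ext _ hf
  have hF : LocCoh.IsGorensteinLocalRing
      (EGA4.Cpl A ⧸ (IsLocalRing.maximalIdeal A).map (algebraMap A (EGA4.Cpl A))) := by
    have h1 : IsLocalRing.maximalIdeal (EGA4.Cpl A) =
        (IsLocalRing.maximalIdeal A).map (algebraMap A (EGA4.Cpl A)) :=
      AdicCompletion.maximalIdeal_eq_map
    haveI : LocCoh.IsGorensteinLocalRing (EGA4.Cpl A ⧸ IsLocalRing.maximalIdeal (EGA4.Cpl A)) :=
      Groth.Agent.Lib.Helper85.GorRing.gor_of_isField _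
        ((Ideal.Quotient.maximal_ideal_iff_isField_quotient _).1
          (IsLocalRing.maximalIdeal.isMaximal _))
    exact Groth.Agent.Lib.Helper85.GorRing.gor_of_ringEquiv (Ideal.quotEquivOfEq h1)
  have hW := local_main (algebraMap A (EGA4.Cpl A)) hf hF ω hω
  exact gorRing_fiber_of_dualizing A (EGA4.Cpl A) ω hω hW p

end Formal

end Groth.Agent.Lib.Helper89.GorBC
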