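import Groth.Agent.Lib.Helper89.FlatEpi
import Mathlib.Algebra.Homology.SingleHomology
import Mathlib.Algebra.Homology.ShortComplex.PreservesHomology

/-!
# Degree zero cohomology of `RHom_A(B', M)` and of flat base changes
-/

set_option autoImplicit false
universe u v v' u'

namespace Groth.Agent.Lib.Helper89.H0

open CategoryTheory CategoryTheory.Limits

section LeftExact

variable {C : Type u} [Category.{v} C] [Abelian C] {D : Type u'} [Category.{v'} D] [Abelian D]

/-- `H^0` of a complex in degrees `≥ 0` is the kernel of `d^0` -/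
noncomputable def homologyZeroIsoKernel (L : CochainComplex C ℤ) [L.IsStrictlyGE 0] :
    L.homology 0 ≅ kernel (L.d 0 1) :=
  (L.isoHomologyπ (-1) 0 (by simp)
    ((L.isZero_of_isStrictlyGE 0 (-1) (by omega)).eq_of_src _ _)).symm ≪≫
    IsLimit.conePointUniqueUpToIso (s := KernelFork.ofι (L.iCycles 0) (L.iCycles_d 0 1))
      (t := KernelFork.ofι (kernel.ι (L.d 0 1)) (kernel.condition (L.d 0 1)))
      (L.cyclesIsKernel 0 1 (by simp)) (kernelIsKernel (L.d 0 1))

/-- a left exact functor commutes with `H^0` of complexes in degrees `≥ 0` -/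
noncomputable def mapHomologyZeroIso (F : C ⥤ D) [F.Additive] [PreservesFiniteLimits F]
    (J : CochainComplex C ℤ) [J.IsStrictlyGE 0] :
    ((F.mapHomologicalComplex (ComplexShape.up ℤ)).obj J).homology 0 ≅ F.obj (J.homology 0) :=
  homologyZeroIsoKernel ((F.mapHomologicalComplex (ComplexShape.up ℤ)).obj J) ≪≫
    (PreservesKernel.iso F (J.d 0 1)).symm ≪≫ F.mapIso (homologyZeroIsoKernel J).symm

/-- an exact functor commutes with homology -/
noncomputable def mapHomologyIsoExact (F : C ⥤ D) [F.Additive] [PreservesFiniteLimits F]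
    [PreservesFiniteColimits F] (J : CochainComplex C ℤ) (n : ℤ) :
    ((F.mapHomologicalComplex (ComplexShape.up ℤ)).obj J).homology n ≅ F.obj (J.homology n) :=
  (J.sc n).mapHomologyIso F

end LeftExact

section RightAdj

open DerivedCategory Groth.Agent.Lib.Helper25.Coext

attribute [local instance] HasDerivedCategory.standard

variable {A B' : Type u} [CommRing A] [CommRing B'] (π : A →+* B')
  {R₀ : Dual.D A ⥤ Dual.D B'} (adj : DRing.restrictD π ⊣ R₀) (M : ModuleCat.{u} A)

include adj in
/-- a model of `RHom_A(B', M)` in degrees `≥ 0` with `H^0 = Hom_A(B', M)` -/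
theorem exists_model :
    ∃ (C : Cx B'), C.IsStrictlyGE 0 ∧
      Nonempty (R₀.obj ((DerivedCategory.singleFunctor (ModuleCat.{u} A) 0).obj M) ≅ Q.obj C) ∧
      Nonempty (C.homology 0 ≅ (ModuleCat.coextendScalars.{u, u, u} π).obj M) := by
  let K₀ : Cx A := (CochainComplex.singleFunctor (ModuleCat.{u} A) 0).obj M
  obtain ⟨J, i, hi, hJ, hJ0⟩ :=
    CochainComplex.Plus.modelCategoryQuillen.exists_quasiIso_injective K₀ 0
  haveI := hJ0
  haveI := hi
  haveI : J.IsKInjective := CochainComplex.isKInjective_of_injective J 0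
  haveI : IsIso (Q.map i) := by
    rw [isIso_Q_map_iff_quasiIso]
    exact hi
  have e0 : (DerivedCategory.singleFunctor (ModuleCat.{u} A) 0).obj M ≅ Q.obj J :=
    (DerivedCategory.singleFunctorIsoCompQ (ModuleCat.{u} A) 0).app M ≪≫ asIso (Q.map i)
  refine ⟨(coextCx π).obj J, inferInstance, ⟨R₀.mapIso e0 ≪≫ (thetaIso π J adj).symm⟩, ⟨?_⟩⟩
  have e1 : J.homology 0 ≅ M :=
    (asIso (HomologicalComplex.homologyMap i 0)).symm ≪≫
      HomologicalComplex.singleObjHomologySelfIso (ComplexShape.up ℤ) 0 M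
  exact mapHomologyZeroIso (ModuleCat.coextendScalars.{u, u, u} π) J ≪≫
    (ModuleCat.coextendScalars.{u, u, u} π).mapIso e1

end RightAdj

section FlatBC

open DerivedCategory Groth.Agent.Lib.Helper25.Coext Groth.Agent.Lib.Helper84
  Groth.Agent.Lib.Helper15.LBCFlat

attribute [local instance] HasDerivedCategory.standard

variable {B' B : Type u} [CommRing B'] [CommRing B] (φ : B' →+* B) (hφ : φ.Flat)

include hφ in
/-- flat base change commutes with cohomology -/
theorem homology_lbc (C : Cx B') (n : ℤ) :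
    Nonempty ((DerivedCategory.homologyFunctor (ModuleCat.{u} B) n).obj
        ((DRing.LBaseChange φ).obj (Q.obj C)) ≅
      (ModuleCat.extendScalars.{u, u, u} φ).obj (C.homology n)) := by
  haveI : PreservesFiniteLimits (FlatBC.ext φ) := FlatBC.preservesFiniteLimits_ext φ hφ
  haveI : PreservesFiniteColimits (FlatBC.ext φ) :=
    haveI : (FlatBC.ext φ).IsLeftAdjoint :=
      (ModuleCat.extendRestrictScalarsAdj.{u, u, u} φ).isLeftAdjoint
    inferInstance
  have e1 : (DRing.LBaseChange φ).obj (Q.obj C) ≅ Q.obj ((FlatBC.extCx φ).obj C) :=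
    (lbcFlatIso φ).app _ ≪≫ FlatBC.bcToD φ C
  exact ⟨(DerivedCategory.homologyFunctor (ModuleCat.{u} B) n).mapIso e1 ≪≫
    (DerivedCategory.homologyFunctorFactors (ModuleCat.{u} B) n).app _ ≪≫
    mapHomologyIsoExact (FlatBC.ext φ) C n⟩

end FlatBC

end Groth.Agent.Lib.Helper89.H0
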