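import Groth.Agent.Lib.Helper89.H0
import Groth.Agent.Lib.Helper15.BCSquare
import Groth.Prelude.Def_Disc

/-!
# `B ⊗_{B'} Hom_A(B', A)` in the two languages
-/

set_option autoImplicit false
universe u

namespace Groth.Agent.Lib.Helper89.H0Omega

open CategoryTheory TensorProduct ChangeOfRings Groth.Agent.Lib.Helper89.BCa

variable (A B' B : Type u) [CommRing A] [CommRing B'] [CommRing B] [Algebra A B'] [Algebra B' B]

/-- `Hom_A(B', A)` as `Disc.Omega` -/
noncomputable def eO :
    ((ModuleCat.coextendScalars.{u, u, u} (algebraMap A B')).obj (ModuleCat.of A A) : Type u)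
      ≃ₗ[B'] Disc.Omega A B' where
  toFun h := ⟨{ toFun := fun x => ap (algebraMap A B') (ModuleCat.of A A) h x
                map_add' := fun x y => ap_add h x y
                map_smul' := fun a x => by
                  rw [Algebra.smul_def]
                  exact ap_map_mul h a x }⟩
  invFun φ := (ModuleCat.CoextendScalars.equiv (algebraMap A B') (ModuleCat.of A A)).symm
    { toFun := fun x => φ.toLinearMap x
      map_add' := fun x y => φ.toLinearMap.map_add x y
      map_smul' := fun a x => by
        change φ.toLinearMap (algebraMap A B' a * (show B' from x)) = _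
        rw [← Algebra.smul_def, map_smul]
        rfl }
  left_inv h := rfl
  right_inv φ := rfl
  map_add' h h' := rfl
  map_smul' s h := by
    apply Disc.Omega.ext
    apply LinearMap.ext
    intro x
    change ap (algebraMap A B') (ModuleCat.of A A) h (x * s) =
      ap (algebraMap A B') (ModuleCat.of A A) h (s * x)
    rw [mul_comm]

open Groth.Agent.Lib.Helper15.BCSquare in
/-- the underlying `B'`-linear equivalence -/
noncomputable def tensB' :
    (rP' B' B ⊗[B'] ((ModuleCat.coextendScalars.{u, u, u} (algebraMap A B')).obj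
      (ModuleCat.of A A) : Type u)) ≃ₗ[B'] (B ⊗[B'] Disc.Omega A B') :=
  TensorProduct.congr (eP' B' B) (eO A B')

/-- abbreviation for the extended module -/
noncomputable abbrev EM : ModuleCat.{u} B :=
  (ModuleCat.extendScalars.{u, u, u} (algebraMap B' B)).obj
      ((ModuleCat.coextendScalars.{u, u, u} (algebraMap A B')).obj (ModuleCat.of A A))

/-- `tensB'` on the module `EM` -/
noncomputable def tfun (z : EM A B' B) : B ⊗[B'] Disc.Omega A B' := tensB' A B' B z

theorem tfun_zero : tfun A B' B 0 = 0 := map_zero (tensB' A B' B)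

theorem tfun_add (x y : EM A B' B) : tfun A B' B (x + y) = tfun A B' B x + tfun A B' B y :=
  map_add (tensB' A B' B) x y

/-- pure tensors in `EM` -/
noncomputable def tm (s' : B)
    (m : (ModuleCat.coextendScalars.{u, u, u} (algebraMap A B')).obj (ModuleCat.of A A)) :
    EM A B' B :=
  (s' ⊗ₜ[B', algebraMap B' B] m)

theorem smul_tm (s s' : B)
    (m : (ModuleCat.coextendScalars.{u, u, u} (algebraMap A B')).obj (ModuleCat.of A A)) :
    s • tm A B' B s' m = tm A B' B (s * s') m := rfl

theorem tfun_tm (s' : B)
    (m : (ModuleCat.coextendScalars.{u, u, u} (algebraMap A B')).obj (ModuleCat.of A A)) :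
    tfun A B' B (tm A B' B s' m) = (s' ⊗ₜ[B'] eO A B' m) := rfl

theorem tensB'_smul_tmul (s s' : B)
    (m : (ModuleCat.coextendScalars.{u, u, u} (algebraMap A B')).obj (ModuleCat.of A A)) :
    tfun A B' B (s • tm A B' B s' m) = s • tfun A B' B (tm A B' B s' m) := by
  rw [smul_tm, tfun_tm, tfun_tm, TensorProduct.smul_tmul', smul_eq_mul]

theorem tensB'_smul (s : B) (z : EM A B' B) :
    tfun A B' B (s • z) = s • tfun A B' B z := by
  induction z using TensorProduct.induction_on with
  | zero =>
    have h0 : s • (0 : EM A B' B) = 0 := smul_zero s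
    exact (congrArg (tfun A B' B) h0).trans ((tfun_zero A B' B).trans
      ((smul_zero s).symm.trans (congrArg (fun w => s • w) (tfun_zero A B' B).symm)))
  | tmul s' m => exact tensB'_smul_tmul A B' B s s' m
  | add x y hx hy =>
    have h2 : s • ((x : EM A B' B) + (y : EM A B' B)) = s • (x : EM A B' B) + s • (y : EM A B' B) :=
      smul_add s _ _
    refine (congrArg (tfun A B' B) h2).trans ?_
    refine (tfun_add A B' B _ _).trans ?_
    refine (congrArg₂ (· + ·) hx hy).trans ?_
    refine (smul_add s _ _).symm.trans ?_
    exact congrArg (fun w => s • w) (tfun_add A B' B x y).symm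

/-- `B ⊗_{B'} Hom_A(B', A)` in the two languages, `B`-linearly -/
noncomputable def tensB :
    ((ModuleCat.extendScalars.{u, u, u} (algebraMap B' B)).obj
      ((ModuleCat.coextendScalars.{u, u, u} (algebraMap A B')).obj (ModuleCat.of A A)) : Type u)
      ≃ₗ[B] (B ⊗[B'] Disc.Omega A B') where
  toFun z := tensB' A B' B z
  invFun w := (tensB' A B' B).symm w
  left_inv z := (tensB' A B' B).symm_apply_apply z
  right_inv w := (tensB' A B' B).apply_symm_apply w
  map_add' x y := (tensB' A B' B).map_add x y
  map_smul' s z := tensB'_smul A B' B s z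

end Groth.Agent.Lib.Helper89.H0Omega
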