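import Groth.Agent.Lib.Helper89.HDIRes2
import Groth.Agent.Lib.Helper89.BCHom1

/-!
# Flat base change for `RΓ_I` on the unbounded derived category

`A → B` flat, both Noetherian: `RΓ_{IB}(K ⊗_A B) ≅ RΓ_I(K) ⊗_A B` for every `K ∈ D(A)`.
-/

set_option autoImplicit false
universe u

namespace Groth.Agent.Lib.Helper89.HDIBC

open CategoryTheory CategoryTheory.Limits CategoryTheory.Pretriangulated DerivedCategory
open DRing Groth.Agent.Lib.Helper88.GM1 Groth.Agent.Lib.Helper88.GM2
open Groth.Agent.Lib.Helper88.GM3 Groth.Agent.Lib.Helper84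
open Groth.Agent.Lib.Helper15.LBCFlat Groth.Agent.Lib.Helper15.LDerived
open Groth.Agent.Lib.Helper89.HDIRes

attribute [local instance] HasDerivedCategory.standard

section General

variable {B : Type u} [CommRing B] (J : Ideal B)

theorem tors_of_iso {X Y : Dual.D B} (e : X ≅ Y) (hX : Tors J X) : Tors J Y := by
  intro i
  exact Helper89.RGI.torsion_of_iso J ((homologyFunctor (ModuleCat.{u} B) i).mapIso e.symm) (hX i)

variable [IsNoetherianRing B] [HasRgammaI J]

/-- if the cone of `g • 𝟙 Y`, `g ∈ J`, is right orthogonal to the `J`-torsion objects, so is `Y` -/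
theorem rightOrth_of_cone (g : B) (hg : g ∈ J) (Y Z : Dual.D B) (v : Y ⟶ Z)
    (w : Z ⟶ Y⟦(1 : ℤ)⟧) (hT : Triangle.mk (g • 𝟙 Y) v w ∈ distTriang (Dual.D B))
    (hZ : RightOrth (Tors J) Z) : RightOrth (Tors J) Y := by
  let W := (RgammaI J).obj Y
  let ε : W ⟶ Y := (RgammaIε J).app Y
  have hW : Tors J W := tors_rg J Y
  have hε : ∀ T, Tors J T → Function.Bijective (fun a : T ⟶ W => a ≫ ε) :=
    fun T hT' => comp_ε_bij J T hT' Y
  have hbij : ∀ T, Tors J T → Function.Bijective (fun a : T ⟶ Y => a ≫ (g • 𝟙 Y)) :=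
    fun T hT' => bijective_postcomp (Tors J) (tors_shift J) _ hT hZ T hT'
  obtain ⟨ψ, hψ⟩ := (hbij W hW).2 ε
  have hψ' : ψ ≫ (g • 𝟙 Y) = ε := hψ
  obtain ⟨h, hh⟩ := (hε W hW).2 ψ
  have hh' : h ≫ ε = ψ := hh
  have h1 : g • h = 𝟙 W := by
    apply (hε W hW).1
    change (g • h) ≫ ε = 𝟙 W ≫ ε
    rw [Linear.smul_comp, hh', Category.id_comp, ← hψ', Linear.comp_smul, Category.comp_id]
  have h2 : IsIso (g • 𝟙 W) :=
    ⟨h, by rw [Linear.smul_comp, Category.id_comp, h1],
      by rw [Linear.comp_smul, Category.comp_id, h1]⟩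
  have h3 : IsZero W := isZero_of_tors_of_isIso J W hW g hg h2
  intro T hT'
  refine ⟨fun a b => ?_⟩
  obtain ⟨a', ha'⟩ := (hε T hT').2 a
  obtain ⟨b', hb'⟩ := (hε T hT').2 b
  have ha'' : a' ≫ ε = a := ha'
  have hb'' : b' ≫ ε = b := hb'
  rw [← ha'', ← hb'', h3.eq_of_tgt a' b']

end General

section Flat

variable (A B : Type u) [CommRing A] [CommRing B] [Algebra A B] [Module.Flat A B]
variable [IsNoetherianRing A] [IsNoetherianRing B]

open BCHom

/-- **flat base change preserves objects right orthogonal to the torsion objects** -/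
theorem rightOrth_bc (I : Ideal A) (X : Dual.D A) (hX : RightOrth (Tors I) X) :
    RightOrth (Tors (I.map (algebraMap A B))) ((E A B).obj X) := by
  classical
  haveI : HasRgammaI (I.map (algebraMap A B)) := Groth.Agent.Lib.Helper39.GMD.LDUnb.hasRgammaI _
  obtain ⟨s, hs⟩ := (isNoetherianRing_iff_ideal_fg A).1 inferInstance I
  refine devissage (A := A) (RightOrth (Tors I))
    (fun X => RightOrth (Tors (I.map (algebraMap A B))) ((E A B).obj X)) ?_ s.toList
    ?_ ?_ X hX
  · intro f X Z v w hT hX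
    exact rightOrth_cone (Tors I) (tors_shift I) _ hT hX hX
  · intro f hf X Z v w hT hZ
    have hfI : f ∈ I := by
      rw [← hs]
      exact Ideal.subset_span (Finset.mem_toList.1 hf)
    have hT' := (E A B).map_distinguished _ hT
    have hm : (E A B).map (f • 𝟙 X) = (algebraMap A B f) • 𝟙 ((E A B).obj X) :=
      E_map_smul_id f X
    refine rightOrth_of_cone (I.map (algebraMap A B)) (algebraMap A B f)
      (Ideal.mem_map_of_mem _ hfI) ((E A B).obj X) ((E A B).obj Z) ((E A B).map v)
      ((E A B).map w ≫ ((E A B).commShiftIso (1 : ℤ)).hom.app X) ?_ hZ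
    rw [← hm]
    exact hT'
  · intro X hX hnil
    have ht : Tors I X := by
      refine tors_of_nil I X (s : Set A) hs ⟨s, hs⟩ ?_
      intro a ha
      exact hnil a (Finset.mem_toList.2 ha)
    have hz : IsZero X := isZero_of_rightOrth _ hX ht
    exact rightOrth_of_isZero _ ((E A B).map_isZero hz)

/-- **flat base change for `RΓ_I`** -/
theorem nonempty_iso_rg_bc (I : Ideal A) [HasRgammaI I] [HasRgammaI (I.map (algebraMap A B))]
    (K : Dual.D A) :
    Nonempty ((RgammaI (I.map (algebraMap A B))).obj ((E A B).obj K) ≅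
      (E A B).obj ((RgammaI I).obj K)) := by
  let W := (RgammaI I).obj K
  let ε : W ⟶ K := (RgammaIε I).app K
  obtain ⟨C, v, w, hT⟩ := distinguished_cocone_triangle ε
  have hC : RightOrth (Tors I) C :=
    rightOrth_obj₃ (Tors I) (tors_shift I) _ hT (fun L hL => comp_ε_bij I L hL K)
  have hC' := rightOrth_bc A B I C hC
  have hT' := (E A B).map_distinguished _ hT
  have hfg : I.FG := (isNoetherianRing_iff_ideal_fg A).1 inferInstance I
  have hW' : Tors (I.map (algebraMap A B)) ((E A B).obj W) :=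
    tors_of_iso _ ((lbcFlatIso (algebraMap A B)).app W)
      (tors_lbc (algebraMap A B) I hfg W (tors_rg I K))
  refine corefl_iso (Tors (I.map (algebraMap A B)))
    ((RgammaIε (I.map (algebraMap A B))).app ((E A B).obj K)) ((E A B).map ε)
    (tors_rg _ _) hW' (fun T hT'' => comp_ε_bij _ T hT'' _) ?_
  intro T hT''
  exact bijective_postcomp (Tors (I.map (algebraMap A B))) (tors_shift _) _ hT' hC' T hT''

end Flat

end Groth.Agent.Lib.Helper89.HDIBC
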