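import Groth.Agent.Lib.Helper89.HDIBC1

/-!
# Extension of scalars of a linear equivalence across universes
-/

set_option autoImplicit false
universe u

namespace Groth.Agent.Lib.Helper89.HDIBC

open CategoryTheory TensorProduct

variable {A B : Type u} [CommRing A] [CommRing B] (φ : A →+* B)

set_option backward.isDefEq.respectTransparency false in
/-- extension of scalars of an `A`-linear equivalence between modules in different universes -/
noncomputable def extCongr (M : ModuleCat.{u} A) (M' : ModuleCat.{u + 1} A) (e : M ≃ₗ[A] M') :
    (ModuleCat.extendScalars.{u, u, u} φ).obj M ≃ₗ[B]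
      (ModuleCat.extendScalars.{u, u, u + 1} φ).obj M' :=
  let L : ModuleCat.{u} A := (ModuleCat.restrictScalars φ).obj (ModuleCat.of B B)
  let F : TensorProduct A L M ≃ₗ[A] TensorProduct A L M' :=
    TensorProduct.congr (LinearEquiv.refl A L) e
  have key : ∀ (b : B) (x : (ModuleCat.extendScalars.{u, u, u} φ).obj M),
      (F (b • x) : (ModuleCat.extendScalars.{u, u, u + 1} φ).obj M') =
        b • (F x : (ModuleCat.extendScalars.{u, u, u + 1} φ).obj M') := by
    intro b x
    induction x using TensorProduct.induction_on with
    | zero =>
      have h1 : b • (0 : (ModuleCat.extendScalars.{u, u, u} φ).obj M) = 0 := smul_zero b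
      have h2 : b • (0 : (ModuleCat.extendScalars.{u, u, u + 1} φ).obj M') = 0 := smul_zero b
      have h3 : F 0 = 0 := map_zero F
      erw [h1, h3, h2]
    | tmul s m => rfl
    | add x y hx hy =>
      have h1 : b • ((x + y : TensorProduct A L M) : (ModuleCat.extendScalars.{u, u, u} φ).obj M) =
          (b • (x : (ModuleCat.extendScalars.{u, u, u} φ).obj M) +
            b • (y : (ModuleCat.extendScalars.{u, u, u} φ).obj M) :
              (ModuleCat.extendScalars.{u, u, u} φ).obj M) :=
        smul_add b (x : (ModuleCat.extendScalars.{u, u, u} φ).obj M) y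
      have h2 : F (x + y) = F x + F y := map_add F x y
      have h3 : b • ((F x + F y : TensorProduct A L M') :
            (ModuleCat.extendScalars.{u, u, u + 1} φ).obj M') =
          (b • (F x : (ModuleCat.extendScalars.{u, u, u + 1} φ).obj M') +
            b • (F y : (ModuleCat.extendScalars.{u, u, u + 1} φ).obj M') :
              (ModuleCat.extendScalars.{u, u, u + 1} φ).obj M') :=
        smul_add b (F x : (ModuleCat.extendScalars.{u, u, u + 1} φ).obj M') (F y)
      erw [h1, h2, h3, ← hx, ← hy]
      exact map_add F _ _
  { toFun := fun x => F x
    invFun := fun y => F.symm y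
    left_inv := fun x => F.symm_apply_apply x
    right_inv := fun y => F.apply_symm_apply y
    map_add' := fun x y => map_add F x y
    map_smul' := fun b x => key b x }

end Groth.Agent.Lib.Helper89.HDIBC
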