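import Groth.Agent.Lib.Helper89.HDIBC2
import Mathlib.CategoryTheory.Triangulated.Adjunction

/-!
# Base change for `RΓ_I` along an arbitrary map of Noetherian rings

`RΓ_{IB}(K ⊗^L_A B) ≅ RΓ_I(K) ⊗^L_A B` for every `K ∈ D(A)`.
-/

set_option autoImplicit false
universe u

namespace Groth.Agent.Lib.Helper89.HDIBC

open CategoryTheory CategoryTheory.Limits CategoryTheory.Pretriangulated DerivedCategory
open DRing Groth.Agent.Lib.Helper88.GM1 Groth.Agent.Lib.Helper88.GM2
open Groth.Agent.Lib.Helper88.GM3 Groth.Agent.Lib.Helper84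
open Groth.Agent.Lib.Helper15.LBCFlat Groth.Agent.Lib.Helper15.LDerived
open Groth.Agent.Lib.Helper89.HDIRes

attribute [local instance] HasDerivedCategory.standard

section Semilinear

variable {A B : Type u} [CommRing A] [CommRing B] (φ : A →+* B)

/-- restriction of scalars is semilinear -/
theorem restrictD_map_smul_id (a : A) (Y : Dual.D B) :
    (restrictD φ).map (φ a • 𝟙 Y) = a • 𝟙 ((restrictD φ).obj Y) := by
  let K := Q.objPreimage Y
  let e : Q.obj K ≅ Y := Q.objObjPreimageIso Y
  have h1 : φ a • 𝟙 Y = e.inv ≫ Q.map (φ a • 𝟙 K) ≫ e.hom := by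
    rw [Functor.map_smul, CategoryTheory.Functor.map_id, Linear.smul_comp, Linear.comp_smul,
      Category.id_comp, Iso.inv_hom_id]
  have h2 : (restrictD φ).map (Q.map (φ a • 𝟙 K)) = a • 𝟙 _ := by
    have nat := (ModuleCat.restrictScalars.{u} φ).mapDerivedCategoryFactors_hom_naturality
      (φ a • 𝟙 K)
    rw [← cancel_mono ((ModuleCat.restrictScalars.{u} φ).mapDerivedCategoryFactors.hom.app K)]
    refine nat.trans ?_
    have h3 : ((ModuleCat.restrictScalars.{u} φ).mapHomologicalComplex (ComplexShape.up ℤ)).map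
        (φ a • 𝟙 K) = a • 𝟙 _ := by
      ext n : 1
      rfl
    rw [h3, Functor.map_smul, CategoryTheory.Functor.map_id, Linear.comp_smul, Linear.smul_comp]
    congr 1
    exact (Category.comp_id _).trans (Category.id_comp _).symm
  rw [h1, Functor.map_comp, Functor.map_comp, h2, Linear.smul_comp, Linear.comp_smul,
    Category.id_comp, ← Functor.map_comp, Iso.inv_hom_id, CategoryTheory.Functor.map_id]

/-- derived base change is semilinear -/
theorem lbc_map_smul_id (a : A) (X : Dual.D A) :
    (LBaseChange φ).map (a • 𝟙 X) = φ a • 𝟙 ((LBaseChange φ).obj X) := by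
  let adj := Groth.Agent.Lib.Helper15.LBCAdj.adj φ
  apply (adj.homEquiv X _).injective
  rw [Adjunction.homEquiv_unit, Adjunction.homEquiv_unit, restrictD_map_smul_id,
    Linear.comp_smul]
  erw [Category.comp_id]
  have := adj.unit.naturality (a • 𝟙 X)
  simp only [Functor.id_map, Functor.comp_map] at this
  rw [← this, Linear.smul_comp]
  erw [Category.id_comp]

end Semilinear

section NonFlat

variable {A B : Type u} [CommRing A] [CommRing B] (φ : A →+* B)
variable [IsNoetherianRing A] [IsNoetherianRing B]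

/-- **derived base change preserves objects right orthogonal to the torsion objects** -/
theorem rightOrth_lbc (I : Ideal A) (X : Dual.D A) (hX : RightOrth (Tors I) X) :
    RightOrth (Tors (I.map φ)) ((LBaseChange φ).obj X) := by
  classical
  haveI : HasRgammaI (I.map φ) := Groth.Agent.Lib.Helper39.GMD.LDUnb.hasRgammaI _
  let adj := Groth.Agent.Lib.Helper15.LBCAdj.adj φ
  haveI : (LBaseChange φ).Additive := adj.left_adjoint_additive
  letI := adj.leftAdjointCommShift ℤ
  haveI := adj.commShift_of_rightAdjoint ℤ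
  haveI : (LBaseChange φ).IsTriangulated := adj.isTriangulated_leftAdjoint
  obtain ⟨s, hs⟩ := (isNoetherianRing_iff_ideal_fg A).1 inferInstance I
  refine devissage (A := A) (RightOrth (Tors I))
    (fun X => RightOrth (Tors (I.map φ)) ((LBaseChange φ).obj X)) ?_ s.toList
    ?_ ?_ X hX
  · intro f X Z v w hT hX
    exact rightOrth_cone (Tors I) (tors_shift I) _ hT hX hX
  · intro f hf X Z v w hT hZ
    have hfI : f ∈ I := by
      rw [← hs]
      exact Ideal.subset_span (Finset.mem_toList.1 hf)
    have hT' := (LBaseChange φ).map_distinguished _ hT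
    have hm : (LBaseChange φ).map (f • 𝟙 X) = (φ f) • 𝟙 ((LBaseChange φ).obj X) :=
      lbc_map_smul_id φ f X
    refine rightOrth_of_cone (I.map φ) (φ f)
      (Ideal.mem_map_of_mem _ hfI) ((LBaseChange φ).obj X) ((LBaseChange φ).obj Z)
      ((LBaseChange φ).map v)
      ((LBaseChange φ).map w ≫ ((LBaseChange φ).commShiftIso (1 : ℤ)).hom.app X) ?_ hZ
    rw [← hm]
    exact hT'
  · intro X hX hnil
    have ht : Tors I X := by
      refine tors_of_nil I X (s : Set A) hs ⟨s, hs⟩ ?_
      intro a ha
      exact hnil a (Finset.mem_toList.2 ha)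
    have hz : IsZero X := isZero_of_rightOrth _ hX ht
    exact rightOrth_of_isZero _ ((LBaseChange φ).map_isZero hz)

/-- **base change for `RΓ_I`** along an arbitrary map of Noetherian rings -/
theorem nonempty_iso_rg_lbc (I : Ideal A) [HasRgammaI I] [HasRgammaI (I.map φ)]
    (K : Dual.D A) :
    Nonempty ((RgammaI (I.map φ)).obj ((LBaseChange φ).obj K) ≅
      (LBaseChange φ).obj ((RgammaI I).obj K)) := by
  let adj := Groth.Agent.Lib.Helper15.LBCAdj.adj φ
  haveI : (LBaseChange φ).Additive := adj.left_adjoint_additive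
  letI := adj.leftAdjointCommShift ℤ
  haveI := adj.commShift_of_rightAdjoint ℤ
  haveI : (LBaseChange φ).IsTriangulated := adj.isTriangulated_leftAdjoint
  let W := (RgammaI I).obj K
  let ε : W ⟶ K := (RgammaIε I).app K
  obtain ⟨C, v, w, hT⟩ := distinguished_cocone_triangle ε
  have hC : RightOrth (Tors I) C :=
    rightOrth_obj₃ (Tors I) (tors_shift I) _ hT (fun L hL => comp_ε_bij I L hL K)
  have hC' := rightOrth_lbc φ I C hC
  have hT' := (LBaseChange φ).map_distinguished _ hT
  have hfg : I.FG := (isNoetherianRing_iff_ideal_fg A).1 inferInstance I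
  have hW' : Tors (I.map φ) ((LBaseChange φ).obj W) := tors_lbc φ I hfg W (tors_rg I K)
  refine corefl_iso (Tors (I.map φ))
    ((RgammaIε (I.map φ)).app ((LBaseChange φ).obj K)) ((LBaseChange φ).map ε)
    (tors_rg _ _) hW' (fun T hT'' => comp_ε_bij _ T hT'' _) ?_
  intro T hT''
  exact bijective_postcomp (Tors (I.map φ)) (tors_shift _) _ hT' hC' T hT''

/-- `RΓ` only depends on the class of torsion objects -/
theorem nonempty_iso_rg_of_tors (I I' : Ideal A) [HasRgammaI I] [HasRgammaI I']
    (h : ∀ T : Dual.D A, Tors I T ↔ Tors I' T) (K : Dual.D A) :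
    Nonempty ((RgammaI I).obj K ≅ (RgammaI I').obj K) := by
  refine corefl_iso (Tors I) ((RgammaIε I).app K) ((RgammaIε I').app K)
    (tors_rg _ _) ((h _).2 (tors_rg _ _)) (fun T hT => comp_ε_bij _ T hT _)
    (fun T hT => comp_ε_bij _ T ((h T).1 hT) _)

end NonFlat

end Groth.Agent.Lib.Helper89.HDIBC
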