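import Groth.Agent.Lib.Helper89.HDIBC3
import Groth.Agent.Lib.Helper15.LBCKFlat
import Groth.Agent.Lib.Helper15.PseudoCohBC

/-!
# Derived base change of the unit, and Frobenius base change of `RΓ_I(A)`
-/

set_option autoImplicit false
universe u

namespace Groth.Agent.Lib.Helper89.HDIBC

open CategoryTheory CategoryTheory.Limits CategoryTheory.Pretriangulated DerivedCategory
open DRing Groth.Agent.Lib.Helper88.GM1 Groth.Agent.Lib.Helper88.GM2
open Groth.Agent.Lib.Helper88.GM3 Groth.Agent.Lib.Helper84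
open Groth.Agent.Lib.Helper15.LBCFlat Groth.Agent.Lib.Helper15.LDerived
open Groth.Agent.Lib.Helper89.HDIRes TensorProduct

attribute [local instance] HasDerivedCategory.standard

section Unit

variable {A B : Type u} [CommRing A] [CommRing B] (φ : A →+* B)

/-- extension of scalars of the unit -/
noncomputable def extUnitIso :
    (ModuleCat.extendScalars.{u, u, u} φ).obj (ModuleCat.of A A) ≅ ModuleCat.of B B :=
  letI := φ.toAlgebra
  Groth.Agent.Lib.Helper15.PseudoCohBC.extModuleIso A B A ≪≫
    LinearEquiv.toModuleIso (TensorProduct.AlgebraTensorModule.rid A B B)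

/-- derived base change of the unit along an arbitrary ring map -/
noncomputable def lbcUnitGen : (LBaseChange φ).obj (Dual.inD A A) ≅ Dual.inD B B := by
  let E : DRing.Cx A := (HomologicalComplex.single (ModuleCat.{u} A) (ComplexShape.up ℤ) 0).obj
    (ModuleCat.of A A)
  have hb : ∀ q : ℤ, 0 < q → IsZero (E.X q) := fun q hq =>
    HomologicalComplex.isZero_single_obj_X _ _ _ _ (by omega)
  have hfl : ∀ q : ℤ, Module.Flat A (E.X q) := by
    intro q
    by_cases hq : q = 0
    · subst hq
      exact Module.Flat.of_linearEquiv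
        ((HomologicalComplex.singleObjXSelf (ComplexShape.up ℤ) 0 (ModuleCat.of A A))).toLinearEquiv
    · haveI : Subsingleton (E.X q) := ModuleCat.subsingleton_of_isZero
        (HomologicalComplex.isZero_single_obj_X _ _ _ _ hq)
      infer_instance
  exact (LBaseChange φ).mapIso ((singleFunctorIsoCompQ (ModuleCat.{u} A) 0).app (ModuleCat.of A A)) ≪≫
    Groth.Agent.Lib.Helper15.LBCKFlat.lbcIsoOfFlat φ E 0 hb hfl ≪≫
    Q.mapIso ((HomologicalComplex.singleMapHomologicalComplex
      (ModuleCat.extendScalars.{u, u, u} φ) (ComplexShape.up ℤ) 0).app (ModuleCat.of A A)) ≪≫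
    ((singleFunctorIsoCompQ (ModuleCat.{u} B) 0).app _).symm ≪≫
    (singleFunctor (ModuleCat.{u} B) 0).mapIso (extUnitIso φ)

end Unit

section Radical

variable {A : Type u} [CommRing A]

theorem tors_of_le_radical (I I' : Ideal A) (hI' : I'.FG) (h : I' ≤ I.radical) (T : Dual.D A)
    (hT : Tors I T) : Tors I' T := by
  obtain ⟨k, hk⟩ := Ideal.exists_pow_le_of_le_radical_of_fg h hI'
  intro i m
  obtain ⟨n, hn⟩ := hT i m
  refine ⟨k * n, fun a ha => hn a ?_⟩
  rw [pow_mul] at ha
  exact Ideal.pow_right_mono hk n ha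

/-- **Frobenius base change of `RΓ_I(A)`** -/
theorem frobenius_main (p : ℕ) [Fact p.Prime] [IsNoetherianRing A] [CharP A p] (I : Ideal A)
    [HasRgammaI I] :
    Nonempty ((LBaseChange (frobenius A p)).obj ((RgammaI I).obj (Dual.inD A A)) ≅
      (RgammaI I).obj (Dual.inD A A)) := by
  let F : A →+* A := frobenius A p
  haveI : HasRgammaI (I.map F) := Groth.Agent.Lib.Helper39.GMD.LDUnb.hasRgammaI _
  have hfg : ∀ J : Ideal A, J.FG := (isNoetherianRing_iff_ideal_fg A).1 inferInstance
  have hp : 0 < p := (Fact.out : p.Prime).pos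
  have h1 : I.map F ≤ I := by
    rw [Ideal.map_le_iff_le_comap]
    intro x hx
    change F x ∈ I
    rw [frobenius_def]
    exact Ideal.pow_mem_of_mem I hx p hp
  have h2 : I ≤ (I.map F).radical := by
    intro x hx
    refine ⟨p, ?_⟩
    have : x ^ p = F x := (frobenius_def p x).symm
    rw [this]
    exact Ideal.mem_map_of_mem F hx
  have h : ∀ T : Dual.D A, Tors (I.map F) T ↔ Tors I T := fun T =>
    ⟨tors_of_le_radical _ _ (hfg _) h2 T,
      tors_of_le_radical _ _ (hfg _) (h1.trans Ideal.le_radical) T⟩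
  obtain ⟨e1⟩ := nonempty_iso_rg_lbc F I (Dual.inD A A)
  obtain ⟨e3⟩ := nonempty_iso_rg_of_tors (I.map F) I h (Dual.inD A A)
  exact ⟨e1.symm ≪≫ (RgammaI (I.map F)).mapIso (lbcUnitGen F) ≪≫ e3⟩

end Radical

end Groth.Agent.Lib.Helper89.HDIBC
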