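import Groth.Agent.Lib.Helper89.Shriek3
import Groth.Agent.Lib.Helper89.H0
import Mathlib.Algebra.Homology.DerivedCategory.SingleTriangle
import Mathlib.Algebra.Homology.DerivedCategory.TStructure
import Mathlib.Algebra.Homology.DerivedCategory.FullyFaithful

/-!
# `RHom_T(T/h, T) ≅ (T/h)[-1]` for a nonzerodivisor `h`

`π : T → T'` surjective with kernel `(h)`, `h` a nonzerodivisor, `R` a right adjoint of restriction
along `π`: `R(T[0]) ≅ T'[0][-1]` in `D(T')`.
-/

set_option autoImplicit false
universe u

namespace Groth.Agent.Lib.Helper89.KosA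

open CategoryTheory CategoryTheory.Limits DerivedCategory CategoryTheory.Pretriangulated

attribute [local instance] HasDerivedCategory.standard

section Homology

variable {A B : Type u} [CommRing A] [CommRing B] (φ : A →+* B)

/-- restriction of scalars commutes with cohomology -/
noncomputable def homologyRestrictIso (X : Dual.D B) (n : ℤ) :
    (homologyFunctor (ModuleCat.{u} A) n).obj ((DRing.restrictD φ).obj X) ≅
      (ModuleCat.restrictScalars.{u} φ).obj ((homologyFunctor (ModuleCat.{u} B) n).obj X) :=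
  (homologyFunctor _ n).mapIso ((DRing.restrictD φ).mapIso (Q.objObjPreimageIso X).symm) ≪≫
    (homologyFunctor _ n).mapIso
      ((ModuleCat.restrictScalars.{u} φ).mapDerivedCategoryFactors.app (Q.objPreimage X)) ≪≫
    (homologyFunctorFactors _ n).app _ ≪≫
    H0.mapHomologyIsoExact (ModuleCat.restrictScalars.{u} φ) (Q.objPreimage X) n ≪≫
    (ModuleCat.restrictScalars.{u} φ).mapIso
      ((homologyFunctorFactors _ n).app (Q.objPreimage X)).symm ≪≫
    (ModuleCat.restrictScalars.{u} φ).mapIso
      ((homologyFunctor _ n).mapIso (Q.objObjPreimageIso X))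

theorem isZero_homology_of_restrict (X : Dual.D B) (n : ℤ)
    (h : IsZero ((homologyFunctor (ModuleCat.{u} A) n).obj ((DRing.restrictD φ).obj X))) :
    IsZero ((homologyFunctor (ModuleCat.{u} B) n).obj X) := by
  have h1 : IsZero ((ModuleCat.restrictScalars.{u} φ).obj
      ((homologyFunctor (ModuleCat.{u} B) n).obj X)) := h.of_iso (homologyRestrictIso φ X n).symm
  rw [ModuleCat.isZero_iff_subsingleton] at h1 ⊢
  exact h1

theorem isGE_of_restrict (X : Dual.D B) (n : ℤ) [((DRing.restrictD φ).obj X).IsGE n] :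
    X.IsGE n := by
  rw [isGE_iff]
  intro i hi
  exact isZero_homology_of_restrict φ X i
    ((isGE_iff ((DRing.restrictD φ).obj X) n).1 inferInstance i hi)

theorem isLE_of_restrict (X : Dual.D B) (n : ℤ) [((DRing.restrictD φ).obj X).IsLE n] :
    X.IsLE n := by
  rw [isLE_iff]
  intro i hi
  exact isZero_homology_of_restrict φ X i
    ((isLE_iff ((DRing.restrictD φ).obj X) n).1 inferInstance i hi)

end Homology

section OneStep

variable {T T' : Type u} [CommRing T] [CommRing T'] (π : T →+* T')

/-- `π` as a `T`-linear map `T → T'|_T` -/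
noncomputable def piLin : (ModuleCat.of T T) ⟶
    (ModuleCat.restrictScalars.{u} π).obj (ModuleCat.of T' T') :=
  ModuleCat.ofHom (X := ModuleCat.of T T)
    (Y := (ModuleCat.restrictScalars.{u} π).obj (ModuleCat.of T' T'))
    { toFun := fun t => (π t : T')
      map_add' := fun a b => π.map_add a b
      map_smul' := fun a t => π.map_mul a t }

theorem piLin_apply (t : T) : (piLin π).hom t = π t := rfl

/-- the short complex `T →h T → T'` -/
noncomputable def ses {h : T} (hh : π h = 0) : ShortComplex (ModuleCat.{u} T) :=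
  ShortComplex.mk (h • 𝟙 (ModuleCat.of T T)) (piLin π) (by
    apply ModuleCat.hom_ext
    apply LinearMap.ext
    intro t
    change π (h • t) = 0
    rw [smul_eq_mul, map_mul, hh, zero_mul])

theorem ses_shortExact (hπ : Function.Surjective π) {h : T}
    (hker : RingHom.ker π = Ideal.span {h}) (hh : π h = 0) (hnzd : h ∈ nonZeroDivisors T) :
    (ses π hh).ShortExact := by
  apply ModuleCat.shortComplex_shortExact
  · change ∀ y : T, π y = 0 ↔ ∃ a : T, h * a = y
    intro y
    constructor
    · intro hy
      have h1 : y ∈ RingHom.ker π := hy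
      rw [hker, Ideal.mem_span_singleton'] at h1
      obtain ⟨a, ha⟩ := h1
      exact ⟨a, by rw [mul_comm]; exact ha⟩
    · rintro ⟨a, rfl⟩
      rw [map_mul, hh, zero_mul]
  · change ∀ a b : T, h * a = h * b → a = b
    intro a b hab
    exact (mem_nonZeroDivisors_iff_left.1 hnzd) |> fun _ => by
      have h2 : h * (a - b) = 0 := by rw [mul_sub, hab, sub_self]
      have h3 : (a - b) * h = 0 := by rw [mul_comm]; exact h2
      exact sub_eq_zero.1 ((mem_nonZeroDivisors_iff_right.1 hnzd) _ h3)
  · change ∀ y : T', ∃ t : T, π t = y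
    exact hπ

/-- a `T`-linear iso between restrictions along a surjection is `T'`-linear -/
noncomputable def isoOfRestrictIso (hπ : Function.Surjective π) (M N : ModuleCat.{u} T')
    (e : (ModuleCat.restrictScalars.{u} π).obj M ≅ (ModuleCat.restrictScalars.{u} π).obj N) :
    M ≅ N :=
  LinearEquiv.toModuleIso
    { toFun := fun m => e.hom.hom m
      invFun := fun n => e.inv.hom n
      map_add' := fun a b => map_add e.hom.hom a b
      map_smul' := fun b m => by
        obtain ⟨a, rfl⟩ := hπ b
        exact e.hom.hom.map_smul a m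
      left_inv := fun m => by
        have := congrArg (fun k => k.hom m) e.hom_inv_id
        exact this
      right_inv := fun n => by
        have := congrArg (fun k => k.hom n) e.inv_hom_id
        exact this }

/-- **one step**: `R(T[0]) ≅ T'[0][-1]` -/
theorem one_step (hπ : Function.Surjective π) {h : T}
    (hker : RingHom.ker π = Ideal.span {h}) (hnzd : h ∈ nonZeroDivisors T)
    {R : Dual.D T ⥤ Dual.D T'} (adj : DRing.restrictD π ⊣ R) :
    Nonempty (R.obj (Dual.inD T T) ≅ (Dual.inD T' T')⟦(-1 : ℤ)⟧) := by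
  have hh : π h = 0 := by
    rw [← RingHom.mem_ker, hker]
    exact Ideal.mem_span_singleton_self h
  obtain ⟨u, w, hT⟩ := Shriek1.main hπ hker hnzd (Dual.inD T T) R adj
  have hS := ses_shortExact π hπ hker hh hnzd
  have hT' := hS.singleTriangle_distinguished
  have hf : (singleFunctor (ModuleCat.{u} T) 0).map (ses π hh).f = h • 𝟙 (Dual.inD T T) := by
    change (singleFunctor (ModuleCat.{u} T) 0).map (h • 𝟙 (ModuleCat.of T T)) = _
    rw [Functor.map_smul, CategoryTheory.Functor.map_id]
  have hT₂ : Triangle.mk (h • 𝟙 (Dual.inD T T))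
      ((singleFunctor (ModuleCat.{u} T) 0).map (ses π hh).g) hS.singleδ ∈ distTriang _ := by
    rw [← hf]
    exact hT'
  have hT₁ := rot_of_distTriang _ hT
  obtain ⟨e1⟩ := Shriek3.cone_unique _ _ _ _ _ hT₁ hT₂
  -- `res (R N) ≅ (T'|_T)[0][-1] ≅ single_1 (T'|_T)`
  let M' : ModuleCat.{u} T := (ModuleCat.restrictScalars.{u} π).obj (ModuleCat.of T' T')
  let e2 : (DRing.restrictD π).obj (R.obj (Dual.inD T T)) ≅
      (singleFunctor (ModuleCat.{u} T) 1).obj M' :=
    Shriek3.isoShiftNeg e1 ≪≫
      ((singleFunctors (ModuleCat.{u} T)).shiftIso (-1) 1 0 (by norm_num)).app M'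
  haveI : ((DRing.restrictD π).obj (R.obj (Dual.inD T T))).IsGE 1 :=
    TStructure.t.isGE_of_iso e2.symm 1
  haveI : ((DRing.restrictD π).obj (R.obj (Dual.inD T T))).IsLE 1 :=
    TStructure.t.isLE_of_iso e2.symm 1
  haveI : (R.obj (Dual.inD T T)).IsGE 1 := isGE_of_restrict π _ 1
  haveI : (R.obj (Dual.inD T T)).IsLE 1 := isLE_of_restrict π _ 1
  obtain ⟨M, ⟨e3⟩⟩ := exists_iso_singleFunctor_obj_of_isGE_of_isLE (R.obj (Dual.inD T T)) 1
  let e4 : (singleFunctor (ModuleCat.{u} T) 1).obj ((ModuleCat.restrictScalars.{u} π).obj M) ≅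
      (singleFunctor (ModuleCat.{u} T) 1).obj M' :=
    (((ModuleCat.restrictScalars.{u} π).mapDerivedCategorySingleFunctor 1).app M).symm ≪≫
      (DRing.restrictD π).mapIso e3.symm ≪≫ e2
  let e5 : (ModuleCat.restrictScalars.{u} π).obj M ≅ M' :=
    (singleFunctor (ModuleCat.{u} T) 1).preimageIso e4
  let e6 : M ≅ ModuleCat.of T' T' := isoOfRestrictIso π hπ M (ModuleCat.of T' T') e5
  exact ⟨e3 ≪≫ (singleFunctor (ModuleCat.{u} T') 1).mapIso e6 ≪≫
    (((singleFunctors (ModuleCat.{u} T')).shiftIso (-1) 1 0 (by norm_num)).app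
      (ModuleCat.of T' T')).symm⟩

end OneStep

end Groth.Agent.Lib.Helper89.KosA
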