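import Groth.Agent.Lib.Helper88.GM3
import Groth.Agent.Lib.Helper15.LBCFlat
import Groth.Agent.Lib.Helper89.BCHom2
import Groth.Agent.Lib.Helper89.KosA
import Groth.Agent.Lib.Helper39.GMD.LDUnb

/-!
# Derived base change preserves torsion objects

`T ∈ D(A)` with `I`-power torsion cohomology ⇒ `T ⊗^L_A B` has `IB`-power torsion cohomology.
-/

set_option autoImplicit false
universe u

namespace Groth.Agent.Lib.Helper89.HDIRes

open CategoryTheory CategoryTheory.Limits DerivedCategory
open DRing Groth.Agent.Lib.Helper88.GM2 Groth.Agent.Lib.Helper84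
open Groth.Agent.Lib.Helper15.LBCFlat Groth.Agent.Lib.Helper15.LDerived

attribute [local instance] HasDerivedCategory.standard

section Modules

variable {A B : Type u} [CommRing A] [CommRing B] (φ : A →+* B)

/-- extension of scalars of `M` vanishes as soon as all maps from `M` to restricted modules do -/
theorem isZero_ext_of_hom_zero (M : ModuleCat.{u} A)
    (h : ∀ (N : ModuleCat.{u} B) (g : M ⟶ (ModuleCat.restrictScalars.{u} φ).obj N), g = 0) :
    IsZero ((FlatBC.ext φ).obj M) := by
  rw [IsZero.iff_id_eq_zero]
  apply ((ModuleCat.extendRestrictScalarsAdj φ).homEquiv M _).injective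
  rw [h _ ((ModuleCat.extendRestrictScalarsAdj φ).homEquiv M _ (𝟙 _)),
    h _ ((ModuleCat.extendRestrictScalarsAdj φ).homEquiv M _ 0)]

/-- if the extension of scalars of `M` vanishes, all maps from `M` to restricted modules vanish -/
theorem hom_zero_of_isZero_ext (M : ModuleCat.{u} A) (h : IsZero ((FlatBC.ext φ).obj M))
    (N : ModuleCat.{u} B) (g : M ⟶ (ModuleCat.restrictScalars.{u} φ).obj N) : g = 0 := by
  apply ((ModuleCat.extendRestrictScalarsAdj φ).homEquiv M N).symm.injective
  exact h.eq_of_src _ _

/-- a module on which `f` is locally nilpotent dies after inverting `f` -/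
theorem isZero_ext_away_of_nil (f : A) (M : ModuleCat.{u} A)
    (h : ∀ m : M, ∃ k : ℕ, f ^ k • m = 0) :
    IsZero ((FlatBC.ext (algebraMap A (Localization.Away f))).obj M) := by
  apply isZero_ext_of_hom_zero
  intro N g
  ext m
  obtain ⟨k, hk⟩ := h m
  have h1 : g.hom (f ^ k • m) = 0 := by rw [hk, map_zero]
  rw [map_smul] at h1
  have h2 : (algebraMap A (Localization.Away f) (f ^ k)) • (show N from g.hom m) = 0 := h1
  have hu : IsUnit (algebraMap A (Localization.Away f) (f ^ k)) := by
    rw [map_pow]
    exact (IsLocalization.Away.algebraMap_isUnit f).pow k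
  exact (hu.smul_eq_zero).1 h2

/-- if a module dies after inverting `g`, then `g` is locally nilpotent on it -/
theorem nil_of_isZero_ext_away (g : B) (M : ModuleCat.{u} B)
    (h : IsZero ((FlatBC.ext (algebraMap B (Localization.Away g))).obj M)) (m : M) :
    ∃ k : ℕ, g ^ k • m = 0 := by
  let N : ModuleCat.{u} (Localization.Away g) :=
    ModuleCat.of (Localization.Away g) (LocalizedModule (Submonoid.powers g) M)
  let l : M ⟶ (ModuleCat.restrictScalars.{u} (algebraMap B (Localization.Away g))).obj N :=
    ModuleCat.ofHom (Y := (ModuleCat.restrictScalars.{u} (algebraMap B (Localization.Away g))).obj N)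
      { toFun := fun x => LocalizedModule.mkLinearMap (Submonoid.powers g) M x
        map_add' := fun x y => map_add _ x y
        map_smul' := fun b x => by
          change LocalizedModule.mkLinearMap (Submonoid.powers g) M (b • x) =
            (algebraMap B (Localization.Away g) b) •
              (LocalizedModule.mkLinearMap (Submonoid.powers g) M x :
                LocalizedModule (Submonoid.powers g) M)
          rw [map_smul, algebraMap_smul] }
  have hl : l = 0 := hom_zero_of_isZero_ext _ M h N l
  have h1 : LocalizedModule.mkLinearMap (Submonoid.powers g) M m = 0 := by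
    have := congrArg (fun t => t.hom m) hl
    exact this
  obtain ⟨⟨c, k, rfl⟩, hc⟩ :=
    (IsLocalizedModule.eq_zero_iff (Submonoid.powers g)
      (LocalizedModule.mkLinearMap (Submonoid.powers g) M)).1 h1
  exact ⟨k, hc⟩

/-- torsion criterion on a finite generating set -/
theorem mem_torsionSub_of_nil (J : Ideal B) (s : Finset B) (hs : Ideal.span (s : Set B) = J)
    (M : Type u) [AddCommGroup M] [Module B M] (m : M)
    (h : ∀ g ∈ s, ∃ k : ℕ, g ^ k • m = 0) : m ∈ torsionSub J M := by
  let ann : Ideal B := LinearMap.ker (LinearMap.toSpanSingleton B M m)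
  have h1 : J ≤ ann.radical := by
    rw [← hs, Ideal.span_le]
    intro g hg
    obtain ⟨k, hk⟩ := h g hg
    exact ⟨k, by simpa [ann] using hk⟩
  have hfg : J.FG := ⟨s, hs⟩
  obtain ⟨k, hk⟩ := Ideal.exists_pow_le_of_le_radical_of_fg h1 hfg
  refine ⟨k, fun a ha => ?_⟩
  have := hk ha
  simpa [ann] using this

end Modules

section Derived

variable {A B : Type u} [CommRing A] [CommRing B] (φ : A →+* B)

/-- a torsion object dies after inverting an element of the ideal -/
theorem isZero_lbc_away_of_tors (I : Ideal A) (T : Dual.D A) (hT : Tors I T) (f : A) (hf : f ∈ I) :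
    IsZero ((LBaseChange (algebraMap A (Localization.Away f))).obj T) := by
  have hflat : (algebraMap A (Localization.Away f)).Flat :=
    RingHom.flat_algebraMap_iff.2 inferInstance
  haveI := FlatBC.preservesFiniteLimits_ext _ hflat
  refine IsZero.of_iso ?_ ((lbcFlatIso (algebraMap A (Localization.Away f))).app T)
  apply isZero_of_homology
  intro i
  refine IsZero.of_iso ?_ ((BCHom.kappa (algebraMap A (Localization.Away f)) i).app T)
  apply isZero_ext_away_of_nil
  intro m
  obtain ⟨k, hk⟩ := hT i m
  exact ⟨k, hk _ (Ideal.pow_mem_pow hf k)⟩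

/-- an object dying after inverting each of finitely many generators of `J` is `J`-torsion -/
theorem tors_of_isZero_lbc_away (J : Ideal B) (s : Finset B) (hs : Ideal.span (s : Set B) = J)
    (Y : Dual.D B)
    (h : ∀ g ∈ s, IsZero ((LBaseChange (algebraMap B (Localization.Away g))).obj Y)) :
    Tors J Y := by
  intro i m
  apply mem_torsionSub_of_nil J s hs
  intro g hg
  have hflat : (algebraMap B (Localization.Away g)).Flat :=
    RingHom.flat_algebraMap_iff.2 inferInstance
  haveI := FlatBC.preservesFiniteLimits_ext _ hflat
  have h1 : IsZero ((FlatBC.bc (algebraMap B (Localization.Away g))).obj Y) :=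
    IsZero.of_iso (h g hg) ((lbcFlatIso (algebraMap B (Localization.Away g))).app Y).symm
  have h2 : IsZero ((FlatBC.ext (algebraMap B (Localization.Away g))).obj
      ((homologyFunctor (ModuleCat.{u} B) i).obj Y)) :=
    IsZero.of_iso ((homologyFunctor (ModuleCat.{u} (Localization.Away g)) i).map_isZero h1)
      ((BCHom.kappa (algebraMap B (Localization.Away g)) i).app Y).symm
  exact nil_of_isZero_ext_away g _ h2 m

/-- **derived base change preserves torsion objects** -/
theorem tors_lbc (I : Ideal A) (hI : I.FG) (T : Dual.D A) (hT : Tors I T) :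
    Tors (I.map φ) ((LBaseChange φ).obj T) := by
  classical
  obtain ⟨s, hs⟩ := hI
  refine tors_of_isZero_lbc_away (I.map φ) (s.image φ) ?_ _ ?_
  · rw [Finset.coe_image, ← Ideal.map_span, hs]
  · intro g hg
    obtain ⟨f, hf, rfl⟩ := Finset.mem_image.1 hg
    have hfI : f ∈ I := hs ▸ Ideal.subset_span hf
    let ψ : Localization.Away f →+* Localization.Away (φ f) :=
      IsLocalization.Away.map (Localization.Away f) (Localization.Away (φ f)) φ f
    have hψ : ψ.comp (algebraMap A (Localization.Away f)) =
        (algebraMap B (Localization.Away (φ f))).comp φ := IsLocalization.map_comp _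
    have hz := isZero_lbc_away_of_tors I T hT f hfI
    have adjψ := Groth.Agent.Lib.Helper15.LBCAdj.adj ψ
    haveI : (LBaseChange ψ).Additive := adjψ.left_adjoint_additive
    have hz2 : IsZero ((LBaseChange ψ).obj
        ((LBaseChange (algebraMap A (Localization.Away f))).obj T)) :=
      (LBaseChange ψ).map_isZero hz
    refine IsZero.of_iso hz2 ?_
    exact (lbcComp φ (algebraMap B (Localization.Away (φ f)))).app T ≪≫
      (lbcOfEq hψ.symm).app T ≪≫
      ((lbcComp (algebraMap A (Localization.Away f)) ψ).app T).symm

end Derived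

end Groth.Agent.Lib.Helper89.HDIRes
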