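import Groth.Agent.Lib.Helper89.HDIRes1
import Groth.Agent.S1812

/-!
# Local cohomology and restriction of scalars

`RΓ_I(res K) ≅ res(RΓ_{IB} K)` for `A → B` a map of Noetherian rings and `K ∈ D(B)`; consequence for
the colimit description `Dual2.HDI`.
-/

set_option autoImplicit false
universe u

namespace Groth.Agent.Lib.Helper89.HDIRes

open CategoryTheory CategoryTheory.Limits DerivedCategory
open DRing Groth.Agent.Lib.Helper88.GM2 Groth.Agent.Lib.Helper88.GM3 Groth.Agent.Lib.Helper84
open Groth.Agent.Lib.Helper15.LBCFlat Groth.Agent.Lib.Helper15.LDerived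
open Groth.Agent.Lib.Helper39.GMD.LDUnb

attribute [local instance] HasDerivedCategory.standard

variable {A B : Type u} [CommRing A] [CommRing B] (φ : A →+* B)

/-- restriction of scalars preserves torsion objects -/
theorem tors_restrictD (I : Ideal A) (X : Dual.D B) (hX : Tors (I.map φ) X) :
    Tors I ((restrictD φ).obj X) := by
  intro i
  apply Helper89.RGI.torsion_of_iso I (KosA.homologyRestrictIso φ X i)
  intro n
  obtain ⟨k, hk⟩ := hX i n
  refine ⟨k, fun a ha => ?_⟩
  have h1 : φ a ∈ (I.map φ) ^ k := by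
    rw [← Ideal.map_pow]
    exact Ideal.mem_map_of_mem φ ha
  exact hk _ h1

variable [IsNoetherianRing A] [IsNoetherianRing B]

/-- `RΓ_I(res K) ≅ res(RΓ_{IB} K)` -/
theorem nonempty_iso_rg_restrict (I : Ideal A) [HasRgammaI I] [HasRgammaI (I.map φ)]
    (K : Dual.D B) :
    Nonempty ((RgammaI I).obj ((restrictD φ).obj K) ≅
      (restrictD φ).obj ((RgammaI (I.map φ)).obj K)) := by
  refine corefl_iso (Tors I) ((RgammaIε I).app ((restrictD φ).obj K))
    ((restrictD φ).map ((RgammaIε (I.map φ)).app K)) (tors_rg I _)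
    (tors_restrictD φ I _ (tors_rg (I.map φ) K)) (fun T hT => comp_ε_bij I T hT _) ?_
  intro T hT
  let adj := Groth.Agent.Lib.Helper15.LBCAdj.adj φ
  have hT' : Tors (I.map φ) ((LBaseChange φ).obj T) :=
    tors_lbc φ I ((isNoetherianRing_iff_ideal_fg A).1 inferInstance I) T hT
  have hb := comp_ε_bij (I.map φ) _ hT' K
  have key : (fun g : T ⟶ (restrictD φ).obj ((RgammaI (I.map φ)).obj K) =>
      g ≫ (restrictD φ).map ((RgammaIε (I.map φ)).app K)) =
      (adj.homEquiv T K) ∘
        (fun h : (LBaseChange φ).obj T ⟶ (RgammaI (I.map φ)).obj K =>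
          h ≫ (RgammaIε (I.map φ)).app K) ∘ (adj.homEquiv T _).symm := by
    funext g
    simp only [Function.comp_apply]
    rw [Adjunction.homEquiv_naturality_right, Equiv.apply_symm_apply]
  rw [key]
  exact (adj.homEquiv T K).bijective.comp (hb.comp (adj.homEquiv T _).symm.bijective)

end Groth.Agent.Lib.Helper89.HDIRes
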