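import Mathlib
import Groth.Prelude.Def_DerLim
import Groth.Agent.Lib.Helper89.HocolimAb

set_option autoImplicit false
universe w v u
open CategoryTheory CategoryTheory.Limits CategoryTheory.Pretriangulated

namespace Groth.Agent.Lib.Helper89.HocolimDerived

open Groth.Agent.Lib.Helper89.HocolimSubseq Groth.Agent.Lib.Helper89.HocolimAb DerivedCategory

variable {A : Type u} [Category.{v} A] [Abelian A] [HasDerivedCategory.{w} A]
    [HasColimitsOfShape ℕ A] [HasExactColimitsOfShape ℕ A]

theorem isHocolim_of_colimit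
    (L : ℕ ⥤ CochainComplex A ℤ) [HasCoproduct L.obj]
    [PreservesColimit (Discrete.functor L.obj) (DerivedCategory.Q (C := A))]
    [HasCoproduct (fun n => DerivedCategory.Q.obj (L.obj n))] :
    DerLim.IsHocolim (fun n => DerivedCategory.Q.obj (L.obj n))
      (fun n => DerivedCategory.Q.map (L.map (homOfLE (Nat.le_succ n))))
      (DerivedCategory.Q.obj (colimit L)) (fun n => DerivedCategory.Q.map (colimit.ι L n)) := by
  obtain ⟨w, hS⟩ := shortExact_one_sub_shift L
  have hT := DerivedCategory.triangleOfSES_distinguished hS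
  let cmp : (∐ fun n => DerivedCategory.Q.obj (L.obj n)) ⟶ DerivedCategory.Q.obj (∐ L.obj) :=
    sigmaComparison (DerivedCategory.Q (C := A)) L.obj
  have hcmp : IsIso cmp := by
    show IsIso (sigmaComparison (DerivedCategory.Q (C := A)) L.obj)
    infer_instance
  let e : (∐ fun n => DerivedCategory.Q.obj (L.obj n)) ≅ DerivedCategory.Q.obj (∐ L.obj) :=
    asIso cmp
  have c1 : (𝟙 _ - DerLim.shiftMap (fun n => DerivedCategory.Q.obj (L.obj n))
      (fun n => DerivedCategory.Q.map (L.map (homOfLE (Nat.le_succ n))))) ≫ cmp =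
      cmp ≫ DerivedCategory.Q.map (uS L) := by
    apply Sigma.hom_ext
    intro n
    rw [← Category.assoc, Preadditive.comp_sub, Category.comp_id, DerLim.shiftMap, Sigma.ι_desc,
      Preadditive.sub_comp, Category.assoc, ι_comp_sigmaComparison, ι_comp_sigmaComparison,
      ← Category.assoc, ι_comp_sigmaComparison, ← Functor.map_comp, ← Functor.map_comp,
      ← Functor.map_sub, ι_uS, tr_of_le L (Nat.le_succ n)]
  have c2 : Sigma.desc (fun n => DerivedCategory.Q.map (colimit.ι L n)) =
      cmp ≫ DerivedCategory.Q.map (Sigma.desc (fun n => colimit.ι L n)) :=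
    (sigmaComparison_map_desc _ _ _ _).symm
  refine ⟨triangleOfSESδ hS ≫ (inv cmp)⟦(1 : ℤ)⟧', ?_⟩
  refine isomorphic_distinguished _ hT _ ?_
  refine Triangle.isoMk _ _ e e (Iso.refl _) c1 ?_ ?_
  · exact (Category.comp_id _).trans c2
  · show (triangleOfSESδ hS ≫ (inv cmp)⟦(1 : ℤ)⟧') ≫ cmp⟦(1 : ℤ)⟧' =
      𝟙 (DerivedCategory.Q.obj (colimit L)) ≫ triangleOfSESδ hS
    rw [Category.id_comp, Category.assoc, ← Functor.map_comp, IsIso.inv_hom_id,
      CategoryTheory.Functor.map_id, Category.comp_id]

end Groth.Agent.Lib.Helper89.HocolimDerived
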