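import Mathlib
import Groth.Prelude.Def_DerLim
import Groth.Agent.Lib.Helper89.HocolimAb

set_option autoImplicit false
universe v v' u u'
open CategoryTheory CategoryTheory.Limits

namespace Groth.Agent.Lib.Helper89.HocolimHomological

open Groth.Agent.Lib.Helper89.HocolimSubseq Groth.Agent.Lib.Helper89.HocolimAb

section Additive

variable {D : Type u} [Category.{v} D] [Preadditive D] {A : Type u'} [Category.{v'} A]
  [Preadditive A] (H : D ⥤ A) [H.Additive] (K : ℕ → D) (f : ∀ n, K n ⟶ K (n + 1))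

/-- the sequence `H (K n)` -/
noncomputable abbrev HF : ℕ ⥤ A := Functor.ofSequence (fun n => H.map (f n))

lemma tr_HF_succ (n : ℕ) : tr (HF H K f) n (n + 1) = H.map (f n) := by
  rw [tr_of_le _ (Nat.le_succ n)]
  exact Functor.ofSequence_map_homOfLE_succ _ n

variable [HasCoproduct K] [HasCoproduct (fun n => H.obj (K n))]

instance hasCoproduct_HF : HasCoproduct (HF H K f).obj :=
  (inferInstance : HasCoproduct (fun n => H.obj (K n)))

/-- comparison map `∐ H(K n) ⟶ H(∐ K)` -/
noncomputable def cmp : ∐ (HF H K f).obj ⟶ H.obj (∐ K) := sigmaComparison H K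

lemma ι_cmp (n : ℕ) : Sigma.ι (HF H K f).obj n ≫ cmp H K f = H.map (Sigma.ι K n) :=
  ι_comp_sigmaComparison H K n

/-- `H(ι_n)` typed with source `(HF H K f).obj n` -/
noncomputable def ιH (n : ℕ) : (HF H K f).obj n ⟶ H.obj (∐ K) := H.map (Sigma.ι K n)

lemma ι_cmp' (n : ℕ) : Sigma.ι (HF H K f).obj n ≫ cmp H K f = ιH H K f n :=
  ι_comp_sigmaComparison H K n

lemma ιH_u (n : ℕ) : ιH H K f n ≫ H.map (𝟙 _ - DerLim.shiftMap K f) =
    ιH H K f n - (HF H K f).map (homOfLE (Nat.le_succ n)) ≫ ιH H K f (n + 1) := by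
  rw [Functor.ofSequence_map_homOfLE_succ]
  show H.map (Sigma.ι K n) ≫ H.map (𝟙 _ - DerLim.shiftMap K f) =
      H.map (Sigma.ι K n) - H.map (f n) ≫ H.map (Sigma.ι K (n + 1))
  rw [← H.map_comp, Preadditive.comp_sub, Category.comp_id, DerLim.shiftMap, Sigma.ι_desc,
    H.map_sub, H.map_comp]

lemma cmp_comm :
    cmp H K f ≫ H.map (𝟙 _ - DerLim.shiftMap K f) = uS (HF H K f) ≫ cmp H K f := by
  apply Sigma.hom_ext
  intro n
  rw [← Category.assoc, ι_cmp', ιH_u, ← Category.assoc, ι_uS, Preadditive.sub_comp,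
    Category.assoc, ι_cmp', ι_cmp', tr_of_le _ (Nat.le_succ n)]

lemma isIso_cmp [PreservesColimit (Discrete.functor K) H] : IsIso (cmp H K f) := by
  show IsIso (sigmaComparison H K)
  infer_instance

end Additive

section Mono

variable {D : Type u} [Category.{v} D] [Preadditive D] {A : Type u'} [Category.{v'} A]
  [Abelian A] [HasColimitsOfShape ℕ A] [HasExactColimitsOfShape ℕ A]
  (H : D ⥤ A) [H.Additive] (K : ℕ → D) (f : ∀ n, K n ⟶ K (n + 1)) [HasCoproduct K]
  [PreservesColimit (Discrete.functor K) H]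

include K in
lemma hasCoproduct_map : HasCoproduct (fun n => H.obj (K n)) :=
  ⟨⟨⟨_, isColimitOfHasCoproductOfPreservesColimit H K⟩⟩⟩

/-- an additive functor to an abelian category with exact `ℕ`-colimits, preserving the coproduct
of the `K n`, maps `1 - shift` to a monomorphism. -/
lemma mono_map_one_sub_shift : Mono (H.map (𝟙 _ - DerLim.shiftMap K f)) := by
  have := hasCoproduct_map H K
  have := isIso_cmp H K f
  have h := cmp_comm H K f
  have h' : H.map (𝟙 _ - DerLim.shiftMap K f) =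
      inv (cmp H K f) ≫ uS (HF H K f) ≫ cmp H K f := by
    rw [← h, IsIso.inv_hom_id_assoc]
  rw [h']
  have := mono_uS (HF H K f)
  infer_instance

end Mono

section Main

open CategoryTheory.Pretriangulated

variable {D : Type u} [Category.{v} D] [Preadditive D] [HasZeroObject D] [HasShift D ℤ]
    [∀ n : ℤ, (shiftFunctor D n).Additive] [Pretriangulated D]
    [HasColimitsOfShape (Discrete ℕ) D]
    {A : Type u'} [Category.{v'} A] [Abelian A] [HasColimitsOfShape ℕ A]
    [HasExactColimitsOfShape ℕ A]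
    (H : D ⥤ A) [H.IsHomological] [PreservesColimitsOfShape (Discrete ℕ) H]

theorem homological_functor_hocolim
    (K : ℕ → D) (f : ∀ n, K n ⟶ K (n + 1)) (L : D) (i : ∀ n, K n ⟶ L)
    (hL : DerLim.IsHocolim K f L i) :
    ∃ e : colimit (Functor.ofSequence (fun n => H.map (f n))) ≅ H.obj L,
      ∀ n : ℕ, colimit.ι (Functor.ofSequence (fun n => H.map (f n))) n ≫ e.hom = H.map (i n) := by
  obtain ⟨c, hc⟩ := hL
  have hcop : HasCoproduct (fun n => H.obj (K n)) := hasCoproduct_map H K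
  have hiso : IsIso (cmp H K f) := isIso_cmp H K f
  set u : ∐ K ⟶ ∐ K := 𝟙 _ - DerLim.shiftMap K f with hu
  -- `H(u[1])` is mono
  have hm1 : Mono (H.map (u⟦(1 : ℤ)⟧')) :=
    mono_map_one_sub_shift (shiftFunctor D (1 : ℤ) ⋙ H) K f
  -- hence `H(c) = 0`
  have hc0 : H.map c = 0 := by
    have h1 : c ≫ u⟦(1 : ℤ)⟧' = 0 := comp_distTriang_mor_zero₃₁ _ hc
    rw [← cancel_mono (H.map (u⟦(1 : ℤ)⟧')), ← H.map_comp, h1, H.map_zero, zero_comp]
  -- hence `H(v)` is epi
  have hepi : Epi (H.map (Sigma.desc i)) :=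
    (H.map_distinguished_exact _ (rot_of_distTriang _ hc)).epi_f hc0
  -- exactness in the middle
  have hex := H.map_distinguished_exact _ hc
  -- transport to `∐ H(K n)`
  have w2 : uS (HF H K f) ≫ cmp H K f ≫ H.map (Sigma.desc i) = 0 := by
    have h12 : u ≫ Sigma.desc i = 0 := comp_distTriang_mor_zero₁₂ _ hc
    rw [← Category.assoc, ← cmp_comm, Category.assoc, ← H.map_comp, h12, H.map_zero, comp_zero]
  let e1 : ∐ (HF H K f).obj ≅ H.obj (∐ K) := asIso (cmp H K f)
  have eiso : ShortComplex.mk _ _ w2 ≅ (shortComplexOfDistTriangle _ hc).map H :=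
    ShortComplex.isoMk e1 e1 (Iso.refl _)
      (cmp_comm H K f) (Category.comp_id _).symm
  have hex2 : (ShortComplex.mk _ _ w2).Exact := ShortComplex.exact_of_iso eiso.symm hex
  have : Epi (ShortComplex.mk _ _ w2).g := by
    dsimp
    infer_instance
  obtain ⟨w1, hS1⟩ := shortExact_one_sub_shift (HF H K f)
  have := hS1.epi_g
  let e := IsColimit.coconePointUniqueUpToIso hS1.exact.gIsCokernel hex2.gIsCokernel
  have he : Sigma.desc (fun n => colimit.ι (HF H K f) n) ≫ e.hom =
      cmp H K f ≫ H.map (Sigma.desc i) :=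
    IsColimit.comp_coconePointUniqueUpToIso_hom hS1.exact.gIsCokernel hex2.gIsCokernel
      WalkingParallelPair.one
  refine ⟨e, fun n => ?_⟩
  have h3 := congrArg (fun t => Sigma.ι (HF H K f).obj n ≫ t) he
  dsimp only at h3
  rw [Sigma.ι_desc_assoc, ← Category.assoc, ι_cmp'] at h3
  rw [h3]
  show H.map (Sigma.ι K n) ≫ H.map (Sigma.desc i) = _
  rw [← H.map_comp, Sigma.ι_desc]

end Main

end Groth.Agent.Lib.Helper89.HocolimHomological
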