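import Mathlib
import Groth.Prelude.Def_DerLim

/-!
# Tools for homotopy colimits: change of vertex, image under a functor, comparison
-/

set_option autoImplicit false
set_option linter.unusedSectionVars false
set_option linter.style.haveILetI false

open CategoryTheory Category Limits Pretriangulated

namespace Groth.Agent.Lib.Helper89.HocolimTools

variable {D : Type*} [Category D] [Preadditive D] [HasZeroObject D] [HasShift D ℤ]
  [∀ n : ℤ, (shiftFunctor D n).Additive] [Pretriangulated D]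

lemma isHocolim_of_iso (K : ℕ → D) (f : ∀ n, K n ⟶ K (n + 1)) [HasCoproduct K] {L L' : D}
    (i : ∀ n, K n ⟶ L) (i' : ∀ n, K n ⟶ L') (e : L ≅ L') (he : ∀ n, i n ≫ e.hom = i' n)
    (h : DerLim.IsHocolim K f L i) : DerLim.IsHocolim K f L' i' := by
  obtain ⟨c, hc⟩ := h
  refine ⟨e.inv ≫ c, isomorphic_distinguished _ hc _
    (Triangle.isoMk _ _ (Iso.refl _) (Iso.refl _) e.symm ?_ ?_ ?_)⟩
  · exact (Category.comp_id _).trans (Category.id_comp _).symm
  · show Sigma.desc i' ≫ e.inv = 𝟙 _ ≫ Sigma.desc i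
    rw [Category.id_comp, ← cancel_mono e.hom, Category.assoc, Iso.inv_hom_id, Category.comp_id]
    apply Sigma.hom_ext
    intro n
    simp [he]
  · show (e.inv ≫ c) ≫ (shiftFunctor D (1 : ℤ)).map (𝟙 _) = e.inv ≫ c
    rw [CategoryTheory.Functor.map_id, Category.comp_id]

variable {E : Type*} [Category E] [Preadditive E] [HasZeroObject E] [HasShift E ℤ]
  [∀ n : ℤ, (shiftFunctor E n).Additive] [Pretriangulated E]

/-- a functor sending distinguished triangles to distinguished triangles and preserving the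
relevant coproduct preserves homotopy colimits -/
lemma map_isHocolim (R : D ⥤ E) [R.Additive]
    (hR : ∀ T ∈ distTriang D, ∃ δ : R.obj T.obj₃ ⟶ (R.obj T.obj₁)⟦(1 : ℤ)⟧,
      Triangle.mk (R.map T.mor₁) (R.map T.mor₂) δ ∈ distTriang E)
    (K : ℕ → D) (f : ∀ n, K n ⟶ K (n + 1)) [HasCoproduct K]
    [HasCoproduct (fun n => R.obj (K n))] [PreservesColimit (Discrete.functor K) R]
    {L : D} (i : ∀ n, K n ⟶ L) (h : DerLim.IsHocolim K f L i) :
    DerLim.IsHocolim (fun n => R.obj (K n)) (fun n => R.map (f n)) (R.obj L)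
      (fun n => R.map (i n)) := by
  obtain ⟨c, hc⟩ := h
  obtain ⟨δ, hδ⟩ : ∃ δ : R.obj L ⟶ (R.obj (∐ K))⟦(1 : ℤ)⟧,
      Triangle.mk (R.map (𝟙 _ - DerLim.shiftMap K f)) (R.map (Sigma.desc i)) δ ∈ distTriang E :=
    hR _ hc
  let cmp : (∐ fun n => R.obj (K n)) ⟶ R.obj (∐ K) := sigmaComparison R K
  haveI hcmp : IsIso cmp := by
    show IsIso (sigmaComparison R K)
    infer_instance
  let e : (∐ fun n => R.obj (K n)) ≅ R.obj (∐ K) := asIso cmp
  have c1 : (𝟙 _ - DerLim.shiftMap (fun n => R.obj (K n)) (fun n => R.map (f n))) ≫ cmp =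
      cmp ≫ R.map (𝟙 _ - DerLim.shiftMap K f) := by
    apply Sigma.hom_ext
    intro n
    rw [← Category.assoc, Preadditive.comp_sub, Category.comp_id, DerLim.shiftMap, Sigma.ι_desc,
      Preadditive.sub_comp, Category.assoc, ι_comp_sigmaComparison, ι_comp_sigmaComparison,
      ← Category.assoc, ι_comp_sigmaComparison, ← Functor.map_comp, ← Functor.map_comp,
      ← Functor.map_sub, Preadditive.comp_sub, Category.comp_id, DerLim.shiftMap, Sigma.ι_desc]
  have c2 : Sigma.desc (fun n => R.map (i n)) = cmp ≫ R.map (Sigma.desc i) :=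
    (sigmaComparison_map_desc _ _ _ _).symm
  refine ⟨δ ≫ (e.inv)⟦(1 : ℤ)⟧', ?_⟩
  refine isomorphic_distinguished _ hδ _ ?_
  refine Triangle.isoMk _ _ e e (Iso.refl _) c1 ?_ ?_
  · exact (Category.comp_id _).trans c2
  · show (δ ≫ (e.inv)⟦(1 : ℤ)⟧') ≫ (e.hom)⟦(1 : ℤ)⟧' = 𝟙 _ ≫ δ
    rw [Category.id_comp, Category.assoc, ← Functor.map_comp, Iso.inv_hom_id,
      CategoryTheory.Functor.map_id, Category.comp_id]

/-- comparison of two homotopy colimits of isomorphic systems: a compatible morphism between the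
vertices is an isomorphism, provided isomorphisms are detected by a family of homological functors
which are eventually epimorphic on the first system -/
theorem isIso_of_isHocolim {B : Type*} [Category B] [Abelian B] (H : ℤ → (E ⥤ B))
    [∀ k, (H k).IsHomological]
    (hcons : ∀ {X Y : E} (φ : X ⟶ Y), (∀ k, IsIso ((H k).map φ)) → IsIso φ)
    (X : ℕ → E) (f : ∀ n, X n ⟶ X (n + 1)) [HasCoproduct X] (X' : E) (i : ∀ n, X n ⟶ X')
    (hX : DerLim.IsHocolim X f X' i)
    (Y : ℕ → E) (g : ∀ n, Y n ⟶ Y (n + 1)) [HasCoproduct Y] (Y' : E) (j : ∀ n, Y n ⟶ Y')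
    (hY : DerLim.IsHocolim Y g Y' j)
    (θ : ∀ n, X n ≅ Y n) (hθ : ∀ n, f n ≫ (θ (n + 1)).hom = (θ n).hom ≫ g n)
    (φ : X' ⟶ Y') (hφ : ∀ n, i n ≫ φ = (θ n).hom ≫ j n)
    (hstab : ∀ k, ∃ n, Epi ((H k).map (i n))) : IsIso φ := by
  obtain ⟨cX, hcX⟩ := hX
  obtain ⟨cY, hcY⟩ := hY
  let a : (∐ X) ⟶ ∐ Y := Limits.Sigma.map (fun n => (θ n).hom)
  haveI : IsIso a := by
    refine ⟨Limits.Sigma.map (fun n => (θ n).inv), ?_, ?_⟩
    · apply Sigma.hom_ext
      intro n
      simp [a]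
    · apply Sigma.hom_ext
      intro n
      simp [a]
  have sq1 : (𝟙 _ - DerLim.shiftMap X f) ≫ a = a ≫ (𝟙 _ - DerLim.shiftMap Y g) := by
    apply Sigma.hom_ext
    intro n
    simp only [a, Preadditive.sub_comp, Preadditive.comp_sub, Category.id_comp, Category.comp_id,
      DerLim.shiftMap, Sigma.ι_desc_assoc, Sigma.ι_map, Sigma.ι_map_assoc, Sigma.ι_desc,
      Category.assoc]
    rw [← reassoc_of% (hθ n)]
  obtain ⟨c', hc'₁, hc'₂⟩ : ∃ c' : X' ⟶ Y', Sigma.desc i ≫ c' = a ≫ Sigma.desc j ∧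
      cX ≫ a⟦(1 : ℤ)⟧' = c' ≫ cY :=
    complete_distinguished_triangle_morphism _ _ hcX hcY a a sq1
  have hc'iso : IsIso c' := by
    let ψ : Triangle.mk (𝟙 (∐ X) - DerLim.shiftMap X f) (Sigma.desc i) cX ⟶
        Triangle.mk (𝟙 (∐ Y) - DerLim.shiftMap Y g) (Sigma.desc j) cY :=
      { hom₁ := a
        hom₂ := a
        hom₃ := c'
        comm₁ := sq1
        comm₂ := hc'₁
        comm₃ := hc'₂ }
    exact isIso₃_of_isIso₁₂ ψ hcX hcY (inferInstanceAs (IsIso a)) (inferInstanceAs (IsIso a))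
  have hφ' : Sigma.desc i ≫ φ = a ≫ Sigma.desc j := by
    apply Sigma.hom_ext
    intro n
    simp [a, hφ]
  have hd : Sigma.desc i ≫ (φ - c') = 0 := by
    rw [Preadditive.comp_sub, hφ', hc'₁, sub_self]
  obtain ⟨x, hx⟩ : ∃ x : (∐ X)⟦(1 : ℤ)⟧ ⟶ Y', φ - c' = cX ≫ x :=
    Triangle.yoneda_exact₃ _ hcX (φ - c') hd
  apply hcons
  intro k
  obtain ⟨n, hn⟩ := hstab k
  have hepi : Epi ((H k).map (Sigma.desc i)) := by
    have e1 : (H k).map (Sigma.ι X n) ≫ (H k).map (Sigma.desc i) = (H k).map (i n) := by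
      rw [← Functor.map_comp, Sigma.ι_desc]
    exact epi_of_epi_fac e1
  have h0 : (H k).map cX = 0 := by
    have h23 : Sigma.desc i ≫ cX = 0 := comp_distTriang_mor_zero₂₃ _ hcX
    rw [← cancel_epi ((H k).map (Sigma.desc i)), ← Functor.map_comp, h23, Functor.map_zero,
      Limits.comp_zero]
  have h1 : (H k).map φ = (H k).map c' := by
    have : φ = c' + cX ≫ x := by
      rw [← hx]
      abel
    rw [this, Functor.map_add, Functor.map_comp, h0, Limits.zero_comp, add_zero]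
  rw [h1]
  infer_instance

end Groth.Agent.Lib.Helper89.HocolimTools
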