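import Groth.Agent.Lib.Helper89.SigmaExact2
import Groth.Agent.Lib.Helper89.CompactPreserves
import Groth.Agent.Lib.Helper89.HocolimDerived
import Groth.Agent.Lib.Helper89.HocolimHomological
import Groth.Prelude.Def_DRing2
import Groth.Prelude.Def_Wider
import Groth.Prelude.Def_CohDer

set_option autoImplicit false
universe u
open CategoryTheory CategoryTheory.Limits Opposite
attribute [local instance] HasDerivedCategory.standard

namespace Helper89.HomColim

open DerivedCategory

section Gen

variable {D : Type*} [Category D] {A : Type*} [Category A]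

lemma ofSequence_map_eq (L : ℕ ⥤ D) (H : D ⥤ A) {n m : ℕ} (h : n ≤ m) :
    (Functor.ofSequence (fun n => H.map (L.map (homOfLE (Nat.le_succ n))))).map (homOfLE h) =
      H.map (L.map (homOfLE h)) := by
  induction m, h using Nat.le_induction with
  | base =>
    have : homOfLE (le_refl n) = 𝟙 n := rfl
    rw [this, CategoryTheory.Functor.map_id, CategoryTheory.Functor.map_id,
      CategoryTheory.Functor.map_id]
    rfl
  | succ m h ih =>
    have : homOfLE (h.trans (Nat.le_succ m)) = homOfLE h ≫ homOfLE (Nat.le_succ m) := rfl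
    rw [this, CategoryTheory.Functor.map_comp, ih, Functor.ofSequence_map_homOfLE_succ,
      CategoryTheory.Functor.map_comp, CategoryTheory.Functor.map_comp]
    rfl

end Gen

section Main

variable (R : Type u) [CommRing R]

instance : EnoughInjectives (ModuleCat.{u} R) := inferInstance

instance hasExactColimitsOfShape_nat_moduleCat : HasExactColimitsOfShape ℕ (ModuleCat.{u} R) := by
  have : AB5OfSize.{0, 0} (ModuleCat.{u} R) := AB5OfSize_of_univLE.{0, 0, u, u} (ModuleCat.{u} R)
  infer_instance

instance hasExactColimitsOfShape_nat_ab : HasExactColimitsOfShape ℕ (AddCommGrpCat.{u}) := by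
  have : AB5OfSize.{0, 0} (AddCommGrpCat.{u}) :=
    AB5OfSize_of_univLE.{0, 0, u, u} (AddCommGrpCat.{u})
  infer_instance

lemma preservesColimitsOfShape_ulift (K : Dual.D R)
    (hK : ∀ (E : ℕ → Dual.D R) [HasCoproduct fun i : ULift.{u + 1} ℕ => E i.down],
      Function.Bijective (CohDer.homSumToHomCoprod K (fun i : ULift.{u + 1} ℕ => E i.down))) :
    PreservesColimitsOfShape (Discrete ℕ) (preadditiveCoyoneda.obj (op K)) := by
  haveI : HasCoproductsOfShape (ULift.{u + 1} ℕ) (ModuleCat.{u} R) := inferInstance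
  haveI : HasCoproductsOfShape (ULift.{u + 1} ℕ) (Dual.D R) :=
    Helper89.SigmaExact.hasCoproductsOfShape_derivedCategory
  have h1 : PreservesColimitsOfShape (Discrete (ULift.{u + 1} ℕ))
      (preadditiveCoyoneda.obj (op K)) := by
    constructor
    intro F
    let E : ℕ → Dual.D R := fun n => F.obj ⟨⟨n⟩⟩
    have := Helper89.CompactPreserves.preservesColimit_of_bijective K
      (fun i : ULift.{u + 1} ℕ => E i.down) (hK E)
    have e : F ≅ Discrete.functor (fun i : ULift.{u + 1} ℕ => E i.down) :=
      Discrete.natIso (fun ⟨i⟩ => Iso.refl _)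
    exact preservesColimit_of_iso_diagram _ e.symm
  exact preservesColimitsOfShape_of_equiv (Discrete.equivalence Equiv.ulift) _

theorem main (K : Dual.D R)
    (hK : ∀ (E : ℕ → Dual.D R) [HasCoproduct fun i : ULift.{u + 1} ℕ => E i.down],
      Function.Bijective (CohDer.homSumToHomCoprod K (fun i : ULift.{u + 1} ℕ => E i.down)))
    (L : ℕ ⥤ DRing.Cx R) (c : Cocone L) (hc : IsColimit c) :
    (∀ x : K ⟶ DRing.toD c.pt, ∃ (n : ℕ) (y : K ⟶ DRing.toD (L.obj n)),
        y ≫ DerivedCategory.Q.map (c.ι.app n) = x) ∧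
      (∀ (n : ℕ) (y : K ⟶ DRing.toD (L.obj n)), y ≫ DerivedCategory.Q.map (c.ι.app n) = 0 →
        ∃ (m : ℕ) (h : n ≤ m), y ≫ DerivedCategory.Q.map (L.map (homOfLE h)) = 0) := by
  have : HasCoproductsOfShape ℕ (Dual.D R) :=
    Helper89.SigmaExact.hasCoproductsOfShape_derivedCategory
  have hpres := preservesColimitsOfShape_ulift R K hK
  let H : Dual.D R ⥤ AddCommGrpCat.{u + 1} := preadditiveCoyoneda.obj (op K)
  have hoc := Groth.Agent.Lib.Helper89.HocolimDerived.isHocolim_of_colimit L
  obtain ⟨e, he⟩ := Groth.Agent.Lib.Helper89.HocolimHomological.homological_functor_hocolim H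
    _ _ _ _ hoc
  let G : ℕ ⥤ AddCommGrpCat.{u + 1} := Functor.ofSequence
    (fun n => H.map (Q.map (L.map (homOfLE (Nat.le_succ n)))))
  have hG : ∀ {n m : ℕ} (h : n ≤ m) (y : K ⟶ Q.obj (L.obj n)),
      (G.map (homOfLE h)).hom y = y ≫ Q.map (L.map (homOfLE h)) := by
    intro n m h y
    have := ofSequence_map_eq (L ⋙ Q) H h
    exact congr_arg (fun f => f.hom y) this
  have he' : ∀ (n : ℕ) (y : K ⟶ Q.obj (L.obj n)),
      e.hom.hom ((colimit.ι G n).hom y) = y ≫ Q.map (colimit.ι L n) := by
    intro n y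
    exact congr_arg (fun f => f.hom y) (he n)
  have hfp : PreservesFilteredColimitsOfSize.{0, 0} (forget AddCommGrpCat.{u + 1}) :=
    preservesSmallestFilteredColimits_of_preservesFilteredColimits.{u + 1, u + 1} _
  have hGp : PreservesColimit G (forget AddCommGrpCat.{u + 1}) := inferInstance
  let iso : c.pt ≅ colimit L := hc.coconePointUniqueUpToIso (colimit.isColimit L)
  have hiso : ∀ n, c.ι.app n ≫ iso.hom = colimit.ι L n := fun n =>
    hc.comp_coconePointUniqueUpToIso_hom (colimit.isColimit L) n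
  have hiso' : ∀ n, colimit.ι L n ≫ iso.inv = c.ι.app n := fun n => by
    rw [← hiso n, Category.assoc, Iso.hom_inv_id, Category.comp_id]
  constructor
  · intro x
    let x' : K ⟶ Q.obj (colimit L) := x ≫ Q.map iso.hom
    obtain ⟨n, y0, hy⟩ := Concrete.colimit_exists_rep G (e.inv.hom x')
    let y : K ⟶ Q.obj (L.obj n) := y0
    refine ⟨n, y, ?_⟩
    have h1 : y ≫ Q.map (colimit.ι L n) = x' := by
      rw [← he' n y]
      have : (colimit.ι G n).hom y = e.inv.hom x' := hy
      rw [this]
      exact congr_arg (fun f => f.hom x') e.inv_hom_id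
    have h2 : Q.map (c.ι.app n) = Q.map (colimit.ι L n) ≫ Q.map iso.inv := by
      rw [← Q.map_comp, hiso' n]
    have h3 : Q.map iso.hom ≫ Q.map iso.inv = 𝟙 (Q.obj c.pt) := by
      rw [← Q.map_comp, Iso.hom_inv_id, Q.map_id]
    calc y ≫ Q.map (c.ι.app n) = (y ≫ Q.map (colimit.ι L n)) ≫ Q.map iso.inv := by
          rw [h2, Category.assoc]
      _ = (x ≫ Q.map iso.hom) ≫ Q.map iso.inv := by rw [h1]
      _ = x := by rw [Category.assoc, h3, Category.comp_id]
  · intro n y hy
    have h1 : y ≫ Q.map (colimit.ι L n) = 0 := by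
      have : Q.map (colimit.ι L n) = Q.map (c.ι.app n) ≫ Q.map iso.hom := by
        rw [← Q.map_comp, hiso n]
      rw [this, ← Category.assoc, hy, zero_comp]
    have hinj : Function.Injective e.hom.hom := by
      intro a b hab
      have := congr_arg e.inv.hom hab
      have h3 : ∀ a, e.inv.hom (e.hom.hom a) = a := fun a =>
        congr_arg (fun f => f.hom a) e.hom_inv_id
      rwa [h3, h3] at this
    have h2 : (colimit.ι G n).hom y = (colimit.ι G n).hom (0 : K ⟶ Q.obj (L.obj n)) := by
      apply hinj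
      rw [he' n y, he' n 0, h1, zero_comp]
    obtain ⟨k, f, g, hfg⟩ := Concrete.colimit_exists_of_rep_eq G
      (y : ToType (G.obj n)) ((0 : K ⟶ Q.obj (L.obj n)) : ToType (G.obj n)) h2
    refine ⟨k, leOfHom f, ?_⟩
    have h4 : (G.map f).hom y = 0 := by
      have : (G.map g).hom (0 : K ⟶ Q.obj (L.obj n)) = 0 := map_zero _
      exact hfg.trans this
    exact (hG (leOfHom f) y).symm.trans h4

end Main

end Helper89.HomColim
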