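import Mathlib

/-!
# Helper89: a pretriangulated category with countable coproducts (or products) is idempotent complete
(`split_of_coprod`: explicit splitting through the cone of `1 - shift_e` on `∐_ℕ X`, which is a split mono).
-/

set_option autoImplicit false
universe v u
open CategoryTheory CategoryTheory.Limits CategoryTheory.Pretriangulated

namespace Helper89.IdemSplit

set_option backward.defeqAttrib.useBackward true in
set_option backward.isDefEq.respectTransparency false in
theorem split_of_coprod {D : Type u} [Category.{v} D] [Preadditive D] [HasZeroObject D]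
    [HasShift D ℤ] [∀ n : ℤ, (shiftFunctor D n).Additive] [Pretriangulated D]
    {X : D} (e : X ⟶ X) (he : e ≫ e = e) [HasCoproduct (fun _ : ℕ => X)] :
    ∃ (Y : D) (j : Y ⟶ X) (q : X ⟶ Y), j ≫ q = 𝟙 Y ∧ q ≫ j = e := by
  classical
  let S : D := ∐ (fun _ : ℕ => X)
  let ι : ℕ → (X ⟶ S) := fun n => Sigma.ι (fun _ : ℕ => X) n
  let σ : S ⟶ S := Sigma.desc (fun n => e ≫ ι (n + 1))
  let ρ : S ⟶ S := Sigma.desc (fun m => ι m - ∑ n ∈ Finset.range (m + 1), e ≫ ι n)
  have hισ : ∀ n, ι n ≫ σ = e ≫ ι (n + 1) := fun n => Sigma.ι_desc _ _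
  have hιρ : ∀ m, ι m ≫ ρ = ι m - ∑ n ∈ Finset.range (m + 1), e ≫ ι n := fun m => Sigma.ι_desc _ _
  have hρ : (𝟙 S - σ) ≫ ρ = 𝟙 S := by
    apply Sigma.hom_ext
    intro m
    change ι m ≫ (𝟙 S - σ) ≫ ρ = ι m ≫ 𝟙 S
    rw [Preadditive.sub_comp, Preadditive.comp_sub, Category.id_comp, Category.comp_id,
      ← Category.assoc, hισ, Category.assoc, hιρ, hιρ, Preadditive.comp_sub,
      Preadditive.comp_sum, Finset.sum_range_succ _ (m + 1)]
    simp only [← Category.assoc, he]
    abel
  have hmono : Mono (𝟙 S - σ) := mono_of_mono_fac hρ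
  obtain ⟨Y, π, c, hT⟩ := distinguished_cocone_triangle (𝟙 S - σ)
  have hc : c = 0 := Triangle.mor₃_eq_zero_of_mono₁ _ hT hmono
  have hepi : Epi π := Triangle.epi₂ _ hT hc
  have hπ : (𝟙 S - σ) ≫ π = 0 := comp_distTriang_mor_zero₁₂ _ hT
  have R : ∀ n, ι n ≫ π = e ≫ ι (n + 1) ≫ π := by
    intro n
    have := congrArg (fun t => ι n ≫ t) hπ
    simp only [Preadditive.sub_comp, Preadditive.comp_sub, Category.id_comp, comp_zero,
      sub_eq_zero] at this
    rw [this, ← Category.assoc, hισ, Category.assoc]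
  have A : ∀ n, e ≫ ι n ≫ π = ι n ≫ π := by
    intro n
    rw [R n, ← Category.assoc, he]
  have B : ∀ n, ι n ≫ π = ι 0 ≫ π := by
    intro n
    induction n with
    | zero => rfl
    | succ n ih => rw [← A (n + 1), ← R n, ih]
  let ê : S ⟶ X := Sigma.desc (fun _ => e)
  have hιê : ∀ n, ι n ≫ ê = e := fun n => Sigma.ι_desc _ _
  have hê : (𝟙 S - σ) ≫ ê = 0 := by
    apply Sigma.hom_ext
    intro n
    change ι n ≫ (𝟙 S - σ) ≫ ê = ι n ≫ 0
    rw [Preadditive.sub_comp, Preadditive.comp_sub, Category.id_comp, ← Category.assoc, hισ,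
      Category.assoc, hιê, hιê, he, sub_self, comp_zero]
  obtain ⟨j, hj⟩ := Triangle.yoneda_exact₂ _ hT ê hê
  change ê = π ≫ j at hj
  refine ⟨Y, j, ι 0 ≫ π, ?_, ?_⟩
  · rw [← cancel_epi π, ← Category.assoc, ← hj, Category.comp_id]
    apply Sigma.hom_ext
    intro n
    change ι n ≫ ê ≫ ι 0 ≫ π = ι n ≫ π
    rw [← Category.assoc, hιê, A 0, B n]
  · rw [Category.assoc, ← hj, hιê]

theorem isIdempotentComplete_of_coprod {D : Type u} [Category.{v} D] [Preadditive D]
    [HasZeroObject D] [HasShift D ℤ] [∀ n : ℤ, (shiftFunctor D n).Additive] [Pretriangulated D]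
    [HasColimitsOfShape (Discrete ℕ) D] : IsIdempotentComplete D :=
  ⟨fun _ e he => split_of_coprod e he⟩

open CategoryTheory.Pretriangulated.Opposite in
theorem isIdempotentComplete_of_prod {D : Type u} [Category.{v} D] [Preadditive D]
    [HasZeroObject D] [HasShift D ℤ] [∀ n : ℤ, (shiftFunctor D n).Additive] [Pretriangulated D]
    [HasLimitsOfShape (Discrete ℕ) D] : IsIdempotentComplete D := by
  rw [← Idempotents.isIdempotentComplete_iff_opposite]
  exact isIdempotentComplete_of_coprod (D := Dᵒᵖ)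

end Helper89.IdemSplit
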