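import Mathlib

set_option autoImplicit false
set_option linter.unusedSectionVars false
universe v u
open CategoryTheory CategoryTheory.Limits CochainComplex.HomComplex

namespace Helper89.KInjExt

variable {A : Type u} [Category.{v} A] [Abelian A]

/-- a cocycle of degree `1` from an acyclic complex to a K-injective complex is a coboundary -/
lemma exists_cochain_of_cocycle_one (C I : CochainComplex A ℤ) [I.IsKInjective] (hC : C.Acyclic)
    (γ : Cochain C I 1) (hγ : δ 1 2 γ = 0) : ∃ β : Cochain C I 0, δ 0 1 β = γ := by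
  let γ' : Cochain C (I⟦(1 : ℤ)⟧) 0 := γ.rightShift 1 0 (zero_add 1)
  have hγ' : δ 0 1 γ' = 0 := by
    rw [Cochain.δ_rightShift γ 1 0 1 (zero_add 1) 2 (by omega), hγ]
    simp
  let f : C ⟶ I⟦(1 : ℤ)⟧ := Cocycle.homOf (Cocycle.mk γ' 1 (zero_add 1) hγ')
  have hf : Cochain.ofHom f = γ' := Cocycle.cochain_ofHom_homOf_eq_coe _
  let ho : Homotopy f 0 := CochainComplex.IsKInjective.homotopyZero f hC
  obtain ⟨z, hz⟩ := Cochain.equivHomotopy f 0 ho
  rw [Cochain.ofHom_zero, add_zero, hf] at hz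
  refine ⟨-(z.rightUnshift 0 (by omega)), ?_⟩
  rw [δ_neg, Cochain.δ_rightUnshift z 0 (by omega) 1 0 (by omega), ← hz,
    Cochain.rightUnshift_rightShift]
  simp


/-- extension of chain maps into a K-injective complex of injectives along a monomorphism with
acyclic cokernel -/
theorem exists_extension (I : CochainComplex A ℤ) [I.IsKInjective] (hI : ∀ n : ℤ, Injective (I.X n))
    (S : ShortComplex (CochainComplex A ℤ)) (hS : S.ShortExact) (hC : S.X₃.Acyclic)
    (φ : S.X₁ ⟶ I) : ∃ ψ : S.X₂ ⟶ I, S.f ≫ ψ = φ := by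
  have hT : ∀ n : ℤ, (S.map (HomologicalComplex.eval A (ComplexShape.up ℤ) n)).ShortExact :=
    fun n => hS.map_of_exact _
  have hmono : ∀ n : ℤ, Mono (S.f.f n) := fun n => (hT n).mono_f
  have hepi : ∀ n : ℤ, Epi (S.g.f n) := fun n => (hT n).epi_g
  -- termwise extension
  let ψ₀ : ∀ n : ℤ, S.X₂.X n ⟶ I.X n := fun n => Injective.factorThru (φ.f n) (S.f.f n)
  have hψ₀ : ∀ n, S.f.f n ≫ ψ₀ n = φ.f n := fun n => Injective.comp_factorThru _ _
  let ψ₀c : Cochain S.X₂ I 0 := Cochain.ofHoms ψ₀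
  have fact1 : (Cochain.ofHom S.f).comp ψ₀c (zero_add 0) = Cochain.ofHom φ := by
    ext p
    simp [ψ₀c, hψ₀]
  let e : Cochain S.X₂ I 1 := δ 0 1 ψ₀c
  have fact2 : (Cochain.ofHom S.f).comp e (zero_add 1) = 0 := by
    rw [← δ_ofHom_comp, fact1, δ_ofHom]
  have fact2' : ∀ (p q : ℤ) (hpq : p + 1 = q), S.f.f p ≫ e.v p q hpq = 0 := by
    intro p q hpq
    have := Cochain.congr_v fact2 p q hpq
    simpa using this
  have hdesc : ∀ (p q : ℤ) (hpq : p + 1 = q), ∃ g : S.X₃.X p ⟶ I.X q,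
      S.g.f p ≫ g = e.v p q hpq := by
    intro p q hpq
    haveI := (hT p).epi_g
    exact ⟨(hT p).exact.desc (e.v p q hpq) (fact2' p q hpq), (hT p).exact.g_desc _ _⟩
  choose γv hγv using hdesc
  let γ : Cochain S.X₃ I 1 := Cochain.mk γv
  have hγ : ∀ (p q : ℤ) (hpq : p + 1 = q), S.g.f p ≫ γ.v p q hpq = e.v p q hpq := by
    intro p q hpq
    exact hγv p q hpq
  have fact3 : (Cochain.ofHom S.g).comp γ (zero_add 1) = e := by
    ext p q hpq
    simp [hγ]
  have fact4 : δ 1 2 γ = 0 := by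
    have h1 : (Cochain.ofHom S.g).comp (δ 1 2 γ) (zero_add 2) = 0 := by
      rw [← δ_ofHom_comp, fact3]
      exact δ_δ 0 1 2 ψ₀c
    ext p q hpq
    have := Cochain.congr_v h1 p q hpq
    simp only [Cochain.zero_cochain_comp_v, Cochain.ofHom_v, Cochain.zero_v] at this
    rw [Cochain.zero_v, ← cancel_epi (S.g.f p), this, comp_zero]
  obtain ⟨β, hβ⟩ := exists_cochain_of_cocycle_one S.X₃ I hC γ fact4
  let ψc : Cochain S.X₂ I 0 := ψ₀c - (Cochain.ofHom S.g).comp β (zero_add 0)
  have hψc : δ 0 1 ψc = 0 := by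
    rw [δ_sub, δ_ofHom_comp, hβ, fact3]
    exact sub_self _
  refine ⟨Cocycle.homOf (Cocycle.mk ψc 1 (zero_add 1) hψc), ?_⟩
  apply Cochain.ofHom_injective
  rw [Cochain.ofHom_comp, Cocycle.cochain_ofHom_homOf_eq_coe]
  change (Cochain.ofHom S.f).comp ψc (zero_add 0) = _
  rw [Cochain.comp_sub, fact1, ← Cochain.comp_assoc_of_first_is_zero_cochain, ← Cochain.ofHom_comp,
    S.zero, Cochain.ofHom_zero, Cochain.zero_comp, sub_zero]


open CochainComplex in
lemma acyclic_shift (K : CochainComplex A ℤ) (hK : K.Acyclic) (n : ℤ) : (K⟦n⟧).Acyclic := by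
  rw [← HomotopyCategory.quotient_obj_mem_subcategoryAcyclic_iff_acyclic] at hK ⊢
  exact ObjectProperty.prop_of_iso _
    (((HomotopyCategory.quotient A (.up ℤ)).commShiftIso n).symm.app K)
    ((HomotopyCategory.subcategoryAcyclic A).le_shift n _ hK)

open CochainComplex in
/-- the extension property implies K-injectivity -/
lemma isKInjective_of_extension (I : CochainComplex A ℤ)
    (hE : ∀ (S : ShortComplex (CochainComplex A ℤ)), S.ShortExact → S.X₃.Acyclic →
        ∀ φ : S.X₁ ⟶ I, ∃ ψ : S.X₂ ⟶ I, S.f ≫ ψ = φ) : I.IsKInjective where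
  nonempty_homotopy_zero {K} f hK := by
    let S := mappingCone.triangleRotateShortComplex (𝟙 K)
    have hS : S.ShortExact := HomologicalComplex.shortExact_of_degreewise_shortExact S
      (fun n => (mappingCone.triangleRotateShortComplexSplitting (𝟙 K) n).shortExact)
    obtain ⟨ψ, hψ'⟩ : ∃ ψ : mappingCone (𝟙 K) ⟶ I, mappingCone.inr (𝟙 K) ≫ ψ = f :=
      hE S hS (acyclic_shift K hK 1) f
    let z : Cochain K I (-1) := (mappingCone.inl (𝟙 K)).comp (Cochain.ofHom ψ) (add_zero (-1))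
    have hz : δ (-1) 0 z = Cochain.ofHom f := by
      change δ (-1) 0 ((mappingCone.inl (𝟙 K)).comp (Cochain.ofHom ψ) (add_zero (-1))) = _
      rw [δ_comp_ofHom, mappingCone.δ_inl, ← Cochain.ofHom_comp, Category.id_comp, hψ']
    exact ⟨(Cochain.equivHomotopy f 0).symm ⟨z, by rw [hz, Cochain.ofHom_zero, add_zero]⟩⟩


section Disk

open HomologicalComplex

variable (n : ℤ)

lemma hrel : (ComplexShape.up ℤ).Rel n (n + 1) := rfl

lemma hne : n ≠ n + 1 := by omega

/-- the disk complex: `X` in degrees `n` and `n+1` with identity differential -/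
noncomputable abbrev disk (X : A) : CochainComplex A ℤ := double (𝟙 X) (hrel n)

/-- functoriality of the disk complex -/
noncomputable def diskMap {X Y : A} (u : X ⟶ Y) : disk n X ⟶ disk n Y :=
  mkHomFromDouble (hrel n) (hne n) (u ≫ (doubleXIso₀ (𝟙 Y) (hrel n)).inv)
    (u ≫ (doubleXIso₁ (𝟙 Y) (hrel n) (hne n)).inv) (by
      rw [double_d _ _ (hne n)]
      simp) (by
      intro k _
      rw [double_d_eq_zero₀ _ _ _ _ (hne n).symm, comp_zero])

lemma diskMap_f₀ {X Y : A} (u : X ⟶ Y) : (diskMap n u).f n =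
    (doubleXIso₀ (𝟙 X) (hrel n)).hom ≫ u ≫ (doubleXIso₀ (𝟙 Y) (hrel n)).inv :=
  mkHomFromDouble_f₀ _ _ _ _ _ _

lemma diskMap_f₁ {X Y : A} (u : X ⟶ Y) : (diskMap n u).f (n + 1) =
    (doubleXIso₁ (𝟙 X) (hrel n) (hne n)).hom ≫ u ≫ (doubleXIso₁ (𝟙 Y) (hrel n) (hne n)).inv :=
  mkHomFromDouble_f₁ _ _ _ _ _ _

lemma diskMap_comp {X Y Z : A} (u : X ⟶ Y) (w : Y ⟶ Z) :
    diskMap n u ≫ diskMap n w = diskMap n (u ≫ w) := by
  apply from_double_hom_ext
  · rw [comp_f, diskMap_f₀, diskMap_f₀, diskMap_f₀]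
    simp
  · rw [comp_f, diskMap_f₁, diskMap_f₁, diskMap_f₁]
    simp

lemma diskMap_zero {X Y : A} : diskMap n (0 : X ⟶ Y) = 0 := by
  apply from_double_hom_ext
  · rw [diskMap_f₀]
    simp
  · rw [diskMap_f₁]
    simp

lemma disk_acyclic (Z : A) : (disk n Z).Acyclic := by
  intro k
  by_cases h0 : k = n
  · subst h0
    rw [exactAt_iff' _ (k - 1) k (k + 1) (by simp) (by simp)]
    have hf : (disk k Z).d (k - 1) k = 0 := double_d_eq_zero₀ _ _ _ _ (by omega)
    rw [ShortComplex.exact_iff_mono _ hf]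
    change Mono ((disk k Z).d k (k + 1))
    rw [double_d _ _ (hne k)]
    infer_instance
  · by_cases h1 : k = n + 1
    · subst h1
      rw [exactAt_iff' _ n (n + 1) (n + 1 + 1) (by simp) (by simp)]
      have hg : (disk n Z).d (n + 1) (n + 1 + 1) = 0 := double_d_eq_zero₀ _ _ _ _ (by omega)
      rw [ShortComplex.exact_iff_epi _ hg]
      change Epi ((disk n Z).d n (n + 1))
      rw [double_d _ _ (hne n)]
      infer_instance
    · exact ShortComplex.exact_of_isZero_X₂ _ (isZero_double_X (𝟙 Z) (hrel n) k h0 h1)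

/-- the short complex of disk complexes attached to a monomorphism and its cokernel -/
noncomputable abbrev diskSC {X Y : A} (i : X ⟶ Y) : ShortComplex (CochainComplex A ℤ) :=
  ShortComplex.mk (diskMap n i) (diskMap n (cokernel.π i))
    (by rw [diskMap_comp, cokernel.condition, diskMap_zero])

lemma baseSE {X Y : A} (i : X ⟶ Y) [Mono i] :
    (ShortComplex.mk i (cokernel.π i) (cokernel.condition i)).ShortExact :=
  ShortComplex.ShortExact.mk (ShortComplex.exact_cokernel i)

lemma diskSC_shortExact {X Y : A} (i : X ⟶ Y) [Mono i] : (diskSC n i).ShortExact := by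
  apply HomologicalComplex.shortExact_of_degreewise_shortExact
  intro k
  by_cases h0 : k = n
  · subst h0
    refine ShortComplex.shortExact_of_iso
      (ShortComplex.isoMk (doubleXIso₀ (𝟙 X) (hrel k)).symm (doubleXIso₀ (𝟙 Y) (hrel k)).symm
        (doubleXIso₀ (𝟙 (cokernel i)) (hrel k)).symm ?_ ?_) (baseSE i)
    · change _ ≫ (diskMap k i).f k = _
      rw [diskMap_f₀]
      simp
      rfl
    · change _ ≫ (diskMap k (cokernel.π i)).f k = _
      rw [diskMap_f₀]
      simp
      rfl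
  · by_cases h1 : k = n + 1
    · subst h1
      refine ShortComplex.shortExact_of_iso
        (ShortComplex.isoMk (doubleXIso₁ (𝟙 X) (hrel n) (hne n)).symm
          (doubleXIso₁ (𝟙 Y) (hrel n) (hne n)).symm
          (doubleXIso₁ (𝟙 (cokernel i)) (hrel n) (hne n)).symm ?_ ?_) (baseSE i)
      · change _ ≫ (diskMap n i).f (n + 1) = _
        rw [diskMap_f₁]
        simp
        rfl
      · change _ ≫ (diskMap n (cokernel.π i)).f (n + 1) = _
        rw [diskMap_f₁]
        simp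
        rfl
    · have hz : ∀ W : A, IsZero ((disk n W).X k) :=
        fun W => isZero_double_X (𝟙 W) (hrel n) k h0 h1
      exact
        { exact := ShortComplex.exact_of_isZero_X₂ _ (hz Y)
          mono_f := ⟨fun _ _ _ => (hz X).eq_of_tgt _ _⟩
          epi_g := ⟨fun _ _ _ => (hz (cokernel i)).eq_of_src _ _⟩ }

end Disk

open HomologicalComplex in
/-- the extension property implies that the terms are injective -/
lemma injective_of_extension (I : CochainComplex A ℤ)
    (hE : ∀ (S : ShortComplex (CochainComplex A ℤ)), S.ShortExact → S.X₃.Acyclic →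
        ∀ φ : S.X₁ ⟶ I, ∃ ψ : S.X₂ ⟶ I, S.f ≫ ψ = φ) (n : ℤ) : Injective (I.X n) where
  factors {X Y} f i _ := by
    let φ : disk n X ⟶ I := mkHomFromDouble (hrel n) (hne n) f (f ≫ I.d n (n + 1))
      (by simp) (by intro k _; simp)
    obtain ⟨ψ, hψ⟩ : ∃ ψ : disk n Y ⟶ I, diskMap n i ≫ ψ = φ :=
      hE (diskSC n i) (diskSC_shortExact n i) (disk_acyclic n _) φ
    refine ⟨(doubleXIso₀ (𝟙 Y) (hrel n)).inv ≫ ψ.f n, ?_⟩
    have h1 : (diskMap n i).f n ≫ ψ.f n = φ.f n := by
      rw [← comp_f, hψ]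
    rw [diskMap_f₀, mkHomFromDouble_f₀] at h1
    simpa using h1

theorem main (I : CochainComplex A ℤ) :
    (I.IsKInjective ∧ ∀ n : ℤ, Injective (I.X n)) ↔
      ∀ (S : ShortComplex (CochainComplex A ℤ)), S.ShortExact → S.X₃.Acyclic →
        ∀ φ : S.X₁ ⟶ I, ∃ ψ : S.X₂ ⟶ I, S.f ≫ ψ = φ := by
  constructor
  · rintro ⟨h1, h2⟩ S hS hC φ
    exact exists_extension I h2 S hS hC φ
  · intro hE
    exact ⟨isKInjective_of_extension I hE, injective_of_extension I hE⟩

end Helper89.KInjExt
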