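import Mathlib

/-!
# Kan extensions: constructors, transfer along a localization functor, opposites
-/

set_option autoImplicit false
set_option linter.style.haveILetI false

open CategoryTheory Category Functor Limits

namespace Groth.Agent.Lib.Helper89.KanOp

variable {C₀ C D E : Type*} [Category C₀] [Category C] [Category D] [Category E]

section mk

variable {L : C ⥤ D} {F : C ⥤ E}

lemma isLeftKanExtension_mk (F' : D ⥤ E) (α : F ⟶ L ⋙ F')
    (desc : ∀ (G : D ⥤ E) (_ : F ⟶ L ⋙ G), F' ⟶ G)
    (fac : ∀ (G : D ⥤ E) (β : F ⟶ L ⋙ G), α ≫ whiskerLeft L (desc G β) = β)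
    (uniq : ∀ (G : D ⥤ E) (γ₁ γ₂ : F' ⟶ G),
      α ≫ whiskerLeft L γ₁ = α ≫ whiskerLeft L γ₂ → γ₁ = γ₂) :
    F'.IsLeftKanExtension α :=
  ⟨⟨IsInitial.ofUniqueHom
    (fun Y => StructuredArrow.homMk (desc Y.right Y.hom) (fac Y.right Y.hom))
    (fun Y m => by
      apply StructuredArrow.hom_ext
      apply uniq
      have h1 := StructuredArrow.w m
      have h2 := fac Y.right Y.hom
      exact h1.trans h2.symm)⟩⟩

lemma isRightKanExtension_mk (F' : D ⥤ E) (α : L ⋙ F' ⟶ F)
    (lift : ∀ (G : D ⥤ E) (_ : L ⋙ G ⟶ F), G ⟶ F')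
    (fac : ∀ (G : D ⥤ E) (β : L ⋙ G ⟶ F), whiskerLeft L (lift G β) ≫ α = β)
    (uniq : ∀ (G : D ⥤ E) (γ₁ γ₂ : G ⟶ F'),
      whiskerLeft L γ₁ ≫ α = whiskerLeft L γ₂ ≫ α → γ₁ = γ₂) :
    F'.IsRightKanExtension α :=
  ⟨⟨IsTerminal.ofUniqueHom
    (fun Y => CostructuredArrow.homMk (lift Y.left Y.hom) (fac Y.left Y.hom))
    (fun Y m => by
      apply CostructuredArrow.hom_ext
      apply uniq
      have h1 := CostructuredArrow.w m
      have h2 := fac Y.left Y.hom
      exact h1.trans h2.symm)⟩⟩

end mk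

section transfer

variable (q : C₀ ⥤ C) (W₀ : MorphismProperty C₀) [q.IsLocalization W₀]
  (L : C ⥤ D) (H : C ⥤ E)

include W₀

/-- a left Kan extension along `L` is a left Kan extension along `q ⋙ L` when `q` is a
localization functor -/
lemma isLeftKanExtension_precomp (RH : D ⥤ E) (α : H ⟶ L ⋙ RH) [RH.IsLeftKanExtension α] :
    RH.IsLeftKanExtension (F := q ⋙ H) (L := q ⋙ L) (whiskerLeft q α) := by
  refine isLeftKanExtension_mk _ _
    (fun G β => RH.descOfIsLeftKanExtension α G
      (Localization.liftNatTrans q W₀ (q ⋙ H) (q ⋙ L ⋙ G) H (L ⋙ G) β)) ?_ ?_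
  · intro G β
    ext X
    have := NatTrans.congr_app (RH.descOfIsLeftKanExtension_fac α G
      (Localization.liftNatTrans q W₀ (q ⋙ H) (q ⋙ L ⋙ G) H (L ⋙ G) β)) (q.obj X)
    simp only [NatTrans.comp_app, whiskerLeft_app, Localization.liftNatTrans_app] at this
    simp only [NatTrans.comp_app, whiskerLeft_app, comp_obj]
    rw [this]
    simp
  · intro G γ₁ γ₂ h
    apply RH.hom_ext_of_isLeftKanExtension α
    apply Localization.natTrans_ext q W₀
    intro X
    exact NatTrans.congr_app h X

/-- a right Kan extension along `L` is a right Kan extension along `q ⋙ L` when `q` is a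
localization functor -/
lemma isRightKanExtension_precomp (LH : D ⥤ E) (α : L ⋙ LH ⟶ H) [LH.IsRightKanExtension α] :
    LH.IsRightKanExtension (F := q ⋙ H) (L := q ⋙ L) (whiskerLeft q α) := by
  refine isRightKanExtension_mk _ _
    (fun G β => LH.liftOfIsRightKanExtension α G
      (Localization.liftNatTrans q W₀ (q ⋙ L ⋙ G) (q ⋙ H) (L ⋙ G) H β)) ?_ ?_
  · intro G β
    ext X
    have := NatTrans.congr_app (LH.liftOfIsRightKanExtension_fac α G
      (Localization.liftNatTrans q W₀ (q ⋙ L ⋙ G) (q ⋙ H) (L ⋙ G) H β)) (q.obj X)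
    simp only [NatTrans.comp_app, whiskerLeft_app, Localization.liftNatTrans_app] at this
    simp only [NatTrans.comp_app, whiskerLeft_app, comp_obj]
    rw [this]
    simp
  · intro G γ₁ γ₂ h
    apply LH.hom_ext_of_isRightKanExtension α
    apply Localization.natTrans_ext q W₀
    intro X
    exact NatTrans.congr_app h X

end transfer

section op

open Opposite

variable {L : C ⥤ D} {F : C ⥤ E}

/-- unop of a natural transformation `F.op ⟶ L.op ⋙ G` -/
@[simps]
def unopNat (G : Dᵒᵖ ⥤ Eᵒᵖ) (β : F.op ⟶ L.op ⋙ G) : L ⋙ G.unop ⟶ F where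
  app X := (β.app (op X)).unop
  naturality X Y f := by
    have := β.naturality f.op
    exact Quiver.Hom.op_inj this.symm

/-- op of a natural transformation `L ⋙ G ⟶ F` -/
@[simps]
def opNat (G : D ⥤ E) (β : L ⋙ G ⟶ F) : F.op ⟶ L.op ⋙ G.op where
  app X := (β.app X.unop).op
  naturality X Y f := by
    have := β.naturality f.unop
    exact Quiver.Hom.unop_inj this.symm

/-- a natural transformation `G.unop ⟶ F'` gives `F'.op ⟶ G` -/
@[simps]
def opNat' (G : Dᵒᵖ ⥤ Eᵒᵖ) (F' : D ⥤ E) (γ : G.unop ⟶ F') : F'.op ⟶ G where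
  app Y := (γ.app Y.unop).op
  naturality X Y f := by
    have := γ.naturality f.unop
    exact Quiver.Hom.unop_inj this.symm

/-- a natural transformation `F'.op ⟶ G` gives `G.unop ⟶ F'` -/
@[simps]
def unopNat' (G : Dᵒᵖ ⥤ Eᵒᵖ) (F' : D ⥤ E) (γ : F'.op ⟶ G) : G.unop ⟶ F' where
  app Y := (γ.app (op Y)).unop
  naturality X Y f := by
    have := γ.naturality f.op
    exact Quiver.Hom.op_inj this.symm

/-- a natural transformation `G ⟶ M.op` gives `M ⟶ G.unop` -/
@[simps]
def unopNat'' (G : Dᵒᵖ ⥤ Eᵒᵖ) (M : D ⥤ E) (γ : G ⟶ M.op) : M ⟶ G.unop where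
  app Y := (γ.app (op Y)).unop
  naturality X Y f := by
    have := γ.naturality f.op
    exact Quiver.Hom.op_inj this.symm

/-- a natural transformation `M ⟶ G.unop` gives `G ⟶ M.op` -/
@[simps]
def opNat'' (G : Dᵒᵖ ⥤ Eᵒᵖ) (M : D ⥤ E) (γ : M ⟶ G.unop) : G ⟶ M.op where
  app Y := (γ.app Y.unop).op
  naturality X Y f := by
    have := γ.naturality f.unop
    exact Quiver.Hom.unop_inj this.symm

/-- the opposite of a right Kan extension is a left Kan extension -/
lemma isLeftKanExtension_op (F' : D ⥤ E) (α : L ⋙ F' ⟶ F) [F'.IsRightKanExtension α] :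
    F'.op.IsLeftKanExtension (F := F.op) (L := L.op) (opNat F' α) := by
  refine isLeftKanExtension_mk _ _
    (fun G β => opNat' G F' (F'.liftOfIsRightKanExtension α G.unop (unopNat G β))) ?_ ?_
  · intro G β
    ext X
    apply Quiver.Hom.unop_inj
    have := F'.liftOfIsRightKanExtension_fac_app α G.unop (unopNat G β) X.unop
    simpa using this
  · intro G γ₁ γ₂ h
    have h' : unopNat' G F' γ₁ = unopNat' G F' γ₂ := by
      apply F'.hom_ext_of_isRightKanExtension α
      ext X
      have := NatTrans.congr_app h (op X)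
      have := congrArg Quiver.Hom.unop this
      simpa using this
    ext Y
    have := NatTrans.congr_app h' Y.unop
    exact Quiver.Hom.unop_inj (by simpa using this)

/-- the unop of a left Kan extension of opposite functors is a right Kan extension -/
lemma isRightKanExtension_unop (G : Dᵒᵖ ⥤ Eᵒᵖ) (β : F.op ⟶ L.op ⋙ G)
    [G.IsLeftKanExtension β] :
    G.unop.IsRightKanExtension (F := F) (L := L) (unopNat G β) := by
  refine isRightKanExtension_mk _ _
    (fun M γ => unopNat'' G M (G.descOfIsLeftKanExtension β M.op (opNat M γ))) ?_ ?_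
  · intro M γ
    ext X
    apply Quiver.Hom.op_inj
    have := G.descOfIsLeftKanExtension_fac_app β M.op (opNat M γ) (op X)
    simp only [NatTrans.comp_app, whiskerLeft_app, unopNat''_app, unopNat_app, op_comp,
      Quiver.Hom.op_unop]
    exact this
  · intro M γ₁ γ₂ h
    have h' : opNat'' G M γ₁ = opNat'' G M γ₂ := by
      apply G.hom_ext_of_isLeftKanExtension β
      ext X
      have := NatTrans.congr_app h X.unop
      have := congrArg Quiver.Hom.op this
      simpa using this
    ext Y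
    have := NatTrans.congr_app h' (op Y)
    exact Quiver.Hom.op_inj (by simpa using this)

end op

end Groth.Agent.Lib.Helper89.KanOp
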