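import Mathlib
import Groth.Agent.Lib.Helper89.KanOp

/-!
# Transfer of Kan extensions along a localization functor, up to isomorphisms
-/

set_option autoImplicit false
set_option linter.style.haveILetI false
set_option linter.unusedSectionVars false

open CategoryTheory Category Functor Limits

namespace Groth.Agent.Lib.Helper89.KanTransfer

open Groth.Agent.Lib.Helper89.KanOp

variable {C₀ C D E : Type*} [Category C₀] [Category C] [Category D] [Category E]

section iso₁

variable {L L' : C ⥤ D} {F : C ⥤ E}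

lemma isLeftKanExtension_of_iso₁ (ψ : L ≅ L') (F' : D ⥤ E) (α : F ⟶ L ⋙ F')
    [F'.IsLeftKanExtension α] : F'.IsLeftKanExtension (α ≫ whiskerRight ψ.hom F') := by
  refine isLeftKanExtension_mk _ _
    (fun G β => F'.descOfIsLeftKanExtension α G (β ≫ whiskerRight ψ.inv G)) ?_ ?_
  · intro G β
    ext X
    have h1 := F'.descOfIsLeftKanExtension_fac_app α G (β ≫ whiskerRight ψ.inv G) X
    have h2 := (F'.descOfIsLeftKanExtension α G (β ≫ whiskerRight ψ.inv G)).naturality
      (ψ.hom.app X)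
    simp only [NatTrans.comp_app, whiskerRight_app, whiskerLeft_app, Category.assoc] at h1 ⊢
    rw [h2, reassoc_of% h1, ← G.map_comp, Iso.inv_hom_id_app, G.map_id, Category.comp_id]
  · intro G γ₁ γ₂ h
    apply F'.hom_ext_of_isLeftKanExtension α
    ext X
    have h1 := NatTrans.congr_app h X
    simp only [NatTrans.comp_app, whiskerRight_app, whiskerLeft_app, Category.assoc] at h1 ⊢
    rw [γ₁.naturality, γ₂.naturality] at h1
    have h3 : IsIso (G.map (ψ.hom.app X)) := inferInstance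
    simpa only [← Category.assoc, cancel_mono] using h1

lemma isRightKanExtension_of_iso₁ (ψ : L ≅ L') (F' : D ⥤ E) (α : L ⋙ F' ⟶ F)
    [F'.IsRightKanExtension α] : F'.IsRightKanExtension (whiskerRight ψ.inv F' ≫ α) := by
  refine isRightKanExtension_mk _ _
    (fun G β => F'.liftOfIsRightKanExtension α G (whiskerRight ψ.hom G ≫ β)) ?_ ?_
  · intro G β
    ext X
    have h1 := F'.liftOfIsRightKanExtension_fac_app α G (whiskerRight ψ.hom G ≫ β) X
    have h2 := (F'.liftOfIsRightKanExtension α G (whiskerRight ψ.hom G ≫ β)).naturality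
      (ψ.inv.app X)
    simp only [NatTrans.comp_app, whiskerRight_app, whiskerLeft_app, Category.assoc] at h1 ⊢
    rw [← reassoc_of% h2, h1, ← G.map_comp_assoc, Iso.inv_hom_id_app, G.map_id, Category.id_comp]
  · intro G γ₁ γ₂ h
    apply F'.hom_ext_of_isRightKanExtension α
    ext X
    have h1 := NatTrans.congr_app h X
    simp only [NatTrans.comp_app, whiskerRight_app, whiskerLeft_app] at h1 ⊢
    rw [← reassoc_of% (γ₁.naturality (ψ.inv.app X)),
      ← reassoc_of% (γ₂.naturality (ψ.inv.app X))] at h1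
    have h3 : IsIso (G.map (ψ.inv.app X)) := inferInstance
    simpa only [cancel_epi] using h1

end iso₁

section transfer

variable (q : C₀ ⥤ C) (W₀ : MorphismProperty C₀) [q.IsLocalization W₀]
  {L : C ⥤ D} {H : C ⥤ E} {L₀ : C₀ ⥤ D} {H₀ : C₀ ⥤ E}
  (ψ : q ⋙ L ≅ L₀) (φ : q ⋙ H ≅ H₀)

include W₀ in
/-- left Kan extension along `L` gives a left Kan extension along `L₀ ≅ q ⋙ L` -/
lemma isLeftKanExtension (RH : D ⥤ E) (α : H ⟶ L ⋙ RH) [RH.IsLeftKanExtension α] :
    RH.IsLeftKanExtension (F := H₀) (L := L₀)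
      (φ.inv ≫ whiskerLeft q α ≫ whiskerRight ψ.hom RH) := by
  haveI := isLeftKanExtension_precomp q W₀ L H RH α
  haveI : RH.IsLeftKanExtension (F := H₀) (L := q ⋙ L) (φ.inv ≫ whiskerLeft q α) :=
    (isLeftKanExtension_iff_of_iso₂ (L := q ⋙ L) (whiskerLeft q α) (φ.inv ≫ whiskerLeft q α)
      φ (Iso.refl RH) (by simp)).1 inferInstance
  have := isLeftKanExtension_of_iso₁ ψ RH (φ.inv ≫ whiskerLeft q α)
  simpa only [Category.assoc] using this

include W₀ in
/-- right Kan extension along `L` gives a right Kan extension along `L₀ ≅ q ⋙ L` -/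
lemma isRightKanExtension (LH : D ⥤ E) (α : L ⋙ LH ⟶ H) [LH.IsRightKanExtension α] :
    LH.IsRightKanExtension (F := H₀) (L := L₀)
      (whiskerRight ψ.inv LH ≫ whiskerLeft q α ≫ φ.hom) := by
  haveI := isRightKanExtension_precomp q W₀ L H LH α
  haveI : LH.IsRightKanExtension (F := H₀) (L := q ⋙ L) (whiskerLeft q α ≫ φ.hom) :=
    (isRightKanExtension_iff_of_iso₂ (L := q ⋙ L) (whiskerLeft q α) (whiskerLeft q α ≫ φ.hom)
      φ (Iso.refl LH) (by simp)).1 inferInstance
  exact isRightKanExtension_of_iso₁ ψ LH (whiskerLeft q α ≫ φ.hom)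

include W₀ ψ φ in
/-- transfer of the invertibility of the unit -/
theorem isIso_unit (RH : D ⥤ E) (α : H ⟶ L ⋙ RH) [RH.IsLeftKanExtension α]
    (R' : D ⥤ E) (η : H₀ ⟶ L₀ ⋙ R') [R'.IsLeftKanExtension η]
    (X : C₀) (hX : IsIso (α.app (q.obj X))) : IsIso (η.app X) := by
  haveI := isLeftKanExtension q W₀ ψ φ RH α
  let e := leftKanExtensionUnique R' η RH (φ.inv ≫ whiskerLeft q α ≫ whiskerRight ψ.hom RH)
  have h' : η.app X ≫ e.hom.app (L₀.obj X) =
      φ.inv.app X ≫ α.app (q.obj X) ≫ RH.map (ψ.hom.app X) := by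
    simp [e]
  have h2 : IsIso (η.app X ≫ e.hom.app (L₀.obj X)) := by
    rw [h']
    infer_instance
  exact IsIso.of_isIso_comp_right (η.app X) (e.hom.app (L₀.obj X))

include W₀ ψ φ in
/-- transfer of the invertibility of the counit -/
theorem isIso_counit (LH : D ⥤ E) (α : L ⋙ LH ⟶ H) [LH.IsRightKanExtension α]
    (L' : D ⥤ E) (ε : L₀ ⋙ L' ⟶ H₀) [L'.IsRightKanExtension ε]
    (X : C₀) (hX : IsIso (α.app (q.obj X))) : IsIso (ε.app X) := by
  haveI := isRightKanExtension q W₀ ψ φ LH α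
  let e := rightKanExtensionUnique L' ε LH (whiskerRight ψ.inv LH ≫ whiskerLeft q α ≫ φ.hom)
  have h' : e.inv.app (L₀.obj X) ≫ ε.app X =
      LH.map (ψ.inv.app X) ≫ α.app (q.obj X) ≫ φ.hom.app X := by
    simp [e]
  have h2 : IsIso (e.inv.app (L₀.obj X) ≫ ε.app X) := by
    rw [h']
    infer_instance
  exact IsIso.of_isIso_comp_left (e.inv.app (L₀.obj X)) (ε.app X)

end transfer

section descent

variable {D₂ : Type*} [Category D₂]

/-- descent of a natural isomorphism along a full functor: a family of isomorphisms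
`U (L' (q K)) ≅ V (L' (q K))` natural in `K` gives an isomorphism of functors on a full
subcategory whose objects are isomorphic to objects `q K`. -/
theorem nonempty_iso_of_family (q : C₀ ⥤ C) [q.Full] (L' : C ⥤ D) (U V : D ⥤ E)
    (P₀ : ObjectProperty C₀) (A : ObjectProperty C)
    (hA : ∀ X, A X → ∃ K, P₀ K ∧ Nonempty (X ≅ q.obj K))
    (e : ∀ K, P₀ K → (U.obj (L'.obj (q.obj K)) ≅ V.obj (L'.obj (q.obj K))))
    (he : ∀ (K K' : C₀) (hK : P₀ K) (hK' : P₀ K') (g : K ⟶ K'),
      U.map (L'.map (q.map g)) ≫ (e K' hK').hom = (e K hK).hom ≫ V.map (L'.map (q.map g))) :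
    Nonempty ((A.ι ⋙ L') ⋙ U ≅ (A.ι ⋙ L') ⋙ V) := by
  choose Kc hKc using hA
  let ε : ∀ X : A.FullSubcategory, X.obj ≅ q.obj (Kc X.obj X.property) :=
    fun X => (hKc X.obj X.property).2.some
  let hP : ∀ X : A.FullSubcategory, P₀ (Kc X.obj X.property) :=
    fun X => (hKc X.obj X.property).1
  refine ⟨NatIso.ofComponents (fun X => U.mapIso (L'.mapIso (ε X)) ≪≫ e _ (hP X) ≪≫
    (V.mapIso (L'.mapIso (ε X))).symm) ?_⟩
  intro X Y f
  obtain ⟨g, hg⟩ := q.map_surjective ((ε X).inv ≫ f.hom ≫ (ε Y).hom)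
  have hf : f.hom = (ε X).hom ≫ q.map g ≫ (ε Y).inv := by
    rw [hg]
    simp
  have h := he _ _ (hP X) (hP Y) g
  have hU : U.map (L'.map f.hom) ≫ U.map (L'.map (ε Y).hom) =
      U.map (L'.map (ε X).hom) ≫ U.map (L'.map (q.map g)) := by
    rw [← U.map_comp, ← L'.map_comp, ← U.map_comp, ← L'.map_comp, hf]
    simp
  have hV : V.map (L'.map (ε X).inv) ≫ V.map (L'.map f.hom) =
      V.map (L'.map (q.map g)) ≫ V.map (L'.map (ε Y).inv) := by
    rw [← V.map_comp, ← L'.map_comp, ← V.map_comp, ← L'.map_comp, hf]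
    simp
  dsimp only [Functor.comp_obj, Functor.comp_map, Iso.trans_hom, Functor.mapIso_hom,
    Iso.symm_hom, Functor.mapIso_inv, ObjectProperty.ι_obj, ObjectProperty.ι_map]
  rw [reassoc_of% hU, reassoc_of% h, Category.assoc, Category.assoc, hV]

end descent

end Groth.Agent.Lib.Helper89.KanTransfer
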