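import Groth.Agent.Lib.Helper89.KosA
import Groth.Agent.Lib.Helper94.RegCancel

/-!
# `RHom_T(T/(l), T) ≅ (T/(l))[-c]` for a weakly regular sequence `l` of length `c`
-/

set_option autoImplicit false
universe u

namespace Groth.Agent.Lib.Helper89.KosB

open CategoryTheory CategoryTheory.Limits DerivedCategory RingTheory.Sequence
open Groth.Agent.Lib.Helper15.PseudoCohRes

attribute [local instance] HasDerivedCategory.standard

/-- the case of an isomorphism -/
theorem bijective_case {T T' : Type u} [CommRing T] [CommRing T'] (π : T →+* T')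
    (hπ : Function.Bijective π) {R : Dual.D T ⥤ Dual.D T'} (adj : DRing.restrictD π ⊣ R) :
    Nonempty (R.obj (Dual.inD T T) ≅ Dual.inD T' T') := by
  let σ : T ≃+* T' := RingEquiv.ofBijective π hπ
  have hσ : (σ : T →+* T') = π := rfl
  have adj' : DRing.restrictD π ⊣ DRing.restrictD (σ.symm : T' →+* T) :=
    (Shriek2.resEquiv σ).toAdjunction
  let e1 : R ≅ DRing.restrictD (σ.symm : T' →+* T) := Adjunction.rightAdjointUniq adj adj'
  let e2 : (ModuleCat.restrictScalars.{u} (σ.symm : T' →+* T)).obj (ModuleCat.of T T) ≅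
      ModuleCat.of T' T' :=
    LinearEquiv.toModuleIso
      (show ((ModuleCat.restrictScalars.{u} (σ.symm : T' →+* T)).obj (ModuleCat.of T T)) ≃ₗ[T']
          (ModuleCat.of T' T') from
      { toFun := fun t => σ t
        invFun := fun t' => σ.symm t'
        map_add' := fun a b => σ.map_add a b
        map_smul' := fun b t => by
          change σ (σ.symm b * (show T from t)) = b * σ (show T from t)
          rw [map_mul, RingEquiv.apply_symm_apply]
        left_inv := fun t => σ.symm_apply_apply t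
        right_inv := fun t' => σ.apply_symm_apply t' })
  exact ⟨e1.app _ ≪≫
    ((ModuleCat.restrictScalars.{u} (σ.symm : T' →+* T)).mapDerivedCategorySingleFunctor 0).app
      (ModuleCat.of T T) ≪≫ (singleFunctor (ModuleCat.{u} T') 0).mapIso e2⟩

theorem regular_seq (c : ℕ) : ∀ (T T' : Type u) [CommRing T] [CommRing T'] (π : T →+* T')
    (_ : Function.Surjective π) (l : List T), l.length = c → IsWeaklyRegular T l →
    RingHom.ker π = Ideal.ofList l → ∀ {R : Dual.D T ⥤ Dual.D T'}
    (_ : DRing.restrictD π ⊣ R),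
    Nonempty (R.obj (Dual.inD T T) ≅ (Dual.inD T' T')⟦(-(c : ℤ))⟧) := by
  induction c with
  | zero =>
    intro T T' _ _ π hπ l hlen _ hker R adj
    obtain rfl := List.length_eq_zero_iff.mp hlen
    rw [Ideal.ofList_nil] at hker
    have hinj : Function.Injective π := (RingHom.injective_iff_ker_eq_bot π).mpr hker
    obtain ⟨e⟩ := bijective_case π ⟨hinj, hπ⟩ adj
    exact ⟨e ≪≫ ((shiftFunctorZero' (Dual.D T') (-((0 : ℕ) : ℤ)) (by simp)).app _).symm⟩
  | succ c ih =>
    intro T T' _ _ π hπ l hlen hreg hker R adj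
    obtain ⟨x, l', rfl⟩ := List.exists_cons_of_length_eq_add_one hlen
    rw [Groth.Agent.Lib.Helper94.RegCancel.isWeaklyRegular_cons_iff_quotient] at hreg
    obtain ⟨hx, hreg'⟩ := hreg
    have hxker : Ideal.span {x} ≤ RingHom.ker π := by
      rw [hker, Ideal.ofList_cons]
      exact le_sup_left
    let π₁ : T →+* T ⧸ Ideal.span {x} := Ideal.Quotient.mk (Ideal.span {x})
    let π₂ : T ⧸ Ideal.span {x} →+* T' := Ideal.Quotient.lift (Ideal.span {x}) π hxker
    have hπ₁ : Function.Surjective π₁ := Ideal.Quotient.mk_surjective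
    have hπ₂ : Function.Surjective π₂ := Ideal.Quotient.lift_surjective_of_surjective _ _ hπ
    have hcomp : π = π₂.comp π₁ := by
      ext t
      rfl
    have hker₂ : RingHom.ker π₂ = Ideal.ofList (l'.map π₁) := by
      rw [Ideal.ker_quotient_lift, hker, Ideal.ofList_cons, Ideal.map_sup, Ideal.map_ofList,
        Ideal.map_span, Set.image_singleton, Ideal.Quotient.eq_zero_iff_mem.mpr
          (Ideal.mem_span_singleton_self x)]
      simp
      rfl
    obtain ⟨R₁, ⟨adj₁⟩⟩ := Shriek2.exists_rightAdjoint π₁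
    obtain ⟨R₂, ⟨adj₂⟩⟩ := Shriek2.exists_rightAdjoint π₂
    have hxnzd : x ∈ nonZeroDivisors T := by
      rw [mem_nonZeroDivisors_iff_right]
      intro a ha
      have h1 : x • a = x • (0 : T) := by
        rw [smul_zero, smul_eq_mul, mul_comm]
        exact ha
      exact hx h1
    obtain ⟨e1⟩ := KosA.one_step π₁ hπ₁ (Ideal.mk_ker) hxnzd adj₁
    obtain ⟨e2⟩ := ih (T ⧸ Ideal.span {x}) T' π₂ hπ₂ (l'.map π₁)
      (by rw [List.length_map]; simpa using hlen) hreg' hker₂ adj₂
    let e3 : R ≅ R₁ ⋙ R₂ := Shriek2.rightAdjComp π₁ π₂ π hcomp adj₁ adj₂ adj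
    have hsum : (-(c : ℤ)) + (-1 : ℤ) = -((c + 1 : ℕ) : ℤ) := by push_cast; ring
    exact ⟨e3.app _ ≪≫ R₂.mapIso e1 ≪≫ Shriek2.rightAdjShift π₂ adj₂ (-1) _ ≪≫
      (shiftFunctor (Dual.D T') (-1 : ℤ)).mapIso e2 ≪≫
      ((shiftFunctorAdd' (Dual.D T') _ _ _ hsum).app _).symm⟩

end Groth.Agent.Lib.Helper89.KosB
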