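import Groth.Agent.Lib.Helper89.KosB
import Groth.Agent.Lib.Helper89.BCe
import Groth.Agent.Lib.Helper85.GorLCI
import Groth.Agent.Lib.Helper15.PseudoCohBC

/-!
# `RHom_S(S/(l), S) ≅ (S/(l))[-c]` for a Koszul-regular sequence `l` in a Noetherian ring `S`

We localize at `1 + (l)` (where Koszul-regular sequences are regular) and use flat base change.
-/

set_option autoImplicit false
universe u

namespace Groth.Agent.Lib.Helper89.KosC

open CategoryTheory CategoryTheory.Limits DerivedCategory RingTheory.Sequence TensorProduct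

attribute [local instance] HasDerivedCategory.standard

/-- derived base change of the unit along a flat algebra -/
noncomputable def lbcUnit (A B : Type u) [CommRing A] [CommRing B] [Algebra A B] [Module.Flat A B] :
    (DRing.LBaseChange (algebraMap A B)).obj (Dual.inD A A) ≅ Dual.inD B B :=
  Groth.Agent.Lib.Helper15.PseudoCohBC.lbcModuleIso A B A ≪≫
    (singleFunctor (ModuleCat.{u} B) 0).mapIso
      (LinearEquiv.toModuleIso (TensorProduct.AlgebraTensorModule.rid A B B))

section Loc

variable {S A' : Type u} [CommRing S] [CommRing A'] (ψ : S →+* A')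

/-- the submonoid `1 + ker ψ` -/
def M : Submonoid S := MonoidHom.mker (ψ : S →* A')

theorem mem_M (s : S) : s ∈ M ψ ↔ ψ s = 1 := Iff.rfl

/-- `ψ` on the localization at `1 + ker ψ` -/
noncomputable def psiT : Localization (M ψ) →+* A' :=
  IsLocalization.lift (M := M ψ) (g := ψ) (fun y => by
    rw [(mem_M ψ y.1).1 y.2]
    exact isUnit_one)

theorem psiT_comp : (psiT ψ).comp (algebraMap S (Localization (M ψ))) = (RingHom.id A').comp ψ := by
  rw [RingHom.id_comp]
  exact IsLocalization.lift_comp _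

theorem psiT_algebraMap (s : S) : psiT ψ (algebraMap S (Localization (M ψ)) s) = ψ s :=
  IsLocalization.lift_eq _ s

theorem psiT_surjective (hψ : Function.Surjective ψ) : Function.Surjective (psiT ψ) := by
  intro a
  obtain ⟨s, rfl⟩ := hψ a
  exact ⟨algebraMap S (Localization (M ψ)) s, psiT_algebraMap ψ s⟩

theorem psiT_ker (t : Localization (M ψ)) (ht : psiT ψ t = 0) :
    t ∈ Ideal.map (algebraMap S (Localization (M ψ))) (RingHom.ker ψ) := by
  obtain ⟨s, u, rfl⟩ := IsLocalization.exists_mk'_eq (M ψ) t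
  have h1 := IsLocalization.mk'_spec (Localization (M ψ)) s u
  have h2 := congrArg (psiT ψ) h1
  rw [map_mul, ht, zero_mul, psiT_algebraMap] at h2
  rw [IsLocalization.mk'_mem_iff]
  exact Ideal.mem_map_of_mem _ (RingHom.mem_ker.2 h2.symm)

theorem mem_jacobson (t : Localization (M ψ)) (ht : psiT ψ t = 0) :
    t ∈ (⊥ : Ideal (Localization (M ψ))).jacobson := by
  rw [Ideal.mem_jacobson_bot]
  intro y
  obtain ⟨s, u, hz⟩ := IsLocalization.exists_mk'_eq (M ψ) (t * y + 1)
  have h1 := IsLocalization.mk'_spec (Localization (M ψ)) s u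
  rw [hz] at h1
  have h2 := congrArg (psiT ψ) h1
  rw [map_mul, map_add, map_mul, ht, zero_mul, zero_add, map_one, one_mul, psiT_algebraMap,
    psiT_algebraMap, (mem_M ψ u.1).1 u.2] at h2
  have hs : s ∈ M ψ := (mem_M ψ s).2 h2.symm
  have hu1 : IsUnit (algebraMap S (Localization (M ψ)) s) :=
    IsLocalization.map_units _ (⟨s, hs⟩ : M ψ)
  rw [← h1] at hu1
  exact isUnit_of_mul_isUnit_left hu1

/-- **Koszul-regular case** -/
theorem koszul_case [IsNoetherianRing S] (hψ : Function.Surjective ψ) (l : List S)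
    (hl : LCI.IsKoszulRegularSeq S l) (hker : RingHom.ker ψ = Ideal.ofList l)
    (c : ℕ) (hc : l.length = c) {R : Dual.D S ⥤ Dual.D A'} (adj : DRing.restrictD ψ ⊣ R) :
    Nonempty (R.obj (Dual.inD S S) ≅ (Dual.inD A' A')⟦(-(c : ℤ))⟧) := by
  let T := Localization (M ψ)
  let f : S →+* T := algebraMap S T
  haveI : Module.Flat S T := IsLocalization.flat T (M ψ)
  haveI : IsNoetherianRing T := IsLocalization.isNoetherianRing (M ψ) T inferInstance
  have hf : f.Flat := RingHom.flat_algebraMap_iff.2 inferInstance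
  have hg : (RingHom.id A').Flat := RingHom.Flat.id A'
  obtain ⟨RT, ⟨adjT⟩⟩ := Shriek2.exists_rightAdjoint (psiT ψ)
  haveI : (Dual.inD S S).IsGE 0 := by
    change ((singleFunctor (ModuleCat.{u} S) 0).obj (ModuleCat.of S S)).IsGE 0
    infer_instance
  obtain ⟨e1⟩ := BCe.main f (RingHom.id A') ψ (psiT ψ) (psiT_comp ψ) hψ (psiT_surjective ψ hψ)
    (psiT_ker ψ) hf hg adj adjT (Dual.inD S S) 0
  -- the sequence in `T`
  let lT : List T := l.map f
  have hlT : LCI.IsKoszulRegularSeq T lT :=
    Groth.Agent.Lib.Helper43.SeqFlatBC.koszulRegular_of_flat f hf l hl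
  have hjac : ∀ x ∈ lT, x ∈ (⊥ : Ideal T).jacobson := by
    intro x hx
    obtain ⟨y, hy, rfl⟩ := List.mem_map.mp hx
    apply mem_jacobson ψ
    rw [psiT_algebraMap]
    have : y ∈ RingHom.ker ψ := by
      rw [hker]
      exact Ideal.subset_span hy
    exact this
  have hreg : IsWeaklyRegular T lT := by
    have h1 := Groth.Agent.Lib.Helper43.KoszulH1.isH1Regular_of_isKoszulRegularSeq lT hlT
    have h2 := Groth.Agent.Lib.Helper85.GorLCI.koszulH1Zero_of_isH1Regular _ h1
    have h3 := Groth.Agent.S2868.result lT.get (fun i => hjac _ (List.get_mem lT i)) T h2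
    rwa [List.ofFn_get] at h3
  have hkerT : RingHom.ker (psiT ψ) = Ideal.ofList lT := by
    rw [← Ideal.map_ofList, ← hker]
    apply le_antisymm
    · intro t ht
      exact psiT_ker ψ t ht
    · rw [Ideal.map_le_iff_le_comap]
      intro s hs
      change psiT ψ (algebraMap S T s) = 0
      rw [psiT_algebraMap]
      exact hs
  obtain ⟨e2⟩ := KosB.regular_seq c T A' (psiT ψ) (psiT_surjective ψ hψ) lT
    (by rw [List.length_map]; exact hc) hreg hkerT adjT
  exact ⟨(Shriek2.lbcId.app _).symm ≪≫ e1 ≪≫ RT.mapIso (lbcUnit S T) ≪≫ e2⟩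

end Loc

end Groth.Agent.Lib.Helper89.KosC
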