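import Groth.Agent.Lib.Helper89.ShriekComp
import Groth.Agent.Lib.Helper89.BCe
import Mathlib.LinearAlgebra.TensorProduct.RightExactness
import Mathlib.RingTheory.RingHom.Flat

/-!
# Flat base change of the upper shriek: `(φ^! K) ⊗_A A' ≅ φ'^!(K ⊗_R R')` for `R → R'` flat,
`K` bounded below
-/

set_option autoImplicit false
universe u

namespace Groth.Agent.Lib.Helper89.ShriekBC

open CategoryTheory CategoryTheory.Limits DerivedCategory CategoryTheory.Pretriangulated
open TensorProduct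
open Groth.Agent.Lib.Helper15.PseudoCohRes Groth.Agent.Lib.Helper15.LBCFlat
  Groth.Agent.Lib.Helper15 Groth.Agent.Lib.Helper89.Shriek2 Groth.Agent.Lib.Helper89.Shriek6
  Groth.Agent.Lib.Helper84

attribute [local instance] HasDerivedCategory.standard

theorem flat_includeRight (R R' T : Type u) [CommRing R] [CommRing R'] [CommRing T] [Algebra R R']
    [Algebra R T] [Module.Flat R R'] :
    (Algebra.TensorProduct.includeRight : T →ₐ[R] R' ⊗[R] T).toRingHom.Flat := by
  letI := Algebra.TensorProduct.rightAlgebra (R := R) (A := R') (B := T)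
  have h : (algebraMap T (R' ⊗[R] T)).Flat :=
    RingHom.Flat.isStableUnderBaseChange R R' T (R' ⊗[R] T)
      (RingHom.flat_algebraMap_iff.2 inferInstance)
  exact h

section Main

variable (R R' A : Type u) [CommRing R] [CommRing R'] [CommRing A] [IsNoetherianRing R]
  [Algebra R R'] [Module.Flat R R'] [Algebra R A]
  (n : ℕ) (ψ : MvPolynomial (Fin n) R →ₐ[R] A) (hψ : Function.Surjective ψ)
  {Rψ : Dual.D (MvPolynomial (Fin n) R) ⥤ Dual.D A} (adj : DRing.restrictD ψ.toRingHom ⊣ Rψ)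
  (m : ℕ) (ψ' : MvPolynomial (Fin m) R' →ₐ[R'] (R' ⊗[R] A)) (hψ' : Function.Surjective ψ')
  {Rψ' : Dual.D (MvPolynomial (Fin m) R') ⥤ Dual.D (R' ⊗[R] A)}
  (adj' : DRing.restrictD ψ'.toRingHom ⊣ Rψ')

/-- `id ⊗ ψ : R' ⊗ R[n] → R' ⊗ A` -/
noncomputable abbrev Psi : (R' ⊗[R] MvPolynomial (Fin n) R) →ₐ[R'] (R' ⊗[R] A) :=
  Algebra.TensorProduct.map (AlgHom.id R' R') ψ

/-- `R[n] → R' ⊗ R[n]` -/
noncomputable abbrev fP : MvPolynomial (Fin n) R →+* (R' ⊗[R] MvPolynomial (Fin n) R) :=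
  (Algebra.TensorProduct.includeRight :
    MvPolynomial (Fin n) R →ₐ[R] R' ⊗[R] MvPolynomial (Fin n) R).toRingHom

/-- `A → R' ⊗ A` -/
noncomputable abbrev gA : A →+* (R' ⊗[R] A) :=
  (Algebra.TensorProduct.includeRight : A →ₐ[R] R' ⊗[R] A).toRingHom

theorem comm_Psi : (Psi R R' A n ψ).toRingHom.comp (fP R R' n) = (gA R R' A).comp ψ.toRingHom := by
  refine RingHom.ext (fun p => ?_)
  change Algebra.TensorProduct.map (AlgHom.id R' R') ψ ((1 : R') ⊗ₜ[R] p) = (1 : R') ⊗ₜ[R] ψ p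
  rw [Algebra.TensorProduct.map_tmul]
  rfl

include hψ in
theorem surjective_Psi : Function.Surjective (Psi R R' A n ψ) :=
  Algebra.TensorProduct.map_surjective (AlgHom.id R' R') ψ Function.surjective_id hψ

include hψ in
theorem hker_Psi (p' : R' ⊗[R] MvPolynomial (Fin n) R) (hp' : (Psi R R' A n ψ).toRingHom p' = 0) :
    p' ∈ Ideal.map (fP R R' n) (RingHom.ker ψ.toRingHom) := by
  have h := Algebra.TensorProduct.lTensor_ker (R := R) (A := R') (g := ψ) hψ
  have h2 : p' ∈ RingHom.ker (Algebra.TensorProduct.map (AlgHom.id R R') ψ) := hp'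
  rw [h] at h2
  exact h2

/-- the polynomial presentation `R'[n] → R' ⊗ A` obtained from `ψ` by base change -/
noncomputable def psi₂ : MvPolynomial (Fin n) R' →ₐ[R'] (R' ⊗[R] A) :=
  (Psi R R' A n ψ).comp (MvPolynomial.algebraTensorAlgEquiv R R').symm.toAlgHom

include hψ in
theorem surjective_psi₂ : Function.Surjective (psi₂ R R' A n ψ) :=
  (surjective_Psi R R' A n ψ hψ).comp (MvPolynomial.algebraTensorAlgEquiv R R').symm.surjective

theorem psi₂_comp :
    (Psi R R' A n ψ).toRingHom = (psi₂ R R' A n ψ).toRingHom.comp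
      (((MvPolynomial.algebraTensorAlgEquiv (σ := Fin n) R R').toRingEquiv :
        (R' ⊗[R] MvPolynomial (Fin n) R) ≃+* MvPolynomial (Fin n) R') :
        (R' ⊗[R] MvPolynomial (Fin n) R) →+* MvPolynomial (Fin n) R') := by
  refine RingHom.ext (fun x => ?_)
  change Psi R R' A n ψ x = Psi R R' A n ψ ((MvPolynomial.algebraTensorAlgEquiv R R').symm
    ((MvPolynomial.algebraTensorAlgEquiv R R') x))
  rw [AlgEquiv.symm_apply_apply]

theorem hf_tau :
    algebraMap R' (MvPolynomial (Fin n) R') =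
      (((MvPolynomial.algebraTensorAlgEquiv (σ := Fin n) R R').toRingEquiv :
        (R' ⊗[R] MvPolynomial (Fin n) R) ≃+* MvPolynomial (Fin n) R') :
        (R' ⊗[R] MvPolynomial (Fin n) R) →+* MvPolynomial (Fin n) R').comp
        (algebraMap R' (R' ⊗[R] MvPolynomial (Fin n) R)) :=
  RingHom.ext (fun r => ((MvPolynomial.algebraTensorAlgEquiv (σ := Fin n) R R').commutes r).symm)

theorem comp_eq :
    (fP R R' n).comp (algebraMap R (MvPolynomial (Fin n) R)) =
      (algebraMap R' (R' ⊗[R] MvPolynomial (Fin n) R)).comp (algebraMap R R') := by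
  refine RingHom.ext (fun r => ?_)
  change (Algebra.TensorProduct.includeRight :
    MvPolynomial (Fin n) R →ₐ[R] R' ⊗[R] MvPolynomial (Fin n) R)
      (algebraMap R (MvPolynomial (Fin n) R) r) =
    algebraMap R' (R' ⊗[R] MvPolynomial (Fin n) R) (algebraMap R R' r)
  rw [AlgHom.commutes, ← IsScalarTower.algebraMap_apply]

include hψ hψ' adj adj' in
/-- **flat base change of the upper shriek** -/
theorem main (K : Dual.D R) (c : ℤ) [K.IsGE c] :
    Nonempty ((DRing.LBaseChange (gA R R' A)).obj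
      ((Rψ.obj ((DRing.LBaseChange (algebraMap R (MvPolynomial (Fin n) R))).obj K))⟦(n : ℤ)⟧) ≅
      (Rψ'.obj ((DRing.LBaseChange (algebraMap R' (MvPolynomial (Fin m) R'))).obj
        ((DRing.LBaseChange (algebraMap R R')).obj K)))⟦(m : ℤ)⟧) := by
  let L : Dual.D (MvPolynomial (Fin n) R) :=
    (DRing.LBaseChange (algebraMap R (MvPolynomial (Fin n) R))).obj K
  let K' : Dual.D R' := (DRing.LBaseChange (algebraMap R R')).obj K
  haveI : L.IsGE c := ShriekComp.isGE_lbc_poly R (Fin n) K c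
  have hψ₀ : Function.Surjective ψ.toRingHom := hψ
  have hΨ : Function.Surjective (Psi R R' A n ψ).toRingHom := surjective_Psi R R' A n ψ hψ
  obtain ⟨RΨ, ⟨adjΨ⟩⟩ := exists_rightAdjoint (Psi R R' A n ψ).toRingHom
  obtain ⟨e1⟩ := BCe.main (fP R R' n) (gA R R' A) ψ.toRingHom (Psi R R' A n ψ).toRingHom
    (comm_Psi R R' A n ψ) hψ₀ hΨ (hker_Psi R R' A n ψ hψ)
    (flat_includeRight R R' (MvPolynomial (Fin n) R)) (flat_includeRight R R' A) adj adjΨ L c
  -- base change of `K` to `R' ⊗ R[n]` in two ways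
  have e2 : (DRing.LBaseChange (fP R R' n)).obj L ≅
      (DRing.LBaseChange (algebraMap R' (R' ⊗[R] MvPolynomial (Fin n) R))).obj K' :=
    (lbcComp (algebraMap R (MvPolynomial (Fin n) R)) (fP R R' n)).app K ≪≫
      (lbcOfEq (comp_eq R R' n)).app K ≪≫
      ((lbcComp (algebraMap R R') (algebraMap R' (R' ⊗[R] MvPolynomial (Fin n) R))).app K).symm
  obtain ⟨R₂, ⟨adj₂⟩⟩ := exists_rightAdjoint (psi₂ R R' A n ψ).toRingHom
  obtain ⟨e3⟩ := iso_invariance (algebraMap R' (R' ⊗[R] MvPolynomial (Fin n) R))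
    (MvPolynomial.algebraTensorAlgEquiv (σ := Fin n) R R').toRingEquiv
    (algebraMap R' (MvPolynomial (Fin n) R')) (hf_tau R R' n)
    (psi₂ R R' A n ψ).toRingHom (Psi R R' A n ψ).toRingHom (psi₂_comp R R' A n ψ) adjΨ adj₂ K'
  obtain ⟨e4⟩ := indep R' (R' ⊗[R] A) (Fin n) (Fin m) (psi₂ R R' A n ψ)
    (surjective_psi₂ R R' A n ψ hψ) adj₂ ψ' hψ' adj' K'
  rw [Nat.card_fin, Nat.card_fin] at e4
  exact ⟨lbcShift _ _ _ ≪≫
    (shiftFunctor (Dual.D (R' ⊗[R] A)) (n : ℤ)).mapIso (e1 ≪≫ RΨ.mapIso e2 ≪≫ e3) ≪≫ e4⟩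

end Main

end Groth.Agent.Lib.Helper89.ShriekBC
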