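import Groth.Agent.Lib.Helper89.KosC
import Groth.Agent.Lib.Helper89.ShriekBC

/-!
# The map `P_g → A_{φ g}` induced by a surjection `φ : P → A`
-/

set_option autoImplicit false
universe u

namespace Groth.Agent.Lib.Helper89.KosD

open CategoryTheory DerivedCategory
open Groth.Agent.Lib.Helper89.Shriek2 Groth.Agent.Lib.Helper89.Shriek6

attribute [local instance] HasDerivedCategory.standard

section Away

variable {P A : Type u} [CommRing P] [CommRing A] (φ : P →+* A) (g : P)

/-- `P_g → A_{φ g}` -/
noncomputable def psiS : Localization.Away g →+* Localization.Away (φ g) :=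
  IsLocalization.Away.map (Localization.Away g) (Localization.Away (φ g)) φ g

theorem psiS_comp : (psiS φ g).comp (algebraMap P (Localization.Away g)) =
    (algebraMap A (Localization.Away (φ g))).comp φ := by
  unfold psiS IsLocalization.Away.map
  exact IsLocalization.map_comp _

theorem psiS_surjective (hφ : Function.Surjective φ) : Function.Surjective (psiS φ g) := by
  haveI : IsLocalization (Submonoid.map φ (Submonoid.powers g)) (Localization.Away (φ g)) := by
    rw [Submonoid.map_powers]
    infer_instance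
  exact IsLocalization.map_surjective_of_surjective _ _ _ hφ

theorem psiS_ker (s : Localization.Away g) (hs : psiS φ g s = 0) :
    s ∈ Ideal.map (algebraMap P (Localization.Away g)) (RingHom.ker φ) := by
  obtain ⟨p, u, rfl⟩ := IsLocalization.exists_mk'_eq (Submonoid.powers g) s
  unfold psiS IsLocalization.Away.map at hs
  rw [IsLocalization.map_mk', IsLocalization.mk'_eq_zero_iff] at hs
  obtain ⟨⟨m, j, hj⟩, hm⟩ := hs
  have hj' : m = φ (g ^ j) := by
    rw [map_pow]
    exact hj.symm
  have h1 : g ^ j * p ∈ RingHom.ker φ := by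
    rw [RingHom.mem_ker, map_mul, ← hj']
    exact hm
  rw [IsLocalization.mk'_mem_iff]
  have h2 := Ideal.mem_map_of_mem (algebraMap P (Localization.Away g)) h1
  rw [map_mul] at h2
  have hu : IsUnit (algebraMap P (Localization.Away g) (g ^ j)) :=
    IsLocalization.map_units _ (⟨g ^ j, j, rfl⟩ : Submonoid.powers g)
  exact (Ideal.unit_mul_mem_iff_mem _ hu).1 h2

end Away

section Main

variable (R A : Type u) [CommRing R] [CommRing A] [IsNoetherianRing R] [Algebra R A]
  (n : ℕ) (f₀ : MvPolynomial (Fin n) R →ₐ[R] A) (hf₀ : Function.Surjective f₀)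
  (hI : LCI.IsKoszulRegularIdeal (RingHom.ker f₀.toRingHom))
  {R₀ : Dual.D (MvPolynomial (Fin n) R) ⥤ Dual.D A} (adj₀ : DRing.restrictD f₀.toRingHom ⊣ R₀)

include hf₀ hI adj₀ in
/-- for a presentation with Koszul-regular kernel, `ω_{A/R}` is locally a shift of `A` -/
theorem lci_local (q : PrimeSpectrum A) :
    ∃ (f : A) (_ : f ∉ q.asIdeal) (m : ℤ),
      Nonempty ((DRing.LBaseChange (algebraMap A (Localization.Away f))).obj
        ((R₀.obj ((DRing.LBaseChange (algebraMap R (MvPolynomial (Fin n) R))).obj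
          (Dual.inD R R)))⟦(n : ℤ)⟧) ≅
        (Dual.inD (Localization.Away f) (Localization.Away f))⟦m⟧) := by
  let P := MvPolynomial (Fin n) R
  let φ : P →+* A := f₀.toRingHom
  have hφ : Function.Surjective φ := hf₀
  let 𝔭 : PrimeSpectrum P := ⟨q.asIdeal.comap φ, inferInstance⟩
  have hle : RingHom.ker φ ≤ 𝔭.asIdeal := Ideal.comap_mono bot_le
  obtain ⟨g, hg, l, hl, hspan⟩ := hI 𝔭 hle
  have hgq : φ g ∉ q.asIdeal := hg
  refine ⟨φ g, hgq, (n : ℤ) - (l.length : ℤ), ?_⟩
  let S := Localization.Away g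
  let Af := Localization.Away (φ g)
  haveI : IsNoetherianRing S :=
    IsLocalization.isNoetherianRing (Submonoid.powers g) S inferInstance
  have hfS : (algebraMap P S).Flat :=
    RingHom.flat_algebraMap_iff.2 (IsLocalization.flat S (Submonoid.powers g))
  have hgA : (algebraMap A Af).Flat :=
    RingHom.flat_algebraMap_iff.2 (IsLocalization.flat Af (Submonoid.powers (φ g)))
  haveI : Module.Flat P S := IsLocalization.flat S (Submonoid.powers g)
  obtain ⟨RS, ⟨adjS⟩⟩ := exists_rightAdjoint (psiS φ g)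
  let L0 : Dual.D P := (DRing.LBaseChange (algebraMap R P)).obj (Dual.inD R R)
  haveI : (Dual.inD R R).IsGE 0 := by
    change ((singleFunctor (ModuleCat.{u} R) 0).obj (ModuleCat.of R R)).IsGE 0
    infer_instance
  haveI : L0.IsGE 0 := ShriekComp.isGE_lbc_poly R (Fin n) (Dual.inD R R) 0
  obtain ⟨e1⟩ := BCe.main (algebraMap P S) (algebraMap A Af) φ (psiS φ g) (psiS_comp φ g) hφ
    (psiS_surjective φ g hφ) (psiS_ker φ g) hfS hgA adj₀ adjS L0 0
  have e2 : (DRing.LBaseChange (algebraMap P S)).obj L0 ≅ Dual.inD S S :=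
    (DRing.LBaseChange (algebraMap P S)).mapIso (KosC.lbcUnit R P) ≪≫ KosC.lbcUnit P S
  have hker : RingHom.ker (psiS φ g) = Ideal.ofList l := by
    have h1 : Ideal.ofList l = Ideal.map (algebraMap P S) (RingHom.ker φ) := by
      rw [hspan]
    rw [h1]
    apply le_antisymm
    · intro s hs
      exact psiS_ker φ g s hs
    · rw [Ideal.map_le_iff_le_comap]
      intro p hp
      have h2 := congrArg (fun k => k p) (psiS_comp φ g)
      change psiS φ g (algebraMap P S p) = 0
      change psiS φ g (algebraMap P S p) = algebraMap A Af (φ p) at h2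
      rw [h2, RingHom.mem_ker.1 hp, map_zero]
  obtain ⟨e3⟩ := KosC.koszul_case (psiS φ g) (psiS_surjective φ g hφ) l hl hker l.length rfl adjS
  have hsum : (-(l.length : ℤ)) + (n : ℤ) = (n : ℤ) - (l.length : ℤ) := by ring
  exact ⟨lbcShift _ _ _ ≪≫ (shiftFunctor (Dual.D Af) (n : ℤ)).mapIso
      (e1 ≪≫ RS.mapIso e2 ≪≫ e3) ≪≫
    ((shiftFunctorAdd' (Dual.D Af) _ _ _ hsum).app _).symm⟩

end Main

end Groth.Agent.Lib.Helper89.KosD
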