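import Groth.Agent.Lib.Helper89.Shriek3
import Mathlib.Algebra.MvPolynomial.Equiv
import Mathlib.SetTheory.Cardinal.NatCard

/-!
# The multi-variable step: for `χ : S[κ] → S`, `y_j ↦ g_j`, `Rχ (M ⊗_S S[κ]) ≅ M[-|κ|]`
-/

set_option autoImplicit false
universe u

namespace Groth.Agent.Lib.Helper89.Shriek4

open CategoryTheory CategoryTheory.Limits DerivedCategory CategoryTheory.Pretriangulated
open Groth.Agent.Lib.Helper15.PseudoCohRes Groth.Agent.Lib.Helper15.LBCFlat
  Groth.Agent.Lib.Helper15 Groth.Agent.Lib.Helper89.Shriek2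

attribute [local instance] HasDerivedCategory.standard

section RingIdentities

variable (S : Type u) [CommRing S]

theorem sigma_C (s : S) : s = MvPolynomial.isEmptyRingEquiv S PEmpty.{1} (MvPolynomial.C s) :=
  (MvPolynomial.isEmptyRingEquiv S PEmpty.{1}).symm_apply_eq.1
    (MvPolynomial.isEmptyRingEquiv_symm_apply S PEmpty.{1} s)

theorem hf_empty :
    RingHom.id S = ((MvPolynomial.isEmptyRingEquiv S PEmpty.{1} :
      MvPolynomial PEmpty.{1} S ≃+* S) : MvPolynomial PEmpty.{1} S →+* S).comp MvPolynomial.C := by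
  ext s
  exact sigma_C S s

theorem hψ_empty (g : PEmpty.{1} → S) : MvPolynomial.eval₂Hom (RingHom.id S) g =
      (RingHom.id S).comp ((MvPolynomial.isEmptyRingEquiv S PEmpty.{1} :
        MvPolynomial PEmpty.{1} S ≃+* S) : MvPolynomial PEmpty.{1} S →+* S) := by
  apply MvPolynomial.ringHom_ext
  · intro s
    change MvPolynomial.eval₂Hom (RingHom.id S) g (MvPolynomial.C s) =
      MvPolynomial.isEmptyRingEquiv S PEmpty.{1} (MvPolynomial.C s)
    rw [← sigma_C]
    simp
  · intro i
    exact i.elim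

theorem hf_option (α : Type) :
    ((Polynomial.C : MvPolynomial α S →+* Polynomial (MvPolynomial α S)).comp MvPolynomial.C) =
    (((MvPolynomial.optionEquivLeft S α).toRingEquiv :
      MvPolynomial (Option α) S ≃+* Polynomial (MvPolynomial α S)) :
      MvPolynomial (Option α) S →+* Polynomial (MvPolynomial α S)).comp MvPolynomial.C := by
  ext s : 1
  simp [MvPolynomial.optionEquivLeft_C]

theorem hψ_option (α : Type) (g : Option α → S) :
    MvPolynomial.eval₂Hom (RingHom.id S) g =
      ((MvPolynomial.eval₂Hom (RingHom.id S) (fun i => g (some i))).comp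
        (Polynomial.evalRingHom (MvPolynomial.C (g none)))).comp
    (((MvPolynomial.optionEquivLeft S α).toRingEquiv :
      MvPolynomial (Option α) S ≃+* Polynomial (MvPolynomial α S)) :
      MvPolynomial (Option α) S →+* Polynomial (MvPolynomial α S)) := by
  apply MvPolynomial.ringHom_ext
  · intro s
    simp [MvPolynomial.optionEquivLeft_C]
  · intro i
    cases i with
    | none => simp [MvPolynomial.optionEquivLeft_X_none]
    | some i => simp [MvPolynomial.optionEquivLeft_X_some]

end RingIdentities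

/-- the statement for a fixed index type -/
def P (κ : Type) : Prop :=
  ∀ (S : Type u) [CommRing S] (g : κ → S)
    (R : Dual.D (MvPolynomial κ S) ⥤ Dual.D S)
    (_ : DRing.restrictD (MvPolynomial.eval₂Hom (RingHom.id S) g) ⊣ R) (M : Dual.D S),
    Nonempty (R.obj ((DRing.LBaseChange (MvPolynomial.C : S →+* MvPolynomial κ S)).obj M) ≅
      M⟦-(Nat.card κ : ℤ)⟧)

theorem P_of_equiv {α β : Type} (e : α ≃ β) (hα : P.{u} α) : P.{u} β := by
  intro S _ g R adj M
  let σ : MvPolynomial α S ≃+* MvPolynomial β S := (MvPolynomial.renameEquiv S e).toRingEquiv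
  obtain ⟨R', ⟨adj'⟩⟩ := exists_rightAdjoint
    (MvPolynomial.eval₂Hom (RingHom.id S) (fun i => g (e i)))
  obtain ⟨i1⟩ := hα S (fun i => g (e i)) R' adj' M
  have hf : (MvPolynomial.C : S →+* MvPolynomial β S) =
      (σ : MvPolynomial α S →+* MvPolynomial β S).comp MvPolynomial.C := by
    ext s
    simp [σ]
  have hψ : MvPolynomial.eval₂Hom (RingHom.id S) (fun i => g (e i)) =
      (MvPolynomial.eval₂Hom (RingHom.id S) g).comp
        (σ : MvPolynomial α S →+* MvPolynomial β S) := by
    apply MvPolynomial.ringHom_ext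
    · intro s
      simp [σ]
    · intro i
      simp [σ]
  obtain ⟨i2⟩ := iso_invariance (MvPolynomial.C : S →+* MvPolynomial α S) σ
    (MvPolynomial.C : S →+* MvPolynomial β S) hf _ _ hψ adj' adj M
  have hc : Nat.card α = Nat.card β := Nat.card_congr e
  rw [← hc]
  exact ⟨i2.symm ≪≫ i1⟩

theorem P_empty : P.{u} PEmpty.{1} := by
  intro S _ g R adj M
  have adj' : DRing.restrictD (RingHom.id S) ⊣ 𝟭 (Dual.D S) :=
    Adjunction.id.ofNatIsoLeft restrictDId.symm
  obtain ⟨i2⟩ := iso_invariance (MvPolynomial.C : S →+* MvPolynomial PEmpty.{1} S)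
    (MvPolynomial.isEmptyRingEquiv S PEmpty.{1})
    (RingHom.id S) (hf_empty S) _ _ (hψ_empty S g) adj adj' M
  have h0 : (-(Nat.card PEmpty.{1} : ℤ)) = 0 := by simp
  exact ⟨i2 ≪≫ lbcId.app M ≪≫ ((shiftFunctorZero' (Dual.D S) _ h0).app M).symm⟩

theorem P_option {α : Type} [Fintype α] (hα : P.{u} α) : P.{u} (Option α) := by
  intro S _ g R adj M
  obtain ⟨R1, ⟨adj1⟩⟩ := exists_rightAdjoint
    (Polynomial.evalRingHom (MvPolynomial.C (g none) : MvPolynomial α S))
  obtain ⟨Rα, ⟨adjα⟩⟩ := exists_rightAdjoint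
    (MvPolynomial.eval₂Hom (RingHom.id S) (fun i => g (some i)))
  obtain ⟨R', ⟨adj'⟩⟩ := exists_rightAdjoint
    ((MvPolynomial.eval₂Hom (RingHom.id S) (fun i => g (some i))).comp
        (Polynomial.evalRingHom (MvPolynomial.C (g none))))
  obtain ⟨i1⟩ := iso_invariance (MvPolynomial.C : S →+* MvPolynomial (Option α) S)
    (MvPolynomial.optionEquivLeft S α).toRingEquiv
    _ (hf_option S α) _ _ (hψ_option S α g) adj adj' M
  have e2 : R' ≅ R1 ⋙ Rα := rightAdjComp _ _ _ rfl adj1 adjα adj'
  have e3 : (DRing.LBaseChange ((Polynomial.C :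
      MvPolynomial α S →+* Polynomial (MvPolynomial α S)).comp MvPolynomial.C)).obj M ≅
      (DRing.LBaseChange (Polynomial.C : MvPolynomial α S →+* Polynomial (MvPolynomial α S))).obj
        ((DRing.LBaseChange (MvPolynomial.C : S →+* MvPolynomial α S)).obj M) :=
    ((lbcComp (MvPolynomial.C : S →+* MvPolynomial α S)
      (Polynomial.C : MvPolynomial α S →+* Polynomial (MvPolynomial α S))).app M).symm
  obtain ⟨e4⟩ := Shriek3.key (MvPolynomial.C (g none) : MvPolynomial α S) adj1
    ((DRing.LBaseChange (MvPolynomial.C : S →+* MvPolynomial α S)).obj M)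
  obtain ⟨e5⟩ := hα S (fun i => g (some i)) Rα adjα M
  have hc : (-(Nat.card α : ℤ)) + (-1 : ℤ) = -(Nat.card (Option α) : ℤ) := by
    rw [Finite.card_option]
    push_cast
    ring
  exact ⟨i1 ≪≫ e2.app _ ≪≫ Rα.mapIso (R1.mapIso e3 ≪≫ e4) ≪≫
    rightAdjShift _ adjα (-1 : ℤ) _ ≪≫ (shiftFunctor (Dual.D S) (-1 : ℤ)).mapIso e5 ≪≫
    ((shiftFunctorAdd' (Dual.D S) _ _ _ hc).app M).symm⟩

/-- **the multi-variable step** -/
theorem multi (κ : Type) [Finite κ] : P.{u} κ :=
  Finite.induction_empty_option (P := P.{u}) (fun e h => P_of_equiv e h) P_empty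
    (fun h => P_option h) κ

end Groth.Agent.Lib.Helper89.Shriek4
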