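import Groth.Agent.Lib.Helper89.Lau4
import Groth.Agent.Lib.Helper89.Shriek4
import Mathlib.RingTheory.IntegralClosure.IsIntegral.Defs

/-!
# The multi-variable finite step: `θ : S[κ] → A` with all `θ (X j)` integral over `S`:
`(Rθ (N ⊗_S S[κ]))[|κ|] ≅ R_{θ ∘ C} N`
-/

set_option autoImplicit false
universe u

namespace Groth.Agent.Lib.Helper89.Lau5

open CategoryTheory CategoryTheory.Limits DerivedCategory CategoryTheory.Pretriangulated
open Groth.Agent.Lib.Helper15.PseudoCohRes Groth.Agent.Lib.Helper15.LBCFlat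
  Groth.Agent.Lib.Helper15 Groth.Agent.Lib.Helper89.Shriek2

attribute [local instance] HasDerivedCategory.standard

/-- the statement for a fixed index type -/
def PF (κ : Type) : Prop :=
  ∀ (S A : Type u) [CommRing S] [CommRing A] (θ : MvPolynomial κ S →+* A)
    (_ : ∀ j, (θ.comp MvPolynomial.C).IsIntegralElem (θ (MvPolynomial.X j)))
    (Rθ : Dual.D (MvPolynomial κ S) ⥤ Dual.D A) (_ : DRing.restrictD θ ⊣ Rθ)
    (θ₀ : S →+* A) (_ : θ₀ = θ.comp MvPolynomial.C)
    (R₀ : Dual.D S ⥤ Dual.D A) (_ : DRing.restrictD θ₀ ⊣ R₀) (N : Dual.D S),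
    Nonempty ((Rθ.obj ((DRing.LBaseChange
      (MvPolynomial.C : S →+* MvPolynomial κ S)).obj N))⟦(Nat.card κ : ℤ)⟧ ≅ R₀.obj N)

theorem PF_of_equiv {α β : Type} (e : α ≃ β) (hα : PF.{u} α) : PF.{u} β := by
  intro S A _ _ θ hint Rθ adj θ₀ hθ₀ R₀ adj₀ N
  let σ : MvPolynomial α S ≃+* MvPolynomial β S := (MvPolynomial.renameEquiv S e).toRingEquiv
  have hf : (MvPolynomial.C : S →+* MvPolynomial β S) =
      (σ : MvPolynomial α S →+* MvPolynomial β S).comp MvPolynomial.C := by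
    ext s
    simp [σ]
  have hX : ∀ i, (σ : MvPolynomial α S →+* MvPolynomial β S) (MvPolynomial.X i) =
      MvPolynomial.X (e i) := by
    intro i
    simp [σ]
  obtain ⟨R', ⟨adj'⟩⟩ := exists_rightAdjoint
    (θ.comp (σ : MvPolynomial α S →+* MvPolynomial β S))
  have hC : (θ.comp (σ : MvPolynomial α S →+* MvPolynomial β S)).comp MvPolynomial.C =
      θ.comp MvPolynomial.C := by
    rw [RingHom.comp_assoc, ← hf]
  obtain ⟨i1⟩ := hα S A (θ.comp (σ : MvPolynomial α S →+* MvPolynomial β S))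
    (fun i => by
      rw [hC, RingHom.comp_apply, hX]
      exact hint (e i)) R' adj' θ₀ (hθ₀.trans hC.symm) R₀ adj₀ N
  obtain ⟨i2⟩ := iso_invariance (MvPolynomial.C : S →+* MvPolynomial α S) σ
    (MvPolynomial.C : S →+* MvPolynomial β S) hf θ _ rfl adj' adj N
  have hc : Nat.card α = Nat.card β := Nat.card_congr e
  rw [← hc]
  exact ⟨(shiftFunctor (Dual.D A) (Nat.card α : ℤ)).mapIso i2.symm ≪≫ i1⟩

theorem PF_empty : PF.{u} PEmpty.{1} := by
  intro S A _ _ θ hint Rθ adj θ₀ hθ₀ R₀ adj₀ N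
  have hψ : θ = θ₀.comp ((MvPolynomial.isEmptyRingEquiv S PEmpty.{1} :
      MvPolynomial PEmpty.{1} S ≃+* S) : MvPolynomial PEmpty.{1} S →+* S) := by
    rw [hθ₀]
    apply MvPolynomial.ringHom_ext
    · intro s
      rw [RingHom.comp_apply, RingHom.comp_apply]
      change θ (MvPolynomial.C s) = θ (MvPolynomial.C
        (MvPolynomial.isEmptyRingEquiv S PEmpty.{1} (MvPolynomial.C s)))
      rw [← Shriek4.sigma_C]
    · intro i
      exact i.elim
  obtain ⟨i2⟩ := iso_invariance (MvPolynomial.C : S →+* MvPolynomial PEmpty.{1} S)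
    (MvPolynomial.isEmptyRingEquiv S PEmpty.{1})
    (RingHom.id S) (Shriek4.hf_empty S) θ₀ θ hψ adj adj₀ N
  have h0 : ((Nat.card PEmpty.{1} : ℕ) : ℤ) = 0 := by simp
  exact ⟨(shiftFunctorZero' (Dual.D A) _ h0).app _ ≪≫ i2 ≪≫ R₀.mapIso (lbcId.app N)⟩

theorem PF_option {α : Type} [Fintype α] (hα : PF.{u} α) : PF.{u} (Option α) := by
  intro S A _ _ θ hint Rθ adj θ₀ hθ₀ R₀ adj₀ N
  let σ : MvPolynomial (Option α) S ≃+* Polynomial (MvPolynomial α S) :=
    (MvPolynomial.optionEquivLeft S α).toRingEquiv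
  let θ' : Polynomial (MvPolynomial α S) →+* A :=
    θ.comp (σ.symm : Polynomial (MvPolynomial α S) →+* MvPolynomial (Option α) S)
  have hθθ' : θ = θ'.comp (σ : MvPolynomial (Option α) S →+* Polynomial (MvPolynomial α S)) := by
    ext x <;> simp [θ']
  have hX : θ' Polynomial.X = θ (MvPolynomial.X none) := by
    simp [θ', σ]
  have hCX : ∀ i, θ' (Polynomial.C (MvPolynomial.X i)) = θ (MvPolynomial.X (some i)) := by
    intro i
    simp [θ', σ]
  have hCC : (θ'.comp Polynomial.C).comp (MvPolynomial.C : S →+* MvPolynomial α S) =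
      θ.comp MvPolynomial.C := by
    ext s
    simp [θ', σ]
  -- the monic polynomial
  obtain ⟨p, hp, hp0⟩ := hint none
  have hθ'f : θ' (p.map (MvPolynomial.C : S →+* MvPolynomial α S)) = 0 := by
    have h1 : θ' (p.map (MvPolynomial.C : S →+* MvPolynomial α S)) =
        (p.map (MvPolynomial.C : S →+* MvPolynomial α S)).eval₂ (θ'.comp Polynomial.C)
          (θ' Polynomial.X) := by
      conv_lhs => rw [← Polynomial.eval₂_C_X (p := p.map (MvPolynomial.C : S →+* MvPolynomial α S))]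
      rw [Polynomial.hom_eval₂]
    rw [h1, Polynomial.eval₂_map, hCC, hX]
    exact hp0
  obtain ⟨R', ⟨adj'⟩⟩ := exists_rightAdjoint θ'
  obtain ⟨Rα, ⟨adjα⟩⟩ := exists_rightAdjoint (θ'.comp Polynomial.C)
  obtain ⟨i1⟩ := Lau4.finite_step θ' (p.map (MvPolynomial.C : S →+* MvPolynomial α S))
    (hp.map _) hθ'f adj' (θ'.comp Polynomial.C) rfl adjα
    ((DRing.LBaseChange (MvPolynomial.C : S →+* MvPolynomial α S)).obj N)
  obtain ⟨i2⟩ := hα S A (θ'.comp Polynomial.C)
    (fun i => by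
      rw [hCC, RingHom.comp_apply, hCX]
      exact hint (some i)) Rα adjα θ₀ (hθ₀.trans hCC.symm) R₀ adj₀ N
  obtain ⟨i3⟩ := iso_invariance (MvPolynomial.C : S →+* MvPolynomial (Option α) S)
    (MvPolynomial.optionEquivLeft S α).toRingEquiv
    _ (Shriek4.hf_option S α) θ' θ hθθ' adj adj' N
  have e3 : (DRing.LBaseChange ((Polynomial.C :
      MvPolynomial α S →+* Polynomial (MvPolynomial α S)).comp MvPolynomial.C)).obj N ≅
      (DRing.LBaseChange (Polynomial.C : MvPolynomial α S →+* Polynomial (MvPolynomial α S))).obj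
        ((DRing.LBaseChange (MvPolynomial.C : S →+* MvPolynomial α S)).obj N) :=
    ((lbcComp (MvPolynomial.C : S →+* MvPolynomial α S)
      (Polynomial.C : MvPolynomial α S →+* Polynomial (MvPolynomial α S))).app N).symm
  have hc : (1 : ℤ) + (Nat.card α : ℤ) = (Nat.card (Option α) : ℤ) := by
    rw [Finite.card_option]
    push_cast
    ring
  exact ⟨(shiftFunctor (Dual.D A) _).mapIso (i3 ≪≫ R'.mapIso e3) ≪≫
    (shiftFunctorAdd' (Dual.D A) _ _ _ hc).app _ ≪≫
    (shiftFunctor (Dual.D A) (Nat.card α : ℤ)).mapIso i1 ≪≫ i2⟩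

/-- **the multi-variable finite step** -/
theorem multi_finite (κ : Type) [Finite κ] : PF.{u} κ :=
  Finite.induction_empty_option (P := PF.{u}) (fun e h => PF_of_equiv e h) PF_empty
    (fun h => PF_option h) κ

end Groth.Agent.Lib.Helper89.Lau5
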