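import Groth.Agent.Lib.Helper89.H0Omega
import Groth.Agent.S1784
import Mathlib.AlgebraicGeometry.Morphisms.Flat
import Mathlib.AlgebraicGeometry.OpenImmersion
import Mathlib.Algebra.Category.Ring.Epi
import Mathlib.RingTheory.FiniteType

/-!
# `H^0(φ^! A) ≅ Hom_A(B', A) ⊗_{B'} B` for `A → B' → B`, `A → B'` finite, `Spec B → Spec B'` an
open immersion
-/

set_option autoImplicit false
universe u

namespace Groth.Agent.Lib.Helper89.QFOmega

open CategoryTheory CategoryTheory.Limits DerivedCategory AlgebraicGeometry TensorProduct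
open Groth.Agent.Lib.Helper89.Shriek2

attribute [local instance] HasDerivedCategory.standard

theorem isEpi_of_openImm (B' B : Type u) [CommRing B'] [CommRing B] [Algebra B' B]
    (hopen : IsOpenImmersion (Spec.map (CommRingCat.ofHom (algebraMap B' B)))) :
    Algebra.IsEpi B' B := by
  rw [← CommRingCat.epi_iff_epi]
  haveI : Mono (Scheme.Spec.map (CommRingCat.ofHom (algebraMap B' B)).op) :=
    inferInstanceAs (Mono (Spec.map (CommRingCat.ofHom (algebraMap B' B))))
  haveI : Mono (CommRingCat.ofHom (algebraMap B' B)).op :=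
    Functor.mono_of_mono_map Scheme.Spec inferInstance
  exact unop_epi_of_mono (CommRingCat.ofHom (algebraMap B' B)).op

theorem flat_of_openImm (B' B : Type u) [CommRing B'] [CommRing B] [Algebra B' B]
    (hopen : IsOpenImmersion (Spec.map (CommRingCat.ofHom (algebraMap B' B)))) :
    (algebraMap B' B).Flat := by
  have h : Flat (Spec.map (CommRingCat.ofHom (algebraMap B' B))) := inferInstance
  rw [Flat.SpecMap_iff] at h
  exact h

theorem main (A B B' : Type u) [CommRing A] [CommRing B] [CommRing B'] [IsNoetherianRing A]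
    [Algebra A B] [Algebra A B'] [Algebra B' B] [IsScalarTower A B' B] [Module.Finite A B']
    (hopen : IsOpenImmersion (Spec.map (CommRingCat.ofHom (algebraMap B' B)))) (n : ℕ)
    (ψ : MvPolynomial (Fin n) A →ₐ[A] B) (hψ : Function.Surjective ψ)
    {Rψ : Dual.D (MvPolynomial (Fin n) A) ⥤ Dual.D B} (adj : DRing.restrictD ψ.toRingHom ⊣ Rψ) :
    Nonempty (Dual.HD B ((Rψ.obj ((DRing.LBaseChange
      (algebraMap A (MvPolynomial (Fin n) A))).obj (Dual.inD A A)))⟦(n : ℤ)⟧) 0 ≃ₗ[B]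
      (B ⊗[B'] Disc.Omega A B')) := by
  haveI : IsNoetherianRing B' := IsNoetherianRing.of_finite A B'
  haveI : Algebra.IsEpi B' B := isEpi_of_openImm B' B hopen
  have hflat := flat_of_openImm B' B hopen
  haveI : Module.Flat B' B := RingHom.flat_algebraMap_iff.1 hflat
  -- presentations
  haveI : Algebra.FiniteType A B' := inferInstance
  obtain ⟨k, ψ₁, hψ₁⟩ := Algebra.FiniteType.iff_quotient_mvPolynomial''.1
    (inferInstance : Algebra.FiniteType A B')
  haveI : Algebra.FiniteType A B := Algebra.FiniteType.of_surjective ψ hψ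
  haveI : Algebra.FiniteType B' B := Algebra.FiniteType.of_restrictScalars_finiteType A B' B
  obtain ⟨m, χ, hχ⟩ := Algebra.FiniteType.iff_quotient_mvPolynomial''.1
    (inferInstance : Algebra.FiniteType B' B)
  obtain ⟨Rψ₁, ⟨adj₁⟩⟩ := exists_rightAdjoint ψ₁.toRingHom
  obtain ⟨Rχ, ⟨adjχ⟩⟩ := exists_rightAdjoint χ.toRingHom
  obtain ⟨R₀, ⟨adj₀⟩⟩ := exists_rightAdjoint (algebraMap A B')
  haveI : (Dual.inD A A).IsGE 0 := inferInstance
  obtain ⟨e1⟩ := ShriekComp.main A B' B k ψ₁ hψ₁ adj₁ m χ hχ adjχ n ψ hψ adj (Dual.inD A A) 0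
  obtain ⟨e2⟩ := Groth.Agent.S1784.result A B' k ψ₁ hψ₁ Rψ₁ adj₁ R₀ adj₀ (Dual.inD A A)
  obtain ⟨C, hC, ⟨e3⟩, ⟨e4⟩⟩ := H0.exists_model (algebraMap A B') adj₀ (ModuleCat.of A A)
  haveI := hC
  haveI : (Q.obj C).IsGE 0 := inferInstance
  haveI : (R₀.obj (Dual.inD A A)).IsGE 0 := TStructure.t.isGE_of_iso e3.symm 0
  obtain ⟨e5⟩ := FlatEpi.main B' B m χ hχ adjχ (R₀.obj (Dual.inD A A)) 0
  obtain ⟨e6⟩ := H0.homology_lbc (algebraMap B' B) hflat C 0
  have E := e1 ≪≫ (shiftFunctor (Dual.D B) (m : ℤ)).mapIso (Rχ.mapIso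
      ((DRing.LBaseChange (algebraMap B' (MvPolynomial (Fin m) B'))).mapIso e2)) ≪≫ e5 ≪≫
    (DRing.LBaseChange (algebraMap B' B)).mapIso e3
  have E' := (DerivedCategory.homologyFunctor (ModuleCat.{u} B) 0).mapIso E ≪≫ e6 ≪≫
    (ModuleCat.extendScalars.{u, u, u} (algebraMap B' B)).mapIso e4
  exact ⟨E'.toLinearEquiv ≪≫ₗ H0Omega.tensB A B' B⟩

end Groth.Agent.Lib.Helper89.QFOmega
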