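import Groth.Agent.Lib.Helper89.KosD
import Groth.Agent.Lib.Helper89.QFOmega
import Groth.Agent.Lib.Helper25.TrivDual

/-!
# Upper shriek for presentations with Koszul-regular kernel, and localization of the upper shriek
-/

set_option autoImplicit false
universe u

namespace Groth.Agent.Lib.Helper89.KosE

open CategoryTheory CategoryTheory.Limits DerivedCategory AlgebraicGeometry TensorProduct
open Groth.Agent.Lib.Helper89.Shriek2 Groth.Agent.Lib.Helper89.Shriek6

attribute [local instance] HasDerivedCategory.standard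

section Koszul

variable (R T : Type u) [CommRing R] [CommRing T] [IsNoetherianRing R] [Algebra R T]
  (n : ℕ) (f₀ : MvPolynomial (Fin n) R →ₐ[R] T) (hf₀ : Function.Surjective f₀)
  (l : List (MvPolynomial (Fin n) R)) (hl : LCI.IsKoszulRegularSeq (MvPolynomial (Fin n) R) l)
  (hker : RingHom.ker f₀.toRingHom = Ideal.ofList l)
  {R₀ : Dual.D (MvPolynomial (Fin n) R) ⥤ Dual.D T} (adj₀ : DRing.restrictD f₀.toRingHom ⊣ R₀)

include hf₀ hl hker adj₀ in
/-- `ω_{T/R} ≅ T[n - c]` for a presentation whose kernel is generated by a Koszul-regular sequence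
of length `c` -/
theorem shriek_koszul :
    Nonempty ((R₀.obj ((DRing.LBaseChange (algebraMap R (MvPolynomial (Fin n) R))).obj
        (Dual.inD R R)))⟦(n : ℤ)⟧ ≅ (Dual.inD T T)⟦(n : ℤ) - (l.length : ℤ)⟧) := by
  have hφ : Function.Surjective f₀.toRingHom := hf₀
  obtain ⟨e3⟩ := KosC.koszul_case f₀.toRingHom hφ l hl hker l.length rfl adj₀
  have hsum : (-(l.length : ℤ)) + (n : ℤ) = (n : ℤ) - (l.length : ℤ) := by ring
  exact ⟨(shiftFunctor (Dual.D T) (n : ℤ)).mapIso
      (R₀.mapIso (KosC.lbcUnit R (MvPolynomial (Fin n) R)) ≪≫ e3) ≪≫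
    ((shiftFunctorAdd' (Dual.D T) _ _ _ hsum).app _).symm⟩

end Koszul

section Loc

variable (A B : Type u) [CommRing A] [CommRing B] [IsNoetherianRing A] [IsNoetherianRing B]
  [Algebra A B] (g : B)
  (n : ℕ) (ψ : MvPolynomial (Fin n) A →ₐ[A] B) (hψ : Function.Surjective ψ)
  {Rψ : Dual.D (MvPolynomial (Fin n) A) ⥤ Dual.D B} (adj : DRing.restrictD ψ.toRingHom ⊣ Rψ)
  (k : ℕ) (θ : MvPolynomial (Fin k) A →ₐ[A] Localization.Away g) (hθ : Function.Surjective θ)
  {Rθ : Dual.D (MvPolynomial (Fin k) A) ⥤ Dual.D (Localization.Away g)}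
  (adjθ : DRing.restrictD θ.toRingHom ⊣ Rθ)

include hψ adj hθ adjθ in
/-- the upper shriek commutes with localization of the target -/
theorem shriek_localization (K : Dual.D A) (c : ℤ) [K.IsGE c] :
    Nonempty ((Rθ.obj ((DRing.LBaseChange
        (algebraMap A (MvPolynomial (Fin k) A))).obj K))⟦(k : ℤ)⟧ ≅
      (DRing.LBaseChange (algebraMap B (Localization.Away g))).obj
        ((Rψ.obj ((DRing.LBaseChange
          (algebraMap A (MvPolynomial (Fin n) A))).obj K))⟦(n : ℤ)⟧)) := by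
  haveI : Algebra.IsEpi B (Localization.Away g) :=
    QFOmega.isEpi_of_openImm B (Localization.Away g) (IsOpenImmersion.of_isLocalization g)
  haveI : Module.Flat B (Localization.Away g) :=
    IsLocalization.flat (Localization.Away g) (Submonoid.powers g)
  haveI : Algebra.FinitePresentation B (Localization.Away g) :=
    IsLocalization.Away.finitePresentation g
  haveI : Algebra.FiniteType B (Localization.Away g) := inferInstance
  obtain ⟨m, χ, hχ⟩ := Algebra.FiniteType.iff_quotient_mvPolynomial''.1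
    (inferInstance : Algebra.FiniteType B (Localization.Away g))
  obtain ⟨Rχ, ⟨adjχ⟩⟩ := exists_rightAdjoint χ.toRingHom
  obtain ⟨e1⟩ := ShriekComp.main A B (Localization.Away g) n ψ hψ adj m χ hχ adjχ k θ hθ adjθ K c
  let L : Dual.D (MvPolynomial (Fin n) A) :=
    (DRing.LBaseChange (algebraMap A (MvPolynomial (Fin n) A))).obj K
  haveI : L.IsGE c := ShriekComp.isGE_lbc_poly A (Fin n) K c
  haveI : (Rψ.obj L).IsGE c := Groth.Agent.Lib.Helper25.TrivDual.isGE_rightAdjoint Rψ adj L c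
  haveI : ((Rψ.obj L)⟦(n : ℤ)⟧).IsGE (c - n) :=
    TStructure.t.isGE_shift (Rψ.obj L) c (n : ℤ) (c - n) (by ring)
  obtain ⟨e2⟩ := FlatEpi.main B (Localization.Away g) m χ hχ adjχ ((Rψ.obj L)⟦(n : ℤ)⟧) (c - n)
  exact ⟨e1 ≪≫ e2⟩

end Loc

section QF

open Groth.Agent.Lib.Helper15.LBCFlat Groth.Agent.Lib.Helper15 Groth.Agent.Lib.Helper84

/-- in the quasi-finite case the relative dualizing complex lives in degrees `≥ 0` -/
theorem isGE_shriek_qf (A B B' : Type u) [CommRing A] [CommRing B] [CommRing B']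
    [IsNoetherianRing A]
    [Algebra A B] [Algebra A B'] [Algebra B' B] [IsScalarTower A B' B] [Module.Finite A B']
    (hopen : IsOpenImmersion (Spec.map (CommRingCat.ofHom (algebraMap B' B)))) (n : ℕ)
    (ψ : MvPolynomial (Fin n) A →ₐ[A] B) (hψ : Function.Surjective ψ)
    {Rψ : Dual.D (MvPolynomial (Fin n) A) ⥤ Dual.D B} (adj : DRing.restrictD ψ.toRingHom ⊣ Rψ) :
    ((Rψ.obj ((DRing.LBaseChange
      (algebraMap A (MvPolynomial (Fin n) A))).obj (Dual.inD A A)))⟦(n : ℤ)⟧).IsGE 0 := by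
  haveI : IsNoetherianRing B' := IsNoetherianRing.of_finite A B'
  haveI : Algebra.IsEpi B' B := QFOmega.isEpi_of_openImm B' B hopen
  have hflat := QFOmega.flat_of_openImm B' B hopen
  haveI : Module.Flat B' B := RingHom.flat_algebraMap_iff.1 hflat
  haveI : Algebra.FiniteType A B' := inferInstance
  obtain ⟨k, ψ₁, hψ₁⟩ := Algebra.FiniteType.iff_quotient_mvPolynomial''.1
    (inferInstance : Algebra.FiniteType A B')
  haveI : Algebra.FiniteType A B := Algebra.FiniteType.of_surjective ψ hψ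
  haveI : Algebra.FiniteType B' B := Algebra.FiniteType.of_restrictScalars_finiteType A B' B
  obtain ⟨m, χ, hχ⟩ := Algebra.FiniteType.iff_quotient_mvPolynomial''.1
    (inferInstance : Algebra.FiniteType B' B)
  obtain ⟨Rψ₁, ⟨adj₁⟩⟩ := exists_rightAdjoint ψ₁.toRingHom
  obtain ⟨Rχ, ⟨adjχ⟩⟩ := exists_rightAdjoint χ.toRingHom
  obtain ⟨R₀, ⟨adj₀⟩⟩ := exists_rightAdjoint (algebraMap A B')
  haveI : (Dual.inD A A).IsGE 0 := inferInstance
  obtain ⟨e1⟩ := ShriekComp.main A B' B k ψ₁ hψ₁ adj₁ m χ hχ adjχ n ψ hψ adj (Dual.inD A A) 0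
  obtain ⟨e2⟩ := Groth.Agent.S1784.result A B' k ψ₁ hψ₁ Rψ₁ adj₁ R₀ adj₀ (Dual.inD A A)
  haveI : (R₀.obj (Dual.inD A A)).IsGE 0 :=
    Groth.Agent.Lib.Helper25.TrivDual.isGE_rightAdjoint R₀ adj₀ (Dual.inD A A) 0
  obtain ⟨e5⟩ := FlatEpi.main B' B m χ hχ adjχ (R₀.obj (Dual.inD A A)) 0
  have E := e1 ≪≫ (shiftFunctor (Dual.D B) (m : ℤ)).mapIso (Rχ.mapIso
      ((DRing.LBaseChange (algebraMap B' (MvPolynomial (Fin m) B'))).mapIso e2)) ≪≫ e5
  haveI : PreservesFiniteLimits (FlatBC.ext (algebraMap B' B)) :=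
    FlatBC.preservesFiniteLimits_ext _ hflat
  haveI := FlatBC.isGE_bc (algebraMap B' B) (R₀.obj (Dual.inD A A)) 0
  haveI : ((DRing.LBaseChange (algebraMap B' B)).obj (R₀.obj (Dual.inD A A))).IsGE 0 :=
    TStructure.t.isGE_of_iso ((lbcFlatIso (algebraMap B' B)).app _).symm 0
  exact TStructure.t.isGE_of_iso E.symm 0

end QF

end Groth.Agent.Lib.Helper89.KosE
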