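import Groth.Agent.Lib.Helper89.KosE
import Groth.Agent.Lib.Helper94.SyntV
import Groth.Agent.Lib.Helper94.CIField
import Groth.Agent.S9254
import Groth.Prelude.Def_QFDual

/-!
# The relative dualizing module of a quasi-finite syntomic map is locally free of rank one
-/

set_option autoImplicit false
universe u

namespace Groth.Agent.Lib.Helper89.KosF

open CategoryTheory CategoryTheory.Limits DerivedCategory AlgebraicGeometry TensorProduct
open Groth.Agent.Lib.Helper89.Shriek2 Groth.Agent.Lib.Helper15 Groth.Agent.Lib.Helper84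

attribute [local instance] HasDerivedCategory.standard

/-- a relative global complete intersection with a nontrivial ring has `c ≤ n` -/
theorem le_of_relGCI (A : Type u) [CommRing A] (N C : ℕ) (G : Fin C → MvPolynomial (Fin N) A)
    (hG : Synt.IsRelGCI A N C G) [Nontrivial (Synt.RelGCIRing A N C G)] : C ≤ N := by
  obtain ⟨Q₁, hQ₁⟩ := Ideal.exists_maximal (Synt.RelGCIRing A N C G)
  haveI := hQ₁.isPrime
  set p : Ideal A := Q₁.comap (algebraMap A (Synt.RelGCIRing A N C G)) with hp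
  haveI : p.IsPrime := Ideal.comap_isPrime _ _
  have hnt : Nontrivial (p.Fiber (Synt.RelGCIRing A N C G)) := by
    have q0 : PrimeSpectrum (p.Fiber (Synt.RelGCIRing A N C G)) :=
      PrimeSpectrum.primesOverOrderIsoFiber A (Synt.RelGCIRing A N C G) p
        ⟨Q₁, inferInstance, ⟨hp⟩⟩
    by_contra hcon
    rw [not_nontrivial_iff_subsingleton] at hcon
    exact q0.2.ne_top (Ideal.eq_top_of_isUnit_mem _ (Ideal.zero_mem _)
      (by rw [Subsingleton.elim (0 : p.Fiber (Synt.RelGCIRing A N C G)) 1]; exact isUnit_one))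
  exact (hG ⟨p, inferInstance⟩ hnt).1

/-- if `M[0][d]` with `d > 0` lies in `D^{≥ 0}` then `M = 0` -/
theorem subsingleton_of_isGE {T : Type u} [CommRing T] (M : ModuleCat.{u} T) (d : ℤ) (hd : 0 < d)
    [(((singleFunctor (ModuleCat.{u} T) 0).obj M)⟦d⟧).IsGE 0] : Subsingleton M := by
  haveI : (((singleFunctor (ModuleCat.{u} T) 0).obj M)⟦d⟧).IsLE (-d) :=
    TStructure.t.isLE_shift ((singleFunctor (ModuleCat.{u} T) 0).obj M) 0 d (-d) (by ring)
  have h1 : IsZero (((singleFunctor (ModuleCat.{u} T) 0).obj M)⟦d⟧) :=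
    TStructure.t.isZero _ (-d) 0 (by omega)
  have h2 : IsZero ((singleFunctor (ModuleCat.{u} T) 0).obj M) := by
    have h3 := (shiftFunctor (Dual.D T) (-d)).map_isZero h1
    exact h3.of_iso ((shiftFunctorCompIsoId (Dual.D T) d (-d) (by ring)).app _).symm
  have h4 : IsZero M := by
    rw [IsZero.iff_id_eq_zero]
    apply (singleFunctor (ModuleCat.{u} T) 0).map_injective
    rw [Functor.map_zero]
    exact h2.eq_of_src _ _
  exact ModuleCat.isZero_iff_subsingleton.1 h4

/-- **local freeness of `ω_{B/A}`** for a quasi-finite syntomic map -/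
theorem local_free (A B' B : Type u) [CommRing A] [CommRing B'] [CommRing B] [IsNoetherianRing A]
    [Algebra A B'] [Algebra B' B] [Algebra A B] [IsScalarTower A B' B]
    (hf : QFDual.IsQFFactor A B' B) (hs : Synt.IsSyntomic A B) (q : Ideal B) [q.IsPrime] :
    ∃ g : B, g ∉ q ∧ Nonempty (LocalizedModule.Away g (QFDual.omega A B' B)
      ≃ₗ[Localization.Away g] Localization.Away g) := by
  haveI := hf.finite
  have hopen := hf.isOpenImmersion
  haveI := hs.2.1
  haveI : Algebra.FiniteType A B := inferInstance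
  haveI : IsNoetherianRing B := Algebra.FiniteType.isNoetherianRing A B
  obtain ⟨n, ψ, hψ⟩ := Algebra.FiniteType.iff_quotient_mvPolynomial''.1
    (inferInstance : Algebra.FiniteType A B)
  obtain ⟨Rψ, ⟨adj⟩⟩ := exists_rightAdjoint ψ.toRingHom
  let W : Dual.D B := (Rψ.obj ((DRing.LBaseChange
    (algebraMap A (MvPolynomial (Fin n) A))).obj (Dual.inD A A)))⟦(n : ℤ)⟧
  obtain ⟨eω⟩ := QFOmega.main A B B' hopen n ψ hψ adj
  haveI hGE : W.IsGE 0 := KosE.isGE_shriek_qf A B B' hopen n ψ hψ adj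
  obtain ⟨g, hg, N, C, G, hG, ⟨e⟩⟩ :=
    Groth.Agent.Lib.Helper94.SyntV.exists_relGCI_of_isSyntomic A B hs q
  refine ⟨g, hg, ?_⟩
  haveI hntB : Nontrivial (Localization.Away g) := by
    have hdisj : Disjoint (Submonoid.powers g : Set B) (q : Set B) := by
      rw [Set.disjoint_left]
      rintro _ ⟨k, rfl⟩ hk
      exact hg (Ideal.IsPrime.mem_of_pow_mem inferInstance k hk)
    have := IsLocalization.isPrime_of_isPrime_disjoint (Submonoid.powers g) (Localization.Away g)
      q inferInstance hdisj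
    exact ⟨⟨0, 1, fun h01 => this.ne_top ((Ideal.eq_top_iff_one _).mpr (h01 ▸ Ideal.zero_mem _))⟩⟩
  haveI hntT : Nontrivial (Synt.RelGCIRing A N C G) := e.symm.toEquiv.nontrivial
  have hCN : C ≤ N := le_of_relGCI A N C G hG
  let Bg := Localization.Away g
  let θ : MvPolynomial (Fin N) A →ₐ[A] Bg :=
    e.symm.toAlgHom.comp (Ideal.Quotient.mkₐ A (Ideal.span (Set.range G)))
  have hθ : Function.Surjective θ :=
    e.symm.surjective.comp (Ideal.Quotient.mkₐ_surjective A _)
  have hker : RingHom.ker θ.toRingHom = Ideal.ofList (List.ofFn G) := by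
    rw [Groth.Agent.Lib.Helper94.CIField.ofList_ofFn]
    ext x
    rw [RingHom.mem_ker]
    change e.symm (Ideal.Quotient.mk _ x) = 0 ↔ _
    rw [map_eq_zero_iff e.symm e.symm.injective, Ideal.Quotient.eq_zero_iff_mem]
  obtain ⟨Rθ, ⟨adjθ⟩⟩ := exists_rightAdjoint θ.toRingHom
  obtain ⟨e1⟩ := KosE.shriek_koszul A Bg N θ hθ (List.ofFn G)
    (Groth.Agent.S9254.result A N C G hG) hker adjθ
  rw [List.length_ofFn] at e1
  obtain ⟨e2⟩ := KosE.shriek_localization A B g n ψ hψ adj N θ hθ adjθ (Dual.inD A A) 0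
  have e3 : (DRing.LBaseChange (algebraMap B Bg)).obj W ≅
      (Dual.inD Bg Bg)⟦(N : ℤ) - (C : ℤ)⟧ := e2.symm ≪≫ e1
  have hflat : (algebraMap B Bg).Flat :=
    RingHom.flat_algebraMap_iff.2 (IsLocalization.flat Bg (Submonoid.powers g))
  haveI : PreservesFiniteLimits (FlatBC.ext (algebraMap B Bg)) :=
    FlatBC.preservesFiniteLimits_ext _ hflat
  haveI := FlatBC.isGE_bc (algebraMap B Bg) W 0
  haveI : ((DRing.LBaseChange (algebraMap B Bg)).obj W).IsGE 0 :=
    TStructure.t.isGE_of_iso ((LBCFlat.lbcFlatIso (algebraMap B Bg)).app _).symm 0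
  have hNC : N = C := by
    by_contra hne
    have hlt : (0 : ℤ) < (N : ℤ) - (C : ℤ) := by omega
    haveI : ((Dual.inD Bg Bg)⟦(N : ℤ) - (C : ℤ)⟧).IsGE 0 := TStructure.t.isGE_of_iso e3 0
    have hsub : Subsingleton (ModuleCat.of Bg Bg) :=
      subsingleton_of_isGE (ModuleCat.of Bg Bg) _ hlt
    have hsub' : Subsingleton Bg := hsub
    exact not_subsingleton Bg hsub'
  subst hNC
  -- cohomology in degree `0`
  let KW : DRing.Cx B := Q.objPreimage W
  let eW : Q.obj KW ≅ W := Q.objObjPreimageIso W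
  obtain ⟨e6⟩ := H0.homology_lbc (algebraMap B Bg) hflat KW 0
  have e7 : (ModuleCat.extendScalars.{u, u, u} (algebraMap B Bg)).obj (KW.homology 0) ≅
      ModuleCat.of Bg Bg :=
    e6.symm ≪≫ (homologyFunctor (ModuleCat.{u} Bg) 0).mapIso
      ((DRing.LBaseChange (algebraMap B Bg)).mapIso eW ≪≫ e3 ≪≫
        (shiftFunctorZero' (Dual.D Bg) ((N : ℤ) - (N : ℤ)) (sub_self _)).app _) ≪≫
      (singleFunctorCompHomologyFunctorIso (ModuleCat.{u} Bg) 0).app (ModuleCat.of Bg Bg)
  have e8 : KW.homology 0 ≅ ModuleCat.of B (QFDual.omega A B' B) :=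
    ((homologyFunctorFactors (ModuleCat.{u} B) 0).app KW).symm ≪≫
      (homologyFunctor (ModuleCat.{u} B) 0).mapIso eW ≪≫
      (show (homologyFunctor (ModuleCat.{u} B) 0).obj W ≅
        ModuleCat.of B (QFDual.omega A B' B) from eω.toModuleIso)
  have e9 : LocalizedModule.Away g (QFDual.omega A B' B) ≃ₗ[Bg]
      Bg ⊗[B] (QFDual.omega A B' B) :=
    (IsLocalizedModule.isBaseChange (Submonoid.powers g) Bg
      (LocalizedModule.mkLinearMap (Submonoid.powers g) (QFDual.omega A B' B))).equiv.symm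
  exact ⟨e9 ≪≫ₗ (PseudoCohBC.extModuleIso B Bg (QFDual.omega A B' B)).symm.toLinearEquiv ≪≫ₗ
    ((ModuleCat.extendScalars.{u, u, u} (algebraMap B Bg)).mapIso e8.symm ≪≫ e7).toLinearEquiv⟩

end Groth.Agent.Lib.Helper89.KosF
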