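import Mathlib
import Groth.Agent.Lib.Helper89.UnboundedRes

/-!
# Unbounded left resolutions by a class of objects of finite codimension
(dual of `UnboundedRes`)
-/

set_option autoImplicit false
set_option linter.style.haveILetI false

universe v u

open CategoryTheory Category Limits Preadditive CochainComplex HomComplex ZeroObject

namespace Groth.Agent.Lib.Helper89.LRes

variable {𝒜 : Type u} [Category.{v} 𝒜] [Abelian 𝒜]

/-- A class of objects suitable for left resolutions. -/
class CoResClass (P : ObjectProperty 𝒜) : Prop where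
  iso : ∀ {X Y : 𝒜}, (X ≅ Y) → P X → P Y
  zero : ∃ Z : 𝒜, IsZero Z ∧ P Z
  biprod : ∀ X Y : 𝒜, P X → P Y → P (X ⊞ Y)
  enough : ∀ X : 𝒜, ∃ (Y : 𝒜) (π : Y ⟶ X), P Y ∧ Epi π

variable (P : ObjectProperty 𝒜) [CoResClass P]

/-- A chosen object of `P` mapping onto `X`. -/
noncomputable def cov (X : 𝒜) : 𝒜 := (CoResClass.enough (P := P) X).choose

/-- The chosen epimorphism. -/
noncomputable def overπ (X : 𝒜) : cov P X ⟶ X := (CoResClass.enough (P := P) X).choose_spec.choose

lemma prop_cov (X : 𝒜) : P (cov P X) := (CoResClass.enough (P := P) X).choose_spec.choose_spec.1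

instance covπ_epi (X : 𝒜) : Epi (overπ P X) :=
  (CoResClass.enough (P := P) X).choose_spec.choose_spec.2

variable (K : CochainComplex 𝒜 ℤ)

/-- the complex with zero differentials and terms `cov P (K.X (n - 1))` -/
@[simps]
noncomputable def I : CochainComplex 𝒜 ℤ where
  X n := cov P (K.X (n + -1))
  d _ _ := 0

/-- the chosen epimorphism, with source `(I P K).X p` -/
noncomputable def πI (p : ℤ) : (I P K).X p ⟶ K.X (p + -1) := overπ P (K.X (p + -1))

instance (p : ℤ) : Epi (πI P K p) := covπ_epi P _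

/-- the cochain of degree `-1` -/
noncomputable def α : Cochain (I P K) K (-1) :=
  Cochain.mk (fun p q hpq => πI P K p ≫ (K.XIsoOfEq hpq).hom)

/-- the chain map `I ⟶ K` -/
noncomputable def β : I P K ⟶ K where
  f p := πI P K p ≫ K.d (p + -1) p
  comm' i j _ := by
    rw [CategoryTheory.Category.assoc, HomologicalComplex.d_comp_d, Limits.comp_zero]
    have : (I P K).d i j = 0 := rfl
    rw [this, Limits.zero_comp]

lemma δ_α : δ (-1) 0 (α P K) = Cochain.ofHom (𝟙 (I P K) ≫ β P K) := by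
  ext p
  rw [δ_v (-1) 0 (by simp) _ p p (by simp) (p + -1) (p + 1) (by omega) rfl]
  have : (I P K).d p (p + 1) = 0 := rfl
  rw [this, Limits.zero_comp, _root_.smul_zero, _root_.add_zero]
  simp only [α, β, Cochain.mk_v, CategoryTheory.Category.id_comp,
    Cochain.ofHom_v, HomologicalComplex.XIsoOfEq_rfl, Iso.refl_hom, CategoryTheory.Category.comp_id]

/-- the termwise epimorphism from a contractible complex -/
noncomputable def p₀ : mappingCone (𝟙 (I P K)) ⟶ K :=
  mappingCone.desc (𝟙 (I P K)) (α P K) (β P K) (δ_α P K)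

instance epi_p₀_f (q : ℤ) : Epi ((p₀ P K).f q) := by
  have h := mappingCone.inl_v_desc_f (𝟙 (I P K)) (α P K) (β P K) (δ_α P K) (q + 1) q (by omega)
  have : Epi ((α P K).v (q + 1) q (by omega)) := by
    simp only [α, Cochain.mk_v]
    exact epi_comp _ _
  exact epi_of_epi_fac h

instance : Epi (p₀ P K) := HomologicalComplex.epi_of_epi_f _ inferInstance

lemma prop_cone_X (n : ℤ) : P ((mappingCone (𝟙 (I P K))).X n) :=
  CoResClass.iso (HomologicalComplex.homotopyCofiber.XIsoBiprod (𝟙 (I P K)) n (n + 1) rfl).symm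
    (CoResClass.biprod _ _ (prop_cov P _) (prop_cov P _))

/-- the main induction -/
theorem exists_lres (Lev : ℕ → ObjectProperty 𝒜) (h0 : ∀ M, Lev 0 M → P M)
    (hstep : ∀ (j : ℕ) (S : ShortComplex 𝒜), S.ShortExact → P S.X₂ → Lev (j + 1) S.X₃ →
      Lev j S.X₁) (j : ℕ) :
    ∀ X : CochainComplex 𝒜 ℤ, (∀ k, Lev j (X.X k)) →
      ∃ (L : CochainComplex 𝒜 ℤ) (g : L ⟶ X), QuasiIso g ∧ ∀ k : ℤ, P (L.X k) := by
  induction j with
  | zero =>
    intro X hX
    exact ⟨X, 𝟙 X, inferInstance, fun k => h0 _ (hX k)⟩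
  | succ j ih =>
    intro X hX
    let K : CochainComplex 𝒜 ℤ := X⟦(1 : ℤ)⟧
    let C : CochainComplex 𝒜 ℤ := mappingCone (𝟙 (I P K))
    let p : C ⟶ K := p₀ P K
    have hC : Homotopy (𝟙 C) 0 :=
      mappingCone.liftHomotopy _ _ _ (mappingCone.snd _) 0 (by simp) (by simp)
    let S : ShortComplex (CochainComplex 𝒜 ℤ) :=
      ShortComplex.mk (kernel.ι p) p (kernel.condition p)
    have hS : S.ShortExact :=
      { exact := ShortComplex.exact_kernel p
        mono_f := by
          show Mono (kernel.ι p)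
          infer_instance
        epi_g := by
          show Epi p
          infer_instance }
    have hQ : ∀ k, Lev j ((kernel p).X k) := by
      intro k
      have hSk := hS.map_of_exact (HomologicalComplex.eval 𝒜 (ComplexShape.up ℤ) k)
      exact hstep j _ hSk (prop_cone_X P K k) (hX _)
    obtain ⟨L', g', hg', hL'⟩ := ih (kernel p) hQ
    obtain ⟨σ, hσ⟩ := UnboundedRes.exists_quasiIso_shift_to_cone (kernel.ι p) hC
    have hd : QuasiIso (mappingCone.descShortComplex S) := mappingCone.quasiIso_descShortComplex hS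
    let e : (X⟦(1 : ℤ)⟧)⟦(-1 : ℤ)⟧ ≅ X :=
      (shiftFunctorCompIsoId (CochainComplex 𝒜 ℤ) (1 : ℤ) (-1) (by simp)).app X
    let τ : L'⟦(1 : ℤ)⟧ ⟶ X⟦(1 : ℤ)⟧ := g'⟦(1 : ℤ)⟧' ≫ σ ≫ mappingCone.descShortComplex S
    haveI : QuasiIso τ := inferInstance
    exact ⟨(L'⟦(1 : ℤ)⟧)⟦(-1 : ℤ)⟧, τ⟦(-1 : ℤ)⟧' ≫ e.hom, inferInstance, fun k => hL' _⟩

end Groth.Agent.Lib.Helper89.LRes
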