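import Mathlib.AlgebraicGeometry.Sites.Etale
import Mathlib.AlgebraicGeometry.Sites.Fpqc
import Mathlib.AlgebraicGeometry.Morphisms.Etale
import Mathlib.AlgebraicGeometry.Morphisms.Flat
import Mathlib.AlgebraicGeometry.Morphisms.FinitePresentation
import Mathlib.AlgebraicGeometry.Morphisms.UniversallyOpen
import Mathlib.CategoryTheory.MorphismProperty.Local

set_option autoImplicit false

universe u

open CategoryTheory AlgebraicGeometry

namespace Groth.Agent.Lib.Helper89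

theorem largest_open {Q : MorphismProperty Scheme.{u}}
    (hQ1 : ∀ {X Y : Scheme.{u}} (f : X ⟶ Y), IsOpenImmersion f → Q f)
    (hQ2 : ∀ {X Y : Scheme.{u}} (g : X ⟶ Y), Q g → IsOpenMap g)
    (hQ3 : ∀ {X Y : Scheme.{u}} (g : X ⟶ Y) (U : Y.Opens) (V : X.Opens) (e : V ≤ g ⁻¹ᵁ U),
      Q g → Q (g.resLE U V e))
    (P : MorphismProperty Scheme.{u}) [P.IsLocalAtSource (Scheme.precoverage Q)]
    {X Y : Scheme.{u}} (f : X ⟶ Y) :
    ∃ W : X.Opens, (P (W.ι ≫ f) ∧ ∀ W' : X.Opens, P (W'.ι ≫ f) → W' ≤ W) ∧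
      ∀ (X' : Scheme.{u}) (g : X' ⟶ X), Q g → ∀ (V : X'.Opens),
        (P (V.ι ≫ g ≫ f) ∧ ∀ V' : X'.Opens, P (V'.ι ≫ g ≫ f) → V' ≤ V) → V = g ⁻¹ᵁ W := by
  have hA : P ((sSup {W' : X.Opens | P (W'.ι ≫ f)}).ι ≫ f) := by
    apply MorphismProperty.IsLocalAtSource.of_forall_comp (K := Scheme.precoverage Q)
      (R := Presieve.ofArrows (fun W' : {W' : X.Opens // P (W'.ι ≫ f)} => (W'.1 : Scheme.{u}))
        (fun W' => X.homOfLE (le_sSup W'.2)))
    · rw [Scheme.ofArrows_mem_precoverage_iff]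
      refine ⟨fun x => ?_, fun i => hQ1 _ inferInstance⟩
      obtain ⟨W', hW', hxW'⟩ := TopologicalSpace.Opens.mem_sSup.1 x.2
      refine ⟨⟨W', hW'⟩, ⟨x.1, hxW'⟩, ?_⟩
      exact Subtype.ext (Scheme.homOfLE_apply _ _)
    · rintro U g ⟨W'⟩
      rw [← Category.assoc, X.homOfLE_ι]
      exact W'.2
  refine ⟨sSup {W' : X.Opens | P (W'.ι ≫ f)}, ⟨hA, fun W' hW' => le_sSup hW'⟩, ?_⟩
  intro X' g hg V ⟨hV, hVmax⟩
  apply le_antisymm
  · let W'' : X.Opens := ⟨g '' (V : Set X'), hQ2 g hg _ V.isOpen⟩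
    have e : V ≤ g ⁻¹ᵁ W'' := fun x hx => ⟨x, hx, rfl⟩
    have hW'' : P (W''.ι ≫ f) := by
      apply MorphismProperty.IsLocalAtSource.of_forall_comp (K := Scheme.precoverage Q)
        (R := Presieve.singleton (g.resLE W'' V e))
      · rw [Scheme.singleton_mem_precoverage_iff]
        refine ⟨?_, hQ3 g W'' V e hg⟩
        rintro ⟨_, ⟨x, hx, rfl⟩⟩
        refine ⟨⟨x, hx⟩, ?_⟩
        apply Subtype.ext
        have := congrArg (fun φ : (V : Scheme.{u}) ⟶ X => φ ⟨x, hx⟩) (Scheme.Hom.resLE_comp_ι g e)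
        simpa using this
      · rintro U h ⟨⟩
        rw [← Category.assoc, Scheme.Hom.resLE_comp_ι, Category.assoc]
        exact hV
    have hle : W'' ≤ sSup {W' : X.Opens | P (W'.ι ≫ f)} := le_sSup hW''
    intro x hx
    exact hle ⟨x, hx, rfl⟩
  · apply hVmax
    have key : ∀ W : X.Opens, P (W.ι ≫ f) → P ((g ⁻¹ᵁ W).ι ≫ g ≫ f) := by
      intro W hW
      have hcomp : (g ⁻¹ᵁ W).ι ≫ g ≫ f = (g ∣_ W) ≫ W.ι ≫ f := by
        rw [← Category.assoc, ← morphismRestrict_ι, Category.assoc]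
      rw [hcomp]
      refine MorphismProperty.IsLocalAtSource.comp (K := Scheme.precoverage Q)
        (R := Presieve.ofArrows
          (fun b : Bool => Bool.rec (W : Scheme.{u}) ((g ⁻¹ᵁ W : X'.Opens) : Scheme.{u}) b)
          (fun b => Bool.rec
            (motive := fun b => (Bool.rec (W : Scheme.{u}) ((g ⁻¹ᵁ W : X'.Opens) : Scheme.{u}) b : Scheme.{u}) ⟶ (W : Scheme.{u}))
            (𝟙 _) (g ∣_ W) b)) ?_ _ ?_ hW
      · rw [Scheme.ofArrows_mem_precoverage_iff]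
        refine ⟨fun x => ⟨false, x, rfl⟩, fun b => ?_⟩
        cases b
        · exact hQ1 _ (inferInstanceAs (IsOpenImmersion (𝟙 (W : Scheme.{u}))))
        · have := hQ3 g W _ le_rfl hg
          rwa [Scheme.Hom.resLE_eq_morphismRestrict] at this
      · exact Presieve.ofArrows.mk (ι := Bool) true
    exact key _ hA

end Groth.Agent.Lib.Helper89
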