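import Mathlib.Algebra.Polynomial.AlgebraMap
import Mathlib.Algebra.Polynomial.Monic
import Mathlib.Algebra.Ring.GeomSum
import Mathlib.Algebra.Module.LinearMap.End
import Mathlib.Data.Int.LeastGreatest

/-!
# Laurent tails `N((x⁻¹))`: bounded-above functions `ℤ → N` as an `S[x]`-module

`x` acts by the shift `(x c)(k) = c (k - 1)`.  A monic polynomial acts bijectively.
-/

set_option autoImplicit false
universe u v

namespace Groth.Agent.Lib.Helper89.Lau1

open Polynomial

variable (S : Type u) [CommRing S] (N : Type v) [AddCommGroup N] [Module S N]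

/-- bounded-above functions `ℤ → N` -/
def lauSub : Submodule S (ℤ → N) where
  carrier := {c | ∃ B : ℤ, ∀ k, B < k → c k = 0}
  add_mem' := by
    rintro c c' ⟨B, hB⟩ ⟨B', hB'⟩
    refine ⟨max B B', fun k hk => ?_⟩
    rw [Pi.add_apply, hB k (lt_of_le_of_lt (le_max_left _ _) hk),
      hB' k (lt_of_le_of_lt (le_max_right _ _) hk), add_zero]
  zero_mem' := ⟨0, fun _ _ => rfl⟩
  smul_mem' := by
    rintro a c ⟨B, hB⟩
    exact ⟨B, fun k hk => by rw [Pi.smul_apply, hB k hk, smul_zero]⟩

variable {S N}

theorem exists_bound (c : lauSub S N) : ∃ B : ℤ, ∀ k, B < k → c.1 k = 0 := c.2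

@[ext] theorem lau_ext {c c' : lauSub S N} (h : ∀ k, c.1 k = c'.1 k) : c = c' :=
  Subtype.ext (funext h)

@[simp] theorem add_coeff (c c' : lauSub S N) (k : ℤ) : (c + c').1 k = c.1 k + c'.1 k := rfl
@[simp] theorem sub_coeff (c c' : lauSub S N) (k : ℤ) : (c - c').1 k = c.1 k - c'.1 k := rfl
@[simp] theorem neg_coeff (c : lauSub S N) (k : ℤ) : (-c).1 k = -c.1 k := rfl
@[simp] theorem zero_coeff (k : ℤ) : (0 : lauSub S N).1 k = 0 := rfl
@[simp] theorem smul_coeff' (a : S) (c : lauSub S N) (k : ℤ) : (a • c).1 k = a • c.1 k := rfl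

theorem sum_coeff {ι : Type*} (s : Finset ι) (f : ι → lauSub S N) (k : ℤ) :
    (∑ i ∈ s, f i).1 k = ∑ i ∈ s, (f i).1 k := by
  classical
  induction s using Finset.induction_on with
  | empty => simp
  | insert a s ha ih => rw [Finset.sum_insert ha, Finset.sum_insert ha, add_coeff, ih]

variable (S N)

/-- the shift by `m`: `(sh m c) k = c (k - m)` -/
def sh (m : ℤ) : lauSub S N →ₗ[S] lauSub S N where
  toFun c := ⟨fun k => c.1 (k - m), by
    obtain ⟨B, hB⟩ := c.2
    exact ⟨B + m, fun k hk => hB _ (by omega)⟩⟩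
  map_add' _ _ := rfl
  map_smul' _ _ := rfl

variable {S N}

@[simp] theorem sh_coeff (m : ℤ) (c : lauSub S N) (k : ℤ) : (sh S N m c).1 k = c.1 (k - m) := rfl

theorem sh_sh (m m' : ℤ) (c : lauSub S N) : sh S N m (sh S N m' c) = sh S N (m + m') c := by
  ext k
  simp only [sh_coeff]
  rw [sub_sub, add_comm]

theorem sh_zero (c : lauSub S N) : sh S N 0 c = c := by
  ext k
  simp

theorem sh_pow (n : ℕ) : (sh S N 1) ^ n = sh S N n := by
  induction n with
  | zero =>
    apply LinearMap.ext
    intro c
    rw [pow_zero, Module.End.one_apply]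
    exact (sh_zero c).symm
  | succ n ih =>
    apply LinearMap.ext
    intro c
    rw [pow_succ, Module.End.mul_apply, ih, sh_sh, Nat.cast_succ]

/-- the `S[x]`-module structure: `x` acts by `sh 1` -/
noncomputable instance lauModule : Module S[X] (lauSub S N) :=
  Module.compHom (lauSub S N) (aeval (sh S N 1)).toRingHom

theorem poly_smul_def (p : S[X]) (c : lauSub S N) : p • c = aeval (sh S N 1) p c := rfl

theorem C_smul (a : S) (c : lauSub S N) : (C a : S[X]) • c = a • c := by
  rw [poly_smul_def, aeval_C, Module.algebraMap_end_apply]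

theorem X_pow_smul (n : ℕ) (c : lauSub S N) : (X ^ n : S[X]) • c = sh S N n c := by
  rw [poly_smul_def, map_pow, aeval_X, sh_pow]

theorem monomial_smul (n : ℕ) (a : S) (c : lauSub S N) :
    (monomial n a : S[X]) • c = a • sh S N n c := by
  rw [poly_smul_def, aeval_monomial, Module.End.mul_apply, sh_pow, Module.algebraMap_end_apply]

/-- the coefficient formula -/
theorem smul_coeff (p : S[X]) (c : lauSub S N) (k : ℤ) :
    (p • c).1 k = p.sum (fun i a => a • c.1 (k - i)) := by
  induction p using Polynomial.induction_on' with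
  | add p q hp hq =>
    rw [add_smul, add_coeff, hp, hq, Polynomial.sum_add_index]
    · intro i
      exact zero_smul _ _
    · intro i a b
      exact add_smul _ _ _
  | monomial n a =>
    rw [monomial_smul, smul_coeff', sh_coeff, Polynomial.sum_monomial_index]
    exact zero_smul _ _

section Unitriangular

/-- strictly upper triangular operators: `(U c) k` only depends on `c k'` for `k' > k` -/
def StrictUpper (U : lauSub S N →ₗ[S] lauSub S N) : Prop :=
  ∀ (c : lauSub S N) (k : ℤ), (∀ k', k < k' → c.1 k' = 0) → (U c).1 k = 0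

theorem StrictUpper.bound {U : lauSub S N →ₗ[S] lauSub S N} (hU : StrictUpper U)
    (c : lauSub S N) (B : ℤ) (hc : ∀ k, B < k → c.1 k = 0) : ∀ k, B - 1 < k → (U c).1 k = 0 :=
  fun k hk => hU c k (fun k' hk' => hc k' (by omega))

theorem StrictUpper.neg {U : lauSub S N →ₗ[S] lauSub S N} (hU : StrictUpper U) :
    StrictUpper (-U) := fun c k hc => by
  rw [LinearMap.neg_apply, neg_coeff, hU c k hc, neg_zero]

theorem StrictUpper.pow_bound {U : lauSub S N →ₗ[S] lauSub S N} (hU : StrictUpper U)
    (c : lauSub S N) (B : ℤ) (hc : ∀ k, B < k → c.1 k = 0) (n : ℕ) :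
    ∀ k, B - n < k → ((U ^ n) c).1 k = 0 := by
  induction n with
  | zero =>
    intro k hk
    rw [pow_zero, Module.End.one_apply]
    exact hc k (by simpa using hk)
  | succ n ih =>
    intro k hk
    rw [pow_succ', Module.End.mul_apply]
    exact hU.bound _ (B - n) ih k (by push_cast at hk; omega)

theorem injective_one_add {U : lauSub S N →ₗ[S] lauSub S N} (hU : StrictUpper U) :
    Function.Injective (fun c => c + U c) := by
  intro c c' hcc
  dsimp only at hcc
  by_contra hne
  set d := c - c' with hd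
  have hd0 : d + U d = 0 := by
    rw [hd, map_sub]
    have : c - c' + (U c - U c') = (c + U c) - (c' + U c') := by abel
    rw [this, hcc, sub_self]
  have hdne : d ≠ 0 := fun h => hne (sub_eq_zero.1 h)
  obtain ⟨B, hB⟩ := d.2
  have hex : ∃ k, d.1 k ≠ 0 := by
    by_contra h
    push Not at h
    exact hdne (lau_ext h)
  obtain ⟨k₀, hk₀, hmax⟩ := Int.exists_greatest_of_bdd (P := fun k => d.1 k ≠ 0)
    ⟨B, fun k hk => by
      by_contra hlt
      push Not at hlt
      exact hk (hB k hlt)⟩ hex
  have h1 : (U d).1 k₀ = 0 := hU d k₀ (fun k' hk' => by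
    by_contra h
    have := hmax k' h
    omega)
  have h2 : (d + U d).1 k₀ = 0 := by rw [hd0]; rfl
  rw [add_coeff, h1, add_zero] at h2
  exact hk₀ h2

theorem surjective_one_add {U : lauSub S N →ₗ[S] lauSub S N} (hU : StrictUpper U) :
    Function.Surjective (fun c => c + U c) := by
  intro e
  obtain ⟨B, hB⟩ := e.2
  -- partial sums
  let cn : ℕ → lauSub S N := fun n => ∑ i ∈ Finset.range n, ((-U) ^ i) e
  have hcn_succ : ∀ n, cn (n + 1) = cn n + ((-U) ^ n) e := fun n => Finset.sum_range_succ _ n
  have hterm : ∀ (n : ℕ) k, B - n < k → (((-U) ^ n) e).1 k = 0 := fun n =>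
    hU.neg.pow_bound e B hB n
  have hstab : ∀ (k : ℤ) (n m : ℕ), B - n < k → n ≤ m → (cn m).1 k = (cn n).1 k := by
    intro k n m hn hnm
    induction m, hnm using Nat.le_induction with
    | base => rfl
    | succ m hm ih =>
      rw [hcn_succ, add_coeff, ih, hterm m k (by omega), add_zero]
  have hcn_bound : ∀ (n : ℕ) k, B < k → (cn n).1 k = 0 := by
    intro n k hk
    rw [sum_coeff]
    exact Finset.sum_eq_zero (fun i _ => hterm i k (by omega))
  have hkey : ∀ n : ℕ, cn n + U (cn n) = e - ((-U) ^ n) e := by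
    intro n
    have h1 := mul_neg_geom_sum (-U : Module.End S (lauSub S N)) n
    have h2 := congrArg (fun T : Module.End S (lauSub S N) => T e) h1
    rw [Module.End.mul_apply, LinearMap.sub_apply, LinearMap.sub_apply, Module.End.one_apply,
      Module.End.one_apply, LinearMap.neg_apply, sub_neg_eq_add, LinearMap.sum_apply] at h2
    exact h2
  let nk : ℤ → ℕ := fun k => (B - k).toNat + 1
  have hnk : ∀ k, B - (nk k : ℤ) < k := by
    intro k
    dsimp only [nk]
    push_cast
    have := Int.self_le_toNat (B - k)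
    omega
  let c : lauSub S N := ⟨fun k => (cn (nk k)).1 k, B, fun k hk => hcn_bound _ k hk⟩
  refine ⟨c, ?_⟩
  dsimp only
  ext k
  set n := nk k with hn
  have hd : ∀ k', k ≤ k' → (c - cn n).1 k' = 0 := by
    intro k' hk'
    rw [sub_coeff]
    change (cn (nk k')).1 k' - (cn n).1 k' = 0
    have hle : nk k' ≤ n := by
      dsimp only [nk, n]
      have : (B - k').toNat ≤ (B - k).toNat := Int.toNat_le_toNat (by omega)
      omega
    rw [hstab k' (nk k') n (hnk k') hle, sub_self]
  have h1 : (U (c - cn n)).1 k = 0 := hU _ k (fun k' hk' => hd k' (le_of_lt hk'))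
  have h2 : c = (c - cn n) + cn n := by abel
  have h3 : (c + U c).1 k = ((c - cn n) + U (c - cn n)).1 k + (cn n + U (cn n)).1 k := by
    conv_lhs => rw [h2, map_add]
    simp only [add_coeff]
    abel
  rw [h3, add_coeff, hd k le_rfl, h1, add_zero, zero_add, hkey, sub_coeff,
    hterm n k (hnk k), sub_zero]

theorem bijective_one_add {U : lauSub S N →ₗ[S] lauSub S N} (hU : StrictUpper U) :
    Function.Bijective (fun c => c + U c) :=
  ⟨injective_one_add hU, surjective_one_add hU⟩

end Unitriangular

section Monic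

/-- a monic polynomial acts bijectively on Laurent tails -/
theorem bijective_monic_smul (f : S[X]) (hf : f.Monic) :
    Function.Bijective (fun c : lauSub S N => f • c) := by
  set d := f.natDegree with hd
  -- W = sh (-d) ∘ (f • ·) = 1 + U
  let F : lauSub S N →ₗ[S] lauSub S N := aeval (sh S N 1) f
  let U : lauSub S N →ₗ[S] lauSub S N := (sh S N (-(d : ℤ))).comp F - LinearMap.id
  have hU : StrictUpper U := by
    intro c k hc
    change (sh S N (-(d : ℤ)) (f • c)).1 k - c.1 k = 0
    rw [sh_coeff, smul_coeff, Polynomial.sum_def, Finset.sum_eq_single d]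
    · rw [hd, hf.coeff_natDegree, one_smul]
      have : k - -(f.natDegree : ℤ) - (f.natDegree : ℤ) = k := by ring
      rw [this, sub_self]
    · intro i hi hid
      have hi' : i ≤ d := le_natDegree_of_mem_supp i hi
      have hlt : i < d := lt_of_le_of_ne hi' hid
      rw [hc _ (by omega), smul_zero]
    · intro hd'
      rw [notMem_support_iff.1 hd', zero_smul]
  have hW := bijective_one_add hU
  have hsh : Function.Bijective (sh S N (d : ℤ)) := by
    refine ⟨fun c c' h => ?_, fun c => ⟨sh S N (-(d : ℤ)) c, ?_⟩⟩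
    · have := congrArg (sh S N (-(d : ℤ))) h
      rw [sh_sh, sh_sh] at this
      simpa [sh_zero] using this
    · rw [sh_sh]
      simp [sh_zero]
  have heq : (fun c : lauSub S N => f • c) = (sh S N (d : ℤ)) ∘ (fun c => c + U c) := by
    funext c
    dsimp only [Function.comp]
    change f • c = sh S N d (c + (sh S N (-(d : ℤ)) (f • c) - c))
    rw [add_sub_cancel, sh_sh]
    simp [sh_zero]
  rw [heq]
  exact hsh.comp hW

end Monic

end Groth.Agent.Lib.Helper89.Lau1
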