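import Groth.Agent.Lib.Helper89.Lau1
import Mathlib.Algebra.Category.ModuleCat.ChangeOfRings
import Mathlib.Algebra.Homology.ShortComplex.ModuleCat

/-!
# The exact sequence `0 → S[x] ⊗ N → N((x⁻¹)) → Hom_S(S[x], N) → 0`, functorially in `N`
-/

set_option autoImplicit false
universe u

namespace Groth.Agent.Lib.Helper89.Lau2

open Polynomial CategoryTheory Groth.Agent.Lib.Helper89.Lau1

variable (S : Type u) [CommRing S]

/-- functoriality of Laurent tails -/
noncomputable def lauMap {N N' : Type u} [AddCommGroup N] [Module S N] [AddCommGroup N']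
    [Module S N'] (g : N →ₗ[S] N') : lauSub S N →ₗ[S[X]] lauSub S N' where
  toFun c := ⟨fun k => g (c.1 k), by
    obtain ⟨B, hB⟩ := c.2
    exact ⟨B, fun k hk => by
      change g (c.1 k) = 0
      rw [hB k hk, map_zero]⟩⟩
  map_add' c c' := by
    ext k
    simp
  map_smul' p c := by
    ext k
    rw [RingHom.id_apply, smul_coeff]
    change g ((p • c).1 k) = _
    rw [smul_coeff, Polynomial.sum_def, Polynomial.sum_def, map_sum]
    simp only [map_smul]

@[simp] theorem lauMap_coeff {N N' : Type u} [AddCommGroup N] [Module S N] [AddCommGroup N']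
    [Module S N'] (g : N →ₗ[S] N') (c : lauSub S N) (k : ℤ) :
    (lauMap S g c).1 k = g (c.1 k) := rfl

/-- the Laurent tails functor -/
noncomputable abbrev Λ : ModuleCat.{u} S ⥤ ModuleCat.{u} S[X] where
  obj N := ModuleCat.of S[X] (lauSub S N)
  map g := ModuleCat.ofHom (lauMap S g.hom)
  map_id N := by
    apply ModuleCat.hom_ext
    apply LinearMap.ext
    intro c
    apply lau_ext
    intro k
    rfl
  map_comp g h := by
    apply ModuleCat.hom_ext
    apply LinearMap.ext
    intro c
    apply lau_ext
    intro k
    rfl

instance : (Λ S).Additive where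
  map_add := by
    intro N N' g h
    apply ModuleCat.hom_ext
    apply LinearMap.ext
    intro c
    apply lau_ext
    intro k
    rfl

/-- the inclusion of `N` at position `0` -/
noncomputable def delta0Lin (N : Type u) [AddCommGroup N] [Module S N] : N →ₗ[S] lauSub S N where
  toFun n := ⟨Pi.single 0 n, 0, fun k hk => by
    rw [Pi.single_apply, if_neg (by omega)]⟩
  map_add' n n' := by
    apply lau_ext
    intro k
    change (Pi.single 0 (n + n') : ℤ → N) k = (Pi.single 0 n : ℤ → N) k + (Pi.single 0 n' : ℤ → N) k
    rw [Pi.single_add]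
    rfl
  map_smul' a n := by
    apply lau_ext
    intro k
    change (Pi.single 0 (a • n) : ℤ → N) k = a • (Pi.single 0 n : ℤ → N) k
    rw [Pi.single_smul]
    rfl

theorem delta0Lin_coeff (N : Type u) [AddCommGroup N] [Module S N] (n : N) (k : ℤ) :
    (delta0Lin S N n).1 k = if k = 0 then n else 0 := by
  change (Pi.single 0 n : ℤ → N) k = _
  rw [Pi.single_apply]

/-- the residue `c ↦ c (-1)` -/
noncomputable def resLin (N : Type u) [AddCommGroup N] [Module S N] : lauSub S N →ₗ[S] N where
  toFun c := c.1 (-1)
  map_add' _ _ := rfl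
  map_smul' _ _ := rfl

/-- `δ₀` as a morphism to the restriction of scalars -/
noncomputable def delta0 (N : ModuleCat.{u} S) :
    N ⟶ (ModuleCat.restrictScalars.{u} (C : S →+* S[X])).obj ((Λ S).obj N) :=
  ModuleCat.ofHom (Y := (ModuleCat.restrictScalars.{u} (C : S →+* S[X])).obj ((Λ S).obj N))
    { toFun := fun n => delta0Lin S N n
      map_add' := fun n n' => (delta0Lin S N).map_add n n'
      map_smul' := fun a n => by
        change delta0Lin S N (a • n) = (C a : S[X]) • delta0Lin S N n
        rw [C_smul, map_smul] }

/-- the residue as a morphism from the restriction of scalars -/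
noncomputable def res (N : ModuleCat.{u} S) :
    (ModuleCat.restrictScalars.{u} (C : S →+* S[X])).obj ((Λ S).obj N) ⟶ N :=
  ModuleCat.ofHom (X := (ModuleCat.restrictScalars.{u} (C : S →+* S[X])).obj ((Λ S).obj N))
    { toFun := fun c => resLin S N c
      map_add' := fun c c' => (resLin S N).map_add c c'
      map_smul' := fun a c => by
        change resLin S N ((C a : S[X]) • (show lauSub S N from c)) = a • resLin S N c
        rw [C_smul, map_smul] }

end Groth.Agent.Lib.Helper89.Lau2
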