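import Groth.Agent.Lib.Helper89.Lau2

/-!
# The maps `ι : S[x] ⊗ N → N((x⁻¹))` and `π : N((x⁻¹)) → Hom_S(S[x], N)` and exactness
-/

set_option autoImplicit false
universe u

namespace Groth.Agent.Lib.Helper89.Lau3

open Polynomial CategoryTheory Groth.Agent.Lib.Helper89.Lau1 Groth.Agent.Lib.Helper89.Lau2
open ChangeOfRings TensorProduct

variable (S : Type u) [CommRing S]

/-- the adjunction `ext ⊣ res` along `C : S → S[x]` -/
noncomputable abbrev adjE : ModuleCat.extendScalars.{u, u, u} (C : S →+* S[X]) ⊣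
    ModuleCat.restrictScalars.{u} (C : S →+* S[X]) :=
  ModuleCat.extendRestrictScalarsAdj.{u, u, u} (C : S →+* S[X])

/-- the adjunction `res ⊣ coext` along `C : S → S[x]` -/
noncomputable abbrev adjR : ModuleCat.restrictScalars.{u} (C : S →+* S[X]) ⊣
    ModuleCat.coextendScalars.{u, u, u} (C : S →+* S[X]) :=
  ModuleCat.restrictCoextendScalarsAdj.{u, u, u} (C : S →+* S[X])

/-- `ι_N : S[x] ⊗ N → N((x⁻¹))` -/
noncomputable def iotaApp (N : ModuleCat.{u} S) :
    (ModuleCat.extendScalars.{u, u, u} (C : S →+* S[X])).obj N ⟶ (Λ S).obj N :=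
  ((adjE S).homEquiv N ((Λ S).obj N)).symm (delta0 S N)

/-- `π_N : N((x⁻¹)) → Hom_S(S[x], N)` -/
noncomputable def piApp (N : ModuleCat.{u} S) :
    (Λ S).obj N ⟶ (ModuleCat.coextendScalars.{u, u, u} (C : S →+* S[X])).obj N :=
  (adjR S).homEquiv ((Λ S).obj N) N (res S N)

theorem delta0_naturality {N N' : ModuleCat.{u} S} (g : N ⟶ N') :
    g ≫ delta0 S N' = delta0 S N ≫
      (ModuleCat.restrictScalars.{u} (C : S →+* S[X])).map ((Λ S).map g) := by
  apply ModuleCat.hom_ext
  apply LinearMap.ext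
  intro n
  apply lau_ext
  intro k
  change (delta0Lin S N' (g.hom n)).1 k = g.hom ((delta0Lin S N n).1 k)
  rw [delta0Lin_coeff, delta0Lin_coeff]
  split_ifs
  · rfl
  · rw [map_zero]

theorem res_naturality {N N' : ModuleCat.{u} S} (g : N ⟶ N') :
    (ModuleCat.restrictScalars.{u} (C : S →+* S[X])).map ((Λ S).map g) ≫ res S N' =
      res S N ≫ g := by
  apply ModuleCat.hom_ext
  apply LinearMap.ext
  intro c
  rfl

/-- `ι` as a natural transformation -/
noncomputable def iota : ModuleCat.extendScalars.{u, u, u} (C : S →+* S[X]) ⟶ Λ S where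
  app := iotaApp S
  naturality N N' g := by
    unfold iotaApp
    rw [← Adjunction.homEquiv_naturality_left_symm, ← Adjunction.homEquiv_naturality_right_symm,
      delta0_naturality]

/-- `π` as a natural transformation -/
noncomputable def pi : Λ S ⟶ ModuleCat.coextendScalars.{u, u, u} (C : S →+* S[X]) where
  app := piApp S
  naturality N N' g := by
    unfold piApp
    rw [← Adjunction.homEquiv_naturality_left, ← Adjunction.homEquiv_naturality_right,
      res_naturality]

variable (N : ModuleCat.{u} S)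

theorem iotaApp_tmul (p : S[X]) (n : N) :
    (iotaApp S N).hom (p ⊗ₜ[S, (C : S →+* S[X])] n) = p • delta0Lin S N n := rfl

theorem piApp_apply (c : lauSub S N) (p : S[X]) :
    (ModuleCat.CoextendScalars.equiv (C : S →+* S[X]) N ((piApp S N).hom c)) p =
      (p • c).1 (-1) := rfl

section Exactness

theorem X_pow_smul_delta0_coeff (j : ℕ) (n : N) (k : ℤ) :
    ((X ^ j : S[X]) • delta0Lin S N n).1 k = if k = j then n else 0 := by
  rw [X_pow_smul, sh_coeff, delta0Lin_coeff]
  by_cases h : k = j
  · rw [if_pos h, if_pos (by omega)]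
  · rw [if_neg h, if_neg (by omega)]

theorem smul_delta0_coeff_neg (p : S[X]) (n : N) (k : ℤ) (hk : k < 0) :
    (p • delta0Lin S N n).1 k = 0 := by
  rw [smul_coeff, Polynomial.sum_def]
  apply Finset.sum_eq_zero
  intro i _
  rw [delta0Lin_coeff, if_neg (by omega), smul_zero]

/-- the presentation of tensors by finitely supported sequences -/
noncomputable def Phi :
    (ℕ →₀ N) →+ ((ModuleCat.extendScalars.{u, u, u} (C : S →+* S[X])).obj N) :=
  Finsupp.liftAddHom (fun j =>
    { toFun := fun n => ((X ^ j : S[X]) ⊗ₜ[S, (C : S →+* S[X])] n)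
      map_zero' := TensorProduct.tmul_zero _ _
      map_add' := fun n n' => TensorProduct.tmul_add _ n n' })

theorem Phi_single (j : ℕ) (n : N) :
    Phi S N (Finsupp.single j n) = ((X ^ j : S[X]) ⊗ₜ[S, (C : S →+* S[X])] n) := by
  unfold Phi
  rw [Finsupp.liftAddHom_apply_single]
  rfl

theorem monomial_tmul (j : ℕ) (a : S) (n : N) :
    ((monomial j a : S[X]) ⊗ₜ[S, (C : S →+* S[X])] n) =
      ((X ^ j : S[X]) ⊗ₜ[S, (C : S →+* S[X])] (a • n)) := by
  have h := TensorProduct.smul_tmul (R := S) (R' := S) a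
    (show ((ModuleCat.restrictScalars.{u} (C : S →+* S[X])).obj (ModuleCat.of S[X] S[X])) from
      (X ^ j : S[X])) n
  rw [← C_mul_X_pow_eq_monomial]
  exact h

theorem Phi_surjective : Function.Surjective (Phi S N) := by
  intro z
  induction z using TensorProduct.induction_on with
  | zero => exact ⟨0, map_zero _⟩
  | tmul p n =>
    induction p using Polynomial.induction_on' with
    | add p q hp hq =>
      obtain ⟨v, hv⟩ := hp
      obtain ⟨w, hw⟩ := hq
      refine ⟨v + w, ?_⟩
      rw [map_add, hv, hw]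
      exact (TensorProduct.add_tmul _ _ _).symm
    | monomial j a =>
      refine ⟨Finsupp.single j (a • n), ?_⟩
      rw [Phi_single]
      exact (monomial_tmul S N j a n).symm
  | add z z' hz hz' =>
    obtain ⟨v, rfl⟩ := hz
    obtain ⟨w, rfl⟩ := hz'
    exact ⟨v + w, map_add _ _ _⟩

/-- the coordinate additive map -/
def evk (k : ℤ) : lauSub S N →+ N where
  toFun c := c.1 k
  map_zero' := rfl
  map_add' _ _ := rfl

theorem iotaApp_coeff_neg (z : (ModuleCat.extendScalars.{u, u, u} (C : S →+* S[X])).obj N)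
    (k : ℤ) (hk : k < 0) : ((iotaApp S N).hom z).1 k = 0 := by
  obtain ⟨v, rfl⟩ := Phi_surjective S N z
  have h : ((evk S N k).comp
      (((iotaApp S N).hom : _ →ₗ[S[X]] lauSub S N).toAddMonoidHom.comp (Phi S N))) = 0 := by
    apply Finsupp.addHom_ext
    intro i n
    change ((iotaApp S N).hom (Phi S N (Finsupp.single i n))).1 k = 0
    rw [Phi_single]
    change ((X ^ i : S[X]) • delta0Lin S N n).1 k = 0
    rw [X_pow_smul_delta0_coeff, if_neg (by omega)]
  exact DFunLike.congr_fun h v

theorem iotaApp_Phi_coeff (v : ℕ →₀ N) (j : ℕ) :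
    ((iotaApp S N).hom (Phi S N v)).1 (j : ℤ) = v j := by
  have h : ((evk S N (j : ℤ)).comp
      (((iotaApp S N).hom : _ →ₗ[S[X]] lauSub S N).toAddMonoidHom.comp (Phi S N))) =
      Finsupp.applyAddHom j := by
    apply Finsupp.addHom_ext
    intro i n
    change ((iotaApp S N).hom (Phi S N (Finsupp.single i n))).1 (j : ℤ) =
      (Finsupp.single i n) j
    rw [Phi_single]
    change ((X ^ i : S[X]) • delta0Lin S N n).1 (j : ℤ) = _
    rw [X_pow_smul_delta0_coeff, Finsupp.single_apply]
    by_cases hij : i = j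
    · rw [if_pos hij, if_pos (by omega)]
    · rw [if_neg hij, if_neg (by omega)]
  exact DFunLike.congr_fun h v

theorem iotaApp_injective : Function.Injective (iotaApp S N).hom := by
  rw [← LinearMap.ker_eq_bot, LinearMap.ker_eq_bot']
  intro z hz
  obtain ⟨v, rfl⟩ := Phi_surjective S N z
  have hv : v = 0 := by
    ext j
    rw [← iotaApp_Phi_coeff S N v j, hz]
    rfl
  rw [hv, map_zero]

theorem exists_iotaApp_eq (c : lauSub S N) (hc : ∀ k, k < 0 → c.1 k = 0) :
    ∃ z, (iotaApp S N).hom z = c := by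
  obtain ⟨B, hB⟩ := c.2
  let v : ℕ →₀ N := Finsupp.onFinset (Finset.range (B + 1).toNat) (fun j => c.1 (j : ℤ))
    (fun j hj => by
      rw [Finset.mem_range]
      by_contra hlt
      exact hj (hB _ (by omega)))
  refine ⟨Phi S N v, ?_⟩
  apply lau_ext
  intro k
  by_cases hk : k < 0
  · rw [hc k hk]
    exact iotaApp_coeff_neg S N _ k hk
  · obtain ⟨j, rfl⟩ : ∃ j : ℕ, k = j := ⟨k.toNat, by omega⟩
    exact iotaApp_Phi_coeff S N v j

theorem piApp_eq_zero_iff (c : lauSub S N) :
    (piApp S N).hom c = 0 ↔ ∀ k, k < 0 → c.1 k = 0 := by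
  constructor
  · intro h k hk
    have h1 := piApp_apply S N c (X ^ (-1 - k).toNat)
    rw [h] at h1
    rw [X_pow_smul, sh_coeff] at h1
    have h2 : (-1 : ℤ) - ((-1 - k).toNat : ℤ) = k := by omega
    rw [h2] at h1
    exact h1.symm
  · intro h
    apply ModuleCat.CoextendScalars.ext
    apply LinearMap.ext
    have key : ∀ q : S[X], (ModuleCat.CoextendScalars.equiv (C : S →+* S[X]) N
        ((piApp S N).hom c)) q = 0 := by
      intro q
      rw [piApp_apply, smul_coeff, Polynomial.sum_def]
      apply Finset.sum_eq_zero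
      intro i _
      rw [h _ (by omega), smul_zero]
    exact fun p => key p

theorem piApp_surjective : Function.Surjective (piApp S N).hom := by
  intro g
  let gl := ModuleCat.CoextendScalars.equiv (C : S →+* S[X]) N g
  let gl' : S[X] → N := fun p => gl p
  have gl'_smul : ∀ (a : S) (p : S[X]), gl' (C a * p) = a • gl' p := fun a p =>
    gl.map_smul a p
  have gl'_sum : ∀ (s : Finset ℕ) (f : ℕ → S[X]), gl' (∑ i ∈ s, f i) = ∑ i ∈ s, gl' (f i) :=
    fun s f => map_sum gl f s
  let c : lauSub S N := ⟨fun k => if k < 0 then gl' (X ^ (-1 - k).toNat) else 0, -1,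
    fun k hk => by
      change (if k < 0 then gl' (X ^ (-1 - k).toNat) else 0) = 0
      rw [if_neg (by omega)]⟩
  refine ⟨c, ?_⟩
  apply ModuleCat.CoextendScalars.ext
  apply LinearMap.ext
  have h1 : ∀ (i : ℕ) (a : S), a • c.1 (-1 - (i : ℤ)) = gl' (monomial i a : S[X]) := by
    intro i a
    change a • (if -1 - (i : ℤ) < 0 then gl' (X ^ (-1 - (-1 - (i : ℤ))).toNat) else 0) = _
    rw [if_pos (by omega)]
    have h2 : (-1 - (-1 - (i : ℤ))).toNat = i := by omega
    rw [h2, ← C_mul_X_pow_eq_monomial, gl'_smul]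
  have key : ∀ q : S[X], (ModuleCat.CoextendScalars.equiv (C : S →+* S[X]) N
      ((piApp S N).hom c)) q = gl' q := by
    intro q
    rw [piApp_apply, smul_coeff, Polynomial.sum_def]
    simp only [h1]
    rw [← gl'_sum]
    congr 1
    exact q.sum_monomial_eq
  exact fun p => key p

end Exactness

end Groth.Agent.Lib.Helper89.Lau3
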