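import Mathlib

/-!
# Le–Chen: a triangulated category with a bounded t-structure is idempotent complete
-/

set_option autoImplicit false
universe v u
open CategoryTheory CategoryTheory.Limits CategoryTheory.Pretriangulated CategoryTheory.Triangulated

namespace Groth.Agent.Lib.Helper89.LeChen

variable {C : Type u} [Category.{v} C] [Preadditive C] [HasZeroObject C] [HasShift C ℤ]
  [∀ n : ℤ, (shiftFunctor C n).Additive] [Pretriangulated C]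

/-- all idempotents of `X` split -/
def Splits (X : C) : Prop :=
  ∀ p : X ⟶ X, p ≫ p = p → ∃ (Y : C) (i : Y ⟶ X) (e : X ⟶ Y), i ≫ e = 𝟙 Y ∧ e ≫ i = p

/-- extension lemma -/
lemma splits_of_triangle (T : Triangle C) (hT : T ∈ distTriang C)
    (h₀ : ∀ f : T.obj₁ ⟶ T.obj₃, f = 0) (h₁ : ∀ f : T.obj₁⟦(1 : ℤ)⟧ ⟶ T.obj₃, f = 0)
    (hA : Splits T.obj₁) (hB : Splits T.obj₃) : Splits T.obj₂ := by
  intro e he
  obtain ⟨a, ha⟩ := Triangle.coyoneda_exact₂ T hT (T.mor₁ ≫ e) (h₀ _)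
  obtain ⟨b, hb₁, hb₂⟩ := complete_distinguished_triangle_morphism T T hT hT a e ha
  have haa : a ≫ a = a := by
    have h : (a ≫ a - a) ≫ T.mor₁ = 0 := by
      rw [Preadditive.sub_comp, Category.assoc, ← ha, ← Category.assoc, ← ha, Category.assoc, he,
        sub_self]
    have h' : ((a ≫ a - a)⟦(1 : ℤ)⟧') ≫ T.mor₁⟦(1 : ℤ)⟧' = 0 := by
      rw [← Functor.map_comp, h, Functor.map_zero]
    obtain ⟨g, hg⟩ := Triangle.coyoneda_exact₁ T hT _ h'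
    rw [h₁ g, zero_comp] at hg
    have := (shiftFunctor C (1 : ℤ)).map_injective
      (hg.trans (Functor.map_zero (shiftFunctor C (1 : ℤ)) _ _).symm)
    exact sub_eq_zero.mp this
  have hbb : b ≫ b = b := by
    have h : T.mor₂ ≫ (b ≫ b - b) = 0 := by
      rw [Preadditive.comp_sub, ← Category.assoc, hb₁, Category.assoc, hb₁, ← Category.assoc, he,
        sub_self]
    obtain ⟨g, hg⟩ := Triangle.yoneda_exact₃ T hT _ h
    rw [h₁ g, comp_zero] at hg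
    exact sub_eq_zero.mp hg
  obtain ⟨A₁, iA, pA, hA₁, hA₂⟩ := hA a haa
  obtain ⟨B₁, iB, pB, hB₁, hB₂⟩ := hB b hbb
  obtain ⟨Y₁, u₁, v₁, hT₁⟩ := distinguished_cocone_triangle₂ (iB ≫ T.mor₃ ≫ pA⟦(1 : ℤ)⟧')
  have iApA : iA ≫ a = iA := by rw [← hA₂, ← Category.assoc, hA₁, Category.id_comp]
  have apA : a ≫ pA = pA := by rw [← hA₂, Category.assoc, hA₁, Category.comp_id]
  have iBpB : iB ≫ b = iB := by rw [← hB₂, ← Category.assoc, hB₁, Category.id_comp]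
  have bpB : b ≫ pB = pB := by rw [← hB₂, Category.assoc, hB₁, Category.comp_id]
  obtain ⟨i, hi₁, hi₂⟩ : ∃ i : Y₁ ⟶ T.obj₂, u₁ ≫ i = iA ≫ T.mor₁ ∧ i ≫ T.mor₂ = v₁ ≫ iB := by
    obtain ⟨i, h1, h2⟩ := complete_distinguished_triangle_morphism₂ _ T hT₁ hT iA iB (by
      show (iB ≫ T.mor₃ ≫ pA⟦(1 : ℤ)⟧') ≫ iA⟦(1 : ℤ)⟧' = iB ≫ T.mor₃
      rw [Category.assoc, Category.assoc, ← Functor.map_comp, hA₂, hb₂, ← Category.assoc, iBpB])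
    exact ⟨i, h1, h2.symm⟩
  obtain ⟨p, hp₁, hp₂⟩ : ∃ p : T.obj₂ ⟶ Y₁, T.mor₁ ≫ p = pA ≫ u₁ ∧ p ≫ v₁ = T.mor₂ ≫ pB := by
    obtain ⟨p, h1, h2⟩ := complete_distinguished_triangle_morphism₂ T _ hT hT₁ pA pB (by
      show T.mor₃ ≫ pA⟦(1 : ℤ)⟧' = pB ≫ iB ≫ T.mor₃ ≫ pA⟦(1 : ℤ)⟧'
      rw [← Category.assoc pB, hB₂, ← Category.assoc b, ← hb₂, Category.assoc,
        ← Functor.map_comp, apA])
    exact ⟨p, h1, h2.symm⟩
  have hb₁' : e ≫ T.mor₂ = T.mor₂ ≫ b := hb₁.symm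
  have hψ₁ : u₁ ≫ i ≫ e ≫ p = u₁ := by
    simp only [Category.assoc, reassoc_of% hi₁, reassoc_of% ha, reassoc_of% iApA, hp₁,
      reassoc_of% hA₁]
  have hψ₂ : i ≫ e ≫ p ≫ v₁ = v₁ := by
    simp only [Category.assoc, hp₂, reassoc_of% hb₁', reassoc_of% hi₂, reassoc_of% iBpB, hB₁,
      Category.comp_id]
  let φ : Triangle.mk u₁ v₁ (iB ≫ T.mor₃ ≫ pA⟦(1 : ℤ)⟧') ⟶
      Triangle.mk u₁ v₁ (iB ≫ T.mor₃ ≫ pA⟦(1 : ℤ)⟧') :=
    { hom₁ := 𝟙 _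
      hom₂ := i ≫ e ≫ p
      hom₃ := 𝟙 _
      comm₁ := by
        show u₁ ≫ (i ≫ e ≫ p) = 𝟙 _ ≫ u₁
        rw [hψ₁, Category.id_comp]
      comm₂ := by
        show v₁ ≫ 𝟙 _ = (i ≫ e ≫ p) ≫ v₁
        simp only [Category.assoc, hψ₂, Category.comp_id]
      comm₃ := by
        show (iB ≫ T.mor₃ ≫ pA⟦(1 : ℤ)⟧') ≫ (𝟙 A₁)⟦(1 : ℤ)⟧' =
          𝟙 B₁ ≫ (iB ≫ T.mor₃ ≫ pA⟦(1 : ℤ)⟧')
        rw [CategoryTheory.Functor.map_id, Category.comp_id, Category.id_comp] }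
  have hψ : IsIso (i ≫ e ≫ p) :=
    isIso₂_of_isIso₁₃ φ hT₁ hT₁ (by show IsIso (𝟙 A₁); infer_instance)
      (by show IsIso (𝟙 B₁); infer_instance)
  obtain ⟨ψinv, hl, hr⟩ : ∃ ψinv : Y₁ ⟶ Y₁, i ≫ e ≫ p ≫ ψinv = 𝟙 _ ∧ ψinv ≫ i ≫ e ≫ p = 𝟙 _ :=
    ⟨inv (i ≫ e ≫ p), by simpa only [Category.assoc] using IsIso.hom_inv_id (i ≫ e ≫ p),
      IsIso.inv_hom_id (i ≫ e ≫ p)⟩
  clear hψ φ
  have hψ₁' : u₁ ≫ ψinv = u₁ := by
    calc u₁ ≫ ψinv = (u₁ ≫ i ≫ e ≫ p) ≫ ψinv := by rw [hψ₁]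
      _ = u₁ := by simp only [Category.assoc, hl, Category.comp_id]
  have hψ₂' : ψinv ≫ v₁ = v₁ := by
    calc ψinv ≫ v₁ = ψinv ≫ i ≫ e ≫ p ≫ v₁ := by rw [hψ₂]
      _ = v₁ := by simp only [reassoc_of% hr]
  have h1 : (ψinv ≫ i ≫ e) ≫ (e ≫ p) = 𝟙 Y₁ := by
    simp only [Category.assoc, reassoc_of% he, hr]
  have ef : e ≫ (e ≫ p ≫ ψinv ≫ i ≫ e) = e ≫ p ≫ ψinv ≫ i ≫ e := by
    simp only [reassoc_of% he]
  have fe : (e ≫ p ≫ ψinv ≫ i ≫ e) ≫ e = e ≫ p ≫ ψinv ≫ i ≫ e := by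
    simp only [Category.assoc, he]
  have ff : (e ≫ p ≫ ψinv ≫ i ≫ e) ≫ (e ≫ p ≫ ψinv ≫ i ≫ e) = e ≫ p ≫ ψinv ≫ i ≫ e := by
    simp only [Category.assoc, reassoc_of% he, reassoc_of% hr]
  have fv : (e ≫ p ≫ ψinv ≫ i ≫ e) ≫ T.mor₂ = T.mor₂ ≫ b := by
    simp only [Category.assoc, hb₁', reassoc_of% hb₁', reassoc_of% hi₂, reassoc_of% hψ₂',
      reassoc_of% hp₂, reassoc_of% bpB, reassoc_of% hB₂, hbb]
  have uf : T.mor₁ ≫ (e ≫ p ≫ ψinv ≫ i ≫ e) = a ≫ T.mor₁ := by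
    simp only [reassoc_of% ha, reassoc_of% hp₁, reassoc_of% hψ₁', reassoc_of% hi₁, ha,
      reassoc_of% hA₂, reassoc_of% haa]
  obtain ⟨f, hf, ef, fe, ff, fv, uf⟩ : ∃ f : T.obj₂ ⟶ T.obj₂, f = e ≫ p ≫ ψinv ≫ i ≫ e ∧
      e ≫ f = f ∧ f ≫ e = f ∧ f ≫ f = f ∧ f ≫ T.mor₂ = T.mor₂ ≫ b ∧ T.mor₁ ≫ f = a ≫ T.mor₁ :=
    ⟨_, rfl, ef, fe, ff, fv, uf⟩
  have hh : (e - f) ≫ (e - f) = e - f := by
    rw [Preadditive.sub_comp, Preadditive.comp_sub, Preadditive.comp_sub, he, ef, fe, ff]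
    abel
  have hv : (e - f) ≫ T.mor₂ = 0 := by
    rw [Preadditive.sub_comp, fv, hb₁', sub_self]
  have hu : T.mor₁ ≫ (e - f) = 0 := by
    rw [Preadditive.comp_sub, uf, ha, sub_self]
  obtain ⟨t, ht⟩ := Triangle.coyoneda_exact₂ T hT (e - f) hv
  have key : e - f = 0 := by
    rw [← hh]
    nth_rw 1 [ht]
    rw [Category.assoc, hu, comp_zero]
  refine ⟨Y₁, ψinv ≫ i ≫ e, e ≫ p, h1, ?_⟩
  rw [sub_eq_zero] at key
  have := (key.trans hf).symm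
  simpa only [Category.assoc] using this

section tstructure

variable [IsTriangulated C] (t : TStructure C)

/-- the property of being concentrated in degree `a` -/
def conc (a : ℤ) : ObjectProperty C := fun X => t.IsLE X a ∧ t.IsGE X a

lemma hι (a : ℤ) ⦃X Y : (conc t a).FullSubcategory⦄ ⦃n : ℤ⦄
    (f : (conc t a).ι.obj X ⟶ ((conc t a).ι.obj Y)⟦n⟧) (hn : n < 0) : f = 0 := by
  have := X.property.1
  have := Y.property.2
  have : t.IsGE ((Y.obj)⟦n⟧) (a - n) := t.isGE_shift Y.obj a n (a - n) (by omega)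
  exact t.zero (X := X.obj) (Y := (Y.obj)⟦n⟧) f a (a - n) (by omega)

lemma admissible (a : ℤ) {X₁ X₂ : (conc t a).FullSubcategory} (f₁ : X₁ ⟶ X₂) :
    AbelianSubcategory.admissibleMorphism (conc t a).ι f₁ := by
  intro X₃ f₂ f₃ hT
  have i1 := X₁.property.1
  have i2 := X₁.property.2
  have i3 := X₂.property.1
  have i4 := X₂.property.2
  have hT' := rot_of_distTriang _ hT
  have h3le : t.IsLE X₃ a := by
    have j1 : t.IsLE ((X₁.obj)⟦(1 : ℤ)⟧) (a - 1) := t.isLE_shift X₁.obj a 1 (a - 1) (by omega)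
    have j2 : t.IsLE ((X₁.obj)⟦(1 : ℤ)⟧) a := t.isLE_of_le _ (a - 1) a (by omega)
    exact t.isLE₂ _ hT' a i3 j2
  have h3ge : t.IsGE X₃ (a - 1) := by
    have j1 : t.IsGE ((X₁.obj)⟦(1 : ℤ)⟧) (a - 1) := t.isGE_shift X₁.obj a 1 (a - 1) (by omega)
    have j2 : t.IsGE X₂.obj (a - 1) := t.isGE_of_ge _ (a - 1) a (by omega)
    exact t.isGE₂ _ hT' (a - 1) j2 j1
  obtain ⟨K', Q', hK', hQ', f, g, h, hd⟩ := t.exists_triangle X₃ (a - 1) a (by omega)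
  have k1 : t.IsLE K' (a - 1) := ⟨hK'⟩
  have q1 : t.IsGE Q' a := ⟨hQ'⟩
  have k2 : t.IsGE K' (a - 1) := by
    have hd' := inv_rot_of_distTriang _ hd
    have j1 : t.IsGE (Q'⟦(-1 : ℤ)⟧) (a + 1) := t.isGE_shift Q' a (-1) (a + 1) (by omega)
    have j2 : t.IsGE (Q'⟦(-1 : ℤ)⟧) (a - 1) := t.isGE_of_ge _ (a - 1) (a + 1) (by omega)
    exact t.isGE₂ _ hd' (a - 1) j2 h3ge
  have q2 : t.IsLE Q' a := by
    have hd' := rot_of_distTriang _ hd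
    have j1 : t.IsLE (K'⟦(1 : ℤ)⟧) (a - 2) := t.isLE_shift K' (a - 1) 1 (a - 2) (by omega)
    have j2 : t.IsLE (K'⟦(1 : ℤ)⟧) a := t.isLE_of_le _ (a - 2) a (by omega)
    exact t.isLE₂ _ hd' a h3le j2
  have k3 : t.IsLE (K'⟦(-1 : ℤ)⟧) a := t.isLE_shift K' (a - 1) (-1) a (by omega)
  have k4 : t.IsGE (K'⟦(-1 : ℤ)⟧) a := t.isGE_shift K' (a - 1) (-1) a (by omega)
  let ε : (K'⟦(-1 : ℤ)⟧)⟦(1 : ℤ)⟧ ≅ K' := (shiftFunctorCompIsoId C (-1 : ℤ) 1 (by simp)).app K'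
  refine ⟨⟨K'⟦(-1 : ℤ)⟧, ⟨k3, k4⟩⟩, ⟨Q', ⟨q2, q1⟩⟩, ε.hom ≫ f, g, h ≫ ε.inv⟦(1 : ℤ)⟧', ?_⟩
  refine isomorphic_distinguished _ hd _
    (Triangle.isoMk _ _ ε (Iso.refl _) (Iso.refl _) ?_ ?_ ?_)
  · show (ε.hom ≫ f) ≫ 𝟙 _ = ε.hom ≫ f
    rw [Category.comp_id]
  · show g ≫ 𝟙 _ = 𝟙 _ ≫ g
    rw [Category.comp_id, Category.id_comp]
  · show (h ≫ ε.inv⟦(1 : ℤ)⟧') ≫ ε.hom⟦(1 : ℤ)⟧' = 𝟙 _ ≫ h
    rw [Category.assoc, ← Functor.map_comp, ε.inv_hom_id, CategoryTheory.Functor.map_id,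
      Category.comp_id, Category.id_comp]

lemma splits_conc (a : ℤ) (X : C) (h₁ : t.IsLE X a) (h₂ : t.IsGE X a) : Splits X := by
  have : IsIdempotentComplete (conc t a).FullSubcategory := by
    rw [Idempotents.isIdempotentComplete_iff_idempotents_have_kernels]
    intro Y p _
    exact AbelianSubcategory.hasKernel_of_admissibleMorphism (hι t a) p (admissible t a p)
  intro p hp
  obtain ⟨Y, i, e, h₁, h₂⟩ := this.idempotents_split (⟨X, ⟨h₁, h₂⟩⟩ : (conc t a).FullSubcategory)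
    (ObjectProperty.homMk p) (by ext; exact hp)
  exact ⟨Y.obj, i.hom, e.hom, congrArg (fun φ => φ.hom) h₁, congrArg (fun φ => φ.hom) h₂⟩

lemma splits_of_range (n : ℕ) :
    ∀ (a : ℤ) (X : C), t.IsGE X a → t.IsLE X (a + n) → Splits X := by
  induction n with
  | zero =>
    intro a X h1 h2
    have : t.IsLE X a := by simpa using h2
    exact splits_conc t a X this h1
  | succ n ih =>
    intro a X h1 h2
    have h2' : t.IsLE X (a + n + 1) :=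
      t.isLE_of_le X (a + ((n + 1 : ℕ) : ℤ)) (a + n + 1) (by push_cast; omega)
    obtain ⟨A, B, hA, hB, f, g, h, hd⟩ := t.exists_triangle X (a + n) (a + n + 1) rfl
    have a1 : t.IsLE A (a + n) := ⟨hA⟩
    have b1 : t.IsGE B (a + n + 1) := ⟨hB⟩
    have a2 : t.IsGE A a := by
      have hd' := inv_rot_of_distTriang _ hd
      have j1 : t.IsGE (B⟦(-1 : ℤ)⟧) (a + n + 2) :=
        t.isGE_shift B (a + n + 1) (-1) (a + n + 2) (by omega)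
      have j2 : t.IsGE (B⟦(-1 : ℤ)⟧) a := t.isGE_of_ge _ a (a + n + 2) (by omega)
      exact t.isGE₂ _ hd' a j2 h1
    have b2 : t.IsLE B (a + n + 1) := by
      have hd' := rot_of_distTriang _ hd
      have j1 : t.IsLE (A⟦(1 : ℤ)⟧) (a + n - 1) := t.isLE_shift A (a + n) 1 (a + n - 1) (by omega)
      have j2 : t.IsLE (A⟦(1 : ℤ)⟧) (a + n + 1) := t.isLE_of_le _ (a + n - 1) (a + n + 1) (by omega)
      exact t.isLE₂ _ hd' (a + n + 1) h2' j2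
    have b3 : t.IsLE B (a + n + 1 + n) := t.isLE_of_le B (a + n + 1) _ (by omega)
    refine splits_of_triangle (Triangle.mk f g h) hd ?_ ?_ (ih a A a2 a1) (ih (a + n + 1) B b1 b3)
    · intro φ
      exact t.zero (X := A) (Y := B) φ (a + n) (a + n + 1) (by omega)
    · intro φ
      have j1 : t.IsLE (A⟦(1 : ℤ)⟧) (a + n - 1) := t.isLE_shift A (a + n) 1 (a + n - 1) (by omega)
      exact t.zero (X := A⟦(1 : ℤ)⟧) (Y := B) φ (a + n - 1) (a + n + 1) (by omega)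

/-- **Le–Chen** -/
theorem isIdempotentComplete_of_bounded (hb : ∀ X : C, t.bounded X) : IsIdempotentComplete C := by
  refine ⟨fun X p hp => ?_⟩
  obtain ⟨⟨a, ha⟩, ⟨b, hb'⟩⟩ := hb X
  have : t.IsLE X (a + ((b - a).toNat : ℤ)) := t.isLE_of_le X b _ (by omega)
  exact splits_of_range t (b - a).toNat a X ha this p hp

end tstructure

end Groth.Agent.Lib.Helper89.LeChen
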