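import Groth.Agent.Lib.Helper25.KInjDerived

/-!
# The total right derived functor of a triangulated functor on `K(𝒜)` is "triangulated"

For a Grothendieck abelian category `𝒜`, a triangulated functor `G : K(𝒜) ⥤ E` and a right
derived functor `(RG, α)` of `G` with respect to quasi-isomorphisms, `RG` is additive and sends
distinguished triangles to distinguished triangles (for a suitable third morphism).
-/

set_option autoImplicit false
set_option linter.unusedSectionVars false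
set_option linter.style.haveILetI false

open CategoryTheory Category Limits Pretriangulated

namespace Groth.Agent.Lib.Helper89.RFTri

section abstract

variable {C D E : Type*} [Category C] [Category D] [Category E]
  [Preadditive C] [HasZeroObject C] [HasShift C ℤ] [∀ n : ℤ, (shiftFunctor C n).Additive]
  [Pretriangulated C]
  [Preadditive D] [HasZeroObject D] [HasShift D ℤ] [∀ n : ℤ, (shiftFunctor D n).Additive]
  [Pretriangulated D]
  [Preadditive E] [HasZeroObject E] [HasShift E ℤ] [∀ n : ℤ, (shiftFunctor E n).Additive]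
  [Pretriangulated E]
  (L : C ⥤ D) [L.CommShift ℤ] [L.IsTriangulated] [L.mapArrow.EssSurj]
  (G : C ⥤ E) [G.CommShift ℤ] [G.IsTriangulated] (R : D ⥤ E) (η : G ≅ L ⋙ R)

include η in
lemma exists_distTriang_map (T : Triangle D) (hT : T ∈ distTriang D) :
    ∃ δ : R.obj T.obj₃ ⟶ (R.obj T.obj₁)⟦(1 : ℤ)⟧,
      Triangle.mk (R.map T.mor₁) (R.map T.mor₂) δ ∈ distTriang E := by
  obtain ⟨T', e, hT'⟩ := (L.distTriang_iff T).1 hT
  have hG := G.map_distinguished T' hT'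
  obtain ⟨e₁, e₂, e₃, h1, h2⟩ : ∃ (e₁ : T.obj₁ ≅ L.obj T'.obj₁) (e₂ : T.obj₂ ≅ L.obj T'.obj₂)
      (e₃ : T.obj₃ ≅ L.obj T'.obj₃), T.mor₁ ≫ e₂.hom = e₁.hom ≫ L.map T'.mor₁ ∧
        T.mor₂ ≫ e₃.hom = e₂.hom ≫ L.map T'.mor₂ :=
    ⟨(Triangle.π₁).mapIso e, (Triangle.π₂).mapIso e, (Triangle.π₃).mapIso e, e.hom.comm₁,
      e.hom.comm₂⟩
  let α₁ : R.obj T.obj₁ ≅ G.obj T'.obj₁ := R.mapIso e₁ ≪≫ (η.app T'.obj₁).symm
  let α₂ : R.obj T.obj₂ ≅ G.obj T'.obj₂ := R.mapIso e₂ ≪≫ (η.app T'.obj₂).symm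
  let α₃ : R.obj T.obj₃ ≅ G.obj T'.obj₃ := R.mapIso e₃ ≪≫ (η.app T'.obj₃).symm
  obtain ⟨m₃, hm₃⟩ : ∃ m₃ : G.obj T'.obj₃ ⟶ (G.obj T'.obj₁)⟦(1 : ℤ)⟧,
      Triangle.mk (G.map T'.mor₁) (G.map T'.mor₂) m₃ ∈ distTriang E := ⟨_, hG⟩
  refine ⟨α₃.hom ≫ m₃ ≫ (α₁.inv)⟦(1 : ℤ)⟧', ?_⟩
  refine isomorphic_distinguished _ hm₃ _ (Triangle.isoMk _ _ α₁ α₂ α₃ ?_ ?_ ?_)
  · show R.map T.mor₁ ≫ R.map e₂.hom ≫ η.inv.app _ =
      (R.map e₁.hom ≫ η.inv.app _) ≫ G.map T'.mor₁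
    have h3 : R.map (L.map T'.mor₁) ≫ η.inv.app _ = η.inv.app _ ≫ G.map T'.mor₁ :=
      η.inv.naturality T'.mor₁
    rw [← Category.assoc, ← R.map_comp, h1, R.map_comp, Category.assoc, Category.assoc, h3]
  · show R.map T.mor₂ ≫ R.map e₃.hom ≫ η.inv.app _ =
      (R.map e₂.hom ≫ η.inv.app _) ≫ G.map T'.mor₂
    have h3 : R.map (L.map T'.mor₂) ≫ η.inv.app _ = η.inv.app _ ≫ G.map T'.mor₂ :=
      η.inv.naturality T'.mor₂
    rw [← Category.assoc, ← R.map_comp, h2, R.map_comp, Category.assoc, Category.assoc, h3]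
  · show (α₃.hom ≫ m₃ ≫ (α₁.inv)⟦(1 : ℤ)⟧') ≫ (α₁.hom)⟦(1 : ℤ)⟧' = α₃.hom ≫ m₃
    rw [Category.assoc, Category.assoc, ← Functor.map_comp, Iso.inv_hom_id,
      CategoryTheory.Functor.map_id, Category.comp_id]

end abstract

section main

universe w v u

variable {𝒜 : Type u} [Category.{v} 𝒜] [Abelian 𝒜] [IsGrothendieckAbelian.{v} 𝒜]
  [HasDerivedCategory.{w} 𝒜]
  {E : Type*} [Category E] [Preadditive E] [HasZeroObject E] [HasShift E ℤ]
  [∀ n : ℤ, (shiftFunctor E n).Additive] [Pretriangulated E]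
  (G : HomotopyCategory 𝒜 (ComplexShape.up ℤ) ⥤ E) [G.CommShift ℤ] [G.IsTriangulated]
  (RG : DerivedCategory 𝒜 ⥤ E) (α : G ⟶ DerivedCategory.Qh ⋙ RG)
  [RG.IsRightDerivedFunctor α (HomotopyCategory.quasiIso 𝒜 (ComplexShape.up ℤ))]

open Groth.Agent.Lib.Helper25.KInjDerived

/-- the localization functor restricted to K-injectives -/
noncomputable abbrev L' : (KInj 𝒜).FullSubcategory ⥤ DerivedCategory 𝒜 :=
  (KInj 𝒜).ι ⋙ DerivedCategory.Qh

instance isLocalization_L' :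
    (L' (𝒜 := 𝒜)).IsLocalization ((Acyc 𝒜).inverseImage (KInj 𝒜).ι).trW := by
  have h := hasRes (C := 𝒜)
  haveI : (DerivedCategory.Qh (C := 𝒜)).IsLocalization (Acyc 𝒜).trW := by
    rw [← HomotopyCategory.quasiIso_eq_trW_subcategoryAcyclic]
    infer_instance
  haveI := Groth.Agent.Lib.Helper89.TriRes.isVerdierRightLocalizing h
  haveI := Groth.Agent.Lib.Helper89.TriRes.essSurj h (DerivedCategory.Qh (C := 𝒜))
  exact ((KInj 𝒜).triangulatedLocalizerMorphism (Acyc 𝒜)).isLocalization_of_isLocalizedFullyFaithful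
    (L₂ := DerivedCategory.Qh) (L₁ := (KInj 𝒜).ι ⋙ DerivedCategory.Qh)
    (F := 𝟭 _) (Functor.rightUnitor _).symm

instance essSurj_mapArrow_L' : (L' (𝒜 := 𝒜)).mapArrow.EssSurj :=
  Localization.essSurj_mapArrow _ ((Acyc 𝒜).inverseImage (KInj 𝒜).ι).trW

include α in
lemma isIso_unit_app (X : (KInj 𝒜).FullSubcategory) : IsIso (α.app X.obj) := by
  obtain ⟨X, hX⟩ := X
  obtain ⟨I, rfl⟩ := HomotopyCategory.quotient_obj_surjective X
  haveI : CochainComplex.IsKInjective I := (CochainComplex.isKInjective_iff_rightOrthogonal I).2 hX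
  exact isIso_unit_homotopyCategory G DerivedCategory.Qh RG α I

/-- the unit restricted to K-injectives is an isomorphism -/
noncomputable def η' : (KInj 𝒜).ι ⋙ G ≅ L' (𝒜 := 𝒜) ⋙ RG :=
  haveI : ∀ X : (KInj 𝒜).FullSubcategory, IsIso (α.app X.obj) := isIso_unit_app G RG α
  NatIso.ofComponents (fun X => asIso (α.app X.obj)) (fun _ => α.naturality _)

include α in
theorem additive [G.Additive] : RG.Additive := by
  rw [Localization.functor_additive_iff (L' (𝒜 := 𝒜)) ((Acyc 𝒜).inverseImage (KInj 𝒜).ι).trW RG]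
  exact Functor.additive_of_iso (η' G RG α)

include α in
theorem exists_distTriang_map' (T : Triangle (DerivedCategory 𝒜)) (hT : T ∈ distTriang _) :
    ∃ δ : RG.obj T.obj₃ ⟶ (RG.obj T.obj₁)⟦(1 : ℤ)⟧,
      Triangle.mk (RG.map T.mor₁) (RG.map T.mor₂) δ ∈ distTriang E :=
  Groth.Agent.Lib.Helper89.RFTri.exists_distTriang_map (L' (𝒜 := 𝒜)) ((KInj 𝒜).ι ⋙ G) RG
    (η' G RG α) T hT

end main

end Groth.Agent.Lib.Helper89.RFTri
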