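import Groth.Agent.Lib.Helper89.LerayBdd
import Groth.Agent.Lib.Helper89.RFTri
import Groth.Agent.Lib.Helper89.Brutal
import Groth.Agent.Lib.Helper89.HocolimTools
import Groth.Agent.Lib.Helper89.HocolimDerived
import Groth.Agent.Lib.Helper89.SigmaExact2

/-!
# Unbounded complexes of `F`-acyclic objects compute `RF` when `RF` commutes with countable sums
-/

set_option autoImplicit false
set_option linter.style.haveILetI false
set_option linter.unusedSectionVars false

universe w w' v v' u u'

open CategoryTheory Category Limits Pretriangulated ZeroObject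

namespace Groth.Agent.Lib.Helper89.LerayUnb

open Groth.Agent.Lib.Helper89 Groth.Agent.Lib.Helper89.AcycRes

section hocolim

variable {A : Type u} [Category.{v} A] [Abelian A] [HasDerivedCategory.{w} A]
    [HasColimitsOfShape ℕ A] [HasExactColimitsOfShape ℕ A]

open DerivedCategory in
/-- the image in the derived category of a colimit cocone of a sequence of complexes is a
homotopy colimit -/
theorem isHocolim_of_isColimit
    (L : ℕ ⥤ CochainComplex A ℤ) [HasCoproduct L.obj]
    [PreservesColimit (Discrete.functor L.obj) (DerivedCategory.Q (C := A))]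
    [HasCoproduct (fun n => DerivedCategory.Q.obj (L.obj n))] (c : Cocone L) (hc : IsColimit c) :
    DerLim.IsHocolim (fun n => DerivedCategory.Q.obj (L.obj n))
      (fun n => DerivedCategory.Q.map (L.map (homOfLE (Nat.le_succ n))))
      (DerivedCategory.Q.obj c.pt) (fun n => DerivedCategory.Q.map (c.ι.app n)) := by
  haveI : HasColimit L := ⟨⟨⟨c, hc⟩⟩⟩
  refine HocolimTools.isHocolim_of_iso _ _ _ _
    (DerivedCategory.Q.mapIso (IsColimit.coconePointUniqueUpToIso (colimit.isColimit L) hc)) ?_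
    (HocolimDerived.isHocolim_of_colimit L)
  intro n
  rw [Functor.mapIso_hom, ← Functor.map_comp]
  congr 1
  exact IsColimit.comp_coconePointUniqueUpToIso_hom (colimit.isColimit L) hc n

/-- a morphism of complexes which is an isomorphism in degrees `≥ k - 1` induces an
isomorphism on `Hᵏ` -/
lemma isIso_homologyMap_of_isIso_f {K L : CochainComplex A ℤ} (φ : K ⟶ L) (k : ℤ)
    (h : ∀ m, k - 1 ≤ m → IsIso (φ.f m)) : IsIso (HomologicalComplex.homologyMap φ k) := by
  have h1 : IsIso (φ.f ((ComplexShape.up ℤ).prev k)) := by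
    rw [CochainComplex.prev]
    exact h _ le_rfl
  have h2 : IsIso (φ.f k) := h _ (by omega)
  have h3 : IsIso (φ.f ((ComplexShape.up ℤ).next k)) := by
    rw [CochainComplex.next]
    exact h _ (by omega)
  exact ShortComplex.isIso_homologyMap_of_epi_of_isIso_of_mono'
    ((HomologicalComplex.shortComplexFunctor A (ComplexShape.up ℤ) k).map φ)
    (by haveI := h1; exact inferInstanceAs (Epi (φ.f _))) h2
    (by haveI := h3; exact inferInstanceAs (Mono (φ.f _)))

end hocolim

section main

variable {𝒜 : Type u} [Category.{v} 𝒜] [Abelian 𝒜] [IsGrothendieckAbelian.{v} 𝒜]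
  {ℬ : Type u'} [Category.{v'} ℬ] [Abelian ℬ] [EnoughInjectives ℬ]
  [HasColimitsOfShape ℕ ℬ] [HasExactColimitsOfShape ℕ ℬ] [HasCoproductsOfShape ℕ ℬ]
  (F : 𝒜 ⥤ ℬ) [F.Additive]
  [PreservesFiniteLimits F] [HasDerivedCategory.{w} 𝒜] [HasDerivedCategory.{w'} ℬ]
  (RG : DerivedCategory 𝒜 ⥤ DerivedCategory ℬ) (α : G F ⟶ DerivedCategory.Qh ⋙ RG)
  [RG.IsRightDerivedFunctor α (HomotopyCategory.quasiIso 𝒜 (ComplexShape.up ℤ))]
  [HasColimitsOfShape (Discrete ℕ) (DerivedCategory 𝒜)]
  [HasColimitsOfShape (Discrete ℕ) (DerivedCategory ℬ)]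
  [PreservesColimitsOfShape (Discrete ℕ) RG]

/-- S19253 in general form -/
theorem isIso_unit (K : CochainComplex 𝒜 ℤ) (hK : ∀ m, FAcyclic F (K.X m)) :
    IsIso (α.app ((HomotopyCategory.quotient 𝒜 (ComplexShape.up ℤ)).obj K)) := by
  let q := HomotopyCategory.quotient 𝒜 (ComplexShape.up ℤ)
  let Fc := F.mapHomologicalComplex (ComplexShape.up ℤ)
  let S := Brutal.seq K
  let c := Brutal.cocone K
  haveI : RG.Additive := RFTri.additive (G F) RG α
  haveI : AB5OfSize.{0, 0} 𝒜 := AB5OfSize_of_univLE.{0, 0, v, v} 𝒜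
  -- the homotopy colimit in `D(𝒜)`
  have hA : DerLim.IsHocolim (fun n => DerivedCategory.Q.obj (S.obj n))
      (fun n => DerivedCategory.Q.map (S.map (homOfLE (Nat.le_succ n))))
      (DerivedCategory.Q.obj K) (fun n => DerivedCategory.Q.map (c.ι.app n)) :=
    isHocolim_of_isColimit S c (Brutal.isColimitCocone K)
  -- its image under `RG`
  have hRA := HocolimTools.map_isHocolim RG (RFTri.exists_distTriang_map' (G F) RG α) _ _ _ hA
  -- the homotopy colimit in `D(ℬ)`
  have hB : DerLim.IsHocolim (fun n => DerivedCategory.Q.obj (Fc.obj (S.obj n)))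
      (fun n => DerivedCategory.Q.map (Fc.map (S.map (homOfLE (Nat.le_succ n)))))
      (DerivedCategory.Q.obj (Fc.obj K)) (fun n => DerivedCategory.Q.map (Fc.map (c.ι.app n))) :=
    isHocolim_of_isColimit (S ⋙ Fc) (Fc.mapCocone c) (Brutal.isColimitMapCocone K F)
  -- the comparison isomorphisms
  have hiso : ∀ n : ℕ, IsIso (α.app (q.obj (S.obj n))) := by
    intro n
    haveI : (S.obj n).IsStrictlyGE (-(n : ℤ)) :=
      inferInstanceAs ((Brutal.sigmaGE K (-(n : ℤ))).IsStrictlyGE (-(n : ℤ)))
    refine LerayBdd.isIso_unit_bddBelow F RG α (S.obj n) (-(n : ℤ)) ?_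
    exact Brutal.prop_sigmaGE_X K _ (FAcyclic F)
      (fun e h => (inferInstance : Groth.Agent.Lib.Helper86.ClassFactor.ResClass
        (FAcyclic F)).iso e h)
      (fun Z hZ => LerayBdd.fAcyclic_of_isZero F Z hZ) hK
  let θ : ∀ n : ℕ, DerivedCategory.Q.obj (Fc.obj (S.obj n)) ≅
      RG.obj (DerivedCategory.Q.obj (S.obj n)) := fun n =>
    @asIso _ _ _ _ (α.app (q.obj (S.obj n))) (hiso n)
  refine HocolimTools.isIso_of_isHocolim (fun k => DerivedCategory.homologyFunctor ℬ k)
    (fun φ hφ => (DerivedCategory.isIso_iff ℬ φ).2 hφ) _ _ _ _ hB _ _ _ _ hRA θ ?_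
    (α.app (q.obj K)) ?_ ?_
  · intro n
    exact α.naturality (q.map (S.map (homOfLE (Nat.le_succ n))))
  · intro n
    exact α.naturality (q.map (c.ι.app n))
  · intro k
    refine ⟨(1 - k).toNat, ?_⟩
    have hk : -(((1 - k).toNat : ℕ) : ℤ) ≤ k - 1 := by
      have := Int.self_le_toNat (1 - k)
      omega
    have h1 : IsIso (HomologicalComplex.homologyMap (Fc.map (c.ι.app (1 - k).toNat)) k) := by
      apply isIso_homologyMap_of_isIso_f
      intro m hm
      haveI := Brutal.isIso_ι_f K (-(((1 - k).toNat : ℕ) : ℤ)) (hk.trans hm)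
      show IsIso (F.map ((Brutal.ι K (-(((1 - k).toNat : ℕ) : ℤ))).f m))
      infer_instance
    have h2 : IsIso ((DerivedCategory.homologyFunctor ℬ k).map
        (DerivedCategory.Q.map (Fc.map (c.ι.app (1 - k).toNat)))) :=
      (NatIso.isIso_map_iff (DerivedCategory.homologyFunctorFactors ℬ k) _).2 h1
    exact @IsIso.epi_of_iso _ _ _ _ _ h2

end main

end Groth.Agent.Lib.Helper89.LerayUnb
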