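import Mathlib
import Groth.Agent.Lib.Helper59.NLFlat
import Groth.Agent.Lib.Helper75.FlatCx1

/-!
# Base change of the naive cotangent complex when `S` is flat over `R`
(variant of helper59's `NLFlat`, where `R'` is flat over `R`)
-/

set_option autoImplicit false
set_option linter.style.haveILetI false

namespace Groth.Agent.Lib.Helper89.NLFlatS

open TensorProduct MvPolynomial Groth.Agent.Lib.Helper59.NLBaseChange Groth.Agent.Lib.Helper59.NLFlat

universe u

variable {R S R' S' : Type u} [CommRing R] [CommRing S] [CommRing R'] [CommRing S']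
  [Algebra R S] [Algebra R' S'] [Algebra R R'] [Algebra S S'] [Algebra R S']
  [IsScalarTower R R' S'] [IsScalarTower R S S'] [Algebra.IsPushout R R' S S']
  {ι : Type u} (G : Algebra.Generators R S ι) (G' : Algebra.Generators R' S' ι)
  (f : G.Hom G') (hf : ∀ i, f.val i = X i)

local notation "P" => Algebra.Generators.toExtension G
local notation "P'" => Algebra.Generators.toExtension G'
local notation "F" => Algebra.Generators.Hom.toExtensionHom f

/-- the map `P/I² → S` -/
noncomputable def vmap : ((P).Ring ⧸ (P).ker ^ 2) →ₗ[R] S :=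
  (Ideal.Quotient.liftₐ ((P).ker ^ 2) (IsScalarTower.toAlgHom R (P).Ring S)
    (fun a ha => (Ideal.pow_le_self (by norm_num) ha : a ∈ (P).ker))).toLinearMap

theorem vmap_mk (a : (P).Ring) :
    vmap G (Ideal.Quotient.mk ((P).ker ^ 2) a) = algebraMap (P).Ring S a := rfl

theorem vmap_surjective : Function.Surjective (vmap G) := by
  intro s
  obtain ⟨a, rfl⟩ := (P).algebraMap_surjective s
  exact ⟨Ideal.Quotient.mk _ a, rfl⟩

theorem exact_jmap_vmap : Function.Exact (jmap G) (vmap G) := by
  intro y
  obtain ⟨a, rfl⟩ := Ideal.Quotient.mk_surjective y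
  rw [vmap_mk]
  constructor
  · intro h
    exact ⟨Algebra.Extension.Cotangent.mk ⟨a, h⟩, jmap_mk G ⟨a, h⟩⟩
  · rintro ⟨x, hx⟩
    obtain ⟨b, rfl⟩ := Algebra.Extension.Cotangent.mk_surjective x
    rw [jmap_mk] at hx
    have h1 : a - b.1 ∈ (P).ker ^ 2 := by
      rw [← Ideal.Quotient.eq]
      exact hx.symm
    have h2 : a - b.1 ∈ (P).ker := Ideal.pow_le_self (by norm_num) h1
    have h3 : a = (a - b.1) + b.1 := by ring
    rw [h3, map_add]
    have h4 : algebraMap (P).Ring S (a - b.1) = 0 := h2
    have h5 : algebraMap (P).Ring S b.1 = 0 := b.2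
    rw [h4, h5, add_zero]

theorem lTensor_jmap_injective [Module.Flat R S] :
    Function.Injective (LinearMap.lTensor R' (jmap G)) := by
  rw [LinearMap.lTensor_inj_iff_rTensor_inj]
  exact Groth.Agent.Lib.Helper75.FlatCx.rTensor_injective_of_flat_quot (jmap G) (vmap G)
    (jmap_injective G) (exact_jmap_vmap G) (vmap_surjective G) R'

include hf in
theorem liftBaseChange_cotangent_injective [Module.Flat R S] :
    Function.Injective
      (LinearMap.liftBaseChange S' (Algebra.Extension.Cotangent.map F)) := by
  intro x₁ x₂ hx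
  obtain ⟨y₁, rfl⟩ := (Algebra.IsPushout.cancelBaseChange R R' S S' (P).Cotangent).symm.surjective x₁
  obtain ⟨y₂, rfl⟩ := (Algebra.IsPushout.cancelBaseChange R R' S S' (P).Cotangent).symm.surjective x₂
  have h1 : beta G G' f hf (LinearMap.lTensor R' (jmap G) y₁) =
      beta G G' f hf (LinearMap.lTensor R' (jmap G) y₂) := by
    rw [← key_identity, ← key_identity, hx]
  have h2 := beta_injective G G' f hf h1
  have h3 := lTensor_jmap_injective (R' := R') G h2
  rw [h3]

include hf in
theorem part1 [Module.Flat R S] : CategoryTheory.IsIso (NLCx.bcMap (S' := S') F) := by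
  have h1 : Function.Bijective
      (LinearMap.liftBaseChange S' (Algebra.Extension.Cotangent.map F)) :=
    ⟨liftBaseChange_cotangent_injective G G' f hf,
      liftBaseChange_cotangent_surjective G G' f hf⟩
  have h2 := liftBaseChange_cotangentSpace_bijective G G' f hf
  exact isIso_bcMap (Q := G.toExtension) (Q' := G'.toExtension) F h1 h2

open CategoryTheory CategoryTheory.Limits in
variable (R S R' S') in
theorem exists_homotopyEquiv [Module.Flat R S] :
    ∃ e : HomotopyEquiv (NLCx.bcCx (Algebra.Generators.self R S).toExtension S')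
        (NLCx.cx (Algebra.Generators.self R' S').toExtension),
      e.hom = NLCx.bcMapSelf R S R' S' := by
  haveI : IsIso (NLCx.bcMap (S' := S') (NLCx.sameVarsHom (Algebra.Generators.self R S)
      (midGen R S R' S') (fun _ => rfl)).toExtensionHom) :=
    part1 (Algebra.Generators.self R S) (midGen R S R' S') _ (fun _ => rfl)
  refine ⟨(HomotopyEquiv.ofIso (asIso (NLCx.bcMap (S' := S')
      (NLCx.sameVarsHom (Algebra.Generators.self R S)
        (midGen R S R' S') (fun _ => rfl)).toExtensionHom))).trans
    (homotopyEquivOfHoms (midHom R S R' S').toExtensionHom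
      ((Algebra.Generators.self R' S').defaultHom (midGen R S R' S')).toExtensionHom), ?_⟩
  exact (bcMapSelf_eq R S R' S').symm

end Groth.Agent.Lib.Helper89.NLFlatS
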