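import Mathlib
import Groth.Prelude.Def_LCI2
import Groth.Prelude.Def_SheafNL
import Groth.Agent.Lib.Helper59.NLFlat
import Groth.Agent.Lib.Helper43.KoszulH1
import Groth.Agent.S2103
import Groth.Agent.S3826

set_option autoImplicit false
set_option linter.style.haveILetI false
universe u
open CategoryTheory CategoryTheory.Limits

attribute [local instance] HasDerivedCategory.standard

namespace Groth.Agent.Lib.Helper89.NLLci

theorem locQR {P : Type u} [CommRing P] (I : Ideal P) (h : LCI.IsKoszulRegularIdeal I) :
    PP16.IsLocallyQuasiRegular P I := by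
  intro 𝔭 _ hI
  obtain ⟨g, hg, l, hl, hmap⟩ := h ⟨𝔭, inferInstance⟩ hI
  refine ⟨g, hg, l.length, l.get, Groth.Agent.S2103.result _
    (Groth.Agent.Lib.Helper43.KoszulH1.isH1Regular_of_isKoszulRegularSeq l hl), ?_⟩
  rw [hmap]
  congr 1
  ext x
  simp [List.mem_iff_get]

variable {A B : Type u} [CommRing A] [CommRing B] [Algebra A B]

theorem projective_cotangent (Q : Algebra.Extension.{u} A B)
    [Module.Projective (Q.Ring ⧸ Q.ker) Q.ker.Cotangent] : Module.Projective B Q.Cotangent := by
  let e₁ : (Q.Ring ⧸ Q.ker) ≃+* B :=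
    RingHom.quotientKerEquivOfSurjective (f := algebraMap Q.Ring B) Q.algebraMap_surjective
  letI : RingHomInvPair (e₁ : (Q.Ring ⧸ Q.ker) →+* B) (e₁.symm : B →+* _) :=
    RingHomInvPair.of_ringEquiv e₁
  letI : RingHomInvPair (e₁.symm : B →+* _) (e₁ : (Q.Ring ⧸ Q.ker) →+* B) :=
    RingHomInvPair.of_ringEquiv e₁.symm
  let e₂ : Q.ker.Cotangent ≃ₛₗ[(e₁ : (Q.Ring ⧸ Q.ker) →+* B)] Q.Cotangent :=
    { toFun := Algebra.Extension.Cotangent.of
      map_add' := fun _ _ => rfl
      map_smul' := by
        intro r x
        obtain ⟨p, rfl⟩ := Ideal.Quotient.mk_surjective r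
        apply Algebra.Extension.Cotangent.ext
        have h1 : (e₁ : (Q.Ring ⧸ Q.ker) →+* B) (Ideal.Quotient.mk _ p) = algebraMap Q.Ring B p := by
          simp [e₁]
        rw [h1, algebraMap_smul, Algebra.Extension.Cotangent.val_smul']
        rfl
      invFun := Algebra.Extension.Cotangent.val
      left_inv := fun _ => rfl
      right_inv := fun _ => rfl }
  exact Module.Projective.of_equiv e₂

/-- The terms of the naive cotangent complex of an extension with finite projective cotangent module
and finite projective cotangent space. -/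
theorem cx_terms (Q : Algebra.Extension.{u} A B) [Module.Finite B Q.Cotangent]
    [Module.Projective B Q.Cotangent] [Module.Finite B Q.CotangentSpace]
    [Module.Projective B Q.CotangentSpace] :
    DRing.VanishesOutside (NLCx.cx Q) (-1) 0 ∧ DRing.TermwiseFiniteProjective (NLCx.cx Q) := by
  refine ⟨fun i hi => HomologicalComplex.isZero_double_X _ _ i (by omega) (by omega), fun i => ?_⟩
  by_cases h0 : i = -1
  · subst h0
    let e := (HomologicalComplex.doubleXIso₀ (ModuleCat.ofHom Q.cotangentComplex)
      (show (ComplexShape.up ℤ).Rel (-1) 0 by simp)).toLinearEquiv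
    exact ⟨Module.Finite.equiv e.symm, Module.Projective.of_equiv' e.symm⟩
  · by_cases h1 : i = 0
    · subst h1
      let e := (HomologicalComplex.doubleXIso₁ (ModuleCat.ofHom Q.cotangentComplex)
        (show (ComplexShape.up ℤ).Rel (-1) 0 by simp) (by decide)).toLinearEquiv
      exact ⟨Module.Finite.equiv e.symm, Module.Projective.of_equiv' e.symm⟩
    · have hz : IsZero ((NLCx.cx Q).X i) := HomologicalComplex.isZero_double_X _ _ i h0 h1
      haveI : Subsingleton ((NLCx.cx Q).X i) := ModuleCat.subsingleton_of_isZero hz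
      exact ⟨inferInstance, inferInstance⟩

/-- Two polynomial presentations have isomorphic naive cotangent complexes in `D(B)`. -/
theorem nonempty_iso {ι : Type} {ι' : Type u} (G : Algebra.Generators A B ι) (G' : Algebra.Generators A B ι') :
    Nonempty (DRing.toD (NLCx.cx G.toExtension) ≅ DRing.toD (NLCx.cx G'.toExtension)) := by
  let e := Groth.Agent.Lib.Helper59.NLFlat.homotopyEquivOfHoms
    (G.defaultHom G').toExtensionHom (G'.defaultHom G).toExtensionHom
  haveI : IsIso (DerivedCategory.Q.map e.hom) := by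
    rw [DerivedCategory.isIso_Q_map_iff_quasiIso]
    infer_instance
  exact ⟨asIso (DerivedCategory.Q.map e.hom)⟩


theorem main (h : LCI.IsLCI A B) :
    DRing.IsPerfect B (LCI.NL A B) ∧ DRing.HasTorAmplitudeIn B (-1) 0 (LCI.NL A B) := by
  obtain ⟨_, n, f, hf, hK⟩ := h
  let G : Algebra.Generators A B (Fin n) := Algebra.Generators.ofAlgHom f hf
  let Q : Algebra.Extension.{u} A B := G.toExtension
  have hker : Q.ker = RingHom.ker f.toRingHom := by
    have this : (MvPolynomial.aeval G.val : MvPolynomial (Fin n) A →ₐ[A] B) = f := by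
      ext i
      simp [G, Algebra.Generators.ofAlgHom, Algebra.Generators.ofSurjective]
    ext x
    change MvPolynomial.aeval G.val (show MvPolynomial (Fin n) A from x) = 0 ↔ f x = 0
    rw [this]
  have hK' : LCI.IsKoszulRegularIdeal Q.ker := by rw [hker]; exact hK
  obtain ⟨hfg, hproj, _⟩ := (Groth.Agent.S3826.result Q.Ring Q.ker).1 (locQR _ hK')
  haveI := hproj
  haveI : Module.Projective B Q.Cotangent := projective_cotangent Q
  haveI : Module.Finite B Q.Cotangent := Algebra.Extension.Cotangent.finite hfg
  haveI : Module.Free B Q.CotangentSpace := inferInstanceAs (Module.Free B G.toExtension.CotangentSpace)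
  haveI : Module.Finite B Q.CotangentSpace := Module.Finite.of_basis G.cotangentSpaceBasis
  obtain ⟨hv, ht⟩ := cx_terms Q
  obtain ⟨e⟩ := nonempty_iso G (Algebra.Generators.self A B)
  refine ⟨⟨NLCx.cx Q, -1, 0, hv, ht, ⟨e⟩⟩, ⟨NLCx.cx Q, hv, fun i => ?_, ⟨e⟩⟩⟩
  haveI := (ht i).2
  infer_instance

end Groth.Agent.Lib.Helper89.NLLci
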