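import Mathlib
import Groth.Prelude.Def_LCI2
import Groth.Prelude.Def_SheafNL
import Groth.Agent.Lib.Helper89.NLLci

set_option autoImplicit false
set_option linter.style.haveILetI false
universe u
open CategoryTheory CategoryTheory.Limits

attribute [local instance] HasDerivedCategory.standard

namespace Groth.Agent.Lib.Helper89.NLJac

section Abstract

variable {B : Type u} [CommRing B] {X₀ X₁ : ModuleCat.{u} B} (d : X₀ ⟶ X₁)

lemma rel : (ComplexShape.up ℤ).Rel (-1) 0 := by simp

/-- the two term complex -/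
noncomputable abbrev E : CochainComplex (ModuleCat.{u} B) ℤ := HomologicalComplex.double d rel

noncomputable abbrev i₀ : (E d).X (-1) ≅ X₀ := HomologicalComplex.doubleXIso₀ d rel
noncomputable abbrev i₁ : (E d).X 0 ≅ X₁ := HomologicalComplex.doubleXIso₁ d rel (by decide)

lemma E_d : (E d).d (-1) 0 = (i₀ d).hom ≫ d ≫ (i₁ d).inv :=
  HomologicalComplex.double_d _ _ (by decide)

/-- endomorphism with given components -/
noncomputable def endo (u₀ : X₀ ⟶ X₀) (u₁ : X₁ ⟶ X₁) (w : u₀ ≫ d = d ≫ u₁) : E d ⟶ E d :=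
  HomologicalComplex.mkHomFromDouble rel (by decide) (u₀ ≫ (i₀ d).inv) (u₁ ≫ (i₁ d).inv)
    (by rw [E_d]; simp [reassoc_of% w])
    (fun k hk => (HomologicalComplex.isZero_double_X _ _ k (by simp at hk; omega)
      (by simp at hk; omega)).eq_of_tgt _ _)

lemma endo_f₀ (u₀ : X₀ ⟶ X₀) (u₁ : X₁ ⟶ X₁) (w : u₀ ≫ d = d ≫ u₁) :
    (endo d u₀ u₁ w).f (-1) = (i₀ d).hom ≫ u₀ ≫ (i₀ d).inv :=
  HomologicalComplex.mkHomFromDouble_f₀ _ _ _ _ _ _

lemma endo_f₁ (u₀ : X₀ ⟶ X₀) (u₁ : X₁ ⟶ X₁) (w : u₀ ≫ d = d ≫ u₁) :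
    (endo d u₀ u₁ w).f 0 = (i₁ d).hom ≫ u₁ ≫ (i₁ d).inv :=
  HomologicalComplex.mkHomFromDouble_f₁ _ _ _ _ _ _

lemma endo_zero (w : (0 : X₀ ⟶ X₀) ≫ d = d ≫ (0 : X₁ ⟶ X₁)) : endo d 0 0 w = 0 := by
  apply HomologicalComplex.from_double_hom_ext
  · rw [endo_f₀]; simp
  · rw [endo_f₁]; simp

lemma smul_id_eq_endo (g : B) :
    g • 𝟙 (E d) = endo d (g • 𝟙 X₀) (g • 𝟙 X₁) (by simp) := by
  apply HomologicalComplex.from_double_hom_ext
  · rw [endo_f₀]; simp
  · rw [endo_f₁]; simp

/-- homotopy between two endomorphisms -/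
noncomputable def homotopyEndo (u₀ : X₀ ⟶ X₀) (u₁ : X₁ ⟶ X₁) (w : u₀ ≫ d = d ≫ u₁)
    (v₀ : X₀ ⟶ X₀) (v₁ : X₁ ⟶ X₁) (w' : v₀ ≫ d = d ≫ v₁) (h : X₁ ⟶ X₀)
    (e₀ : u₀ = d ≫ h + v₀) (e₁ : u₁ = h ≫ d + v₁) :
    Homotopy (endo d u₀ u₁ w) (endo d v₀ v₁ w') where
  hom i j := if hh : i = 0 ∧ j = -1 then
      eqToHom (show (E d).X i = (E d).X 0 by rw [hh.1]) ≫ (i₁ d).hom ≫ h ≫ (i₀ d).inv ≫
        eqToHom (show (E d).X (-1) = (E d).X j by rw [hh.2])
    else 0
  zero i j hij := by
    apply dif_neg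
    rintro ⟨rfl, rfl⟩
    exact hij (by simp)
  comm i := by
    by_cases h0 : i = -1
    · subst h0
      rw [dNext_eq _ (show (ComplexShape.up ℤ).Rel (-1) 0 by simp),
        prevD_eq _ (show (ComplexShape.up ℤ).Rel (-2) (-1) by simp)]
      rw [dif_pos ⟨rfl, rfl⟩, dif_neg (by decide), endo_f₀, endo_f₀, E_d, e₀]
      simp
    · by_cases h1 : i = 0
      · subst h1
        rw [dNext_eq _ (show (ComplexShape.up ℤ).Rel 0 1 by simp),
          prevD_eq _ (show (ComplexShape.up ℤ).Rel (-1) 0 by simp)]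
        rw [dif_neg (by decide), dif_pos ⟨rfl, rfl⟩, endo_f₁, endo_f₁, E_d, e₁]
        simp
      · exact (HomologicalComplex.isZero_double_X _ _ i h0 h1).eq_of_src _ _

open DerivedCategory in
/-- (CL-2) a contracting homotopy for multiplication by `g` -/
theorem smul_id_eq_zero (g : B) (h : X₁ ⟶ X₀) (h₀ : d ≫ h = g • 𝟙 X₀) (h₁ : h ≫ d = g • 𝟙 X₁) :
    g • 𝟙 (DerivedCategory.Q.obj (E d)) = 0 := by
  have e1 : g • 𝟙 (DerivedCategory.Q.obj (E d)) = DerivedCategory.Q.map (g • 𝟙 (E d)) := by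
    rw [Functor.map_smul, CategoryTheory.Functor.map_id]
  rw [e1, smul_id_eq_endo,
    DerivedCategory.Q_map_eq_of_homotopy _ (homotopyEndo d _ _ _ 0 0 (by simp) h (by simp [h₀])
      (by simp [h₁])), endo_zero, Functor.map_zero]

/-- the inclusion of the degree zero term -/
noncomputable def ι : (HomologicalComplex.single (ModuleCat.{u} B) (ComplexShape.up ℤ) 0).obj X₁ ⟶ E d :=
  HomologicalComplex.mkHomFromSingle (i₁ d).inv
    (fun k hk => (HomologicalComplex.isZero_double_X _ _ k (by simp at hk; omega)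
      (by simp at hk; omega)).eq_of_tgt _ _)

/-- a map to the degree zero term -/
noncomputable def t (v₁ : X₁ ⟶ X₁) (hv : d ≫ v₁ = 0) :
    E d ⟶ (HomologicalComplex.single (ModuleCat.{u} B) (ComplexShape.up ℤ) 0).obj X₁ :=
  HomologicalComplex.mkHomToSingle ((i₁ d).hom ≫ v₁)
    (fun i hi => by
      have : i = -1 := by simp at hi; omega
      subst this
      rw [E_d]
      simp [hv])

lemma t_ι (v₁ : X₁ ⟶ X₁) (hv : d ≫ v₁ = 0) :
    t d v₁ hv ≫ ι d = endo d 0 v₁ (by simp [hv]) := by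
  apply HomologicalComplex.from_double_hom_ext
  · rw [endo_f₀, HomologicalComplex.comp_f]
    have hz : IsZero (((HomologicalComplex.single (ModuleCat.{u} B) (ComplexShape.up ℤ) 0).obj X₁).X
        (-1)) := HomologicalComplex.isZero_single_obj_X _ _ _ _ (by decide)
    rw [hz.eq_of_tgt ((t d v₁ hv).f (-1)) 0]
    simp
  · rw [endo_f₁, HomologicalComplex.comp_f, t, ι, HomologicalComplex.mkHomToSingle_f,
      HomologicalComplex.mkHomFromSingle_f]
    simp

/-- (CL-1) a one-sided homotopy kills `Hom(E, N[1])` when the degree zero term is projective -/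
theorem smul_comp_eq_zero (g : B) (h : X₁ ⟶ X₀) (h₀ : d ≫ h = g • 𝟙 X₀) [Projective X₁]
    (N : ModuleCat.{u} B)
    (φ : DerivedCategory.Q.obj (E d) ⟶
      ((DerivedCategory.singleFunctor (ModuleCat.{u} B) 0).obj N)⟦(1 : ℤ)⟧) :
    g • φ = 0 := by
  have hv : d ≫ (g • 𝟙 X₁ - h ≫ d) = 0 := by
    rw [Preadditive.comp_sub, ← Category.assoc, h₀]
    simp
  have e1 : g • φ = DerivedCategory.Q.map (g • 𝟙 (E d)) ≫ φ := by
    rw [Functor.map_smul, CategoryTheory.Functor.map_id, Linear.smul_comp, Category.id_comp]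
  rw [e1, smul_id_eq_endo, DerivedCategory.Q_map_eq_of_homotopy _
    (homotopyEndo d _ _ _ 0 (g • 𝟙 X₁ - h ≫ d) (by simp [hv]) h (by simp [h₀]) (by simp)),
    ← t_ι d _ hv, Functor.map_comp, Category.assoc]
  let L : CochainComplex (ModuleCat.{u} B) ℤ :=
    ((CochainComplex.singleFunctor (ModuleCat.{u} B) 0).obj N)⟦(1 : ℤ)⟧
  haveI : L.IsStrictlyLE (-1) := CochainComplex.isStrictlyLE_shift _ 0 1 (-1) (by norm_num)
  let α : ((DerivedCategory.singleFunctor (ModuleCat.{u} B) 0).obj N)⟦(1 : ℤ)⟧ ≅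
      DerivedCategory.Q.obj L :=
    (shiftFunctor _ (1 : ℤ)).mapIso
      ((DerivedCategory.singleFunctorIsoCompQ (ModuleCat.{u} B) 0).app N) ≪≫
      ((DerivedCategory.Q.commShiftIso (1 : ℤ)).app _).symm
  have hψ : (DerivedCategory.Q.map (ι d) ≫ φ) ≫ α.hom = 0 :=
    DerivedCategory.from_singleFunctor_obj_eq_zero_of_projective (P := X₁) (i := 0) (L := L)
      _ (-1) (by decide)
  have : DerivedCategory.Q.map (ι d) ≫ φ = 0 := by
    rw [← cancel_mono α.hom, hψ, zero_comp]
  rw [this, comp_zero]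

end Abstract

section LA

variable {B : Type u} [CommRing B] {X₀ X₁ : Type u} [AddCommGroup X₀] [Module B X₀]
  [AddCommGroup X₁] [Module B X₁]
  (d : X₀ →ₗ[B] X₁) {n m : ℕ} (hmn : m ≤ n) (b : Module.Basis (Fin n) B X₁) (c : Fin m → X₀)

/-- the minor matrix -/
noncomputable def M' : Matrix (Fin m) (Fin m) B := Matrix.of fun i j => b.repr (d (c j)) (Fin.castLE hmn i)

/-- Cramer homotopy -/
noncomputable def hh : X₁ →ₗ[B] X₀ :=
  ∑ i : Fin m, ∑ j : Fin m,
    ((M' d hmn b c).adjugate j i) • (b.coord (Fin.castLE hmn i)).smulRight (c j)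

lemma hh_apply (y : X₁) : hh d hmn b c y =
    ∑ i : Fin m, ∑ j : Fin m,
      ((M' d hmn b c).adjugate j i) • (b.repr y (Fin.castLE hmn i)) • c j := by
  simp [hh, LinearMap.sum_apply]

lemma adj_mul (j k : Fin m) :
    ∑ i, (M' d hmn b c).adjugate j i * (M' d hmn b c) i k =
      if j = k then (M' d hmn b c).det else 0 := by
  have := congrFun (congrFun (Matrix.adjugate_mul (M' d hmn b c)) j) k
  simpa [Matrix.mul_apply, Matrix.smul_apply, Matrix.one_apply] using this

lemma mul_adj (j k : Fin m) :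
    ∑ i, (M' d hmn b c) j i * (M' d hmn b c).adjugate i k =
      if j = k then (M' d hmn b c).det else 0 := by
  have := congrFun (congrFun (Matrix.mul_adjugate (M' d hmn b c)) j) k
  simpa [Matrix.mul_apply, Matrix.smul_apply, Matrix.one_apply] using this

lemma hh_d (hc : Submodule.span B (Set.range c) = ⊤) (x : X₀) :
    hh d hmn b c (d x) = (M' d hmn b c).det • x := by
  have : (hh d hmn b c) ∘ₗ d = (M' d hmn b c).det • LinearMap.id := by
    apply LinearMap.ext_on_range hc
    intro k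
    simp only [LinearMap.comp_apply, LinearMap.smul_apply, LinearMap.id_apply, hh_apply]
    have e1 : ∀ i : Fin m, b.repr (d (c k)) (Fin.castLE hmn i) = (M' d hmn b c) i k := fun i => rfl
    simp only [e1]
    rw [Finset.sum_comm]
    simp only [smul_smul, ← Finset.sum_smul, adj_mul]
    simp
  exact congr($this x)

lemma d_hh (hnm : n = m) (y : X₁) :
    d (hh d hmn b c y) = (M' d hmn b c).det • y := by
  subst hnm
  have hcast : ∀ i : Fin n, Fin.castLE hmn i = i := fun i => Fin.ext (by simp)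
  have : d ∘ₗ (hh d hmn b c) = (M' d hmn b c).det • LinearMap.id := by
    apply b.ext
    intro k
    rw [LinearMap.comp_apply, hh_apply, LinearMap.smul_apply, LinearMap.id_apply]
    have e0 : ∀ i : Fin n, b.repr (b k) (Fin.castLE hmn i) = if i = k then 1 else 0 := by
      intro i
      rw [hcast, Module.Basis.repr_self, Finsupp.single_apply]
      simp [eq_comm]
    have e1 : ∀ j : Fin n, d (c j) = ∑ l : Fin n, (M' d hmn b c) l j • b l := by
      intro j
      conv_lhs => rw [← b.sum_repr (d (c j))]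
      refine Finset.sum_congr rfl (fun l _ => ?_)
      simp [M', hcast]
    have e2 : ∀ l : Fin n, ∑ j, (M' d hmn b c).adjugate j k * (M' d hmn b c) l j =
        if l = k then (M' d hmn b c).det else 0 := by
      intro l
      rw [← mul_adj d hmn b c l k]
      exact Finset.sum_congr rfl (fun j _ => mul_comm _ _)
    have e3 : (∑ i : Fin n, ∑ j : Fin n, (M' d hmn b c).adjugate j i •
        (b.repr (b k) (Fin.castLE hmn i)) • c j) =
        ∑ j : Fin n, (M' d hmn b c).adjugate j k • c j := by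
      simp only [e0]
      rw [Finset.sum_eq_single k]
      · simp
      · intro i _ hi
        simp [hi]
      · simp
    rw [e3, map_sum]
    simp only [map_smul, e1, Finset.smul_sum, smul_smul]
    rw [Finset.sum_comm]
    simp only [← Finset.sum_smul, e2]
    simp
  exact congr($this y)

end LA

section Concrete

open MvPolynomial

variable (A : Type u) [CommRing A] (n m : ℕ) (hmn : m ≤ n) (f : Fin m → MvPolynomial (Fin n) A)

local notation "II" => Ideal.span (Set.range f)
local notation "BB" => MvPolynomial (Fin n) A ⧸ Ideal.span (Set.range f)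

lemma aeval_mk_X : (MvPolynomial.aeval (fun i : Fin n => Ideal.Quotient.mk II (X i)) :
    MvPolynomial (Fin n) A →ₐ[A] BB) = Ideal.Quotient.mkₐ A II := by
  ext i
  simp

/-- the generators of the presentation -/
noncomputable def G : Algebra.Generators A BB (Fin n) :=
  Algebra.Generators.ofSurjective (fun i : Fin n => Ideal.Quotient.mk II (X i)) (by
    rw [aeval_mk_X]
    exact Ideal.Quotient.mkₐ_surjective A _)

lemma algebraMap_G (x : MvPolynomial (Fin n) A) :
    algebraMap (G A n m f).toExtension.Ring BB x = Ideal.Quotient.mk II x := by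
  change MvPolynomial.aeval (G A n m f).val x = _
  have : (G A n m f).val = fun i : Fin n => Ideal.Quotient.mk II (X i) := rfl
  rw [this, aeval_mk_X]
  rfl

lemma mem_ker_G (x : MvPolynomial (Fin n) A) :
    x ∈ (G A n m f).toExtension.ker ↔ x ∈ II := by
  have h := algebraMap_G A n m f x
  constructor
  · intro hx
    have hx' : algebraMap (G A n m f).toExtension.Ring BB x = 0 := hx
    rw [h] at hx'
    exact Ideal.Quotient.eq_zero_iff_mem.mp hx'
  · intro hx
    have : algebraMap (G A n m f).toExtension.Ring BB x = 0 := by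
      rw [h]
      exact Ideal.Quotient.eq_zero_iff_mem.mpr hx
    exact this

lemma ker_G : (G A n m f).toExtension.ker = II := by
  ext x
  exact mem_ker_G A n m f x

/-- the classes of the relations -/
noncomputable def cc (j : Fin m) : (G A n m f).toExtension.Cotangent :=
  Algebra.Extension.Cotangent.mk
    ⟨f j, (mem_ker_G A n m f (f j)).2 (Ideal.subset_span ⟨j, rfl⟩)⟩

lemma span_cc : Submodule.span BB (Set.range (cc A n m f)) = ⊤ :=
  Algebra.Extension.Cotangent.span_eq_top_of_span_eq_ker (P := (G A n m f).toExtension) f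
    (ker_G A n m f).symm

/-- the Jacobian minor -/
noncomputable def jac : BB :=
  Ideal.Quotient.mk II (Matrix.det (Matrix.of (fun i j : Fin m => pderiv (Fin.castLE hmn i) (f j))))

lemma det_M' : (M' (G A n m f).toExtension.cotangentComplex hmn (G A n m f).cotangentSpaceBasis
    (cc A n m f)).det = jac A n m hmn f := by
  rw [jac, RingHom.map_det]
  congr 1
  ext i j
  simp only [M', Matrix.of_apply, cc, RingHom.mapMatrix_apply, Matrix.map_apply]
  rw [Algebra.Extension.cotangentComplex_mk, Algebra.Generators.cotangentSpaceBasis_repr_one_tmul]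
  exact algebraMap_G A n m f _

theorem main :
    (∀ (N : Type u) [AddCommGroup N] [Module BB N]
      (φ : LCI.NL A BB ⟶ (Dual.inD BB N)⟦(1 : ℤ)⟧), jac A n m hmn f • φ = 0) ∧
    (n = m → jac A n m hmn f • 𝟙 (LCI.NL A BB) = 0) := by
  let Q := (G A n m f).toExtension
  let X₀ : ModuleCat.{u} BB := ModuleCat.of BB Q.Cotangent
  let X₁ : ModuleCat.{u} BB := ModuleCat.of BB Q.CotangentSpace
  let dd : X₀ ⟶ X₁ := ModuleCat.ofHom Q.cotangentComplex
  let h : X₁ ⟶ X₀ := ModuleCat.ofHom
    (hh Q.cotangentComplex hmn (G A n m f).cotangentSpaceBasis (cc A n m f))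
  have h₀ : dd ≫ h = jac A n m hmn f • 𝟙 X₀ := by
    refine ModuleCat.hom_ext (LinearMap.ext fun (x : Q.Cotangent) => ?_)
    change hh Q.cotangentComplex hmn (G A n m f).cotangentSpaceBasis (cc A n m f)
      (Q.cotangentComplex x) = jac A n m hmn f • x
    rw [hh_d _ _ _ _ (span_cc A n m f), det_M']
  obtain ⟨e⟩ : Nonempty (DerivedCategory.Q.obj (E dd) ≅ LCI.NL A BB) :=
    NLLci.nonempty_iso (G A n m f) (Algebra.Generators.self A BB)
  haveI : Projective X₁ := ModuleCat.projective_of_free (G A n m f).cotangentSpaceBasis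
  refine ⟨fun N _ _ φ => ?_, fun hnm => ?_⟩
  · have := smul_comp_eq_zero dd (jac A n m hmn f) h h₀ (ModuleCat.of BB N) (e.hom ≫ φ)
    rw [← cancel_epi e.hom, Linear.comp_smul, this, comp_zero]
  · have h₁ : h ≫ dd = jac A n m hmn f • 𝟙 X₁ := by
      refine ModuleCat.hom_ext (LinearMap.ext fun (y : Q.CotangentSpace) => ?_)
      change Q.cotangentComplex (hh Q.cotangentComplex hmn (G A n m f).cotangentSpaceBasis
        (cc A n m f) y) = jac A n m hmn f • y
      rw [d_hh _ _ _ _ hnm, det_M']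
    have := smul_id_eq_zero dd (jac A n m hmn f) h h₀ h₁
    have e2 : jac A n m hmn f • 𝟙 (LCI.NL A BB) =
        e.inv ≫ (jac A n m hmn f • 𝟙 _) ≫ e.hom := by
      rw [Linear.smul_comp, Linear.comp_smul, Category.id_comp, e.inv_hom_id]
    rw [e2, this, zero_comp, comp_zero]

end Concrete

end Groth.Agent.Lib.Helper89.NLJac
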