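import Mathlib
import Groth.Agent.Lib.Helper89.NLJac
import Groth.Agent.Lib.Helper84.FlatAmpTri
import Groth.Agent.Lib.Helper84.FlatAmpDim
import Groth.Agent.Lib.Helper43.TorDim
import Groth.Agent.Lib.Helper43.FibreAmp

set_option autoImplicit false
set_option linter.style.haveILetI false
universe u
open CategoryTheory CategoryTheory.Limits

attribute [local instance] HasDerivedCategory.standard

namespace Groth.Agent.Lib.Helper89.NLTor

open Groth.Agent.Lib.Helper89.NLJac Groth.Agent.Lib.Helper84.FlatAmp

section Abstract

variable {B : Type u} [CommRing B] {X₀ X₁ : ModuleCat.{u} B} (d : X₀ ⟶ X₁)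

/-- projection to the degree `-1` term -/
noncomputable def π : E d ⟶
    (HomologicalComplex.single (ModuleCat.{u} B) (ComplexShape.up ℤ) (-1)).obj X₀ :=
  HomologicalComplex.mkHomToSingle (i₀ d).hom
    (fun i hi => (HomologicalComplex.isZero_double_X _ _ i (by simp at hi; omega)
      (by simp at hi; omega)).eq_of_src _ _)

/-- the short complex `X₁[0] → E → X₀[1]` -/
noncomputable def ses : ShortComplex (CochainComplex (ModuleCat.{u} B) ℤ) :=
  ShortComplex.mk (ι d) (π d) (by
    apply HomologicalComplex.from_single_hom_ext
    apply IsZero.eq_of_tgt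
    exact HomologicalComplex.isZero_single_obj_X _ _ _ _ (by decide))

lemma ses_shortExact : (ses d).ShortExact := by
  apply HomologicalComplex.shortExact_of_degreewise_shortExact
  intro i
  by_cases h0 : i = -1
  · subst h0
    have hz : IsZero ((ses d).map (HomologicalComplex.eval _ _ (-1))).X₁ := by
      change IsZero (((HomologicalComplex.single (ModuleCat.{u} B) (ComplexShape.up ℤ) 0).obj
        X₁).X (-1))
      exact HomologicalComplex.isZero_single_obj_X _ _ _ _ (by decide)
    have hg : IsIso ((ses d).map (HomologicalComplex.eval _ _ (-1))).g := by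
      change IsIso ((π d).f (-1))
      rw [π, HomologicalComplex.mkHomToSingle_f]
      infer_instance
    exact { exact := (ShortComplex.exact_iff_mono _ (hz.eq_of_src _ _)).2 inferInstance
            mono_f := ⟨fun _ _ _ => hz.eq_of_tgt _ _⟩
            epi_g := inferInstance }
  · by_cases h1 : i = 0
    · subst h1
      have hz : IsZero ((ses d).map (HomologicalComplex.eval _ _ 0)).X₃ := by
        change IsZero (((HomologicalComplex.single (ModuleCat.{u} B) (ComplexShape.up ℤ)
          (-1)).obj X₀).X 0)
        exact HomologicalComplex.isZero_single_obj_X _ _ _ _ (by decide)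
      have hf : IsIso ((ses d).map (HomologicalComplex.eval _ _ 0)).f := by
        change IsIso ((ι d).f 0)
        rw [ι, HomologicalComplex.mkHomFromSingle_f]
        infer_instance
      exact { exact := (ShortComplex.exact_iff_epi _ (hz.eq_of_tgt _ _)).2 inferInstance
              mono_f := inferInstance
              epi_g := ⟨fun _ _ _ => hz.eq_of_src _ _⟩ }
    · have hz : IsZero ((ses d).map (HomologicalComplex.eval _ _ i)).X₂ := by
        change IsZero ((E d).X i)
        exact HomologicalComplex.isZero_double_X _ _ i h0 h1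
      have hz1 : IsZero ((ses d).map (HomologicalComplex.eval _ _ i)).X₁ := by
        change IsZero (((HomologicalComplex.single (ModuleCat.{u} B) (ComplexShape.up ℤ) 0).obj
          X₁).X i)
        exact HomologicalComplex.isZero_single_obj_X _ _ _ _ h1
      have hz3 : IsZero ((ses d).map (HomologicalComplex.eval _ _ i)).X₃ := by
        change IsZero (((HomologicalComplex.single (ModuleCat.{u} B) (ComplexShape.up ℤ)
          (-1)).obj X₀).X i)
        exact HomologicalComplex.isZero_single_obj_X _ _ _ _ h0
      exact { exact := ShortComplex.exact_of_isZero_X₂ _ hz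
              mono_f := ⟨fun _ _ _ => hz1.eq_of_tgt _ _⟩
              epi_g := ⟨fun _ _ _ => hz3.eq_of_src _ _⟩ }

open DerivedCategory in
/-- if the two term complex has tor amplitude in `[-1, 0]` and the degree zero term is flat,
then the degree `-1` term is flat -/
theorem flat_X₀ [Module.Flat B X₁]
    (h : DRing.HasTorAmplitudeIn B (-1) 0 (DerivedCategory.Q.obj (E d))) : Module.Flat B X₀ := by
  have hS := ses_shortExact d
  have hT := DerivedCategory.triangleOfSES_distinguished hS
  have h₁ : DRing.HasTorAmplitudeIn B (-1 + 1) (0 + 1) (triangleOfSES hS).obj₁ :=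
    torAmp_mono (torAmp_of_iso (torAmp_single_of_flat X₁ 0)
      ((DerivedCategory.singleFunctorIsoCompQ (ModuleCat.{u} B) 0).app X₁))
      (by norm_num) (by norm_num)
  have h₃ := torAmp_obj₃ _ hT (-1) 0 h₁ h
  have h₃' : DRing.HasTorAmplitudeIn B (-1) 0
      ((DerivedCategory.singleFunctor (ModuleCat.{u} B) (-1)).obj X₀) :=
    torAmp_of_iso h₃ ((DerivedCategory.singleFunctorIsoCompQ (ModuleCat.{u} B) (-1)).app X₀).symm
  have h₄ : DRing.HasTorAmplitudeIn B 0 1
      ((DerivedCategory.singleFunctor (ModuleCat.{u} B) 0).obj X₀) :=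
    torAmp_of_iso (torAmp_shift' h₃' (-1) (by norm_num) (by norm_num))
      (((DerivedCategory.singleFunctors (ModuleCat.{u} B)).shiftIso (-1) 0 (-1)
        (by norm_num)).app X₀)
  have h₅ : DRing.HasTorAmplitudeIn B 0 0
      ((DerivedCategory.singleFunctor (ModuleCat.{u} B) 0).obj X₀) :=
    Groth.Agent.Lib.Helper43.FibreAmp.torAmp_of_isLE h₄ 0
  exact Groth.Agent.Lib.Helper43.TorDim.flat_of_isZero_T_one X₀ (fun N =>
    Groth.Agent.Lib.Helper43.TorDim.isZero_T_of_hasTorAmplitudeIn_single X₀ 0
      (by simpa using h₅) N 1 (by norm_num))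

end Abstract

end Groth.Agent.Lib.Helper89.NLTor
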