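import Mathlib
import Groth.Agent.Lib.Helper89.NLTor
import Groth.Agent.Lib.Helper89.NLFlatS
import Groth.Agent.Lib.Helper15.LBCKFlat

set_option autoImplicit false
set_option linter.style.haveILetI false
universe u
open CategoryTheory CategoryTheory.Limits TensorProduct

attribute [local instance] HasDerivedCategory.standard

namespace Groth.Agent.Lib.Helper89.NLBC

open Groth.Agent.Lib.Helper89.NLJac Groth.Agent.Lib.Helper15

variable {A B B' : Type u} [CommRing A] [CommRing B] [CommRing B'] [Algebra A B]

theorem extCx_iso (Q : Algebra.Extension.{u} A B) (f : B →+* B') :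
    letI : Algebra B B' := f.toAlgebra
    Nonempty (NLCx.bcCx Q B' ≅ LDerived.extCx f (NLCx.cx Q)) := by
  letI : Algebra B B' := f.toAlgebra
  let F := ModuleCat.extendScalars.{u, u, u} f
  let d : ModuleCat.of B Q.Cotangent ⟶ ModuleCat.of B Q.CotangentSpace :=
    ModuleCat.ofHom Q.cotangentComplex
  have hd : ModuleCat.ofHom (Q.cotangentComplex.baseChange B') = F.map d := rfl
  have hX : ∀ k, (LDerived.extCx f (NLCx.cx Q)).X k = F.obj ((E d).X k) := fun _ => rfl
  have hD : ∀ i j, (LDerived.extCx f (NLCx.cx Q)).d i j = F.map ((E d).d i j) := fun _ _ => rfl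
  let θ : NLCx.bcCx Q B' ⟶ LDerived.extCx f (NLCx.cx Q) :=
    HomologicalComplex.mkHomFromDouble _ (by decide)
      (show F.obj (ModuleCat.of B Q.Cotangent) ⟶ F.obj ((E d).X (-1)) from F.map (i₀ d).inv)
      (show F.obj (ModuleCat.of B Q.CotangentSpace) ⟶ F.obj ((E d).X 0) from F.map (i₁ d).inv)
      (by
        rw [hd, hD, E_d]
        change F.map (i₀ d).inv ≫ F.map ((i₀ d).hom ≫ d ≫ (i₁ d).inv) = F.map d ≫ F.map (i₁ d).inv
        rw [← F.map_comp, ← F.map_comp]
        simp)
      (fun k hk => by
        apply IsZero.eq_of_tgt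
        rw [hX]
        exact F.map_isZero (HomologicalComplex.isZero_double_X _ _ k (by simp at hk; omega)
          (by simp at hk; omega)))
  have : ∀ n, IsIso (θ.f n) := by
    intro n
    by_cases h0 : n = -1
    · subst h0
      have e : θ.f (-1) = _ := HomologicalComplex.mkHomFromDouble_f₀ _ _ _ _ _ _
      rw [e]
      haveI : IsIso (F.map (i₀ d).inv) := inferInstance
      exact IsIso.comp_isIso' (Iso.isIso_hom _) this
    · by_cases h1 : n = 0
      · subst h1
        have e : θ.f 0 = _ := HomologicalComplex.mkHomFromDouble_f₁ _ _ _ _ _ _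
        rw [e]
        haveI : IsIso (F.map (i₁ d).inv) := inferInstance
        exact IsIso.comp_isIso' (Iso.isIso_hom _) this
      · have hs : IsZero ((NLCx.bcCx Q B').X n) :=
          HomologicalComplex.isZero_double_X _ _ n h0 h1
        have ht : IsZero ((LDerived.extCx f (NLCx.cx Q)).X n) := by
          rw [hX]
          exact F.map_isZero (HomologicalComplex.isZero_double_X _ _ n h0 h1)
        exact ⟨⟨0, hs.eq_of_src _ _, ht.eq_of_src _ _⟩⟩
  haveI := HomologicalComplex.Hom.isIso_of_components θ
  exact ⟨asIso θ⟩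

/-- the naive cotangent complex of an extension with flat terms is termwise flat -/
theorem cx_flat (Q : Algebra.Extension.{u} A B) [Module.Flat B Q.Cotangent]
    [Module.Flat B Q.CotangentSpace] (q : ℤ) : Module.Flat B ((NLCx.cx Q).X q) := by
  by_cases h0 : q = -1
  · subst h0
    haveI : Module.Flat B (ModuleCat.of B Q.Cotangent) := ‹_›
    exact Groth.Agent.Lib.Helper84.TensCx.flat_of_iso
      (HomologicalComplex.doubleXIso₀ (ModuleCat.ofHom Q.cotangentComplex) rel).symm
  · by_cases h1 : q = 0
    · subst h1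
      haveI : Module.Flat B (ModuleCat.of B Q.CotangentSpace) := ‹_›
      exact Groth.Agent.Lib.Helper84.TensCx.flat_of_iso
        (HomologicalComplex.doubleXIso₁ (ModuleCat.ofHom Q.cotangentComplex) rel
          (by decide)).symm
    · exact Groth.Agent.Lib.Helper84.FlatAmp.flat_of_isZero
        (HomologicalComplex.isZero_double_X _ _ q h0 h1)

theorem lbc_iso (Q : Algebra.Extension.{u} A B) [Module.Flat B Q.Cotangent]
    [Module.Flat B Q.CotangentSpace] [alg : Algebra B B']
    [DRing.HasLBaseChange (algebraMap B B')] :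
    Nonempty ((DRing.LBaseChange (algebraMap B B')).obj (DRing.toD (NLCx.cx Q)) ≅
      DRing.toD (NLCx.bcCx Q B')) := by
  obtain ⟨f, hf⟩ : ∃ f : B →+* B', alg = f.toAlgebra :=
    ⟨algebraMap B B', Algebra.algebra_ext _ _ (fun r => rfl)⟩
  subst hf
  obtain ⟨e⟩ := extCx_iso Q f
  exact ⟨LBCKFlat.lbcIsoOfFlat f (NLCx.cx Q) 0
    (fun q hq => HomologicalComplex.isZero_double_X _ _ q (by omega) (by omega))
    (cx_flat Q) ≪≫ (DerivedCategory.Q.mapIso e).symm⟩

/-- flatness of the cotangent module of a polynomial presentation from tor amplitude -/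
theorem flat_cotangent {ι : Type u} (G : Algebra.Generators A B ι)
    (h : DRing.HasTorAmplitudeIn B (-1) 0 (DRing.toD (NLCx.cx G.toExtension))) :
    Module.Flat B G.toExtension.Cotangent := by
  haveI : Module.Flat B (ModuleCat.of B G.toExtension.CotangentSpace) :=
    inferInstanceAs (Module.Flat B G.toExtension.CotangentSpace)
  exact Groth.Agent.Lib.Helper89.NLTor.flat_X₀ (ModuleCat.ofHom G.toExtension.cotangentComplex) h

theorem main (A B A' B' : Type u) [CommRing A] [CommRing B]
    [CommRing A'] [CommRing B'] [Algebra A B] [Algebra A' B'] [Algebra A A'] [Algebra B B']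
    [Algebra A B'] [IsScalarTower A A' B'] [IsScalarTower A B B'] [Algebra.IsPushout A A' B B']
    [Module.Flat A B] :
    QuasiIso (NLCx.bcMapSelf A B A' B') ∧
      (DRing.HasTorAmplitudeIn B (-1) 0 (LCI.NL A B) →
        ∀ [DRing.HasLBaseChange (algebraMap B B')],
        Nonempty ((DRing.LBaseChange (algebraMap B B')).obj (LCI.NL A B) ≅ LCI.NL A' B')) := by
  obtain ⟨e, he⟩ := Groth.Agent.Lib.Helper89.NLFlatS.exists_homotopyEquiv A B A' B'
  have hq : QuasiIso (NLCx.bcMapSelf A B A' B') := by
    rw [← he]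
    infer_instance
  refine ⟨hq, fun h _ => ?_⟩
  haveI : Module.Flat B (Algebra.Generators.self A B).toExtension.Cotangent :=
    flat_cotangent (Algebra.Generators.self A B) h
  obtain ⟨e1⟩ := lbc_iso (B' := B') (Algebra.Generators.self A B).toExtension
  have hiso : IsIso (DerivedCategory.Q.map (NLCx.bcMapSelf A B A' B')) := by
    rw [DerivedCategory.isIso_Q_map_iff_quasiIso]
    exact hq
  exact ⟨e1 ≪≫ @asIso _ _ _ _ (DerivedCategory.Q.map (NLCx.bcMapSelf A B A' B')) hiso⟩

end Groth.Agent.Lib.Helper89.NLBC
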