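import Mathlib
import Groth.Agent.Lib.Helper89.NLBC
import Groth.Agent.Lib.Helper94.CIMain
import Groth.Agent.Lib.Helper94.SyntLCI
import Groth.Agent.Lib.Helper77.Vasc6
import Groth.Agent.Lib.Helper77.Vasc5
import Groth.Agent.Lib.Helper43.RegGlDim

set_option autoImplicit false
set_option linter.style.haveILetI false
universe u
open CategoryTheory CategoryTheory.Limits TensorProduct

attribute [local instance] HasDerivedCategory.standard

namespace Groth.Agent.Lib.Helper89.NLField

open Groth.Agent.Lib.Helper89.NLJac Groth.Agent.Lib.Helper84.FlatAmp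

variable {A B : Type u} [CommRing A] [CommRing B] [Algebra A B]

/-- flatness of the cotangent module of an extension from tor amplitude -/
theorem flat_cotangent' (Q : Algebra.Extension.{u} A B) [Module.Flat B Q.CotangentSpace]
    (h : DRing.HasTorAmplitudeIn B (-1) 0 (DRing.toD (NLCx.cx Q))) :
    Module.Flat B Q.Cotangent := by
  haveI : Module.Flat B (ModuleCat.of B Q.CotangentSpace) := ‹_›
  exact Groth.Agent.Lib.Helper89.NLTor.flat_X₀ (ModuleCat.ofHom Q.cotangentComplex) h

theorem projective_ker_cotangent (Q : Algebra.Extension.{u} A B)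
    [Module.Projective B Q.Cotangent] : Module.Projective (Q.Ring ⧸ Q.ker) Q.ker.Cotangent := by
  let e₁ : (Q.Ring ⧸ Q.ker) ≃+* B :=
    RingHom.quotientKerEquivOfSurjective (f := algebraMap Q.Ring B) Q.algebraMap_surjective
  letI : RingHomInvPair (e₁ : (Q.Ring ⧸ Q.ker) →+* B) (e₁.symm : B →+* _) :=
    RingHomInvPair.of_ringEquiv e₁
  letI : RingHomInvPair (e₁.symm : B →+* _) (e₁ : (Q.Ring ⧸ Q.ker) →+* B) :=
    RingHomInvPair.of_ringEquiv e₁.symm
  let e₂ : Q.ker.Cotangent ≃ₛₗ[(e₁ : (Q.Ring ⧸ Q.ker) →+* B)] Q.Cotangent :=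
    { toFun := Algebra.Extension.Cotangent.of
      map_add' := fun _ _ => rfl
      map_smul' := by
        intro r x
        obtain ⟨p, rfl⟩ := Ideal.Quotient.mk_surjective r
        apply Algebra.Extension.Cotangent.ext
        have h1 : (e₁ : (Q.Ring ⧸ Q.ker) →+* B) (Ideal.Quotient.mk _ p) = algebraMap Q.Ring B p := by
          simp [e₁]
        rw [h1, algebraMap_smul, Algebra.Extension.Cotangent.val_smul']
        rfl
      invFun := Algebra.Extension.Cotangent.val
      left_inv := fun _ => rfl
      right_inv := fun _ => rfl }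
  exact Module.Projective.of_equiv e₂.symm

open Groth.Agent.Lib.Helper94 Groth.Agent.Lib.Helper77 in
/-- the field case: tor amplitude `[-1,0]` of `NL` implies local complete intersection -/
theorem lci_over_field (k S : Type u) [Field k] [CommRing S] [Algebra k S]
    [Algebra.FiniteType k S]
    (h : DRing.HasTorAmplitudeIn S (-1) 0 (LCI.NL k S)) : Synt.IsLCIOver k S := by
  obtain ⟨n, φ, hφ⟩ := Algebra.FiniteType.iff_quotient_mvPolynomial''.mp
    (inferInstance : Algebra.FiniteType k S)
  let G : Algebra.Generators k S (Fin n) := Algebra.Generators.ofAlgHom φ hφ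
  let Q : Algebra.Extension.{u} k S := G.toExtension
  have hker : Q.ker = RingHom.ker φ.toRingHom := by
    have this : (MvPolynomial.aeval G.val : MvPolynomial (Fin n) k →ₐ[k] S) = φ := by
      ext i
      simp [G, Algebra.Generators.ofAlgHom, Algebra.Generators.ofSurjective]
    ext x
    change MvPolynomial.aeval G.val (show MvPolynomial (Fin n) k from x) = 0 ↔ φ x = 0
    rw [this]
  haveI : IsNoetherianRing S := Algebra.FiniteType.isNoetherianRing k S
  obtain ⟨e⟩ := Groth.Agent.Lib.Helper89.NLLci.nonempty_iso G (Algebra.Generators.self k S)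
  have h' : DRing.HasTorAmplitudeIn S (-1) 0 (DRing.toD (NLCx.cx Q)) := torAmp_of_iso h e.symm
  haveI : Module.Free S Q.CotangentSpace :=
    inferInstanceAs (Module.Free S G.toExtension.CotangentSpace)
  haveI : Module.Flat S Q.Cotangent := flat_cotangent' Q h'
  have hfg : Q.ker.FG := by
    haveI : IsNoetherianRing Q.Ring :=
      inferInstanceAs (IsNoetherianRing (MvPolynomial (Fin n) k))
    exact IsNoetherian.noetherian _
  haveI : Module.Finite S Q.Cotangent := Algebra.Extension.Cotangent.finite hfg
  haveI : Module.FinitePresentation S Q.Cotangent := Module.finitePresentation_of_finite S _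
  haveI : Module.Projective S Q.Cotangent := Module.Flat.projective_of_finitePresentation
  have hproj : Module.Projective (Q.Ring ⧸ Q.ker) Q.ker.Cotangent := projective_ker_cotangent Q
  have hproj' : Module.Projective (MvPolynomial (Fin n) k ⧸ RingHom.ker φ.toRingHom)
      (RingHom.ker φ.toRingHom).Cotangent := hker ▸ hproj
  have hd : ringKrullDim (MvPolynomial (Fin n) k) = (n : ℕ) := by
    rw [MvPolynomial.ringKrullDim_of_isNoetherianRing, ringKrullDim_eq_zero_of_field]
    simp
  refine ⟨inferInstance, fun q => ?_⟩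
  apply CIMain.exists_isGlobalCI_away_of_isRegularIdeal φ hφ q.asIdeal
  have hle := CILoc.map_ker_le_maximalIdeal φ.toRingHom hφ _ q.asIdeal rfl
  have hJ : (RingHom.ker φ.toRingHom).map (algebraMap (MvPolynomial (Fin n) k)
      (Localization.AtPrime (q.asIdeal.comap φ.toRingHom))) ≠ ⊤ :=
    fun htop => (IsLocalRing.maximalIdeal.isMaximal _).ne_top (top_le_iff.mp (htop ▸ hle))
  haveI := hproj'
  haveI := Vasc.cot_projective (q.asIdeal.comap φ.toRingHom).primeCompl
    (Localization.AtPrime (q.asIdeal.comap φ.toRingHom)) (RingHom.ker φ.toRingHom)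
  have hpd0 : HasProjectiveDimensionLT (ModuleCat.of (MvPolynomial (Fin n) k)
      ↥(RingHom.ker φ.toRingHom)) (n + 1) :=
    Groth.Agent.Lib.Helper43.RegGlDim.glDim_le (MvPolynomial (Fin n) k)
      (fun p => inferInstance) n hd ↥(RingHom.ker φ.toRingHom)
  have hpd := Vasc.pd_localization (MvPolynomial (Fin n) k)
    (q.asIdeal.comap φ.toRingHom).primeCompl (RingHom.ker φ.toRingHom) n hpd0
  obtain ⟨r, x, hreg, hspan⟩ := Vasc.vasc_local
    (Localization.AtPrime (q.asIdeal.comap φ.toRingHom)) _ hJ (n + 1) hpd
  exact ⟨List.ofFn x, hreg, by rw [CIField.ofList_ofFn]; exact hspan⟩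

end Groth.Agent.Lib.Helper89.NLField
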