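import Mathlib
import Groth.Agent.Lib.Helper89.NLLci
import Groth.Agent.Lib.Helper59.NLBaseChange

/-!
# The kernel of `H^{-1}(NL_{B/A} ⊗ B') → H^{-1}(NL_{B'/A'})` for lci maps
-/

set_option autoImplicit false
set_option linter.style.haveILetI false
universe u
open TensorProduct Algebra.Extension

namespace Groth.Agent.Lib.Helper89.NLKer

section Retract

variable {A B : Type u} [CommRing A] [CommRing B] [Algebra A B]
  {Q₁ Q₂ : Algebra.Extension.{u} A B}

/-- `I₁/I₁²` is a retract of `I₂/I₂² ⊕ Ω_{P₁} ⊗ B` -/
theorem retract (u : Q₁.Hom Q₂) (v : Q₂.Hom Q₁) :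
    ∃ (i : Q₁.Cotangent →ₗ[B] Q₂.Cotangent × Q₁.CotangentSpace)
      (r : Q₂.Cotangent × Q₁.CotangentSpace →ₗ[B] Q₁.Cotangent), r ∘ₗ i = LinearMap.id := by
  refine ⟨(Cotangent.map u).prod Q₁.cotangentComplex,
    (Cotangent.map v).coprod (-((v.comp u).sub (Hom.id Q₁))), ?_⟩
  have h1 := Cotangent.map_sub_map (v.comp u) (Hom.id Q₁)
  rw [Cotangent.map_comp, Cotangent.map_id] at h1
  refine LinearMap.ext fun x => ?_
  have h2 := congr($h1 x)
  simp only [LinearMap.sub_apply, LinearMap.coe_comp, LinearMap.coe_restrictScalars,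
    Function.comp_apply, LinearMap.id_coe, id_eq] at h2
  change Cotangent.map v (Cotangent.map u x) +
    -((v.comp u).sub (Hom.id Q₁)) (Q₁.cotangentComplex x) = x
  rw [← h2]
  abel

theorem finite_projective_of_retract (u : Q₁.Hom Q₂) (v : Q₂.Hom Q₁)
    [Module.Finite B Q₂.Cotangent] [Module.Projective B Q₂.Cotangent]
    [Module.Finite B Q₁.CotangentSpace] [Module.Projective B Q₁.CotangentSpace] :
    Module.Finite B Q₁.Cotangent ∧ Module.Projective B Q₁.Cotangent := by
  obtain ⟨i, r, hri⟩ := retract u v
  refine ⟨Module.Finite.of_surjective r (fun x => ⟨i x, congr($hri x)⟩),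
    Module.Projective.of_split i r hri⟩

end Retract

section Transfer

variable {A B A' B' : Type u} [CommRing A] [CommRing B] [CommRing A'] [CommRing B']
  [Algebra A B] [Algebra A' B'] [Algebra A A'] [Algebra B B'] [Algebra A B']
  [IsScalarTower A A' B'] [IsScalarTower A B B']
  {P Q : Algebra.Extension.{u} A B} {P' Q' : Algebra.Extension.{u} A' B'}

/-- the `B'`-linear extension of `Cotangent.map f` -/
noncomputable abbrev L (f : P.Hom P') : B' ⊗[B] P.Cotangent →ₗ[B'] P'.Cotangent :=
  LinearMap.liftBaseChange B' (Cotangent.map f)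

/-- base change of `Cotangent.map u` for `u` over the identity -/
noncomputable abbrev T (B' : Type u) [CommRing B'] [Algebra B B'] (u : P.Hom Q) :
    B' ⊗[B] P.Cotangent →ₗ[B'] B' ⊗[B] Q.Cotangent :=
  LinearMap.baseChange B' (Cotangent.map u)

theorem F1 (u : P.Hom Q) :
    (Q.cotangentComplex.baseChange B') ∘ₗ T B' u =
      (CotangentSpace.map u).baseChange B' ∘ₗ P.cotangentComplex.baseChange B' := by
  refine TensorProduct.AlgebraTensorModule.curry_injective (LinearMap.ext fun b =>
    LinearMap.ext fun x => ?_)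
  simp [CotangentSpace.map_cotangentComplex]

theorem F2 (g : Q.Hom Q') (u : P.Hom Q) : L g ∘ₗ T B' u = L (g.comp u) := by
  refine TensorProduct.AlgebraTensorModule.curry_injective (LinearMap.ext fun b =>
    LinearMap.ext fun x => ?_)
  simp [Cotangent.map_comp]

theorem F3 (f f' : P.Hom P') :
    L f - L f' = LinearMap.liftBaseChange B' (f.sub f') ∘ₗ P.cotangentComplex.baseChange B' := by
  refine TensorProduct.AlgebraTensorModule.curry_injective (LinearMap.ext fun b =>
    LinearMap.ext fun x => ?_)
  have := congr($(Cotangent.map_sub_map f f') x)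
  simp only [LinearMap.sub_apply, LinearMap.coe_comp, Function.comp_apply] at this
  simp [← this, smul_sub]

theorem F3' (f f' : P.Hom P') (x : B' ⊗[B] P.Cotangent) (hx : x ∈ NLCx.bcH1 P B') :
    L f x = L f' x := by
  have := congr($(F3 f f') x)
  simp only [LinearMap.sub_apply, LinearMap.coe_comp, Function.comp_apply] at this
  rw [show (P.cotangentComplex.baseChange B') x = 0 from hx, map_zero, sub_eq_zero] at this
  exact this

theorem F4 (u' : P'.Hom Q') (f : P.Hom P') :
    (Cotangent.map u') ∘ₗ L f = L (u'.comp f) := by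
  refine TensorProduct.AlgebraTensorModule.curry_injective (LinearMap.ext fun b =>
    LinearMap.ext fun x => ?_)
  simp [Cotangent.map_comp]

theorem F5 (u : P.Hom Q) (v : Q.Hom P) : T B' v ∘ₗ T B' u = T B' (v.comp u) := by
  refine TensorProduct.AlgebraTensorModule.curry_injective (LinearMap.ext fun b =>
    LinearMap.ext fun x => ?_)
  simp [Cotangent.map_comp]

theorem F6 (w w' : P.Hom P) :
    T B' w - T B' w' = LinearMap.baseChange B' (w.sub w') ∘ₗ P.cotangentComplex.baseChange B' := by
  refine TensorProduct.AlgebraTensorModule.curry_injective (LinearMap.ext fun b =>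
    LinearMap.ext fun x => ?_)
  have := congr($(Cotangent.map_sub_map w w') x)
  simp only [LinearMap.sub_apply, LinearMap.coe_comp, Function.comp_apply] at this
  simp [← this, tmul_sub]

theorem F6' (u : P.Hom Q) (v : Q.Hom P) (x : B' ⊗[B] P.Cotangent) (hx : x ∈ NLCx.bcH1 P B') :
    T B' v (T B' u x) = x := by
  have h1 := congr($(F5 (B' := B') u v) x)
  have h2 := congr($(F6 (B' := B') (v.comp u) (Hom.id P)) x)
  simp only [LinearMap.sub_apply, LinearMap.coe_comp, Function.comp_apply] at h1 h2
  rw [show (P.cotangentComplex.baseChange B') x = 0 from hx, map_zero, sub_eq_zero] at h2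
  rw [h1, h2]
  simp [T]

variable (B') in
/-- the map on `H^{-1}(NL(-) ⊗ B')` induced by a morphism of extensions over the identity -/
noncomputable def bcH1Fun (u : P.Hom Q) :
    NLCx.bcH1 P B' →ₗ[B'] NLCx.bcH1 Q B' :=
  (T B' u).restrict (p := NLCx.bcH1 P B') (q := NLCx.bcH1 Q B') (fun x hx => by
    have := congr($(F1 (B' := B') u) x)
    simp only [LinearMap.coe_comp, Function.comp_apply] at this
    rw [show (P.cotangentComplex.baseChange B') x = 0 from hx, map_zero] at this
    exact this)

theorem bcH1Map_bcH1Fun (f : P.Hom P') (g : Q.Hom Q') (u : P.Hom Q) (u' : P'.Hom Q')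
    (x : NLCx.bcH1 P B') :
    NLCx.bcH1Map g (bcH1Fun B' u x) = H1Cotangent.map u' (NLCx.bcH1Map f x) := by
  apply Subtype.ext
  change L g (T B' u x.1) = Cotangent.map u' (L f x.1)
  have h1 := congr($(F2 (B' := B') g u) x.1)
  have h2 := congr($(F4 u' f) x.1)
  simp only [LinearMap.coe_comp, Function.comp_apply] at h1 h2
  rw [h1, h2]
  exact F3' _ _ x.1 x.2

/-- the kernels of the maps on `H^{-1}` for two pairs of presentations agree -/
theorem nonempty_kerEquiv (f : P.Hom P') (g : Q.Hom Q') (u : P.Hom Q) (v : Q.Hom P)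
    (u' : P'.Hom Q') (v' : Q'.Hom P') :
    Nonempty (LinearMap.ker (NLCx.bcH1Map f) ≃ₗ[B'] LinearMap.ker (NLCx.bcH1Map g)) := by
  let Φ : LinearMap.ker (NLCx.bcH1Map f) →ₗ[B'] LinearMap.ker (NLCx.bcH1Map g) :=
    (bcH1Fun B' u).restrict (fun x hx => by
      rw [LinearMap.mem_ker] at hx ⊢
      rw [bcH1Map_bcH1Fun f g u u', hx, map_zero])
  let Ψ : LinearMap.ker (NLCx.bcH1Map g) →ₗ[B'] LinearMap.ker (NLCx.bcH1Map f) :=
    (bcH1Fun B' v).restrict (fun x hx => by
      rw [LinearMap.mem_ker] at hx ⊢
      rw [bcH1Map_bcH1Fun g f v v', hx, map_zero])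
  refine ⟨LinearEquiv.ofLinearMap Φ Ψ ?_ ?_⟩
  · refine LinearMap.ext fun x => Subtype.ext (Subtype.ext ?_)
    exact F6' v u x.1.1 x.1.2
  · refine LinearMap.ext fun x => Subtype.ext (Subtype.ext ?_)
    exact F6' u v x.1.1 x.1.2

open Groth.Agent.Lib.Helper59.NLBaseChange in
/-- the finite case: a split surjection in degree `-1`, an injection in degree `0` -/
theorem finite_projective_ker_of (g : Q.Hom Q')
    (hsurj : Function.Surjective (L g))
    (hinj : Function.Injective (LinearMap.liftBaseChange B' (CotangentSpace.map g)))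
    [Module.Finite B Q.Cotangent] [Module.Projective B Q.Cotangent]
    [Module.Projective B' Q'.Cotangent] :
    Module.Finite B' (LinearMap.ker (NLCx.bcH1Map g)) ∧
      Module.Projective B' (LinearMap.ker (NLCx.bcH1Map g)) := by
  have hle : ∀ x, L g x = 0 → x ∈ NLCx.bcH1 Q B' := fun x hx => by
    simp only [NLCx.bcH1, LinearMap.mem_ker]
    apply hinj
    rw [map_zero]
    have := congr($(comm_sq g) x)
    simp only [LinearMap.coe_comp, Function.comp_apply] at this
    rw [← this, hx, map_zero]
  obtain ⟨s, hs⟩ := Module.projective_lifting_property (L g) LinearMap.id hsurj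
  -- the retraction `X₁ → ker`
  let π : B' ⊗[B] Q.Cotangent →ₗ[B'] LinearMap.ker (NLCx.bcH1Map g) :=
    LinearMap.codRestrict _
      (LinearMap.codRestrict (NLCx.bcH1 Q B') (LinearMap.id - s ∘ₗ L g) (fun x => hle _ (by
        have := congr($hs (L g x))
        simp only [LinearMap.coe_comp, Function.comp_apply, LinearMap.id_coe, id_eq] at this
        simp [this])))
      (fun x => by
        rw [LinearMap.mem_ker]
        apply Subtype.ext
        have := congr($hs (L g x))
        simp only [LinearMap.coe_comp, Function.comp_apply, LinearMap.id_coe, id_eq] at this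
        change L g (x - s (L g x)) = 0
        rw [map_sub, this, sub_self])
  let ι : LinearMap.ker (NLCx.bcH1Map g) →ₗ[B'] B' ⊗[B] Q.Cotangent :=
    (NLCx.bcH1 Q B').subtype ∘ₗ (LinearMap.ker (NLCx.bcH1Map g)).subtype
  have hπι : π ∘ₗ ι = LinearMap.id := by
    refine LinearMap.ext fun x => Subtype.ext (Subtype.ext ?_)
    change x.1.1 - s (L g x.1.1) = x.1.1
    have hx0 : NLCx.bcH1Map g x.1 = 0 := LinearMap.mem_ker.mp x.2
    have hx : L g x.1.1 = 0 := congrArg Subtype.val hx0
    rw [hx, map_zero, sub_zero]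
  exact ⟨Module.Finite.of_surjective π (fun x => ⟨ι x, congr($hπι x)⟩),
    Module.Projective.of_split ι π hπι⟩

end Transfer

section Main

open Groth.Agent.Lib.Helper89.NLLci Groth.Agent.Lib.Helper59.NLBaseChange

/-- an lci presentation has finite projective conormal module -/
theorem lci_cotangent {A B : Type u} [CommRing A] [CommRing B] [Algebra A B] (h : LCI.IsLCI A B) :
    ∃ (n : ℕ) (G : Algebra.Generators A B (Fin n)),
      Module.Finite B G.toExtension.Cotangent ∧ Module.Projective B G.toExtension.Cotangent := by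
  obtain ⟨_, n, f, hf, hK⟩ := h
  let G : Algebra.Generators A B (Fin n) := Algebra.Generators.ofAlgHom f hf
  let Q : Algebra.Extension.{u} A B := G.toExtension
  have hker : Q.ker = RingHom.ker f.toRingHom := by
    have this : (MvPolynomial.aeval G.val : MvPolynomial (Fin n) A →ₐ[A] B) = f := by
      ext i
      simp [G, Algebra.Generators.ofAlgHom, Algebra.Generators.ofSurjective]
    ext x
    change MvPolynomial.aeval G.val (show MvPolynomial (Fin n) A from x) = 0 ↔ f x = 0
    rw [this]
  have hK' : LCI.IsKoszulRegularIdeal Q.ker := by rw [hker]; exact hK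
  obtain ⟨hfg, hproj, _⟩ := (Groth.Agent.S3826.result Q.Ring Q.ker).1 (locQR _ hK')
  haveI := hproj
  exact ⟨n, G, Algebra.Extension.Cotangent.finite hfg, projective_cotangent Q⟩

variable (A B A' B' : Type u) [CommRing A] [CommRing B] [CommRing A'] [CommRing B']
  [Algebra A B] [Algebra A' B'] [Algebra A A'] [Algebra B B'] [Algebra A B']
  [IsScalarTower A A' B'] [IsScalarTower A B B'] [Algebra.IsPushout A A' B B']

include A in
theorem aeval_surjective {ι : Type u} (G : Algebra.Generators A B ι) :
    Function.Surjective (MvPolynomial.aeval (R := A') (fun i : ι => algebraMap B B' (G.val i))) := by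
  intro x
  have hbc : IsBaseChange A' (IsScalarTower.toAlgHom A B B').toLinearMap :=
    Algebra.IsPushout.out
  refine hbc.inductionOn x (motive := fun x => ∃ a, MvPolynomial.aeval (R := A')
    (fun i : ι => algebraMap B B' (G.val i)) a = x) ⟨0, map_zero _⟩ ?_ ?_ ?_
  · intro s
    refine ⟨MvPolynomial.map (algebraMap A A') (G.σ s), ?_⟩
    rw [MvPolynomial.aeval_map_algebraMap]
    have : (MvPolynomial.aeval fun i => (algebraMap B B') (G.val i)) (G.σ s) =
        algebraMap B B' (MvPolynomial.aeval G.val (G.σ s)) :=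
      MvPolynomial.aeval_algebraMap_apply B' G.val (G.σ s)
    rw [this, G.aeval_val_σ]
    rfl
  · rintro r' x ⟨a, rfl⟩
    exact ⟨MvPolynomial.C r' * a, by rw [map_mul, MvPolynomial.aeval_C, Algebra.smul_def]⟩
  · rintro x y ⟨a, rfl⟩ ⟨b, rfl⟩
    exact ⟨a + b, map_add _ _ _⟩

theorem main (hB : LCI.IsLCI A B) (hB' : LCI.IsLCI A' B') :
    Module.Finite B' (LinearMap.ker (NLCx.bcH1Map
        ((Algebra.Generators.self A B).defaultHom (Algebra.Generators.self A' B')).toExtensionHom)) ∧
      Module.Projective B' (LinearMap.ker (NLCx.bcH1Map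
        ((Algebra.Generators.self A B).defaultHom (Algebra.Generators.self A' B')).toExtensionHom)) := by
  obtain ⟨n, G₀, hfin, hproj⟩ := lci_cotangent hB
  obtain ⟨m, G₀', hfin', hproj'⟩ := lci_cotangent hB'
  haveI := hB.1
  obtain ⟨s, hs⟩ := (Algebra.FiniteType.out : (⊤ : Subalgebra A B).FG)
  let G : Algebra.Generators A B (↑s : Set B) := Algebra.Generators.ofSet hs
  let G' : Algebra.Generators A' B' (↑s : Set B) :=
    Algebra.Generators.ofSurjective (fun i => algebraMap B B' (G.val i))
      (aeval_surjective A B A' B' G)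
  let F := NLCx.sameVarsHom G G' (fun _ => rfl)
  haveI : Module.Free B G.toExtension.CotangentSpace :=
    Module.Free.of_basis G.cotangentSpaceBasis
  haveI : Module.Finite B G.toExtension.CotangentSpace :=
    Module.Finite.of_basis G.cotangentSpaceBasis
  haveI : Module.Free B' G'.toExtension.CotangentSpace :=
    Module.Free.of_basis G'.cotangentSpaceBasis
  haveI : Module.Finite B' G'.toExtension.CotangentSpace :=
    Module.Finite.of_basis G'.cotangentSpaceBasis
  obtain ⟨_, _⟩ := finite_projective_of_retract (G.defaultHom G₀).toExtensionHom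
    (G₀.defaultHom G).toExtensionHom
  obtain ⟨_, _⟩ := finite_projective_of_retract (G'.defaultHom G₀').toExtensionHom
    (G₀'.defaultHom G').toExtensionHom
  obtain ⟨e⟩ := nonempty_kerEquiv
    ((Algebra.Generators.self A B).defaultHom (Algebra.Generators.self A' B')).toExtensionHom
    F.toExtensionHom
    ((Algebra.Generators.self A B).defaultHom G).toExtensionHom
    (G.defaultHom (Algebra.Generators.self A B)).toExtensionHom
    ((Algebra.Generators.self A' B').defaultHom G').toExtensionHom
    (G'.defaultHom (Algebra.Generators.self A' B')).toExtensionHom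
  obtain ⟨h1, h2⟩ := finite_projective_ker_of F.toExtensionHom
    (liftBaseChange_cotangent_surjective G G' F (fun _ => rfl))
    (liftBaseChange_cotangentSpace_injective G G' F (fun _ => rfl))
  exact ⟨Module.Finite.equiv e.symm, Module.Projective.of_equiv e.symm⟩

end Main

end Groth.Agent.Lib.Helper89.NLKer
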