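import Mathlib
import Groth.Agent.Lib.Helper89.NLField
import Groth.Agent.Lib.Helper84.FlatBC

set_option autoImplicit false
set_option linter.style.haveILetI false
universe u
open CategoryTheory CategoryTheory.Limits TensorProduct

attribute [local instance] HasDerivedCategory.standard

namespace Groth.Agent.Lib.Helper89.NLMain

open Groth.Agent.Lib.Helper89.NLJac Groth.Agent.Lib.Helper84.FlatAmp Groth.Agent.Lib.Helper15

theorem hasTorAmplitudeIn_lbc {B B' : Type u} [CommRing B] [CommRing B'] (φ : B →+* B')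
    [DRing.HasLBaseChange φ] (a b : ℤ) (K : Dual.D B) (h : DRing.HasTorAmplitudeIn B a b K) :
    DRing.HasTorAmplitudeIn B' a b ((DRing.LBaseChange φ).obj K) := by
  obtain ⟨E, h1, h2, ⟨e⟩⟩ := h
  refine ⟨LDerived.extCx φ E, Groth.Agent.Lib.Helper84.FlatBC.vanishesOutside_extCx φ E a b h1,
    Groth.Agent.Lib.Helper84.FlatBC.termwiseFlat_extCx φ E h2,
    ⟨(LBCKFlat.lbcIsoOfFlat φ E b (fun q hq => h1 q (Or.inr hq)) h2).symm ≪≫
      (DRing.LBaseChange φ).mapIso e⟩⟩

attribute [local instance] Algebra.TensorProduct.rightAlgebra in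
theorem main (A B : Type u) [CommRing A] [CommRing B] [Algebra A B] [Module.Flat A B]
    [Algebra.FinitePresentation A B]
    (h : DRing.HasTorAmplitudeIn B (-1) 0 (LCI.NL A B)) : LCI.IsLCI A B := by
  apply Groth.Agent.Lib.Helper94.SyntLCI.isLCI_of_isSyntomic
  refine ⟨inferInstance, inferInstance, fun p => ?_⟩
  haveI : Algebra.IsPushout A p.asIdeal.ResidueField B (p.asIdeal.Fiber B) :=
    TensorProduct.isPushout
  haveI : Algebra.FiniteType p.asIdeal.ResidueField (p.asIdeal.Fiber B) := inferInstance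
  apply Groth.Agent.Lib.Helper89.NLField.lci_over_field
  obtain ⟨e⟩ := (Groth.Agent.Lib.Helper89.NLBC.main A B p.asIdeal.ResidueField
    (p.asIdeal.Fiber B)).2 h
  exact torAmp_of_iso (hasTorAmplitudeIn_lbc _ (-1) 0 _ h) e

end Groth.Agent.Lib.Helper89.NLMain
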