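import Mathlib
import Groth.Agent.Lib.Helper89.NLField
import Groth.Agent.Lib.Helper15.TorPd
import Groth.Agent.Lib.Helper15.LocalFibrePd
import Groth.Agent.Lib.Helper43.PolyTorAmp
import Groth.Agent.Lib.Helper77.Serre
import Groth.Agent.Lib.Helper98.KoszulLES
import Groth.Agent.S2189

set_option autoImplicit false
set_option linter.style.haveILetI false
universe u
open CategoryTheory CategoryTheory.Limits TensorProduct

attribute [local instance] HasDerivedCategory.standard

namespace Groth.Agent.Lib.Helper89.NLNoeth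

open Groth.Agent.Lib.Helper89.NLJac Groth.Agent.Lib.Helper84.FlatAmp Groth.Agent.Lib.Helper15
  Groth.Agent.Lib.Helper15.Syzygy Groth.Agent.Lib.Helper43.TorDim

/-- finite modules of finite tor dimension over a Noetherian ring have finite projective
dimension -/
theorem pdLT_of_torAmp {P : Type u} [CommRing P] [IsNoetherianRing P] (M : ModuleCat.{u} P)
    [Module.Finite P M] (d : ℕ)
    (h : DRing.HasTorAmplitudeIn P (-(d : ℤ)) 0
      ((DerivedCategory.singleFunctor (ModuleCat.{u} P) 0).obj M)) :
    HasProjectiveDimensionLT M (d + 1) := by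
  obtain ⟨C, hC0, -⟩ := Groth.Agent.Lib.Helper15.LocalFibrePd.Chain.exists_of_step (fun X => Module.Finite P X)
    (fun X hX => by
      haveI := hX
      obtain ⟨n, π, hπ⟩ := Module.Finite.exists_fin' P X
      exact ⟨n, π, hπ, Module.IsNoetherian.finite P _⟩) M inferInstance
  have := Groth.Agent.Lib.Helper15.TorPd.Chain.pdLT_of_isZero_T C d (fun i hi N => by
    rw [hC0]
    exact isZero_T_of_hasTorAmplitudeIn_single M d h N i hi)
  rwa [hC0] at this

open Groth.Agent.Lib.Helper89.NLField in
/-- Noetherian base, finite tor dimension: tor amplitude `[-1,0]` of `NL` implies lci -/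
theorem main {A B : Type u} [CommRing A] [CommRing B]
    [Algebra A B] [IsNoetherianRing A] [Algebra.FiniteType A B] (hB : DRing.HasFiniteTorDim A B)
    (h : DRing.HasTorAmplitudeIn B (-1) 0 (LCI.NL A B)) : LCI.IsLCI A B := by
  obtain ⟨n, φ, hφ⟩ := Algebra.FiniteType.iff_quotient_mvPolynomial''.mp
    (inferInstance : Algebra.FiniteType A B)
  refine ⟨inferInstance, n, φ, hφ, ?_⟩
  letI : Algebra (MvPolynomial (Fin n) A) B := φ.toRingHom.toAlgebra
  haveI : IsScalarTower A (MvPolynomial (Fin n) A) B :=
    IsScalarTower.of_algebraMap_eq (fun r => (φ.commutes r).symm)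
  obtain ⟨d, hd⟩ := hB
  have h1 : DRing.HasTorAmplitudeIn A (-(d : ℤ)) 0 (Dual.inD A B) :=
    hasTorAmplitudeIn_single_of_isZero_T (ModuleCat.of A B) d (fun N p hp => by
      haveI := hd N p hp
      exact ModuleCat.isZero_of_subsingleton _)
  have h2 := Groth.Agent.Lib.Helper43.PolyTor.torAmp_mvPolynomial A n B (-(d : ℤ)) h1
  have h2' : DRing.HasTorAmplitudeIn (MvPolynomial (Fin n) A) (-((d + n : ℕ) : ℤ)) 0
      ((DerivedCategory.singleFunctor (ModuleCat.{u} (MvPolynomial (Fin n) A)) 0).obj
        (ModuleCat.of (MvPolynomial (Fin n) A) B)) := by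
    have : (-((d + n : ℕ) : ℤ)) = -(d : ℤ) - n := by push_cast; ring
    rw [this]
    exact h2
  haveI : Module.Finite (MvPolynomial (Fin n) A) B :=
    Module.Finite.of_surjective (Algebra.linearMap (MvPolynomial (Fin n) A) B) hφ
  have h3 := pdLT_of_torAmp (ModuleCat.of (MvPolynomial (Fin n) A) B) (d + n) h2'
  let I : Ideal (MvPolynomial (Fin n) A) := RingHom.ker φ.toRingHom
  have e : (MvPolynomial (Fin n) A ⧸ I) ≃ₗ[MvPolynomial (Fin n) A] B :=
    { (RingHom.quotientKerEquivOfSurjective (f := φ.toRingHom) hφ) with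
      map_smul' := fun r x => by
        obtain ⟨y, rfl⟩ := Ideal.Quotient.mk_surjective x
        change (RingHom.quotientKerEquivOfSurjective (f := φ.toRingHom) hφ)
          (Ideal.Quotient.mk I (r * y)) = φ r * (RingHom.quotientKerEquivOfSurjective
            (f := φ.toRingHom) hφ) (Ideal.Quotient.mk I y)
        rw [RingHom.quotientKerEquivOfSurjective_apply_mk,
          RingHom.quotientKerEquivOfSurjective_apply_mk, map_mul]
        rfl }
  have h4 : HasProjectiveDimensionLT (ModuleCat.of (MvPolynomial (Fin n) A)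
      (MvPolynomial (Fin n) A ⧸ I)) (d + n + 2) :=
    haveI := hasProjectiveDimensionLT_of_iso e.toModuleIso.symm (d + n + 1)
    hasProjectiveDimensionLT_of_ge _ (d + n + 1) (d + n + 2) (by omega)
  have h5 : HasProjectiveDimensionLT (ModuleCat.of (MvPolynomial (Fin n) A) I) (d + n + 1) :=
    (Groth.Agent.Lib.Helper77.Serre.pd_ideal_iff _ I (d + n)).mp h4
  -- projectivity of the conormal module
  let G : Algebra.Generators A B (Fin n) := Algebra.Generators.ofAlgHom φ hφ
  let Q : Algebra.Extension.{u} A B := G.toExtension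
  have hker : Q.ker = RingHom.ker φ.toRingHom := by
    have this : (MvPolynomial.aeval G.val : MvPolynomial (Fin n) A →ₐ[A] B) = φ := by
      ext i
      simp [G, Algebra.Generators.ofAlgHom, Algebra.Generators.ofSurjective]
    ext x
    change MvPolynomial.aeval G.val (show MvPolynomial (Fin n) A from x) = 0 ↔ φ x = 0
    rw [this]
  haveI : IsNoetherianRing B := Algebra.FiniteType.isNoetherianRing A B
  obtain ⟨e'⟩ := Groth.Agent.Lib.Helper89.NLLci.nonempty_iso G (Algebra.Generators.self A B)
  have h' : DRing.HasTorAmplitudeIn B (-1) 0 (DRing.toD (NLCx.cx Q)) := torAmp_of_iso h e'.symm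
  haveI : Module.Free B Q.CotangentSpace :=
    inferInstanceAs (Module.Free B G.toExtension.CotangentSpace)
  haveI : Module.Flat B Q.Cotangent := flat_cotangent' Q h'
  have hfg : Q.ker.FG := by
    haveI : IsNoetherianRing Q.Ring :=
      inferInstanceAs (IsNoetherianRing (MvPolynomial (Fin n) A))
    exact IsNoetherian.noetherian _
  haveI : Module.Finite B Q.Cotangent := Algebra.Extension.Cotangent.finite hfg
  haveI : Module.FinitePresentation B Q.Cotangent := Module.finitePresentation_of_finite B _
  haveI : Module.Projective B Q.Cotangent := Module.Flat.projective_of_finitePresentation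
  have hproj : Module.Projective (Q.Ring ⧸ Q.ker) Q.ker.Cotangent := projective_ker_cotangent Q
  haveI hproj' : Module.Projective (MvPolynomial (Fin n) A ⧸ RingHom.ker φ.toRingHom)
      (RingHom.ker φ.toRingHom).Cotangent := hker ▸ hproj
  intro 𝔭 hI
  obtain ⟨g, hg, rs, hreg, hspan⟩ := Groth.Agent.S2189.result I (d + n + 1) h5 𝔭.asIdeal hI
  exact ⟨g, hg, rs,
    (_root_.Helper98.KoszulLES.koszul_of_weaklyRegular rs hreg.toIsWeaklyRegular).1, hspan.symm⟩

end Groth.Agent.Lib.Helper89.NLNoeth
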