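import Mathlib

set_option autoImplicit false
set_option linter.unusedSectionVars false
universe v₁ u₁ v₂ u₂ v₃ u₃
open CategoryTheory CategoryTheory.Limits CategoryTheory.Pretriangulated

namespace Helper89.Postnikov

variable {𝒜 : Type u₁} [Category.{v₁} 𝒜]
  {𝒯 : Type u₂} [Category.{v₂} 𝒯] [Preadditive 𝒯] [HasZeroObject 𝒯] [HasShift 𝒯 ℤ]
  [∀ n : ℤ, (shiftFunctor 𝒯 n).Additive] [Pretriangulated 𝒯]
  {D : Type u₃} [Category.{v₃} D] [Preadditive D] [HasZeroObject D] [HasShift D ℤ]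
  [∀ n : ℤ, (shiftFunctor D n).Additive] [Pretriangulated D]
  (i : 𝒜 ⥤ 𝒯)

/-- iterated extensions: `K` is obtained from `n` cells `i Y`, the last one being attached along
`u : i Y ⟶ K` -/
inductive Pres : ℕ → (K : 𝒯) → (Y : 𝒜) → (i.obj Y ⟶ K) → Prop
  | zero (K : 𝒯) (Y : 𝒜) (u : i.obj Y ⟶ K) (hK : IsZero K) : Pres 0 K Y u
  | succ (n : ℕ) (K'' K : 𝒯) (Y'' Y : 𝒜) (u'' : i.obj Y'' ⟶ K'') (w : K'' ⟶ i.obj Y)
      (u : i.obj Y ⟶ K) (v : K ⟶ K''⟦(1 : ℤ)⟧) (h : Pres n K'' Y'' u'')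
      (hT : Triangle.mk w u v ∈ distTriang 𝒯) : Pres (n + 1) K Y u

variable {i}
variable (F F' : 𝒯 ⥤ D) [F.CommShift ℤ] [F.IsTriangulated] [F'.CommShift ℤ] [F'.IsTriangulated]

/-- the image under `F` of a distinguished triangle, in explicit form -/
lemma map_dist {X Y Z : 𝒯} (w : X ⟶ Y) (u : Y ⟶ Z) (v : Z ⟶ X⟦(1 : ℤ)⟧)
    (hT : Triangle.mk w u v ∈ distTriang 𝒯) :
    Triangle.mk (F.map w) (F.map u) (F.map v ≫ (F.commShiftIso (1 : ℤ)).hom.app X) ∈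
      distTriang D :=
  F.map_distinguished _ hT

omit [HasZeroObject D] [∀ n : ℤ, (shiftFunctor D n).Additive] [Pretriangulated D] in
/-- vanishing of maps to negative shifts passes to shifted sources -/
lemma eq_zero_of_shift {X Z : D} (q : ℤ) (h : ∀ g : X ⟶ Z⟦q - 1⟧, g = 0)
    (g : X⟦(1 : ℤ)⟧ ⟶ Z⟦q⟧) : g = 0 := by
  let e : Z⟦q⟧ ≅ (Z⟦q - 1⟧)⟦(1 : ℤ)⟧ := (shiftFunctorAdd' D (q - 1) 1 q (by omega)).app Z
  obtain ⟨g', hg'⟩ := (shiftFunctor D (1 : ℤ)).map_surjective (g ≫ e.hom)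
  rw [h g', Functor.map_zero] at hg'
  rw [← cancel_mono e.hom, zero_comp, ← hg']

/-- the vanishing lemma -/
lemma vanishing
    (hV : ∀ (X Y : 𝒜) (q : ℤ), q < 0 →
      ∀ f : F.obj (i.obj X) ⟶ (F.obj (i.obj Y))⟦q⟧, f = 0)
    {n : ℕ} {K : 𝒯} {Y : 𝒜} {u : i.obj Y ⟶ K} (h : Pres i n K Y u) :
    ∀ (Z : 𝒜) (q : ℤ), q < 0 → ∀ f : F.obj K ⟶ (F.obj (i.obj Z))⟦q⟧, f = 0 := by
  induction h with
  | zero K Y u hK =>
    intro Z q _ f
    exact (F.map_isZero hK).eq_of_src _ _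
  | succ n K'' K Y'' Y u'' w u v h hT ih =>
    intro Z q hq f
    have hT' := map_dist F w u v hT
    have h1 : F.map u ≫ f = 0 := hV Y Z q hq _
    obtain ⟨g, hg⟩ : ∃ g : (F.obj K'')⟦(1 : ℤ)⟧ ⟶ (F.obj (i.obj Z))⟦q⟧,
        f = (F.map v ≫ (F.commShiftIso (1 : ℤ)).hom.app K'') ≫ g :=
      Triangle.yoneda_exact₃ _ hT' f h1
    rw [hg, eq_zero_of_shift q (ih Z (q - 1) (by omega)) g, comp_zero]

omit [HasZeroObject D] [∀ n : ℤ, (shiftFunctor D n).Additive] [Pretriangulated D] in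
lemma eq_zero_of_shift' {X Z : D} (h : ∀ g : X ⟶ Z⟦(-1 : ℤ)⟧, g = 0)
    (g : X⟦(1 : ℤ)⟧ ⟶ Z) : g = 0 := by
  let e : Z ≅ (Z⟦(-1 : ℤ)⟧)⟦(1 : ℤ)⟧ := ((shiftFunctorCompIsoId D (-1 : ℤ) 1 (by omega)).app Z).symm
  obtain ⟨g', hg'⟩ := (shiftFunctor D (1 : ℤ)).map_surjective (g ≫ e.hom)
  rw [h g', Functor.map_zero] at hg'
  rw [← cancel_mono e.hom, zero_comp, ← hg']

/-- the main lemma: an iterated extension of cells has isomorphic images under `F` and `F'`,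
compatibly with the last attaching map -/
theorem exists_iso' (hfull : ∀ {X Y : 𝒜} (f : i.obj X ⟶ i.obj Y), ∃ d : X ⟶ Y, i.map d = f)
    (τ : ∀ Y : 𝒜, F.obj (i.obj Y) ≅ F'.obj (i.obj Y))
    (hτ : ∀ {X Y : 𝒜} (d : X ⟶ Y),
      F.map (i.map d) ≫ (τ Y).hom = (τ X).hom ≫ F'.map (i.map d))
    (hV : ∀ (X Y : 𝒜) (q : ℤ), q < 0 →
      ∀ f : F.obj (i.obj X) ⟶ (F.obj (i.obj Y))⟦q⟧, f = 0)
    {n : ℕ} {K : 𝒯} {Y : 𝒜} {u : i.obj Y ⟶ K} (h : Pres i n K Y u) :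
    ∃ s : F.obj K ≅ F'.obj K, F.map u ≫ s.hom = (τ Y).hom ≫ F'.map u := by
  induction h with
  | zero K Y u hK =>
    exact ⟨(F.map_isZero hK).iso (F'.map_isZero hK), (F'.map_isZero hK).eq_of_tgt _ _⟩
  | succ n K'' K Y'' Y u'' w u v h hT ih =>
    obtain ⟨s'', hs''⟩ := ih
    have hT₁ := map_dist F w u v hT
    have hT₂ := map_dist F' w u v hT
    obtain ⟨d, hd⟩ := hfull (u'' ≫ w)
    have sq : F.map w ≫ (τ Y).hom = s''.hom ≫ F'.map w := by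
      rw [← sub_eq_zero]
      have h0 : F.map u'' ≫ (F.map w ≫ (τ Y).hom - s''.hom ≫ F'.map w) = 0 := by
        rw [Preadditive.comp_sub, ← Category.assoc, ← F.map_comp, ← hd, ← Category.assoc, hs'',
          Category.assoc, ← F'.map_comp, ← hd, hτ d, sub_self]
      cases h with
      | zero _ _ _ hK'' => exact (F.map_isZero hK'').eq_of_src _ _
      | succ m K₃ _ Y₃ _ u₃ w'' _ v'' h₃ hT'' =>
        have hT₁'' := map_dist F w'' u'' v'' hT''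
        obtain ⟨g, hg⟩ : ∃ g : (F.obj K₃)⟦(1 : ℤ)⟧ ⟶ F'.obj (i.obj Y),
            F.map w ≫ (τ Y).hom - s''.hom ≫ F'.map w =
              (F.map v'' ≫ (F.commShiftIso (1 : ℤ)).hom.app K₃) ≫ g :=
          Triangle.yoneda_exact₃ _ hT₁'' _ h0
        have hg0 : g = 0 := by
          have h1 : g ≫ (τ Y).inv = 0 :=
            eq_zero_of_shift' (vanishing F hV h₃ Y (-1) (by omega)) _
          rw [← cancel_mono (τ Y).inv, h1, zero_comp]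
        rw [hg, hg0, comp_zero]
    obtain ⟨c, hc₁, hc₂⟩ : ∃ c : F.obj K ⟶ F'.obj K,
        F.map u ≫ c = (τ Y).hom ≫ F'.map u ∧
        (F.map v ≫ (F.commShiftIso (1 : ℤ)).hom.app K'') ≫ s''.hom⟦(1 : ℤ)⟧' =
          c ≫ F'.map v ≫ (F'.commShiftIso (1 : ℤ)).hom.app K'' :=
      complete_distinguished_triangle_morphism _ _ hT₁ hT₂ s''.hom (τ Y).hom sq
    have hc : IsIso c := by
      let φ : Triangle.mk (F.map w) (F.map u) (F.map v ≫ (F.commShiftIso (1 : ℤ)).hom.app K'') ⟶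
          Triangle.mk (F'.map w) (F'.map u) (F'.map v ≫ (F'.commShiftIso (1 : ℤ)).hom.app K'') :=
        { hom₁ := s''.hom
          hom₂ := (τ Y).hom
          hom₃ := c
          comm₁ := sq
          comm₂ := hc₁
          comm₃ := hc₂ }
      exact isIso₃_of_isIso₁₂ φ hT₁ hT₂ (show IsIso s''.hom from inferInstance)
        (show IsIso (τ Y).hom from inferInstance)
    exact ⟨asIso c, hc₁⟩

theorem exists_iso (hfull : ∀ {X Y : 𝒜} (f : i.obj X ⟶ i.obj Y), ∃ d : X ⟶ Y, i.map d = f)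
    (t : i ⋙ F ≅ i ⋙ F')
    (hV : ∀ (X Y : 𝒜) (q : ℤ), q < 0 →
      ∀ f : F.obj (i.obj X) ⟶ (F.obj (i.obj Y))⟦q⟧, f = 0)
    {n : ℕ} {K : 𝒯} {Y : 𝒜} {u : i.obj Y ⟶ K} (h : Pres i n K Y u) :
    Nonempty (F.obj K ≅ F'.obj K) := by
  obtain ⟨s, -⟩ := exists_iso' F F' hfull (fun Y => t.app Y) (fun d => t.hom.naturality d) hV h
  exact ⟨s⟩

end Helper89.Postnikov
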