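import Mathlib
import Groth.Prelude.Def_W4stkfunctorsequivSib
import Groth.Agent.Lib.Helper89.Postnikov
import Groth.Agent.Lib.Helper89.TopCell
import Groth.Agent.Lib.Helper89.DbGen

set_option autoImplicit false
set_option linter.unusedSectionVars false
universe w v u v' u'
open CategoryTheory CategoryTheory.Limits CategoryTheory.Pretriangulated ZeroObject

namespace Helper89.PostnikovDb

open DerivedCategory DerivedCategory.TStructure Helper89.Postnikov Helper89.DbGen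

variable {A : Type u} [Category.{v} A] [Abelian A] [HasDerivedCategory.{w} A]

/-- transport of a distinguished triangle of `D(A)` to `D^b(A)` along isomorphisms of vertices -/
lemma exists_triangle_of_iso (T : Triangle (DerivedCategory A)) (hT : T ∈ distTriang _)
    (X₁ X₂ X₃ : DerivedCategory.Bounded A) (e₁ : X₁.obj ≅ T.obj₁) (e₂ : X₂.obj ≅ T.obj₂)
    (e₃ : X₃.obj ≅ T.obj₃) :
    ∃ (f : X₁ ⟶ X₂) (g : X₂ ⟶ X₃) (h : X₃ ⟶ X₁⟦(1 : ℤ)⟧),
      Triangle.mk f g h ∈ distTriang (DerivedCategory.Bounded A) := by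
  let f : X₁ ⟶ X₂ := (ιB (A := A)).preimage (e₁.hom ≫ T.mor₁ ≫ e₂.inv)
  let g : X₂ ⟶ X₃ := (ιB (A := A)).preimage (e₂.hom ≫ T.mor₂ ≫ e₃.inv)
  let δ : (ιB (A := A)).obj X₃ ⟶ ((ιB (A := A)).obj X₁)⟦(1 : ℤ)⟧ :=
    e₃.hom ≫ T.mor₃ ≫ e₁.inv⟦(1 : ℤ)⟧'
  have h : Triangle.mk ((ιB (A := A)).map f) ((ιB (A := A)).map g) δ ∈
      distTriang (DerivedCategory A) := by
    refine isomorphic_distinguished _ hT _ ?_
    refine Triangle.isoMk _ _ e₁ e₂ e₃ ?_ ?_ ?_
    · change (ιB (A := A)).map f ≫ e₂.hom = e₁.hom ≫ T.mor₁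
      rw [Functor.map_preimage]
      simp
    · change (ιB (A := A)).map g ≫ e₃.hom = e₂.hom ≫ T.mor₂
      rw [Functor.map_preimage]
      simp
    · change δ ≫ e₁.hom⟦(1 : ℤ)⟧' = e₃.hom ≫ T.mor₃
      simp only [δ, Category.assoc, ← Functor.map_comp, e₁.inv_hom_id,
        CategoryTheory.Functor.map_id, Category.comp_id]
  obtain ⟨δ', hδ'⟩ := lift_triangle (DerivedCategory.TStructure.t (C := A)).bounded f g δ h
  exact ⟨f, g, δ', hδ'⟩

/-- a complex with zero terms gives a zero object of the bounded derived category -/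
lemma isZero_of_terms (K : DerivedCategory.Bounded A) (L : CochainComplex A ℤ)
    (hL : ∀ i, IsZero (L.X i)) (e : K.obj ≅ Q.obj L) : IsZero K := by
  have hL0 : IsZero L := by
    rw [IsZero.iff_id_eq_zero]
    ext i
    exact (hL i).eq_of_src _ _
  have hz : IsZero K.obj := IsZero.of_iso (Q.map_isZero hL0) e
  rw [IsZero.iff_id_eq_zero]
  apply (ιB (A := A)).map_injective
  rw [CategoryTheory.Functor.map_id, Functor.map_zero]
  exact (IsZero.iff_id_eq_zero _).1 hz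

/-- bounded complexes concentrated in degrees `[1 - n, 0]` are iterated extensions of `n` cells -/
lemma exists_pres (n : ℕ) : ∀ (K : DerivedCategory.Bounded A) (L : CochainComplex A ℤ),
    L.IsStrictlyLE 0 → L.IsStrictlyGE (1 - n) → (K.obj ≅ Q.obj L) →
    ∃ (Y : A) (u : (DEquiv.singleB A).obj Y ⟶ K), Pres (DEquiv.singleB A) n K Y u := by
  induction n with
  | zero =>
    intro K L h0 h1 e
    refine ⟨0, 0, Pres.zero _ _ _ (isZero_of_terms K L (fun i => ?_) e)⟩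
    by_cases hi : 0 < i
    · exact L.isZero_of_isStrictlyLE 0 i hi
    · exact L.isZero_of_isStrictlyGE (1 - ((0 : ℕ) : ℤ)) i (by simp; omega)
  | succ n ih =>
    intro K L h0 h1 e
    let L' : CochainComplex A ℤ := L⟦(-1 : ℤ)⟧
    haveI : L'.IsStrictlyLE 1 := L.isStrictlyLE_shift 0 (-1) 1 (by omega)
    haveI : L'.IsStrictlyGE (1 - (n : ℤ)) :=
      L.isStrictlyGE_shift (1 - ((n + 1 : ℕ) : ℤ)) (-1) (1 - (n : ℤ)) (by push_cast; omega)
    let R := TopCell.rest L' 1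
    haveI hR1 : R.IsStrictlyLE 0 := TopCell.rest_isStrictlyLE L' 1
    haveI hR2 : R.IsStrictlyGE (1 - (n : ℤ)) := TopCell.rest_isStrictlyGE L' 1 (1 - (n : ℤ))
    let K'' : DerivedCategory.Bounded A :=
      ⟨Q.obj R, ⟨⟨1 - (n : ℤ), inferInstance⟩, ⟨0, inferInstance⟩⟩⟩
    obtain ⟨Y'', u'', hP⟩ := ih K'' R hR1 hR2 (Iso.refl _)
    let Z : A := L'.X 1
    have hS := TopCell.topSC_shortExact L' 1
    let T := (triangleOfSES hS).rotate.rotate
    have hT : T ∈ distTriang (DerivedCategory A) :=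
      rot_of_distTriang _ (rot_of_distTriang _ (triangleOfSES_distinguished hS))
    let e₂ : ((DEquiv.singleB A).obj Z).obj ≅ T.obj₂ :=
      (singleFunctorIsoCompQ A 0).app Z ≪≫
        Q.mapIso (((CochainComplex.singleFunctors A).shiftIso 1 0 1 (by omega)).app Z).symm ≪≫
        (Q.commShiftIso (1 : ℤ)).app _
    let e₃ : K.obj ≅ T.obj₃ :=
      e ≪≫ Q.mapIso ((shiftFunctorCompIsoId (CochainComplex A ℤ) (-1 : ℤ) 1 (by omega)).app L).symm
        ≪≫ (Q.commShiftIso (1 : ℤ)).app L'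
    obtain ⟨w, u, v, hwuv⟩ := exists_triangle_of_iso T hT K'' ((DEquiv.singleB A).obj Z) K
      (Iso.refl _) e₂ e₃
    exact ⟨Z, u, Pres.succ n K'' K Y'' Z u'' w u v hP hwuv⟩

/-- `singleB` is full -/
lemma singleB_full {X Y : A} (f : (DEquiv.singleB A).obj X ⟶ (DEquiv.singleB A).obj Y) :
    ∃ d : X ⟶ Y, (DEquiv.singleB A).map d = f := by
  let f' : (singleFunctor A 0).obj X ⟶ (singleFunctor A 0).obj Y := (ιB (A := A)).map f
  refine ⟨(singleFunctor A 0).preimage f', ?_⟩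
  apply (ιB (A := A)).map_injective
  exact (ιB_map_singleB_map _).trans ((singleFunctor A 0).map_preimage f')

variable {D : Type u'} [Category.{v'} D] [Preadditive D] [HasZeroObject D] [HasShift D ℤ]
  [∀ n : ℤ, (shiftFunctor D n).Additive] [Pretriangulated D]

/-- S6704: siblings -/
theorem siblings (F F' : DerivedCategory.Bounded A ⥤ D) [F.CommShift ℤ] [F.IsTriangulated]
    [F'.CommShift ℤ] [F'.IsTriangulated]
    (h1 : Nonempty (DEquiv.singleB A ⋙ F ≅ DEquiv.singleB A ⋙ F'))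
    (h2 : ∀ (X Y : A) (q : ℤ), q < 0 →
      ∀ f : F.obj ((DEquiv.singleB A).obj X) ⟶
        (shiftFunctor D q).obj (F.obj ((DEquiv.singleB A).obj Y)), f = 0)
    (K : DerivedCategory.Bounded A) : Nonempty (F.obj K ≅ F'.obj K) := by
  obtain ⟨t⟩ := h1
  obtain ⟨⟨a, ha⟩, ⟨b, hb⟩⟩ := K.property
  let K₀ : DerivedCategory.Bounded A := K⟦b⟧
  let e₀ : K₀.obj ≅ (K.obj)⟦b⟧ := ((ιB (A := A)).commShiftIso b).app K
  have h0 : TStructure.t.IsLE ((K.obj)⟦b⟧) 0 := TStructure.t.isLE_shift K.obj b b 0 (by omega)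
  have h0' : TStructure.t.IsGE ((K.obj)⟦b⟧) (a - b) :=
    TStructure.t.isGE_shift K.obj a b (a - b) (by omega)
  have : K₀.obj.IsLE 0 := TStructure.t.isLE_of_iso e₀.symm 0
  have : K₀.obj.IsGE (a - b) := TStructure.t.isGE_of_iso e₀.symm (a - b)
  obtain ⟨L, hL1, hL2, ⟨e⟩⟩ := exists_iso_Q_obj_of_isGE_of_isLE K₀.obj (a - b) 0
  let n : ℕ := (b - a + 1).toNat
  have hL3 : L.IsStrictlyGE (1 - (n : ℤ)) := by
    by_cases hab : a ≤ b + 1
    · exact L.isStrictlyGE_of_ge (1 - (n : ℤ)) (a - b) (by omega)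
    · exact L.isStrictlyGE_of_ge (1 - (n : ℤ)) (a - b) (by omega)
  obtain ⟨Y, u, hP⟩ := exists_pres n K₀ L hL2 hL3 e
  obtain ⟨s⟩ := exists_iso F F' singleB_full t h2 hP
  let eK : K₀⟦-b⟧ ≅ K := (shiftFunctorCompIsoId (DerivedCategory.Bounded A) b (-b) (by omega)).app K
  exact ⟨F.mapIso eK.symm ≪≫ (F.commShiftIso (-b)).app K₀ ≪≫
    (shiftFunctor D (-b)).mapIso s ≪≫ ((F'.commShiftIso (-b)).app K₀).symm ≪≫ F'.mapIso eK⟩

end Helper89.PostnikovDb
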