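import Mathlib
import Groth.Prelude.Def_W4stkfunctorsequivSib
import Groth.Agent.Lib.Helper89.DbGen
import Groth.Agent.Lib.Helper89.PostnikovDb
import Groth.Agent.S6707

/-!
# Orlov-type uniqueness of siblings: presentations of bounded objects by cells
-/

set_option autoImplicit false
set_option linter.unusedSectionVars false
universe w v u v' u'
open CategoryTheory CategoryTheory.Limits CategoryTheory.Pretriangulated ZeroObject

namespace Helper89.Orlov

open DerivedCategory DerivedCategory.TStructure Helper89.DbGen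

variable {A : Type u} [Category.{v} A] [Abelian A] [HasDerivedCategory.{w} A]

section derived

/-- maps from an object `≤ b` to `N[-b]` vanish if `Hom(H^b X, N) = 0` -/
lemma hom_to_single_eq_zero (X : DerivedCategory A) (b : ℤ) [X.IsLE b] (N : A)
    (hN : ∀ φ : (homologyFunctor A b).obj X ⟶ N, φ = 0)
    (φ : X ⟶ (singleFunctor A b).obj N) : φ = 0 := by
  let Tr := (t.triangleLEGE (b - 1) b (by omega)).obj X
  have hTr : Tr ∈ distTriang _ := t.triangleLEGE_distinguished (b - 1) b (by omega) X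
  have i1 : t.IsLE Tr.obj₁ (b - 1) := (inferInstance : t.IsLE ((t.truncLE (b - 1)).obj X) (b - 1))
  have i2 : t.IsGE ((singleFunctor A b).obj N) b := inferInstance
  have h1 : Tr.mor₁ ≫ φ = 0 := t.zero _ (b - 1) b
  obtain ⟨φ', hφ'⟩ := Triangle.yoneda_exact₂ Tr hTr φ h1
  have i3 : t.IsGE Tr.obj₃ b := (inferInstance : t.IsGE ((t.truncGE b).obj X) b)
  have i4 : t.IsLE Tr.obj₃ b := (inferInstance : t.IsLE ((t.truncGE b).obj X) b)
  obtain ⟨M, ⟨e⟩⟩ := exists_iso_singleFunctor_obj_of_isGE_of_isLE Tr.obj₃ b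
  obtain ⟨ψ, hψ⟩ := (singleFunctor A b).map_surjective (e.inv ≫ φ')
  let q : (homologyFunctor A b).obj X ⟶ M :=
    (homologyFunctor A b).map (Tr.mor₂ ≫ e.hom) ≫
      (singleFunctorCompHomologyFunctorIso A b).hom.app M
  have hq : Epi q := by
    have hz : IsZero ((homologyFunctor A (b + 1)).obj Tr.obj₁) :=
      isZero_of_isLE Tr.obj₁ (b - 1) (b + 1) (by omega)
    have h2 : Epi ((homologyFunctor A b).map Tr.mor₂) :=
      (HomologySequence.epi_homologyMap_mor₂_iff Tr hTr b (b + 1) rfl).2 (hz.eq_of_tgt _ _)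
    have h3 : Epi ((homologyFunctor A b).map (Tr.mor₂ ≫ e.hom)) := by
      rw [Functor.map_comp]
      infer_instance
    exact @epi_comp _ _ _ _ _ _ h3 _ inferInstance
  have hψ0 : ψ = 0 := by
    rw [← cancel_epi q, hN (q ≫ ψ), comp_zero]
  have : φ' = e.hom ≫ (singleFunctor A b).map ψ := by
    rw [hψ, e.hom_inv_id_assoc]
  rw [hφ', this, hψ0, Functor.map_zero, comp_zero]
  exact comp_zero

/-- bounds for the cone of a map from a cell hitting the top cohomology -/
lemma cone_bounds (Tr : Triangle (DerivedCategory A)) (hTr : Tr ∈ distTriang _) (a b : ℤ)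
    (hab : a ≤ b - 1) [Tr.obj₁.IsGE b] [Tr.obj₁.IsLE b] [Tr.obj₂.IsGE a] [Tr.obj₂.IsLE b]
    (hepi : Epi ((homologyFunctor A b).map Tr.mor₁)) :
    Tr.obj₃.IsGE a ∧ Tr.obj₃.IsLE (b - 1) := by
  constructor
  · rw [isGE_iff]
    intro i hi
    exact (HomologySequence.exact₃ _ hTr i (i + 1) rfl).isZero_X₂
      ((isZero_of_isGE Tr.obj₂ a i hi).eq_of_src _ _)
      ((isZero_of_isGE Tr.obj₁ b (i + 1) (by omega)).eq_of_tgt _ _)
  · rw [isLE_iff]
    intro i hi
    by_cases hib : i = b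
    · subst hib
      exact (HomologySequence.exact₃ _ hTr i (i + 1) rfl).isZero_X₂
        ((HomologySequence.epi_homologyMap_mor₁_iff _ hTr i).1 hepi)
        ((isZero_of_isLE Tr.obj₁ i (i + 1) (by omega)).eq_of_tgt _ _)
    · exact (HomologySequence.exact₃ _ hTr i (i + 1) rfl).isZero_X₂
        ((isZero_of_isLE Tr.obj₂ b i (by omega)).eq_of_src _ _)
        ((isZero_of_isLE Tr.obj₁ b (i + 1) (by omega)).eq_of_tgt _ _)

lemma isLE_biprod (X Y : DerivedCategory A) (n : ℤ) [X.IsLE n] [Y.IsLE n] : (X ⊞ Y).IsLE n :=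
  t.isLE₂ _ (binaryBiproductTriangle_distinguished X Y) n (inferInstanceAs (t.IsLE X n))
    (inferInstanceAs (t.IsLE Y n))

lemma isGE_biprod (X Y : DerivedCategory A) (n : ℤ) [X.IsGE n] [Y.IsGE n] : (X ⊞ Y).IsGE n :=
  t.isGE₂ _ (binaryBiproductTriangle_distinguished X Y) n (inferInstanceAs (t.IsGE X n))
    (inferInstanceAs (t.IsGE Y n))

end derived

section bounded

/-- the cell `N⟦q⟧`, concentrated in degree `-q` -/
noncomputable abbrev cell (N : A) (q : ℤ) : DerivedCategory.Bounded A :=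
  ((DEquiv.singleB A).obj N)⟦q⟧

/-- the cell functor -/
noncomputable abbrev cellF (q : ℤ) : A ⥤ DerivedCategory.Bounded A :=
  DEquiv.singleB A ⋙ shiftFunctor (DerivedCategory.Bounded A) q

instance singleB_additive : (DEquiv.singleB A).Additive where
  map_add {X Y f g} := by
    apply (ιB (A := A)).map_injective
    refine Eq.trans ?_ ((ιB (A := A)).map_add).symm
    exact (singleFunctor A 0).map_add

/-- comparison of cells with `singleFunctor` -/
noncomputable def cellIso (N : A) (q b : ℤ) (h : q + b = 0) :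
    (cell N q).obj ≅ (singleFunctor A b).obj N :=
  ((ιB (A := A)).commShiftIso q).app ((DEquiv.singleB A).obj N) ≪≫
    ((singleFunctors A).shiftIso q b 0 h).app N

lemma cell_isGE (N : A) (q b : ℤ) (h : q + b = 0) : t.IsGE (cell N q).obj b :=
  t.isGE_of_iso (cellIso N q b h).symm b

lemma cell_isLE (N : A) (q b : ℤ) (h : q + b = 0) : t.IsLE (cell N q).obj b :=
  t.isLE_of_iso (cellIso N q b h).symm b

lemma cellIso_hom_naturality {N N' : A} (e : N ⟶ N') (q b : ℤ) (h : q + b = 0) :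
    (ιB (A := A)).map ((cellF q).map e) ≫ (cellIso N' q b h).hom =
      (cellIso N q b h).hom ≫ (singleFunctor A b).map e := by
  have h1 : (ιB (A := A)).map ((cellF q).map e) ≫
      ((ιB (A := A)).commShiftIso q).hom.app ((DEquiv.singleB A).obj N') =
      ((ιB (A := A)).commShiftIso q).hom.app ((DEquiv.singleB A).obj N) ≫
        ((singleFunctor A 0).map e)⟦q⟧' :=
    ((ιB (A := A)).commShiftIso q).hom.naturality ((DEquiv.singleB A).map e)
  have h2 : ((singleFunctor A 0).map e)⟦q⟧' ≫ ((singleFunctors A).shiftIso q b 0 h).hom.app N' =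
      ((singleFunctors A).shiftIso q b 0 h).hom.app N ≫ (singleFunctor A b).map e :=
    ((singleFunctors A).shiftIso q b 0 h).hom.naturality e
  change (ιB (A := A)).map ((cellF q).map e) ≫
    (((ιB (A := A)).commShiftIso q).hom.app ((DEquiv.singleB A).obj N') ≫
      ((singleFunctors A).shiftIso q b 0 h).hom.app N') =
    (((ιB (A := A)).commShiftIso q).hom.app ((DEquiv.singleB A).obj N) ≫
      ((singleFunctors A).shiftIso q b 0 h).hom.app N) ≫ (singleFunctor A b).map e
  exact (Category.assoc _ _ _).symm.trans ((congrArg (· ≫ _) h1).trans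
    ((Category.assoc _ _ _).trans ((congrArg (_ ≫ ·) h2).trans (Category.assoc _ _ _).symm)))

/-- maps from lower cells to higher cells vanish -/
lemma cell_hom_eq_zero (M M' : A) (q q' : ℤ) (h : q' < q) (f : cell M q ⟶ cell M' q') : f = 0 := by
  apply (ιB (A := A)).map_injective
  rw [Functor.map_zero]
  haveI : t.IsLE ((ιB (A := A)).obj (cell M q)) (-q) := cell_isLE M q (-q) (by omega)
  haveI : t.IsGE ((ιB (A := A)).obj (cell M' q')) (-q') := cell_isGE M' q' (-q') (by omega)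
  exact t.zero ((ιB (A := A)).map f) (-q) (-q') (by omega)

/-- objects concentrated in one degree are cells -/
lemma exists_iso_cell (X : DerivedCategory.Bounded A) (b : ℤ) [t.IsGE X.obj b] [t.IsLE X.obj b] :
    ∃ M : A, Nonempty (X ≅ cell M (-b)) := by
  obtain ⟨M, ⟨e⟩⟩ := exists_iso_singleFunctor_obj_of_isGE_of_isLE X.obj b
  exact ⟨M, ⟨liftIso (e ≪≫ (cellIso M (-b) b (by omega)).symm)⟩⟩

/-- objects of amplitude at most `n` -/
def InT (n : ℕ) (X : DerivedCategory.Bounded A) : Prop :=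
  ∃ b : ℤ, t.IsGE X.obj (b - n) ∧ t.IsLE X.obj b

lemma InT.mono {n m : ℕ} (h : n ≤ m) {X : DerivedCategory.Bounded A} (hX : InT n X) : InT m X := by
  obtain ⟨b, h1, h2⟩ := hX
  exact ⟨b, t.isGE_of_ge X.obj (b - m) (b - n) (by omega), h2⟩

lemma exists_InT (X : DerivedCategory.Bounded A) : ∃ n : ℕ, InT n X := by
  obtain ⟨⟨a, ha⟩, ⟨b, hb⟩⟩ := X.property
  exact ⟨(b - a).toNat, b, t.isGE_of_ge X.obj (b - (b - a).toNat) a (by omega), hb⟩

lemma InT_cell (M : A) (q : ℤ) (n : ℕ) : InT n (cell M q) :=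
  InT.mono (Nat.zero_le n) ⟨-q, by
    have := cell_isGE M q (-q) (by omega)
    exact t.isGE_of_ge _ (-q - (0 : ℕ)) (-q) (by omega), cell_isLE M q (-q) (by omega)⟩

/-- presentation of `X` at its top degree `b` -/
structure Pres (X : DerivedCategory.Bounded A) (b : ℤ) where
  N : A
  g : cell N (-b) ⟶ X
  Y : DerivedCategory.Bounded A
  p : X ⟶ Y
  d : Y ⟶ (cell N (-b))⟦(1 : ℤ)⟧
  dist : Triangle.mk g p d ∈ distTriang (DerivedCategory.Bounded A)
  epi : Epi ((homologyFunctor A b).map ((ιB (A := A)).map g))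
  neg : ∀ φ : X ⟶ cell N (-b), φ = 0

lemma Pres.bounds {X : DerivedCategory.Bounded A} {b : ℤ} (π : Pres X b) (a : ℤ) (hab : a ≤ b - 1)
    [t.IsGE X.obj a] [t.IsLE X.obj b] : t.IsGE π.Y.obj a ∧ t.IsLE π.Y.obj (b - 1) := by
  have hT : (ιB (A := A)).mapTriangle.obj (Triangle.mk π.g π.p π.d) ∈ distTriang _ :=
    (ιB (A := A)).map_distinguished _ π.dist
  have i1 := cell_isGE π.N (-b) b (by omega)
  have i2 := cell_isLE π.N (-b) b (by omega)
  exact @cone_bounds _ _ _ _ _ hT a b hab i1 i2 ‹_› ‹_› π.epi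

lemma Pres.InT_Y {X : DerivedCategory.Bounded A} {b : ℤ} (π : Pres X b) (n : ℕ)
    [t.IsGE X.obj (b - (n + 1 : ℕ))] [t.IsLE X.obj b] : InT n π.Y := by
  obtain ⟨h1, h2⟩ := π.bounds (b - (n + 1 : ℕ)) (by omega)
  exact ⟨b - 1, t.isGE_of_ge _ (b - 1 - n) (b - (n + 1 : ℕ)) (by push_cast; omega), h2⟩

lemma exists_pres (hneg : ∀ X : A, ∃ (N : A) (p : N ⟶ X), Epi p ∧ ∀ f : X ⟶ N, f = 0)
    (X W X' : DerivedCategory.Bounded A) (f : X ⟶ X') (b : ℤ) [t.IsLE X.obj b] [t.IsLE W.obj b]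
    [t.IsLE X'.obj (b - 1)] :
    ∃ π : Pres X b, (∀ φ : W ⟶ cell π.N (-b), φ = 0) ∧ π.g ≫ f = 0 := by
  obtain ⟨⟨aX, haX⟩, _⟩ := X.property
  obtain ⟨⟨aW, haW⟩, _⟩ := W.property
  obtain ⟨⟨a', ha'⟩, _⟩ := X'.property
  have iX : t.IsGE X.obj (min aX aW) := t.isGE_of_ge X.obj (min aX aW) aX (min_le_left _ _)
  have iW : t.IsGE W.obj (min aX aW) := t.isGE_of_ge W.obj (min aX aW) aW (min_le_right _ _)
  have i1 := isGE_biprod X.obj W.obj (min aX aW)
  have i2 := isLE_biprod X.obj W.obj b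
  obtain ⟨N, g₀, hg₀, hN, hgf⟩ := Groth.Agent.S6707.result hneg (X.obj ⊞ W.obj) X'.obj
    (biprod.fst ≫ (ιB (A := A)).map f) (min aX aW) b a'
  let eC := cellIso N (-b) b (by omega)
  -- the map to `X`
  let g : cell N (-b) ⟶ X := (ιB (A := A)).preimage (eC.hom ≫ g₀ ≫ biprod.fst)
  have hg : (ιB (A := A)).map g = eC.hom ≫ g₀ ≫ biprod.fst := Functor.map_preimage _ _
  have hfst : Epi ((homologyFunctor A b).map (biprod.fst : X.obj ⊞ W.obj ⟶ X.obj)) :=
    ⟨fun u v h => by
      have := congrArg (fun z => (homologyFunctor A b).map (biprod.inl : X.obj ⟶ X.obj ⊞ W.obj) ≫ z) h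
      simpa [← Functor.map_comp_assoc] using this⟩
  have hsnd : Epi ((homologyFunctor A b).map (biprod.snd : X.obj ⊞ W.obj ⟶ W.obj)) :=
    ⟨fun u v h => by
      have := congrArg (fun z => (homologyFunctor A b).map (biprod.inr : W.obj ⟶ X.obj ⊞ W.obj) ≫ z) h
      simpa [← Functor.map_comp_assoc] using this⟩
  have hepi : Epi ((homologyFunctor A b).map ((ιB (A := A)).map g)) := by
    rw [hg, Functor.map_comp, Functor.map_comp]
    infer_instance
  have hnegX : ∀ φ : X ⟶ cell N (-b), φ = 0 := by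
    intro φ
    apply (ιB (A := A)).map_injective
    rw [Functor.map_zero, ← cancel_mono eC.hom, zero_comp]
    apply hom_to_single_eq_zero X.obj b N
    intro ψ
    rw [← cancel_epi ((homologyFunctor A b).map (biprod.fst : X.obj ⊞ W.obj ⟶ X.obj)),
      hN ((homologyFunctor A b).map (biprod.fst : X.obj ⊞ W.obj ⟶ X.obj) ≫ ψ), comp_zero]
  have hnegW : ∀ φ : W ⟶ cell N (-b), φ = 0 := by
    intro φ
    apply (ιB (A := A)).map_injective
    rw [Functor.map_zero, ← cancel_mono eC.hom, zero_comp]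
    apply hom_to_single_eq_zero W.obj b N
    intro ψ
    rw [← cancel_epi ((homologyFunctor A b).map (biprod.snd : X.obj ⊞ W.obj ⟶ W.obj)),
      hN ((homologyFunctor A b).map (biprod.snd : X.obj ⊞ W.obj ⟶ W.obj) ≫ ψ), comp_zero]
  obtain ⟨Y, p, d, hT⟩ := distinguished_cocone_triangle g
  refine ⟨⟨N, g, Y, p, d, hT, hepi, hnegX⟩, hnegW, ?_⟩
  apply (ιB (A := A)).map_injective
  rw [Functor.map_zero, Functor.map_comp, hg]
  simp only [Category.assoc]
  rw [hgf, comp_zero]

/-- the direct sum of two presentations -/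
lemma Pres.exists_sum {X : DerivedCategory.Bounded A} {b : ℤ} (π₁ π₂ : Pres X b) :
    ∃ (π : Pres X b) (u₁ : π₁.Y ⟶ π.Y) (u₂ : π₂.Y ⟶ π.Y),
      π₁.p ≫ u₁ = π.p ∧ π₂.p ≫ u₂ = π.p := by
  let g : cell (π₁.N ⊞ π₂.N) (-b) ⟶ X :=
    (cellF (-b)).map biprod.fst ≫ π₁.g + (cellF (-b)).map biprod.snd ≫ π₂.g
  have hg1 : (cellF (-b)).map biprod.inl ≫ g = π₁.g := by
    simp only [g, Preadditive.comp_add, ← Functor.map_comp_assoc, biprod.inl_fst, biprod.inl_snd,
      CategoryTheory.Functor.map_id, Functor.map_zero, zero_comp, add_zero, Category.id_comp]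
  have hg2 : (cellF (-b)).map biprod.inr ≫ g = π₂.g := by
    simp only [g, Preadditive.comp_add, ← Functor.map_comp_assoc, biprod.inr_fst, biprod.inr_snd,
      CategoryTheory.Functor.map_id, Functor.map_zero, zero_comp, zero_add, Category.id_comp]
  have hepi : Epi ((homologyFunctor A b).map ((ιB (A := A)).map g)) := by
    have h : (homologyFunctor A b).map ((ιB (A := A)).map ((cellF (-b)).map biprod.inl)) ≫
        (homologyFunctor A b).map ((ιB (A := A)).map g) =
        (homologyFunctor A b).map ((ιB (A := A)).map π₁.g) := by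
      rw [← Functor.map_comp, ← Functor.map_comp, hg1]
    haveI := π₁.epi
    exact epi_of_epi_fac h
  have hneg : ∀ φ : X ⟶ cell (π₁.N ⊞ π₂.N) (-b), φ = 0 := by
    intro φ
    have h1 : φ ≫ (cellF (-b)).map biprod.fst = 0 := π₁.neg _
    have h2 : φ ≫ (cellF (-b)).map biprod.snd = 0 := π₂.neg _
    have h3 : φ = φ ≫ (cellF (-b)).map (biprod.fst ≫ biprod.inl + biprod.snd ≫ biprod.inr) := by
      rw [biprod.total, CategoryTheory.Functor.map_id]
      exact (Category.comp_id _).symm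
    rw [h3, Functor.map_add, Functor.map_comp, Functor.map_comp, Preadditive.comp_add,
      ← Category.assoc, ← Category.assoc, h1, h2, zero_comp, zero_comp, add_zero]
  obtain ⟨Y, p, d, hT⟩ := distinguished_cocone_triangle g
  obtain ⟨u₁, hu₁, -⟩ := complete_distinguished_triangle_morphism _ _ π₁.dist hT
    ((cellF (-b)).map biprod.inl) (𝟙 X) (by
      change π₁.g ≫ 𝟙 X = (cellF (-b)).map biprod.inl ≫ g
      rw [hg1, Category.comp_id])
  obtain ⟨u₂, hu₂, -⟩ := complete_distinguished_triangle_morphism _ _ π₂.dist hT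
    ((cellF (-b)).map biprod.inr) (𝟙 X) (by
      change π₂.g ≫ 𝟙 X = (cellF (-b)).map biprod.inr ≫ g
      rw [hg2, Category.comp_id])
  refine ⟨⟨π₁.N ⊞ π₂.N, g, Y, p, d, hT, hepi, hneg⟩, u₁, u₂, ?_, ?_⟩
  · exact hu₁.trans (Category.id_comp _)
  · exact hu₂.trans (Category.id_comp _)

end bounded

end Helper89.Orlov
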