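import Groth.Agent.Lib.Helper89.FFDev
import Groth.Agent.Lib.Helper89.DbGen

set_option autoImplicit false
set_option linter.unusedSectionVars false
universe w v v' u u'
open CategoryTheory CategoryTheory.Limits CategoryTheory.Pretriangulated

namespace Helper89.Sibling

open Helper89.FFDev Helper89.DbGen

variable {A : Type u} [Category.{v} A] [Abelian A] [HasDerivedCategory.{w} A]
  {D : Type u'} [Category.{v'} D] [Preadditive D] [HasZeroObject D] [HasShift D ℤ]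
  [∀ n : ℤ, (shiftFunctor D n).Additive] [Pretriangulated D]
  (G : DerivedCategory.Bounded A ⥤ D) [G.CommShift ℤ] [G.IsTriangulated]

local notation "i" => DEquiv.singleB A

/-- the kernel short exact sequence of an epimorphism -/
lemma kernel_shortExact {L' L : A} (p : L' ⟶ L) [Epi p] :
    (ShortComplex.mk (kernel.ι p) p (kernel.condition p)).ShortExact :=
  { exact := ShortComplex.exact_kernel p }

variable {G}

/-- the inductive step -/
lemma bij_succ (Y : A) (q : ℤ) (hq : 0 ≤ q)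
    (hc : ∀ (X : A) (φ : G.obj ((i).obj X) ⟶ G.obj (((i).obj Y)⟦q + 1⟧)),
      ∃ (X' : A) (p : X' ⟶ X), Epi p ∧ G.map ((i).map p) ≫ φ = 0)
    (ih : ∀ X : A, Bij G ((i).obj X) (((i).obj Y)⟦q⟧)) (X : A) :
    Bij G ((i).obj X) (((i).obj Y)⟦q + 1⟧) := by
  have ih' : ∀ X : A, Bij G (((i).obj X)⟦(1 : ℤ)⟧) (((i).obj Y)⟦q + 1⟧) := fun X =>
    ((ih X).shift 1).of_iso (Iso.refl _) ((shiftFunctorAdd' _ q 1 (q + 1) rfl).app _).symm
  refine ⟨(inj_iff (G := G)).2 ?_, ?_⟩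
  · intro f hf
    obtain ⟨X', p, hp, hpf⟩ := exists_epi_comp_eq_zero X Y (q + 1) (by omega) f
    obtain ⟨δ, hδ⟩ := exists_triangle (kernel_shortExact p)
    obtain ⟨g, hg⟩ : ∃ g : ((i).obj (kernel p))⟦(1 : ℤ)⟧ ⟶ ((i).obj Y)⟦q + 1⟧, f = δ ≫ g :=
      Triangle.yoneda_exact₃ _ hδ f hpf
    have hrot := rot_of_distTriang _ hδ
    have h2 : (G.mapTriangle.obj (Triangle.mk ((i).map (kernel.ι p)) ((i).map p) δ).rotate).mor₂ ≫
        G.map g = 0 := by
      change G.map δ ≫ G.map g = 0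
      rw [← G.map_comp, ← hg, hf]
    let κ1 : ((i).obj (kernel p))⟦(1 : ℤ)⟧ ⟶ ((i).obj X')⟦(1 : ℤ)⟧ := -((i).map (kernel.ι p))⟦(1 : ℤ)⟧'
    obtain ⟨h, hh⟩ : ∃ h : (G.obj ((i).obj X'))⟦(1 : ℤ)⟧ ⟶ G.obj (((i).obj Y)⟦q + 1⟧),
        G.map g = (G.map κ1 ≫ (G.commShiftIso (1 : ℤ)).hom.app ((i).obj X')) ≫ h :=
      Triangle.yoneda_exact₃ _ (G.map_distinguished _ hrot) _ h2
    have hh' : G.map g = G.map κ1 ≫ ((G.commShiftIso (1 : ℤ)).hom.app ((i).obj X') ≫ h) := by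
      rw [← Category.assoc]
      exact hh
    obtain ⟨h₀, hh₀⟩ := (ih' X').surj ((G.commShiftIso (1 : ℤ)).hom.app ((i).obj X') ≫ h)
    have hh₀' : G.map h₀ = (G.commShiftIso (1 : ℤ)).hom.app ((i).obj X') ≫ h := hh₀
    have h3 : g = κ1 ≫ h₀ := by
      apply (ih' (kernel p)).inj
      change G.map g = G.map (κ1 ≫ h₀)
      rw [G.map_comp, hh₀', hh']
    have h4 : δ ≫ κ1 = 0 := comp_distTriang_mor_zero₂₃ _ hrot
    rw [hg, h3, ← Category.assoc, h4, zero_comp]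
  · intro φ
    obtain ⟨X', p, hp, hpφ⟩ := hc X φ
    obtain ⟨δ, hδ⟩ := exists_triangle (kernel_shortExact p)
    have h2 : (G.mapTriangle.obj (Triangle.mk ((i).map (kernel.ι p)) ((i).map p) δ)).mor₂ ≫ φ = 0 :=
      hpφ
    obtain ⟨h, hh⟩ : ∃ h : (G.obj ((i).obj (kernel p)))⟦(1 : ℤ)⟧ ⟶ G.obj (((i).obj Y)⟦q + 1⟧),
        φ = (G.map δ ≫ (G.commShiftIso (1 : ℤ)).hom.app ((i).obj (kernel p))) ≫ h :=
      Triangle.yoneda_exact₃ _ (G.map_distinguished _ hδ) _ h2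
    have hh' : φ = G.map δ ≫ ((G.commShiftIso (1 : ℤ)).hom.app ((i).obj (kernel p)) ≫ h) := by
      rw [← Category.assoc]
      exact hh
    obtain ⟨h₀, hh₀⟩ := (ih' (kernel p)).surj
      ((G.commShiftIso (1 : ℤ)).hom.app ((i).obj (kernel p)) ≫ h)
    have hh₀' : G.map h₀ = (G.commShiftIso (1 : ℤ)).hom.app ((i).obj (kernel p)) ≫ h := hh₀
    refine ⟨δ ≫ h₀, ?_⟩
    change G.map (δ ≫ h₀) = φ
    rw [G.map_comp, hh₀', hh']


/-- bijectivity on all `Hom(X, Y⟦n⟧)` for `X`, `Y` in `A` -/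
lemma bij_single
    (ha : ∀ X Y : A, Bij G ((i).obj X) ((i).obj Y))
    (hb : ∀ (X Y : A) (q : ℤ), q < 0 →
      ∀ φ : G.obj ((i).obj X) ⟶ G.obj (((i).obj Y)⟦q⟧), φ = 0)
    (hc : ∀ (X Y : A) (q : ℤ), 0 < q → ∀ φ : G.obj ((i).obj X) ⟶ G.obj (((i).obj Y)⟦q⟧),
      ∃ (X' : A) (p : X' ⟶ X), Epi p ∧ G.map ((i).map p) ≫ φ = 0)
    (X Y : A) (n : ℤ) : Bij G ((i).obj X) (((i).obj Y)⟦n⟧) := by
  by_cases hn : n < 0
  · constructor
    · intro f f' _
      rw [eq_zero_of_neg X Y n hn f, eq_zero_of_neg X Y n hn f']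
    · intro φ
      refine ⟨0, ?_⟩
      change G.map 0 = φ
      rw [G.map_zero, hb X Y n hn φ]
  · have key : ∀ (q : ℕ) (X : A), Bij G ((i).obj X) (((i).obj Y)⟦(q : ℤ)⟧) := by
      intro q
      induction q with
      | zero =>
        intro X
        exact (ha X Y).of_iso (Iso.refl _) ((shiftFunctorZero _ ℤ).app ((i).obj Y)).symm
      | succ q ih =>
        intro X
        have := bij_succ Y (q : ℤ) (by omega) (fun X φ => hc X Y _ (by omega) φ) ih X
        rwa [Nat.cast_succ]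
    obtain ⟨q, rfl⟩ : ∃ q : ℕ, n = q := ⟨n.toNat, by omega⟩
    exact key q X

/-- the criterion for full faithfulness -/
theorem bij_all
    (ha : ∀ X Y : A, Bij G ((i).obj X) ((i).obj Y))
    (hb : ∀ (X Y : A) (q : ℤ), q < 0 →
      ∀ φ : G.obj ((i).obj X) ⟶ G.obj (((i).obj Y)⟦q⟧), φ = 0)
    (hc : ∀ (X Y : A) (q : ℤ), 0 < q → ∀ φ : G.obj ((i).obj X) ⟶ G.obj (((i).obj Y)⟦q⟧),
      ∃ (X' : A) (p : X' ⟶ X), Epi p ∧ G.map ((i).map p) ≫ φ = 0)
    (K L : DerivedCategory.Bounded A) : Bij G K L := by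
  have h1 := bij_single ha hb hc
  have h2 : ∀ (X : A) (m : ℤ) (L : DerivedCategory.Bounded A), PK G (((i).obj X)⟦m⟧) L := by
    intro X m
    apply DbGen.induction
    · intro L L' e h
      exact PK_iso e h
    · intro L n h
      exact PK_shift h n
    · intro Z hZ
      exact PK_zero _ hZ
    · intro Tr hT h1 h3
      exact PK_ext Tr hT h1 h3
    · intro Y n
      exact ((h1 X Y (n - m)).shift m).of_iso (Iso.refl _)
        ((shiftFunctorAdd' _ (n - m) m n (by omega)).app _).symm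
  have h3 : ∀ (L K : DerivedCategory.Bounded A), QL G L K := by
    intro L
    apply DbGen.induction
    · intro K K' e h
      exact QL_iso e h
    · intro K n h
      exact QL_shift h n
    · intro Z hZ
      exact QL_zero _ hZ
    · intro Tr hT h1 h3
      exact QL_ext Tr hT h1 h3
    · intro X n
      exact (h2 X n L 0).of_iso (Iso.refl _) ((shiftFunctorZero _ ℤ).app L)
  exact (h3 L K 0).of_iso ((shiftFunctorZero _ ℤ).app K) (Iso.refl _)

theorem full_faithful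
    (ha : ∀ X Y : A, Bij G ((i).obj X) ((i).obj Y))
    (hb : ∀ (X Y : A) (q : ℤ), q < 0 →
      ∀ φ : G.obj ((i).obj X) ⟶ G.obj (((i).obj Y)⟦q⟧), φ = 0)
    (hc : ∀ (X Y : A) (q : ℤ), 0 < q → ∀ φ : G.obj ((i).obj X) ⟶ G.obj (((i).obj Y)⟦q⟧),
      ∃ (X' : A) (p : X' ⟶ X), Epi p ∧ G.map ((i).map p) ≫ φ = 0) :
    G.Full ∧ G.Faithful :=
  ⟨⟨fun {K L} => (bij_all ha hb hc K L).2⟩, ⟨fun {K L} => (bij_all ha hb hc K L).1⟩⟩


lemma singleB_map_surjective (X Y : A) (g : (i).obj X ⟶ (i).obj Y) : ∃ f : X ⟶ Y, (i).map f = g := by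
  obtain ⟨f, hf⟩ := (DerivedCategory.singleFunctor A 0).map_surjective ((ιB (A := A)).map g)
  refine ⟨f, ?_⟩
  apply (ιB (A := A)).map_injective
  exact hf

/-- a sibling of a fully faithful functor is fully faithful -/
theorem sibling_full_faithful
    (F F' : DerivedCategory.Bounded A ⥤ D) [F.CommShift ℤ] [F.IsTriangulated]
    [F'.CommShift ℤ] [F'.IsTriangulated]
    (h1 : Nonempty (DEquiv.singleB A ⋙ F ≅ DEquiv.singleB A ⋙ F'))
    (h2 : ∀ K : DerivedCategory.Bounded A, Nonempty (F.obj K ≅ F'.obj K))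
    [F.Full] [F.Faithful] : F'.Full ∧ F'.Faithful := by
  obtain ⟨α⟩ := h1
  have hnat : ∀ {X Y : A} (f : X ⟶ Y), F'.map ((i).map f) =
      α.inv.app X ≫ F.map ((i).map f) ≫ α.hom.app Y := by
    intro X Y f
    have := α.hom.naturality f
    dsimp at this
    rw [this, Iso.inv_hom_id_app_assoc]
  apply full_faithful
  · intro X Y
    constructor
    · intro g g' hgg'
      obtain ⟨f, rfl⟩ := singleB_map_surjective X Y g
      obtain ⟨f', rfl⟩ := singleB_map_surjective X Y g'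
      have h3 : F'.map ((i).map f) = F'.map ((i).map f') := hgg'
      rw [hnat, hnat, cancel_epi, cancel_mono] at h3
      exact F.map_injective h3
    · intro φ
      obtain ⟨g, hg⟩ := F.map_surjective (α.hom.app X ≫ φ ≫ α.inv.app Y)
      obtain ⟨f, rfl⟩ := singleB_map_surjective X Y g
      refine ⟨(i).map f, ?_⟩
      change F'.map ((i).map f) = φ
      rw [hnat, hg]
      simp
  · intro X Y q hq φ
    obtain ⟨e1⟩ := h2 ((i).obj X)
    obtain ⟨e2⟩ := h2 (((i).obj Y)⟦q⟧)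
    obtain ⟨g, hg⟩ := F.map_surjective (e1.hom ≫ φ ≫ e2.inv)
    rw [eq_zero_of_neg X Y q hq g, F.map_zero] at hg
    have : e1.inv ≫ (e1.hom ≫ φ ≫ e2.inv) ≫ e2.hom = φ := by simp
    rw [← this, ← hg, zero_comp, comp_zero]
  · intro X Y q hq φ
    obtain ⟨e2⟩ := h2 (((i).obj Y)⟦q⟧)
    obtain ⟨g, hg⟩ := F.map_surjective (α.hom.app X ≫ φ ≫ e2.inv)
    obtain ⟨X', p, hp, hpg⟩ := exists_epi_comp_eq_zero X Y q (by omega) g
    refine ⟨X', p, hp, ?_⟩
    have hφ : φ = α.inv.app X ≫ F.map g ≫ e2.hom := by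
      rw [hg]
      simp
    rw [hφ, hnat]
    simp only [Category.assoc, Iso.hom_inv_id_app_assoc]
    rw [← F.map_comp_assoc, hpg, F.map_zero, zero_comp, comp_zero]

end Helper89.Sibling
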