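import Mathlib
import Groth.Agent.Lib.Helper89.OrlovBase
import Groth.Agent.Lib.Helper89.Sibling

/-!
# Orlov-type uniqueness of siblings: the comparison maps on cells
-/

set_option autoImplicit false
set_option linter.unusedSectionVars false
universe w v u v' u'
open CategoryTheory CategoryTheory.Limits CategoryTheory.Pretriangulated ZeroObject

namespace Helper89.Orlov

open DerivedCategory DerivedCategory.TStructure Helper89.DbGen

variable {A : Type u} [Category.{v} A] [Abelian A] [HasDerivedCategory.{w} A]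
  {D : Type u'} [Category.{v'} D] [Preadditive D] [HasZeroObject D] [HasShift D ℤ]
  [∀ n : ℤ, (shiftFunctor D n).Additive] [Pretriangulated D] [IsTriangulated D]
  (F F' : DerivedCategory.Bounded A ⥤ D) [F.CommShift ℤ] [F.IsTriangulated]
  [F'.CommShift ℤ] [F'.IsTriangulated]
  (τ : DEquiv.singleB A ⋙ F ≅ DEquiv.singleB A ⋙ F')

/-- the canonical comparison map on cells -/
noncomputable def cc (M : A) (q : ℤ) : F.obj (cell M q) ⟶ F'.obj (cell M q) :=
  (F.commShiftIso q).hom.app ((DEquiv.singleB A).obj M) ≫ (τ.hom.app M)⟦q⟧' ≫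
    (F'.commShiftIso q).inv.app ((DEquiv.singleB A).obj M)

instance (M : A) (q : ℤ) : IsIso (cc F F' τ M q) := by
  unfold cc
  infer_instance

/-- shifting a comparison map -/
noncomputable def c1 {Z : DerivedCategory.Bounded A} (z : F.obj Z ⟶ F'.obj Z) :
    F.obj (Z⟦(1 : ℤ)⟧) ⟶ F'.obj (Z⟦(1 : ℤ)⟧) :=
  (F.commShiftIso (1 : ℤ)).hom.app Z ≫ z⟦(1 : ℤ)⟧' ≫ (F'.commShiftIso (1 : ℤ)).inv.app Z

lemma c1_conj {Z Z' : DerivedCategory.Bounded A} (φ : Z' ⟶ Z) (ψ : Z ⟶ Z')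
    (z : F.obj Z ⟶ F'.obj Z) :
    c1 F F' (F.map φ ≫ z ≫ F'.map ψ) = F.map (φ⟦(1 : ℤ)⟧') ≫ c1 F F' z ≫ F'.map (ψ⟦(1 : ℤ)⟧') := by
  have n1 := (F.commShiftIso (1 : ℤ)).hom.naturality φ
  have n2 := (F'.commShiftIso (1 : ℤ)).inv.naturality ψ
  dsimp at n1 n2
  simp only [c1, Functor.map_comp, Category.assoc]
  rw [reassoc_of% n1, n2]

/-- compatibility of the comparison maps on cells with the shift -/
lemma cc_shift (M : A) (q q' : ℤ) (h : q + 1 = q') :
    F.map ((shiftFunctorAdd' (DerivedCategory.Bounded A) q 1 q' h).inv.app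
      ((DEquiv.singleB A).obj M)) ≫ cc F F' τ M q' =
    c1 F F' (cc F F' τ M q) ≫
      F'.map ((shiftFunctorAdd' (DerivedCategory.Bounded A) q 1 q' h).inv.app
        ((DEquiv.singleB A).obj M)) := by
  have n1 := (shiftFunctorAdd' D q 1 q' h).inv.naturality (τ.hom.app M)
  dsimp at n1
  simp only [cc, c1, F.commShiftIso_add' h, F'.commShiftIso_add' h,
    Functor.CommShift.isoAdd'_hom_app, Functor.CommShift.isoAdd'_inv_app, Functor.map_comp,
    Category.assoc]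
  rw [← F.map_comp_assoc, Iso.inv_hom_id_app, CategoryTheory.Functor.map_id, Category.id_comp,
    reassoc_of% n1.symm, Iso.inv_hom_id_app_assoc]

lemma cc_natural_same (M M' : A) (q : ℤ) (f : cell M q ⟶ cell M' q) :
    F.map f ≫ cc F F' τ M' q = cc F F' τ M q ≫ F'.map f := by
  obtain ⟨f₀, hf₀⟩ := Helper89.PostnikovDb.singleB_full
    ((shiftFunctor (DerivedCategory.Bounded A) q).preimage f)
  have hf : f = ((DEquiv.singleB A).map f₀)⟦q⟧' := by rw [hf₀, Functor.map_preimage]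
  subst hf
  have n1 := (F.commShiftIso q).hom.naturality ((DEquiv.singleB A).map f₀)
  have n2 := (F'.commShiftIso q).inv.naturality ((DEquiv.singleB A).map f₀)
  have n3 := τ.hom.naturality f₀
  dsimp at n1 n2 n3
  simp only [cc, Category.assoc]
  rw [reassoc_of% n1, ← n2, ← Functor.map_comp_assoc, n3, Functor.map_comp_assoc]

/-- effaceability of maps between cells -/
lemma cell_efface (hneg : ∀ X : A, ∃ (N : A) (p : N ⟶ X), Epi p ∧ ∀ f : X ⟶ N, f = 0)
    (M M' : A) (b q' : ℤ) (h : -b < q') (f : cell M (-b) ⟶ cell M' q') :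
    ∃ (N : A) (e : N ⟶ M), Epi e ∧ (cellF (-b)).map e ≫ f = 0 := by
  haveI : t.IsLE (cell M (-b)).obj b := cell_isLE M (-b) b (by omega)
  haveI : t.IsLE (cell M' q').obj (b - 1) := by
    haveI := cell_isLE M' q' (-q') (by omega)
    exact t.isLE_of_le _ (-q') (b - 1) (by omega)
  obtain ⟨π, -, hπ⟩ := exists_pres hneg (cell M (-b)) (cell M (-b)) (cell M' q') f b
  obtain ⟨e, he⟩ := Helper89.PostnikovDb.singleB_full
    ((shiftFunctor (DerivedCategory.Bounded A) (-b)).preimage π.g)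
  have hg : (cellF (-b)).map e = π.g := by
    change ((DEquiv.singleB A).map e)⟦-b⟧' = π.g
    rw [he, Functor.map_preimage]
  refine ⟨π.N, e, ?_, (congrArg (· ≫ f) hg).trans hπ⟩
  have hepi := π.epi
  rw [← hg] at hepi
  have nat := cellIso_hom_naturality e (-b) b (by omega)
  have h3 : (homologyFunctor A b).map ((ιB (A := A)).map ((cellF (-b)).map e)) ≫
      (homologyFunctor A b).map (cellIso M (-b) b (by omega)).hom =
      (homologyFunctor A b).map (cellIso π.N (-b) b (by omega)).hom ≫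
        (homologyFunctor A b).map ((singleFunctor A b).map e) := by
    rw [← Functor.map_comp, ← Functor.map_comp, nat]
  haveI : Epi ((homologyFunctor A b).map (cellIso π.N (-b) b (by omega)).hom ≫
        (homologyFunctor A b).map ((singleFunctor A b).map e)) := by
    rw [← h3]
    infer_instance
  have h1 : Epi ((homologyFunctor A b).map ((singleFunctor A b).map e)) :=
    epi_of_epi ((homologyFunctor A b).map (cellIso π.N (-b) b _).hom) _
  have n4 := (singleFunctorCompHomologyFunctorIso A b).hom.naturality e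
  dsimp at n4
  have h5 : e = (singleFunctorCompHomologyFunctorIso A b).inv.app π.N ≫
      (homologyFunctor A b).map ((singleFunctor A b).map e) ≫
        (singleFunctorCompHomologyFunctorIso A b).hom.app M := by
    rw [n4, Iso.inv_hom_id_app_assoc]
  rw [h5]
  infer_instance

section transfer

variable (h2 : ∀ K : DerivedCategory.Bounded A, Nonempty (F.obj K ≅ F'.obj K)) [F.Full]

include h2 in
/-- transfer of the vanishing of morphisms -/
lemma transfer {X Z : DerivedCategory.Bounded A} (h : ∀ φ : X ⟶ Z, φ = 0)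
    (ψ : F.obj X ⟶ F'.obj Z) : ψ = 0 := by
  obtain ⟨j⟩ := h2 Z
  rw [← cancel_mono j.inv, zero_comp]
  obtain ⟨φ, hφ⟩ := F.map_surjective (ψ ≫ j.inv)
  rw [← hφ, h φ, Functor.map_zero]

include h2 in
/-- if the first two squares of a morphism of triangles commute and there are no maps from the
shift of the first object to the third, the third square commutes -/
lemma third_square (Δ : Triangle (DerivedCategory.Bounded A)) (hΔ : Δ ∈ distTriang _)
    (a₁ : F.obj Δ.obj₁ ⟶ F'.obj Δ.obj₁) (a₂ : F.obj Δ.obj₂ ⟶ F'.obj Δ.obj₂)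
    (a₃ : F.obj Δ.obj₃ ⟶ F'.obj Δ.obj₃)
    (s₁ : F.map Δ.mor₁ ≫ a₂ = a₁ ≫ F'.map Δ.mor₁) (s₂ : F.map Δ.mor₂ ≫ a₃ = a₂ ≫ F'.map Δ.mor₂)
    (hz : ∀ φ : Δ.obj₁⟦(1 : ℤ)⟧ ⟶ Δ.obj₃, φ = 0) :
    F.map Δ.mor₃ ≫ c1 F F' a₁ = a₃ ≫ F'.map Δ.mor₃ := by
  have hF := F.map_distinguished _ hΔ
  have hF' := F'.map_distinguished _ hΔ
  obtain ⟨γ, hγ₁, hγ₂⟩ : ∃ γ : F.obj Δ.obj₃ ⟶ F'.obj Δ.obj₃,
      F.map Δ.mor₂ ≫ γ = a₂ ≫ F'.map Δ.mor₂ ∧
      (F.map Δ.mor₃ ≫ (F.commShiftIso (1 : ℤ)).hom.app Δ.obj₁) ≫ a₁⟦(1 : ℤ)⟧' =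
        γ ≫ F'.map Δ.mor₃ ≫ (F'.commShiftIso (1 : ℤ)).hom.app Δ.obj₁ :=
    complete_distinguished_triangle_morphism _ _ hF hF' a₁ a₂ s₁
  have h0 : F.map Δ.mor₂ ≫ (γ - a₃) = 0 := by
    rw [Preadditive.comp_sub, hγ₁, s₂, sub_self]
  obtain ⟨θ, hθ⟩ : ∃ θ : (F.obj Δ.obj₁)⟦(1 : ℤ)⟧ ⟶ F'.obj Δ.obj₃,
      γ - a₃ = (F.map Δ.mor₃ ≫ (F.commShiftIso (1 : ℤ)).hom.app Δ.obj₁) ≫ θ :=
    Triangle.yoneda_exact₃ _ hF (γ - a₃) h0
  have hθ0 : (F.commShiftIso (1 : ℤ)).hom.app Δ.obj₁ ≫ θ = 0 := transfer F F' h2 hz _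
  have hγ : γ = a₃ := by
    rw [← sub_eq_zero, hθ, Category.assoc, hθ0, comp_zero]
  subst hγ
  simp only [c1, ← Category.assoc]
  rw [hγ₂]
  simp only [Category.assoc, Iso.hom_inv_id_app]
  erw [Category.comp_id]

include h2 in
/-- the inductive step for the naturality of the comparison maps on cells -/
lemma cc_step (K N M M' : A) (q q' : ℤ) (m₁ : cell K q ⟶ cell N q) (m₂ : cell N q ⟶ cell M q)
    (m₃ : cell M q ⟶ (cell K q)⟦(1 : ℤ)⟧)
    (hΔ : Triangle.mk m₁ m₂ m₃ ∈ distTriang (DerivedCategory.Bounded A))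
    (f : cell M q ⟶ cell M' q') (hf : m₂ ≫ f = 0)
    (s₁ : F.map m₁ ≫ cc F F' τ N q = cc F F' τ K q ≫ F'.map m₁)
    (s₂ : F.map m₂ ≫ cc F F' τ M q = cc F F' τ N q ≫ F'.map m₂)
    (s₅ : ∀ f'' : cell K (q + 1) ⟶ cell M' q',
      F.map f'' ≫ cc F F' τ M' q' = cc F F' τ K (q + 1) ≫ F'.map f'') :
    F.map f ≫ cc F F' τ M' q' = cc F F' τ M q ≫ F'.map f := by
  obtain ⟨f', hf'⟩ : ∃ f' : (cell K q)⟦(1 : ℤ)⟧ ⟶ cell M' q', f = m₃ ≫ f' :=
    Triangle.yoneda_exact₃ _ hΔ f hf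
  let ε := (shiftFunctorAdd' (DerivedCategory.Bounded A) q 1 (q + 1) rfl).app
    ((DEquiv.singleB A).obj K)
  have hz : ∀ φ : (cell K q)⟦(1 : ℤ)⟧ ⟶ cell M q, φ = 0 := by
    intro φ
    rw [← cancel_epi ε.hom, comp_zero]
    exact cell_hom_eq_zero K M (q + 1) q (by omega) _
  have s₃ : F.map m₃ ≫ c1 F F' (cc F F' τ K q) = cc F F' τ M q ≫ F'.map m₃ :=
    third_square F F' h2 _ hΔ _ _ _ s₁ s₂ hz
  have s₄ : F.map ε.inv ≫ cc F F' τ K (q + 1) = c1 F F' (cc F F' τ K q) ≫ F'.map ε.inv :=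
    cc_shift F F' τ K q (q + 1) rfl
  obtain ⟨f'', hf''⟩ : ∃ f'' : cell K (q + 1) ⟶ cell M' q', f = m₃ ≫ ε.inv ≫ f'' :=
    ⟨ε.hom ≫ f', by rw [Iso.inv_hom_id_assoc]; exact hf'⟩
  rw [hf'', F.map_comp, F.map_comp, F'.map_comp, F'.map_comp, Category.assoc, Category.assoc,
    s₅ f'', reassoc_of% s₄, reassoc_of% s₃]

include h2 in
/-- naturality of the comparison maps for all maps between cells -/
theorem cc_natural_aux (hneg : ∀ X : A, ∃ (N : A) (p : N ⟶ X), Epi p ∧ ∀ f : X ⟶ N, f = 0) :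
    ∀ (k : ℕ) (M M' : A) (q q' : ℤ), q' - q ≤ k → ∀ (f : cell M q ⟶ cell M' q'),
      F.map f ≫ cc F F' τ M' q' = cc F F' τ M q ≫ F'.map f := by
  intro k
  induction k with
  | zero =>
    intro M M' q q' hk f
    rcases lt_or_eq_of_le (show q' ≤ q by omega) with h | h
    · rw [cell_hom_eq_zero M M' q q' h f, Functor.map_zero, Functor.map_zero, zero_comp,
        comp_zero]
    · subst h
      exact cc_natural_same F F' τ M M' q' f
  | succ k ih =>
    intro M M' q q' hk f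
    by_cases hk' : q' - q ≤ k
    · exact ih M M' q q' hk' f
    · obtain ⟨b, rfl⟩ : ∃ b, q = -b := ⟨-q, by omega⟩
      obtain ⟨N, e, he, hef⟩ := cell_efface hneg M M' b q' (by omega) f
      have hS : (ShortComplex.mk (kernel.ι e) e (kernel.condition e)).ShortExact :=
        Helper89.Sibling.kernel_shortExact e
      obtain ⟨δ, hδ⟩ := Helper89.DbGen.exists_triangle hS
      have hΔ := Triangle.shift_distinguished _ hδ (-b)
      refine cc_step F F' τ h2 (kernel e) N M M' (-b) q'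
        ((-b).negOnePow • ((DEquiv.singleB A).map (kernel.ι e))⟦-b⟧')
        ((-b).negOnePow • ((DEquiv.singleB A).map e)⟦-b⟧') _ hΔ f ?_ ?_ ?_ ?_
      · rw [Linear.units_smul_comp]
        erw [hef]
        rw [smul_zero]
      · exact ih _ _ _ _ (by omega) _
      · exact ih _ _ _ _ (by omega) _
      · intro f''
        exact ih _ _ _ _ (by omega) _

include h2 in
theorem cc_natural (hneg : ∀ X : A, ∃ (N : A) (p : N ⟶ X), Epi p ∧ ∀ f : X ⟶ N, f = 0)
    {M M' : A} {q q' : ℤ} (f : cell M q ⟶ cell M' q') :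
    F.map f ≫ cc F F' τ M' q' = cc F F' τ M q ≫ F'.map f :=
  cc_natural_aux F F' τ h2 hneg (q' - q).toNat M M' q q' (by omega) f

/-- systems of comparison maps on the objects of amplitude at most `n` -/
structure IsSys (n : ℕ) (c : ∀ X : DerivedCategory.Bounded A, F.obj X ⟶ F'.obj X) : Prop where
  iso : ∀ X, InT n X → IsIso (c X)
  nat : ∀ (X X' : DerivedCategory.Bounded A) (f : X ⟶ X'), InT n X → InT n X' →
    F.map f ≫ c X' = c X ≫ F'.map f
  on_cell : ∀ M q, c (cell M q) = cc F F' τ M q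
  on_shift : ∀ M q, c ((cell M q)⟦(1 : ℤ)⟧) = c1 F F' (cc F F' τ M q)

include h2 in
theorem exists_sys_zero (hneg : ∀ X : A, ∃ (N : A) (p : N ⟶ X), Epi p ∧ ∀ f : X ⟶ N, f = 0) :
    ∃ c, IsSys F F' τ 0 c := by
  classical
  let P : DerivedCategory.Bounded A → Prop := fun X => ∃ (M : A) (q : ℤ), Nonempty (X ≅ cell M q)
  let c : ∀ X : DerivedCategory.Bounded A, F.obj X ⟶ F'.obj X := fun X =>
    if h : P X then F.map h.choose_spec.choose_spec.some.hom ≫
      cc F F' τ h.choose h.choose_spec.choose ≫ F'.map h.choose_spec.choose_spec.some.inv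
    else (h2 X).some.hom
  have key : ∀ (X : DerivedCategory.Bounded A) (M : A) (q : ℤ) (φ : X ≅ cell M q),
      c X = F.map φ.hom ≫ cc F F' τ M q ≫ F'.map φ.inv := by
    intro X M q φ
    have h : P X := ⟨M, q, ⟨φ⟩⟩
    simp only [c, dif_pos h]
    generalize h.choose_spec.choose_spec.some = φ₀
    generalize h.choose_spec.choose = q₀ at φ₀
    generalize h.choose = M₀ at φ₀
    have nat := cc_natural F F' τ h2 hneg (φ₀.inv ≫ φ.hom)
    have e1 : F.map φ.hom = F.map φ₀.hom ≫ F.map (φ₀.inv ≫ φ.hom) := by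
      rw [← F.map_comp, Iso.hom_inv_id_assoc]
    have e2 : F'.map φ₀.inv = F'.map (φ₀.inv ≫ φ.hom) ≫ F'.map φ.inv := by
      rw [← F'.map_comp, Category.assoc, Iso.hom_inv_id, Category.comp_id]
    rw [e1, e2, Category.assoc, reassoc_of% nat]
  have hcell : ∀ (X : DerivedCategory.Bounded A), InT 0 X →
      ∃ (M : A) (q : ℤ), Nonempty (X ≅ cell M q) := by
    rintro X ⟨b, h1, h2⟩
    haveI : t.IsGE X.obj b := t.isGE_of_ge X.obj b (b - (0 : ℕ)) (by simp)
    obtain ⟨M, hM⟩ := exists_iso_cell X b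
    exact ⟨M, -b, hM⟩
  refine ⟨c, ⟨?_, ?_, ?_, ?_⟩⟩
  · intro X hX
    obtain ⟨M, q, ⟨φ⟩⟩ := hcell X hX
    rw [key X M q φ]
    infer_instance
  · intro X X' f hX hX'
    obtain ⟨M, q, ⟨φ⟩⟩ := hcell X hX
    obtain ⟨M', q', ⟨φ'⟩⟩ := hcell X' hX'
    rw [key X M q φ, key X' M' q' φ']
    have nat := cc_natural F F' τ h2 hneg (φ.inv ≫ f ≫ φ'.hom)
    have e1 : F.map f ≫ F.map φ'.hom = F.map φ.hom ≫ F.map (φ.inv ≫ f ≫ φ'.hom) := by
      rw [← F.map_comp, ← F.map_comp, Iso.hom_inv_id_assoc]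
    have e2 : F'.map φ.inv ≫ F'.map f = F'.map (φ.inv ≫ f ≫ φ'.hom) ≫ F'.map φ'.inv := by
      rw [← F'.map_comp, ← F'.map_comp, Category.assoc, Category.assoc, Iso.hom_inv_id,
        Category.comp_id]
    rw [reassoc_of% e1, reassoc_of% nat, Category.assoc, Category.assoc, e2]
  · intro M q
    rw [key _ M q (Iso.refl _)]
    simp
  · intro M q
    let ε := (shiftFunctorAdd' (DerivedCategory.Bounded A) q 1 (q + 1) rfl).app
      ((DEquiv.singleB A).obj M)
    have s₄ : F.map ε.inv ≫ cc F F' τ M (q + 1) = c1 F F' (cc F F' τ M q) ≫ F'.map ε.inv :=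
      cc_shift F F' τ M q (q + 1) rfl
    refine (key ((cell M q)⟦(1 : ℤ)⟧) M (q + 1) ε.symm).trans ?_
    change F.map ε.inv ≫ cc F F' τ M (q + 1) ≫ F'.map ε.hom = _
    rw [reassoc_of% s₄, ← F'.map_comp, Iso.inv_hom_id, CategoryTheory.Functor.map_id,
      Category.comp_id]

end transfer

end Helper89.Orlov
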