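import Mathlib
import Groth.Agent.Lib.Helper89.OrlovCell

/-!
# Orlov-type uniqueness of siblings: the induction step on the amplitude
-/

set_option autoImplicit false
set_option linter.unusedSectionVars false
set_option linter.style.haveILetI false
universe w v u v' u'
open CategoryTheory CategoryTheory.Limits CategoryTheory.Pretriangulated ZeroObject

namespace Helper89.Orlov

open DerivedCategory DerivedCategory.TStructure Helper89.DbGen

variable {A : Type u} [Category.{v} A] [Abelian A] [HasDerivedCategory.{w} A]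

section pres

lemma InT.of_iso {n : ℕ} {X Y : DerivedCategory.Bounded A} (e : X ≅ Y) (h : InT n X) :
    InT n Y := by
  obtain ⟨b, h1, h2⟩ := h
  haveI : t.IsGE ((ιB (A := A)).obj X) (b - n) := h1
  haveI : t.IsLE ((ιB (A := A)).obj X) b := h2
  exact ⟨b, t.isGE_of_iso ((ιB (A := A)).mapIso e) _, t.isLE_of_iso ((ιB (A := A)).mapIso e) _⟩

lemma InT_cell_shift (M : A) (q : ℤ) (n : ℕ) : InT n ((cell M q)⟦(1 : ℤ)⟧) :=
  InT.of_iso ((shiftFunctorAdd' (DerivedCategory.Bounded A) q 1 (q + 1) rfl).app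
    ((DEquiv.singleB A).obj M)) (InT_cell M (q + 1) n)

variable (hneg : ∀ X : A, ∃ (N : A) (p : N ⟶ X), Epi p ∧ ∀ f : X ⟶ N, f = 0)

include hneg in
lemma exists_pres_adapted (X W : DerivedCategory.Bounded A) (b : ℤ) (hX : t.IsLE X.obj b)
    (hW : t.IsLE W.obj b) : ∃ π : Pres X b, ∀ φ : W ⟶ cell π.N (-b), φ = 0 := by
  haveI : t.IsLE (0 : DerivedCategory.Bounded A).obj (b - 1) :=
    t.isLE_of_isZero ((ιB (A := A)).map_isZero (isZero_zero _)) _
  obtain ⟨π, h, -⟩ := exists_pres hneg X W 0 0 b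
  exact ⟨π, h⟩

include hneg in
lemma exists_pres_fac {X V : DerivedCategory.Bounded A} (f : X ⟶ V) (b : ℤ) (hX : t.IsLE X.obj b)
    (hV : t.IsLE V.obj (b - 1)) : ∃ (π : Pres X b) (h' : π.Y ⟶ V), f = π.p ≫ h' := by
  obtain ⟨π, -, hπ⟩ := exists_pres hneg X X V f b
  obtain ⟨h', hh'⟩ := Triangle.yoneda_exact₂ _ π.dist f hπ
  exact ⟨π, h', hh'⟩

/-- bounds for the cone of a presentation -/
lemma pres_bounds {X : DerivedCategory.Bounded A} {b : ℤ} (π : Pres X b) (n : ℕ)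
    (hG : t.IsGE X.obj (b - 1 - n)) (hL : t.IsLE X.obj b) :
    t.IsGE π.Y.obj (b - 1 - n) ∧ t.IsLE π.Y.obj (b - 1) :=
  π.bounds (b - 1 - n) (by omega)

lemma pres_InT {X : DerivedCategory.Bounded A} {b : ℤ} (π : Pres X b) (n : ℕ)
    (hG : t.IsGE X.obj (b - 1 - n)) (hL : t.IsLE X.obj b) : InT n π.Y :=
  ⟨b - 1, (pres_bounds π n hG hL).1, (pres_bounds π n hG hL).2⟩

end pres

variable {D : Type u'} [Category.{v'} D] [Preadditive D] [HasZeroObject D] [HasShift D ℤ]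
  [∀ n : ℤ, (shiftFunctor D n).Additive] [Pretriangulated D] [IsTriangulated D]
  (F F' : DerivedCategory.Bounded A ⥤ D) [F.CommShift ℤ] [F.IsTriangulated]
  [F'.CommShift ℤ] [F'.IsTriangulated]
  (τ : DEquiv.singleB A ⋙ F ≅ DEquiv.singleB A ⋙ F')
  (h2 : ∀ K : DerivedCategory.Bounded A, Nonempty (F.obj K ≅ F'.obj K)) [F.Full]

include h2 in
/-- maps to `F' V` are detected on the cone of a presentation of `V` -/
lemma kill_eq {V : DerivedCategory.Bounded A} {b' : ℤ} (π' : Pres V b')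
    {W : DerivedCategory.Bounded A} (hW : ∀ φ : W ⟶ cell π'.N (-b'), φ = 0)
    (x x' : F.obj W ⟶ F'.obj V) (h : x ≫ F'.map π'.p = x' ≫ F'.map π'.p) : x = x' := by
  have hF' := F'.map_distinguished _ π'.dist
  have h0 : (x - x') ≫ F'.map π'.p = 0 := by rw [Preadditive.sub_comp, h, sub_self]
  obtain ⟨θ, hθ⟩ : ∃ θ : F.obj W ⟶ F'.obj (cell π'.N (-b')), x - x' = θ ≫ F'.map π'.g :=
    Triangle.coyoneda_exact₂ _ hF' (x - x') h0
  rw [← sub_eq_zero, hθ, transfer F F' h2 hW θ, zero_comp]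

variable (n : ℕ) (c : ∀ X : DerivedCategory.Bounded A, F.obj X ⟶ F'.obj X)

/-- existence of a comparison map compatible with a presentation -/
lemma exists_compat (hc : IsSys F F' τ n c) {X : DerivedCategory.Bounded A} {b : ℤ} (π : Pres X b)
    (hY : InT n π.Y) :
    ∃ x : F.obj X ⟶ F'.obj X, IsIso x ∧ x ≫ F'.map π.p = F.map π.p ≫ c π.Y := by
  have hF := F.map_distinguished _ π.dist
  have hF' := F'.map_distinguished _ π.dist
  have hnat := hc.nat _ _ π.d hY (InT_cell_shift π.N (-b) n)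
  rw [hc.on_shift] at hnat
  have comm : (F.map π.d ≫ (F.commShiftIso (1 : ℤ)).hom.app _) ≫
      (cc F F' τ π.N (-b))⟦(1 : ℤ)⟧' =
      c π.Y ≫ F'.map π.d ≫ (F'.commShiftIso (1 : ℤ)).hom.app _ := by
    rw [← reassoc_of% hnat]
    simp only [c1, Category.assoc, Iso.inv_hom_id_app]
    erw [Category.comp_id]
  obtain ⟨x, hx₁, hx₂⟩ : ∃ x : F.obj X ⟶ F'.obj X,
      F.map π.g ≫ x = cc F F' τ π.N (-b) ≫ F'.map π.g ∧
      F.map π.p ≫ c π.Y = x ≫ F'.map π.p :=
    complete_distinguished_triangle_morphism₂ _ _ hF hF' (cc F F' τ π.N (-b)) (c π.Y) comm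
  refine ⟨x, ?_, hx₂.symm⟩
  let φ : F.mapTriangle.obj (Triangle.mk π.g π.p π.d) ⟶
      F'.mapTriangle.obj (Triangle.mk π.g π.p π.d) :=
    { hom₁ := cc F F' τ π.N (-b)
      hom₂ := x
      hom₃ := c π.Y
      comm₁ := hx₁
      comm₂ := hx₂
      comm₃ := comm }
  haveI := hc.iso _ hY
  exact isIso₂_of_isIso₁₃ φ hF hF' (inferInstanceAs (IsIso (cc F F' τ π.N (-b))))
    (inferInstanceAs (IsIso (c π.Y)))

/-- compatibility passes to a larger presentation -/
lemma compat_of_le (hc : IsSys F F' τ n c) {X : DerivedCategory.Bounded A} {b : ℤ}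
    (π₁ π : Pres X b) (u₁ : π₁.Y ⟶ π.Y) (hu : π₁.p ≫ u₁ = π.p) (hY₁ : InT n π₁.Y)
    (hY : InT n π.Y) (x : F.obj X ⟶ F'.obj X)
    (hx : x ≫ F'.map π₁.p = F.map π₁.p ≫ c π₁.Y) :
    x ≫ F'.map π.p = F.map π.p ≫ c π.Y := by
  rw [← hu, F'.map_comp, F.map_comp, reassoc_of% hx, Category.assoc, hc.nat _ _ u₁ hY₁ hY]

include h2 in
/-- uniqueness of the compatible comparison map -/
lemma compat_unique (hc : IsSys F F' τ n c) {X : DerivedCategory.Bounded A} {b : ℤ}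
    (hG : t.IsGE X.obj (b - 1 - n)) (hL : t.IsLE X.obj b) (π₁ π₂ : Pres X b)
    (x x' : F.obj X ⟶ F'.obj X) (hx : x ≫ F'.map π₁.p = F.map π₁.p ≫ c π₁.Y)
    (hx' : x' ≫ F'.map π₂.p = F.map π₂.p ≫ c π₂.Y) : x = x' := by
  obtain ⟨π, u₁, u₂, hu₁, hu₂⟩ := Pres.exists_sum π₁ π₂
  have e1 := compat_of_le F F' τ n c hc π₁ π u₁ hu₁ (pres_InT π₁ n hG hL) (pres_InT π n hG hL) x hx
  have e2 := compat_of_le F F' τ n c hc π₂ π u₂ hu₂ (pres_InT π₂ n hG hL) (pres_InT π n hG hL) x' hx'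
  exact kill_eq F F' h2 π π.neg x x' (e1.trans e2.symm)

section naturality

variable (hneg : ∀ X : A, ∃ (N : A) (p : N ⟶ X), Epi p ∧ ∀ f : X ⟶ N, f = 0)
  (c' : ∀ X : DerivedCategory.Bounded A, F.obj X ⟶ F'.obj X)
  (Q1 : ∀ (X X' : DerivedCategory.Bounded A) (f : X ⟶ X'), InT n X → InT n X' →
    F.map f ≫ c' X' = c' X ≫ F'.map f)
  (Q2 : ∀ (X : DerivedCategory.Bounded A) (b : ℤ), t.IsGE X.obj (b - 1 - n) → t.IsLE X.obj b →
    ∀ π : Pres X b, c' X ≫ F'.map π.p = F.map π.p ≫ c' π.Y)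

include Q2 in
/-- naturality for maps factoring through the cone of a presentation -/
lemma nat_of_fac {X V : DerivedCategory.Bounded A} {b : ℤ} (hG : t.IsGE X.obj (b - 1 - n))
    (hL : t.IsLE X.obj b) (π : Pres X b) (h' : π.Y ⟶ V)
    (hh' : F.map h' ≫ c' V = c' π.Y ≫ F'.map h') :
    F.map (π.p ≫ h') ≫ c' V = c' X ≫ F'.map (π.p ≫ h') := by
  rw [F.map_comp, F'.map_comp, Category.assoc, hh', reassoc_of% (Q2 X b hG hL π)]

include h2 Q2 in
/-- naturality detected on the cone of a presentation of the target -/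
lemma nat_of_kill {W V : DerivedCategory.Bounded A} {b' : ℤ} (hG : t.IsGE V.obj (b' - 1 - n))
    (hL : t.IsLE V.obj b') (π' : Pres V b') (hW : ∀ φ : W ⟶ cell π'.N (-b'), φ = 0) (f : W ⟶ V)
    (hf : F.map (f ≫ π'.p) ≫ c' π'.Y = c' W ≫ F'.map (f ≫ π'.p)) :
    F.map f ≫ c' V = c' W ≫ F'.map f := by
  apply kill_eq F F' h2 π' hW
  rw [Category.assoc, Q2 V b' hG hL π', Category.assoc, ← F'.map_comp, ← hf, F.map_comp,
    Category.assoc]

include h2 hneg Q1 Q2 in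
/-- naturality for maps from amplitude `n + 1` to amplitude `n` -/
lemma nat_star (X : DerivedCategory.Bounded A) (b : ℤ) (hG : t.IsGE X.obj (b - 1 - n))
    (hL : t.IsLE X.obj b) : ∀ (k : ℕ) (Z : DerivedCategory.Bounded A) (bz : ℤ),
    t.IsGE Z.obj (bz - n) → t.IsLE Z.obj bz → bz - b + 1 ≤ k → ∀ h : X ⟶ Z,
      F.map h ≫ c' Z = c' X ≫ F'.map h := by
  have base : ∀ (Z : DerivedCategory.Bounded A) (bz : ℤ),
      t.IsGE Z.obj (bz - n) → t.IsLE Z.obj bz → bz ≤ b - 1 → ∀ h : X ⟶ Z,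
      F.map h ≫ c' Z = c' X ≫ F'.map h := by
    intro Z bz hZG hZL hbz h
    haveI := hZL
    obtain ⟨π, h', rfl⟩ := exists_pres_fac hneg h b hL (t.isLE_of_le Z.obj bz (b - 1) hbz)
    exact nat_of_fac F F' n c' Q2 hG hL π h' (Q1 _ _ h' (pres_InT π n hG hL) ⟨bz, hZG, hZL⟩)
  intro k
  induction k with
  | zero =>
    intro Z bz hZG hZL hk h
    exact base Z bz hZG hZL (by omega) h
  | succ k ih =>
    intro Z bz hZG hZL hk h
    by_cases hbz : bz ≤ b - 1
    · exact base Z bz hZG hZL hbz h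
    · haveI := hL
      haveI := hZG
      have hXL : t.IsLE X.obj bz := t.isLE_of_le X.obj b bz (by omega)
      have hZG' : t.IsGE Z.obj (bz - 1 - n) := t.isGE_of_ge Z.obj (bz - 1 - n) (bz - n) (by omega)
      obtain ⟨πZ, hW⟩ := exists_pres_adapted hneg Z X bz hZL hXL
      obtain ⟨hYG, hYL⟩ := pres_bounds πZ n hZG' hZL
      refine nat_of_kill F F' h2 n c' Q2 hZG' hZL πZ hW h ?_
      exact ih πZ.Y (bz - 1) (by
        haveI := hYG
        exact t.isGE_of_ge _ (bz - 1 - n) (bz - 1 - n) (by omega)) hYL (by omega) _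

include h2 hneg Q1 Q2 in
/-- naturality for maps from amplitude `n` to amplitude `n + 1` -/
lemma nat_dstar (X' : DerivedCategory.Bounded A) (b' : ℤ) (hG : t.IsGE X'.obj (b' - 1 - n))
    (hL : t.IsLE X'.obj b') : ∀ (k : ℕ) (Z : DerivedCategory.Bounded A) (bz : ℤ),
    t.IsGE Z.obj (bz - n) → t.IsLE Z.obj bz → bz - b' ≤ k → ∀ h : Z ⟶ X',
      F.map h ≫ c' X' = c' Z ≫ F'.map h := by
  have base : ∀ (Z : DerivedCategory.Bounded A) (bz : ℤ),
      t.IsGE Z.obj (bz - n) → t.IsLE Z.obj bz → bz ≤ b' → ∀ h : Z ⟶ X',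
      F.map h ≫ c' X' = c' Z ≫ F'.map h := by
    intro Z bz hZG hZL hbz h
    haveI := hZL
    obtain ⟨π', hW⟩ := exists_pres_adapted hneg X' Z b' hL (t.isLE_of_le Z.obj bz b' hbz)
    refine nat_of_kill F F' h2 n c' Q2 hG hL π' hW h ?_
    exact Q1 _ _ _ ⟨bz, hZG, hZL⟩ (pres_InT π' n hG hL)
  intro k
  induction k with
  | zero =>
    intro Z bz hZG hZL hk h
    exact base Z bz hZG hZL (by omega) h
  | succ k ih =>
    intro Z bz hZG hZL hk h
    by_cases hbz : bz ≤ b'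
    · exact base Z bz hZG hZL hbz h
    · haveI := hL
      haveI := hZG
      have hZG' : t.IsGE Z.obj (bz - 1 - n) := t.isGE_of_ge Z.obj (bz - 1 - n) (bz - n) (by omega)
      obtain ⟨πZ, h', rfl⟩ := exists_pres_fac hneg h bz hZL
        (t.isLE_of_le X'.obj b' (bz - 1) (by omega))
      obtain ⟨hYG, hYL⟩ := pres_bounds πZ n hZG' hZL
      refine nat_of_fac F F' n c' Q2 hZG' hZL πZ h' ?_
      exact ih πZ.Y (bz - 1) hYG hYL (by omega) h'

include h2 hneg Q1 Q2 in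
/-- naturality on the objects of amplitude `n + 1` -/
lemma nat_succ (X X' : DerivedCategory.Bounded A) (b b' : ℤ) (hG : t.IsGE X.obj (b - 1 - n))
    (hL : t.IsLE X.obj b) (hG' : t.IsGE X'.obj (b' - 1 - n)) (hL' : t.IsLE X'.obj b')
    (f : X ⟶ X') : F.map f ≫ c' X' = c' X ≫ F'.map f := by
  by_cases hb : b ≤ b'
  · haveI := hL
    obtain ⟨π', hW⟩ := exists_pres_adapted hneg X' X b' hL' (t.isLE_of_le X.obj b b' hb)
    obtain ⟨hYG, hYL⟩ := pres_bounds π' n hG' hL'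
    refine nat_of_kill F F' h2 n c' Q2 hG' hL' π' hW f ?_
    exact nat_star F F' h2 n hneg c' Q1 Q2 X b hG hL (b' - 1 - b + 1).toNat π'.Y (b' - 1) hYG hYL
      (by omega) _
  · haveI := hL'
    obtain ⟨π, h', rfl⟩ := exists_pres_fac hneg f b hL (t.isLE_of_le X'.obj b' (b - 1) (by omega))
    obtain ⟨hYG, hYL⟩ := pres_bounds π n hG hL
    refine nat_of_fac F F' n c' Q2 hG hL π h' ?_
    exact nat_dstar F F' h2 n hneg c' Q1 Q2 X' b' hG' hL' (b - 1 - b').toNat π.Y (b - 1) hYG hYL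
      (by omega) h'

end naturality

include h2 in
/-- the induction step: extending a system from amplitude `n` to amplitude `n + 1` -/
theorem exists_sys_succ (hneg : ∀ X : A, ∃ (N : A) (p : N ⟶ X), Epi p ∧ ∀ f : X ⟶ N, f = 0)
    (hc : IsSys F F' τ n c) :
    ∃ c', IsSys F F' τ (n + 1) c' ∧ ∀ X, InT n X → c' X = c X := by
  classical
  let Good : ∀ X : DerivedCategory.Bounded A, (F.obj X ⟶ F'.obj X) → Prop := fun X x =>
    ∃ (b : ℤ) (_ : t.IsGE X.obj (b - 1 - n)) (_ : t.IsLE X.obj b) (π : Pres X b),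
      x ≫ F'.map π.p = F.map π.p ≫ c π.Y
  let c' : ∀ X : DerivedCategory.Bounded A, F.obj X ⟶ F'.obj X := fun X =>
    if InT n X then c X else if h : ∃ x, Good X x then h.choose else (h2 X).some.hom
  have hc'0 : ∀ X, InT n X → c' X = c X := fun X hX => by simp only [c', if_pos hX]
  have Q2 : ∀ (X : DerivedCategory.Bounded A) (b : ℤ), t.IsGE X.obj (b - 1 - n) →
      t.IsLE X.obj b → ∀ π : Pres X b, c' X ≫ F'.map π.p = F.map π.p ≫ c' π.Y := by
    intro X b hG hL π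
    have hY := pres_InT π n hG hL
    rw [hc'0 _ hY]
    by_cases hX : InT n X
    · rw [hc'0 _ hX]
      exact (hc.nat _ _ π.p hX hY).symm
    · obtain ⟨x₁, -, hx₁⟩ := exists_compat F F' τ n c hc π hY
      have h : ∃ x, Good X x := ⟨x₁, b, hG, hL, π, hx₁⟩
      have e : c' X = h.choose := by simp only [c', if_neg hX, dif_pos h]
      obtain ⟨b₀, hG₀, hL₀, π₀, hx₀⟩ := h.choose_spec
      have hb : b₀ = b := by
        by_contra hne
        apply hX
        rcases lt_or_gt_of_ne hne with hlt | hgt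
        · exact ⟨b - 1, hG, by haveI := hL₀; exact t.isLE_of_le X.obj b₀ (b - 1) (by omega)⟩
        · exact ⟨b₀ - 1, hG₀, by haveI := hL; exact t.isLE_of_le X.obj b (b₀ - 1) (by omega)⟩
      subst hb
      rw [e, compat_unique F F' τ h2 n c hc hG hL π₀ π h.choose x₁ hx₀ hx₁]
      exact hx₁
  have Q1 : ∀ (X X' : DerivedCategory.Bounded A) (f : X ⟶ X'), InT n X → InT n X' →
      F.map f ≫ c' X' = c' X ≫ F'.map f := by
    intro X X' f hX hX'
    rw [hc'0 _ hX, hc'0 _ hX']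
    exact hc.nat _ _ f hX hX'
  have conv : ∀ (X : DerivedCategory.Bounded A) (b : ℤ), t.IsGE X.obj (b - ((n + 1 : ℕ) : ℤ)) →
      t.IsGE X.obj (b - 1 - n) := by
    intro X b hG
    haveI := hG
    exact t.isGE_of_ge X.obj (b - 1 - n) (b - ((n + 1 : ℕ) : ℤ)) (by push_cast; omega)
  refine ⟨c', ⟨?_, ?_, ?_, ?_⟩, hc'0⟩
  · rintro X ⟨b, hG, hL⟩
    have hG' := conv X b hG
    obtain ⟨π, -⟩ := exists_pres_adapted hneg X X b hL hL
    have hY := pres_InT π n hG' hL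
    obtain ⟨x₁, hiso, hx₁⟩ := exists_compat F F' τ n c hc π hY
    have e : c' X = x₁ := by
      apply kill_eq F F' h2 π π.neg
      rw [Q2 X b hG' hL π, hc'0 _ hY]
      exact hx₁.symm
    rw [e]
    exact hiso
  · rintro X X' f ⟨b, hG, hL⟩ ⟨b', hG', hL'⟩
    exact nat_succ F F' h2 n hneg c' Q1 Q2 X X' b b' (conv X b hG) hL (conv X' b' hG') hL' f
  · intro M q
    rw [hc'0 _ (InT_cell M q n)]
    exact hc.on_cell M q
  · intro M q
    rw [hc'0 _ (InT_cell_shift M q n)]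
    exact hc.on_shift M q

end Helper89.Orlov
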