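import Mathlib
import Groth.Agent.Lib.Helper89.OrlovStep

/-!
# Orlov-type uniqueness of siblings: the main theorem
-/

set_option autoImplicit false
set_option linter.unusedSectionVars false
universe w v u v' u'
open CategoryTheory CategoryTheory.Limits CategoryTheory.Pretriangulated ZeroObject

namespace Helper89.Orlov

open DerivedCategory DerivedCategory.TStructure Helper89.DbGen

variable {A : Type u} [Category.{v} A] [Abelian A] [HasDerivedCategory.{w} A]
  {D : Type u'} [Category.{v'} D] [Preadditive D] [HasZeroObject D] [HasShift D ℤ]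
  [∀ n : ℤ, (shiftFunctor D n).Additive] [Pretriangulated D] [IsTriangulated D]

theorem main (hneg : ∀ X : A, ∃ (N : A) (p : N ⟶ X), Epi p ∧ ∀ f : X ⟶ N, f = 0)
    (F F' : DerivedCategory.Bounded A ⥤ D) [F.CommShift ℤ] [F.IsTriangulated]
    [F'.CommShift ℤ] [F'.IsTriangulated]
    (h1 : Nonempty (DEquiv.singleB A ⋙ F ≅ DEquiv.singleB A ⋙ F'))
    (h2 : ∀ K : DerivedCategory.Bounded A, Nonempty (F.obj K ≅ F'.obj K))
    [F.Full] : Nonempty (F ≅ F') := by
  obtain ⟨τ⟩ := h1
  have hseq : ∃ s : ℕ → (∀ X : DerivedCategory.Bounded A, F.obj X ⟶ F'.obj X),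
      (∀ n, IsSys F F' τ n (s n)) ∧ ∀ n X, InT n X → s (n + 1) X = s n X := by
    obtain ⟨c₀, hc₀⟩ := exists_sys_zero F F' τ h2 hneg
    let next : ∀ n : ℕ, {c // IsSys F F' τ n c} → {c // IsSys F F' τ (n + 1) c} := fun n c =>
      ⟨(exists_sys_succ F F' τ h2 n c.1 hneg c.2).choose,
        (exists_sys_succ F F' τ h2 n c.1 hneg c.2).choose_spec.1⟩
    let s : ∀ n : ℕ, {c // IsSys F F' τ n c} := fun n => Nat.rec ⟨c₀, hc₀⟩ next n
    refine ⟨fun n => (s n).1, fun n => (s n).2, fun n X hX => ?_⟩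
    exact (exists_sys_succ F F' τ h2 n (s n).1 hneg (s n).2).choose_spec.2 X hX
  obtain ⟨s, hs, hs'⟩ := hseq
  have stab : ∀ (n m : ℕ), n ≤ m → ∀ X, InT n X → s m X = s n X := by
    intro n m hnm
    induction m, hnm using Nat.le_induction with
    | base => intro X _; rfl
    | succ m hnm ih =>
      intro X hX
      rw [hs' m X (hX.mono hnm), ih X hX]
  let N : DerivedCategory.Bounded A → ℕ := fun X => (exists_InT X).choose
  have hN : ∀ X, InT (N X) X := fun X => (exists_InT X).choose_spec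
  let cinf : ∀ X : DerivedCategory.Bounded A, F.obj X ⟶ F'.obj X := fun X => s (N X) X
  have hcinf : ∀ X m, N X ≤ m → cinf X = s m X := fun X m h => (stab _ _ h X (hN X)).symm
  refine ⟨NatIso.ofComponents
    (fun X => @asIso _ _ _ _ (cinf X) ((hs (N X)).iso X (hN X))) ?_⟩
  intro X X' f
  change F.map f ≫ cinf X' = cinf X ≫ F'.map f
  rw [hcinf X (max (N X) (N X')) (le_max_left _ _), hcinf X' (max (N X) (N X')) (le_max_right _ _)]
  exact (hs _).nat X X' f ((hN X).mono (le_max_left _ _)) ((hN X').mono (le_max_right _ _))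

end Helper89.Orlov
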