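import Mathlib
import Groth.Prelude.Def_CohDer
import Groth.Agent.Lib.Helper40.Compact

/-!
# Family-wise compactness (for coproducts indexed by `ULift` of small types)

`UC K`: every morphism from `K` to a coproduct indexed by `ULift.{v} I` (`I : Type w`) is a finite
sum of morphisms through the summands.  Transfer lemmas for `FinSum`.
-/

set_option autoImplicit false
set_option linter.unusedSectionVars false
set_option linter.style.haveILetI false

universe w v u v' u'

open CategoryTheory Category Limits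
open Groth.Agent.Lib.Helper40.Cpt

namespace Groth.Agent.Lib.Helper89.PerfCompact

section

variable {D : Type u} [Category.{v} D] [Preadditive D]

/-- family-wise compactness -/
def UC (K : D) : Prop :=
  ∀ (I : Type w) (X : ULift.{v} I → D) [HasCoproduct X] (m : K ⟶ ∐ X), FinSum K (Sigma.ι X) m

lemma UC.of_iso {K K' : D} (e : K ≅ K') (h : UC.{w} K) : UC.{w} K' := by
  intro I X _ m
  have := (h I X (e.hom ≫ m)).precomp e.inv
  rwa [Iso.inv_hom_id_assoc] at this

/-- reindexing along `ULift` and change of the colimit cofan -/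
lemma finSum_reindex {K : D} {ι : Type w} (Z : ι → D) {W : D} (t : ∀ i, Z i ⟶ W)
    (hc : IsColimit (Cofan.mk W t)) [HasCoproduct (fun i : ULift.{v} ι => Z i.down)]
    (h : ∀ m : K ⟶ ∐ (fun i : ULift.{v} ι => Z i.down),
      FinSum K (Sigma.ι (fun i : ULift.{v} ι => Z i.down)) m)
    (m : K ⟶ W) : FinSum K t m := by
  classical
  let a : (∐ fun i : ULift.{v} ι => Z i.down) ⟶ W := Sigma.desc (fun i => t i.down)
  let b : W ⟶ ∐ fun i : ULift.{v} ι => Z i.down :=
    Cofan.IsColimit.desc hc (fun i => Sigma.ι (fun i : ULift.{v} ι => Z i.down) ⟨i⟩)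
  have hba : b ≫ a = 𝟙 W := by
    apply Cofan.IsColimit.hom_ext hc
    intro i
    have h1 : t i ≫ b = Sigma.ι (fun i : ULift.{v} ι => Z i.down) ⟨i⟩ :=
      Cofan.IsColimit.fac hc _ i
    show t i ≫ b ≫ a = t i ≫ 𝟙 W
    rw [reassoc_of% h1, Sigma.ι_desc, Category.comp_id]
  obtain ⟨F, g, hg0, hg⟩ := h (m ≫ b)
  refine ⟨F.map ⟨ULift.down, ULift.down_injective⟩, fun i => g ⟨i⟩, fun i hi => ?_, ?_⟩
  · apply hg0
    intro h'
    apply hi
    rw [Finset.mem_map]
    exact ⟨⟨i⟩, h', rfl⟩
  · have h2 : m = (m ≫ b) ≫ a := by rw [Category.assoc, hba, Category.comp_id]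
    rw [h2, hg, Preadditive.sum_comp, Finset.sum_map]
    refine Finset.sum_congr rfl (fun i _ => ?_)
    rw [Category.assoc, Sigma.ι_desc]
    rfl

/-- `FinSum` is reflected by fully faithful additive functors -/
lemma finSum_of_fullyFaithful {D' : Type u'} [Category.{v'} D'] [Preadditive D'] (Ψ : D' ⥤ D)
    [Ψ.Additive] [Ψ.Full] [Ψ.Faithful] {ι : Type*} {K : D'} {Z : ι → D'} {W : D'}
    (t : ∀ i, Z i ⟶ W) (m : K ⟶ W)
    (h : FinSum (Ψ.obj K) (fun i => Ψ.map (t i)) (Ψ.map m)) : FinSum K t m := by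
  obtain ⟨F, g, hg0, hg⟩ := h
  refine ⟨F, fun i => Ψ.preimage (g i), fun i hi => ?_, ?_⟩
  · apply Ψ.map_injective
    rw [Functor.map_preimage, hg0 i hi, Functor.map_zero]
  · apply Ψ.map_injective
    rw [hg, Functor.map_sum]
    refine Finset.sum_congr rfl (fun i _ => ?_)
    rw [Functor.map_comp, Functor.map_preimage]

end

section bij

variable {D : Type u} [Category.{v} D] [Preadditive D]

lemma homSum_apply' (K : D) {ι : Type v} (X : ι → D) [HasCoproduct X]
    (x : DirectSum ι (fun i => K ⟶ X i)) :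
    CohDer.homSumToHomCoprod K X x = by
      classical exact ∑ i ∈ DFinsupp.support x, x i ≫ Sigma.ι X i := by
  classical
  simp only [CohDer.homSumToHomCoprod, DirectSum.toAddMonoid, DFinsupp.liftAddHom_apply]
  rw [DFinsupp.sumAddHom_apply, DFinsupp.sum]
  rfl

lemma homSum_of' (K : D) {ι : Type v} (X : ι → D) [HasCoproduct X] (i : ι) (g : K ⟶ X i) :
    CohDer.homSumToHomCoprod K X (by classical exact DirectSum.of (fun i => K ⟶ X i) i g) =
      g ≫ Sigma.ι X i := by
  classical
  simp [CohDer.homSumToHomCoprod]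
  rfl

lemma homSum_injective' (K : D) {ι : Type v} (X : ι → D) [HasCoproduct X] :
    Function.Injective (CohDer.homSumToHomCoprod K X) := by
  classical
  rw [injective_iff_map_eq_zero]
  intro x hx
  apply DFinsupp.ext
  intro i
  have h1 := congrArg (fun m => m ≫ Sigma.π X i) hx
  simp only [homSum_apply', zero_comp, Preadditive.sum_comp, Category.assoc] at h1
  rw [Finset.sum_eq_single i] at h1
  · simpa using h1
  · intro j _ hji
    rw [Sigma.ι_π_of_ne X hji, comp_zero]
  · intro hi
    have : x i = 0 := by simpa [DFinsupp.mem_support_iff] using hi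
    rw [this, zero_comp]

lemma bijective_of_finSum (K : D) {ι : Type v} (X : ι → D) [HasCoproduct X]
    (h : ∀ m : K ⟶ ∐ X, FinSum K (Sigma.ι X) m) :
    Function.Bijective (CohDer.homSumToHomCoprod K X) := by
  classical
  refine ⟨homSum_injective' K X, fun m => ?_⟩
  obtain ⟨F, g, _, hg⟩ := h m
  refine ⟨∑ i ∈ F, DirectSum.of (fun i => K ⟶ X i) i (g i), ?_⟩
  rw [map_sum, hg]
  refine Finset.sum_congr rfl fun i _ => ?_
  exact homSum_of' K X i (g i)

lemma finSum_of_bijective (K : D) {ι : Type v} (X : ι → D) [HasCoproduct X]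
    (h : Function.Bijective (CohDer.homSumToHomCoprod K X)) (m : K ⟶ ∐ X) :
    FinSum K (Sigma.ι X) m := by
  classical
  obtain ⟨x, hx⟩ := h.2 m
  refine ⟨DFinsupp.support x, fun i => x i, fun i hi => ?_, ?_⟩
  · simpa [DFinsupp.mem_support_iff] using hi
  · rw [← hx, homSum_apply']

end bij

end Groth.Agent.Lib.Helper89.PerfCompact
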