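import Groth.Agent.Lib.Helper89.PerfCompact1
import Groth.Agent.Lib.Helper89.SigmaExact2
import Groth.Agent.Lib.Helper84.DRingPerf
import Groth.Prelude.Def_DRing2

/-!
# Perfect complexes of modules are compact (family-wise form)
-/

set_option autoImplicit false
set_option linter.unusedSectionVars false
set_option linter.style.haveILetI false

universe w u

open CategoryTheory Category Limits
open Groth.Agent.Lib.Helper40.Cpt

namespace Groth.Agent.Lib.Helper89.PerfCompact

section modules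

variable {R : Type u} [CommRing R] {J : Type w} [DecidableEq J] (Z : J → ModuleCat.{u} R)
  [HasCoproduct Z]

/-- finite support of an element of a coproduct of modules -/
def Supp (x : (∐ Z : ModuleCat.{u} R)) : Prop :=
  ∃ F : Finset J, ∀ F' : Finset J, F ⊆ F' →
    x = ∑ i ∈ F', (Sigma.ι Z i).hom ((Sigma.π Z i).hom x)

lemma π_ι_apply_of_ne {i j : J} (h : i ≠ j) (z : Z i) :
    (Sigma.π Z j).hom ((Sigma.ι Z i).hom z) = 0 := by
  have h' : (Sigma.ι Z i ≫ Sigma.π Z j).hom z = (0 : Z i ⟶ Z j).hom z :=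
    congrArg (fun φ : Z i ⟶ Z j => φ.hom z) (Sigma.ι_π_of_ne Z h)
  rw [ModuleCat.hom_comp, LinearMap.comp_apply, ModuleCat.hom_zero, LinearMap.zero_apply] at h'
  exact h'

lemma π_ι_apply_self (i : J) (z : Z i) :
    (Sigma.π Z i).hom ((Sigma.ι Z i).hom z) = z := by
  have h : (Sigma.ι Z i ≫ Sigma.π Z i).hom z = (𝟙 (Z i) : Z i ⟶ Z i).hom z :=
    congrArg (fun φ : Z i ⟶ Z i => φ.hom z) (Sigma.ι_π_eq_id Z i)
  rw [ModuleCat.hom_comp, LinearMap.comp_apply, ModuleCat.hom_id, LinearMap.id_apply] at h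
  exact h

lemma supp_ι (i : J) (z : Z i) : Supp Z ((Sigma.ι Z i).hom z) := by
  refine ⟨{i}, fun F' hF' => ?_⟩
  rw [Finset.sum_eq_single i]
  · rw [π_ι_apply_self]
  · intro j _ hj
    rw [π_ι_apply_of_ne Z (Ne.symm hj), map_zero]
  · intro hi
    exact absurd (hF' (Finset.mem_singleton_self i)) hi

/-- the submodule of elements of finite support -/
def suppSubmodule : Submodule R (∐ Z : ModuleCat.{u} R) where
  carrier := {x | Supp Z x}
  zero_mem' := ⟨∅, fun F' _ => by simp⟩
  add_mem' := by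
    rintro x y ⟨F, hF⟩ ⟨G, hG⟩
    refine ⟨F ∪ G, fun F' hF' => ?_⟩
    have h1 := hF F' (Finset.union_subset_left hF')
    have h2 := hG F' (Finset.union_subset_right hF')
    simp only [map_add, Finset.sum_add_distrib]
    rw [← h1, ← h2]
  smul_mem' := by
    rintro c x ⟨F, hF⟩
    refine ⟨F, fun F' hF' => ?_⟩
    have h1 := hF F' hF'
    simp only [map_smul]
    rw [← Finset.smul_sum, ← h1]

lemma suppSubmodule_eq_top : suppSubmodule Z = ⊤ := by
  let q : (∐ Z : ModuleCat.{u} R) ⟶ ModuleCat.of R ((∐ Z : ModuleCat.{u} R) ⧸ suppSubmodule Z) :=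
    ModuleCat.ofHom (suppSubmodule Z).mkQ
  have hq : q = 0 := by
    apply Sigma.hom_ext
    intro i
    rw [comp_zero]
    ext z
    show (suppSubmodule Z).mkQ ((Sigma.ι Z i).hom z) = 0
    rw [Submodule.mkQ_apply, Submodule.Quotient.mk_eq_zero]
    exact supp_ι Z i z
  rw [eq_top_iff]
  intro x _
  have := congrArg (fun φ => φ.hom x) hq
  have h2 : (suppSubmodule Z).mkQ x = 0 := this
  rwa [Submodule.mkQ_apply, Submodule.Quotient.mk_eq_zero] at h2

lemma supp_all (x : (∐ Z : ModuleCat.{u} R)) : Supp Z x := by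
  have : x ∈ suppSubmodule Z := by
    rw [suppSubmodule_eq_top]
    trivial
  exact this

/-- a morphism from a finitely generated module to a coproduct factors through a finite
subcoproduct -/
lemma exists_finset_of_finite (P : ModuleCat.{u} R) [Module.Finite R P] (f : P ⟶ ∐ Z) :
    ∃ F : Finset J, ∀ F' : Finset J, F ⊆ F' →
      f = ∑ i ∈ F', f ≫ Sigma.π Z i ≫ Sigma.ι Z i := by
  obtain ⟨s, hs⟩ := (Module.Finite.fg_top (R := R) (M := P))
  have hx := fun x : P => supp_all Z (f.hom x)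
  choose G hG using hx
  refine ⟨s.biUnion G, fun F' hF' => ?_⟩
  apply ModuleCat.hom_ext
  apply LinearMap.ext_on hs
  intro x hx
  have h1 := hG x F' ((Finset.subset_biUnion_of_mem G hx).trans hF')
  rw [ModuleCat.hom_sum, LinearMap.sum_apply]
  exact h1

end modules

end Groth.Agent.Lib.Helper89.PerfCompact

namespace Groth.Agent.Lib.Helper89.PerfCompact

universe w'

section perfect

open DerivedCategory Helper89.SigmaExact

variable {R : Type u} [CommRing R]

/-- the projection chain map from the termwise coproduct -/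
noncomputable def sigmaCxπ {J : Type w} [DecidableEq J] [HasCoproductsOfShape J (ModuleCat.{u} R)]
    (Y : J → CochainComplex (ModuleCat.{u} R) ℤ) (j : J) : sigmaCx Y ⟶ Y j where
  f n := Sigma.π (fun j => (Y j).X n) j
  comm' n m _ := by
    dsimp [sigmaCx]
    apply Sigma.hom_ext
    intro i
    rw [Sigma.ι_map_assoc]
    by_cases h : i = j
    · subst h
      rw [Sigma.ι_π_eq_id, Sigma.ι_π_eq_id_assoc, Category.comp_id]
    · rw [Sigma.ι_π_of_ne _ h, comp_zero, Sigma.ι_π_of_ne_assoc _ h, zero_comp]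

variable [HasDerivedCategory.{w'} (ModuleCat.{u} R)]

/-- bounded complexes of finite projective modules are compact in the family-wise sense -/
theorem uc_of_perfect (E : CochainComplex (ModuleCat.{u} R) ℤ) (a b : ℤ)
    (hE : DRing.VanishesOutside E a b) (hP : DRing.TermwiseFiniteProjective E) :
    UC.{u} (Q.obj E) := by
  classical
  intro I X _ m
  haveI : HasCoproductsOfShape (ULift.{w'} I) (ModuleCat.{u} R) := inferInstance
  let Y : ULift.{w'} I → CochainComplex (ModuleCat.{u} R) ℤ := fun i => Q.objPreimage (X i)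
  let e : ∀ i, Q.obj (Y i) ≅ X i := fun i => Q.objObjPreimageIso (X i)
  have hc := isColimitCofanQ Y
  let a' : Q.obj (sigmaCx Y) ⟶ ∐ X :=
    Cofan.IsColimit.desc hc (fun j => (e j).hom ≫ Sigma.ι X j)
  have ha' : ∀ j, Q.map (sigmaCxι Y j) ≫ a' = (e j).hom ≫ Sigma.ι X j := fun j =>
    Cofan.IsColimit.fac hc _ j
  let b' : ∐ X ⟶ Q.obj (sigmaCx Y) := Sigma.desc (fun j => (e j).inv ≫ Q.map (sigmaCxι Y j))
  have hba : b' ≫ a' = 𝟙 _ := by
    apply Sigma.hom_ext
    intro j
    rw [Sigma.ι_desc_assoc, Category.assoc, ha', Iso.inv_hom_id_assoc, Category.comp_id]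
  haveI : E.IsKProjective :=
    Groth.Agent.Lib.Helper84.DRingPerf.isKProjective_of_finiteProjective E a b hE hP
  obtain ⟨φ, hφ⟩ := Groth.Agent.Lib.Helper84.KProj.exists_Q_map_eq E (sigmaCx Y) (m ≫ b')
  have hG : ∀ n : ℤ, ∃ F : Finset (ULift.{w'} I), ∀ F' : Finset (ULift.{w'} I), F ⊆ F' →
      φ.f n = ∑ i ∈ F', φ.f n ≫ Sigma.π (fun j => (Y j).X n) i ≫
        Sigma.ι (fun j => (Y j).X n) i := by
    intro n
    haveI : Module.Finite R (E.X n) := (hP n).1
    exact exists_finset_of_finite (fun j => (Y j).X n) (E.X n) (φ.f n)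
  choose G hG using hG
  let F : Finset (ULift.{w'} I) := (Finset.Icc a b).biUnion G
  have hφF : φ = ∑ i ∈ F, (φ ≫ sigmaCxπ Y i) ≫ sigmaCxι Y i := by
    ext n : 1
    have h1 : (∑ i ∈ F, (φ ≫ sigmaCxπ Y i) ≫ sigmaCxι Y i).f n =
        ∑ i ∈ F, ((φ ≫ sigmaCxπ Y i) ≫ sigmaCxι Y i).f n :=
      (HomologicalComplex.eval _ _ n).map_sum _ _
    rw [h1]
    by_cases hn : a ≤ n ∧ n ≤ b
    · have h2 := hG n F (Finset.subset_biUnion_of_mem G (Finset.mem_Icc.2 hn))
      rw [h2]
      refine Finset.sum_congr rfl (fun i _ => ?_)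
      rw [HomologicalComplex.comp_f, HomologicalComplex.comp_f, Category.assoc]
      rfl
    · apply (hE n (by omega)).eq_of_src
  have hm : m = ∑ i ∈ F, (Q.map (φ ≫ sigmaCxπ Y i) ≫ (e i).hom) ≫ Sigma.ι X i := by
    have h1 : m = (m ≫ b') ≫ a' := by rw [Category.assoc, hba, Category.comp_id]
    have hQ : Q.map φ = ∑ i ∈ F, Q.map (φ ≫ sigmaCxπ Y i) ≫ Q.map (sigmaCxι Y i) := by
      have := congrArg (fun ψ => Q.map ψ) hφF
      simp only [Functor.map_sum, Functor.map_comp] at this
      simpa only [Functor.map_comp] using this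
    rw [h1, ← hφ, hQ, Preadditive.sum_comp]
    refine Finset.sum_congr rfl (fun i _ => ?_)
    rw [Category.assoc, ha', Category.assoc]
  rw [hm]
  exact FinSum.of_sum _ F _

end perfect

end Groth.Agent.Lib.Helper89.PerfCompact
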