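import Groth.Agent.Lib.Helper89.PerfCompact2
import Groth.Agent.Lib.Helper89.CompactRetract
import Groth.Agent.Lib.Helper89.CompactPreserves

/-!
# Compact objects of `D(R)` are retracts of bounded complexes of finite free modules
(in any model of the derived category, via a model with small morphism types)
-/

set_option autoImplicit false
set_option linter.unusedSectionVars false
set_option linter.style.haveILetI false

universe w u v₀ u₀ v₁ u₁

open CategoryTheory Category Limits Opposite
open Groth.Agent.Lib.Helper40.Cpt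

namespace Groth.Agent.Lib.Helper89.PerfCompact

section equivalence

variable {D₀ : Type u₀} [Category.{v₀} D₀] {D₁ : Type u₁} [Category.{v₁} D₁]
  [Preadditive D₀] [Preadditive D₁] [HasBinaryProducts D₀] [HasBinaryProducts D₁]
  (Φ : D₀ ≌ D₁)

/-- transfer of compactness along an equivalence to a category with smaller morphism types -/
theorem isCompact_of_uc [HasCoproducts.{v₁} D₁]
    [∀ I : Type v₁, HasCoproductsOfShape (ULift.{v₀} I) D₀]
    (K₀ : D₀) (h : UC.{v₁} K₀) : CohDer.IsCompactObject (Φ.functor.obj K₀) := by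
  haveI : Φ.inverse.Additive := Functor.additive_of_preserves_binary_products _
  apply isCompact_of_finSum
  intro ι X m
  apply finSum_of_fullyFaithful Φ.inverse
  have hc : IsColimit (Cofan.mk (Φ.inverse.obj (∐ X)) (fun i => Φ.inverse.map (Sigma.ι X i))) :=
    isColimitOfHasCoproductOfPreservesColimit Φ.inverse X
  refine finSum_reindex (fun i => Φ.inverse.obj (X i)) _ hc ?_ _
  intro m'
  exact (UC.of_iso (Φ.unitIso.app K₀) h) ι _ m'

end equivalence

section modules

variable {R : Type u} [CommRing R]

/-- every module is a quotient of a free module -/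
lemma exists_epi_free (X : ModuleCat.{u} R) :
    ∃ (ι : Type u) (E : ι → ModuleCat.{u} R) (π : ∐ E ⟶ X),
      (∀ i, E i ∈ ({ModuleCat.of R R} : Set (ModuleCat.{u} R))) ∧ Epi π := by
  refine ⟨X, fun _ => ModuleCat.of R R,
    Sigma.desc (fun x : X => ModuleCat.ofHom (LinearMap.toSpanSingleton R X x)),
    fun _ => rfl, ?_⟩
  rw [ModuleCat.epi_iff_surjective]
  intro x
  refine ⟨(Sigma.ι (fun _ : X => ModuleCat.of R R) x).hom (1 : R), ?_⟩
  have h : (Sigma.ι (fun _ : X => ModuleCat.of R R) x ≫
      Sigma.desc (fun x : X => ModuleCat.ofHom (LinearMap.toSpanSingleton R X x))).hom (1 : R) =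
      (ModuleCat.ofHom (LinearMap.toSpanSingleton R X x)).hom (1 : R) := by
    rw [Sigma.ι_desc]
  rw [ModuleCat.hom_comp, LinearMap.comp_apply] at h
  rw [h]
  simp

/-- `Hom(R, -)` commutes with coproducts -/
lemma preservesColimitsOfShape_coyoneda_self (ι : Type u) :
    PreservesColimitsOfShape (Discrete ι)
      (preadditiveCoyoneda.obj (op (ModuleCat.of R R : ModuleCat.{u} R))) := by
  classical
  constructor
  intro F
  let Z : ι → ModuleCat.{u} R := fun i => F.obj ⟨i⟩
  have e : F ≅ Discrete.functor Z := Discrete.natIso (fun ⟨i⟩ => Iso.refl _)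
  haveI : Module.Finite R (ModuleCat.of R R : ModuleCat.{u} R) :=
    inferInstanceAs (Module.Finite R R)
  have hb : Function.Bijective (CohDer.homSumToHomCoprod (ModuleCat.of R R : ModuleCat.{u} R) Z) := by
    apply bijective_of_finSum
    intro m
    obtain ⟨G, hG⟩ := exists_finset_of_finite Z (ModuleCat.of R R) m
    have h1 := hG G (Finset.Subset.refl _)
    have h2 : m = ∑ i ∈ G, (m ≫ Sigma.π Z i) ≫ Sigma.ι Z i := by
      rw [h1]
      refine Finset.sum_congr rfl (fun i _ => ?_)
      rw [Category.assoc, ← h1]
    rw [h2]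
    exact FinSum.of_sum _ G _
  have := Helper89.CompactPreserves.preservesColimit_of_bijective _ Z hb
  exact preservesColimit_of_iso_diagram _ e.symm

lemma finiteProjective_biproduct_self (n : ℕ) (E : Fin n → ModuleCat.{u} R)
    (hE : ∀ j, E j ∈ ({ModuleCat.of R R} : Set (ModuleCat.{u} R))) (X : ModuleCat.{u} R)
    (e : X ≅ ⨁ E) : Module.Finite R X ∧ Module.Projective R X := by
  have hE' : E = fun _ => ModuleCat.of R R := funext (fun j => hE j)
  subst hE'
  let e' : X ≅ ModuleCat.of R (∀ _ : Fin n, R) :=
    e ≪≫ ModuleCat.biproductIsoPi (fun _ : Fin n => (ModuleCat.of R R : ModuleCat.{u} R))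
  let l : X ≃ₗ[R] (∀ _ : Fin n, R) := e'.toLinearEquiv
  exact ⟨Module.Finite.equiv l.symm, Module.Projective.of_equiv l.symm⟩

variable [HasDerivedCategory.{u} (ModuleCat.{u} R)]

/-- compact objects in a model with small morphism types are retracts of bounded complexes of
finite free modules -/
theorem exists_retract_of_isCompact [HasCoproducts.{u} (DerivedCategory (ModuleCat.{u} R))]
    (K : DerivedCategory (ModuleCat.{u} R)) (hK : CohDer.IsCompactObject K) :
    ∃ (L : CochainComplex (ModuleCat.{u} R) ℤ) (a b : ℤ), DRing.VanishesOutside L a b ∧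
      DRing.TermwiseFiniteProjective L ∧ Nonempty (Retract K (DerivedCategory.Q.obj L)) := by
  obtain ⟨L, a, b, h1, h2, h3⟩ := Helper89.CompactRetract.main
    ({ModuleCat.of R R} : Set (ModuleCat.{u} R)) exists_epi_free
    (fun E hE ι => by
      obtain rfl : E = ModuleCat.of R R := hE
      exact preservesColimitsOfShape_coyoneda_self ι) K hK
  refine ⟨L, a, b, h1, fun i => ?_, h3⟩
  obtain ⟨n, E, hE, ⟨e⟩⟩ := h2 i
  exact finiteProjective_biproduct_self n E hE _ e

end modules

end Groth.Agent.Lib.Helper89.PerfCompact
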