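import Groth.Agent.Lib.Helper89.PerfCompact3
import Groth.Agent.Lib.Helper13.DerSmall

/-!
# Compact objects of `D(R)` (any model) are retracts of bounded complexes of finite free modules
-/

set_option autoImplicit false
set_option linter.unusedSectionVars false
set_option linter.style.haveILetI false

universe w w₀ u

open CategoryTheory Category Limits Opposite
open Groth.Agent.Lib.Helper40.Cpt

namespace Groth.Agent.Lib.Helper89.PerfCompact

variable {R : Type u} [CommRing R]

/-- the derived category for an explicit instance -/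
abbrev DC (i : HasDerivedCategory.{w} (ModuleCat.{u} R)) : Type _ :=
  @DerivedCategory (ModuleCat.{u} R) _ _ i

/-- the localization functor for an explicit instance -/
noncomputable abbrev QC (i : HasDerivedCategory.{w} (ModuleCat.{u} R)) :
    CochainComplex (ModuleCat.{u} R) ℤ ⥤ DC i :=
  @DerivedCategory.Q (ModuleCat.{u} R) _ _ i

theorem exists_retract_of_uc' (i₀ : HasDerivedCategory.{w₀} (ModuleCat.{u} R))
    (i₁ : HasDerivedCategory.{u} (ModuleCat.{u} R)) (K : DC i₀) (hK : UC.{u} K) :
    ∃ (L : CochainComplex (ModuleCat.{u} R) ℤ) (a b : ℤ), DRing.VanishesOutside L a b ∧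
      DRing.TermwiseFiniteProjective L ∧
      ∃ (i : K ⟶ (QC i₀).obj L) (p : (QC i₀).obj L ⟶ K), i ≫ p = 𝟙 K := by
  let W := HomologicalComplex.quasiIso (ModuleCat.{u} R) (ComplexShape.up ℤ)
  let Φ : DC i₀ ≌ DC i₁ := Localization.uniq (QC i₀) (QC i₁) W
  haveI : HasCoproducts.{u} (DC i₁) := by
    letI := i₁
    exact fun J => Helper89.SigmaExact.hasCoproductsOfShape_derivedCategory
  haveI : ∀ I : Type u, HasCoproductsOfShape (ULift.{w₀} I) (DC i₀) := by
    letI := i₀
    intro I
    haveI : HasCoproductsOfShape (ULift.{w₀} I) (ModuleCat.{u} R) := inferInstance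
    exact Helper89.SigmaExact.hasCoproductsOfShape_derivedCategory
  haveI : HasBinaryProducts (DC i₀) := by
    letI := i₀
    exact hasBinaryProducts_of_hasBinaryBiproducts
  haveI : HasBinaryProducts (DC i₁) := by
    letI := i₁
    exact hasBinaryProducts_of_hasBinaryBiproducts
  have hK₁ : CohDer.IsCompactObject (Φ.functor.obj K) := isCompact_of_uc Φ K hK
  obtain ⟨L, a, b, h1, h2, ⟨r⟩⟩ := @exists_retract_of_isCompact R _ i₁ _ (Φ.functor.obj K) hK₁
  let e : QC i₁ ⋙ Φ.inverse ≅ QC i₀ := Localization.compUniqInverse (QC i₀) (QC i₁) W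
  refine ⟨L, a, b, h1, h2, Φ.unitIso.hom.app K ≫ Φ.inverse.map r.i ≫ e.hom.app L,
    e.inv.app L ≫ Φ.inverse.map r.r ≫ Φ.unitIso.inv.app K, ?_⟩
  have h3 : Φ.inverse.map r.i ≫ Φ.inverse.map r.r = 𝟙 _ := by
    rw [← Functor.map_comp, r.retract, CategoryTheory.Functor.map_id]
  simp only [Category.assoc, Iso.hom_inv_id_app_assoc]
  rw [reassoc_of% h3]
  exact Φ.unitIso.hom_inv_id_app K

/-- compact objects (family-wise form) of any model of `D(R)` are retracts of bounded complexes of
finite projective modules -/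
theorem exists_retract_of_uc [HasDerivedCategory.{w₀} (ModuleCat.{u} R)]
    (K : DerivedCategory (ModuleCat.{u} R)) (hK : UC.{u} K) :
    ∃ (L : CochainComplex (ModuleCat.{u} R) ℤ) (a b : ℤ), DRing.VanishesOutside L a b ∧
      DRing.TermwiseFiniteProjective L ∧
      ∃ (i : K ⟶ DerivedCategory.Q.obj L) (p : DerivedCategory.Q.obj L ⟶ K), i ≫ p = 𝟙 K :=
  exists_retract_of_uc' _ (Groth.Agent.Lib.Helper13.DerSmall.hasDerivedCategorySmall _) K hK

end Groth.Agent.Lib.Helper89.PerfCompact
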