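import Mathlib

/-!
# Formal unramifiedness over an Artinian local ring can be tested on the closed fibre
(helper89, for helper78's S5339, item M3)
-/

set_option autoImplicit false
universe u
open CategoryTheory CategoryTheory.Limits AlgebraicGeometry TensorProduct

namespace Groth.Agent.Lib.Helper89.QfM3

theorem isNilpotent_maximalIdeal (A : Type u) [CommRing A] [IsLocalRing A] [IsArtinianRing A] :
    IsNilpotent (IsLocalRing.maximalIdeal A) := by
  have h := IsArtinianRing.isNilpotent_jacobson_bot (R := A)
  rwa [IsLocalRing.jacobson_eq_maximalIdeal _ bot_ne_top] at h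

/-- Nilpotent Nakayama: `I M = M` and `I` nilpotent force `M = 0`. -/
theorem subsingleton_of_smul_top_eq_top {A M : Type*} [CommRing A] [AddCommGroup M] [Module A M]
    (I : Ideal A) (hI : IsNilpotent I)
    (h : I • (⊤ : Submodule A M) = ⊤) : Subsingleton M := by
  have key : ∀ n : ℕ, (I ^ n) • (⊤ : Submodule A M) = ⊤ := by
    intro n
    induction n with
    | zero => rw [pow_zero, Ideal.one_eq_top, Submodule.top_smul]
    | succ n ih => rw [pow_succ, Submodule.mul_smul, h, ih]
  obtain ⟨n, hn⟩ := hI
  have := key n
  rw [hn, Ideal.zero_eq_bot, Submodule.bot_smul] at this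
  exact (Submodule.subsingleton_iff A).mp (subsingleton_of_bot_eq_top this)

attribute [local instance] Algebra.TensorProduct.rightAlgebra in
/-- Ring core. -/
theorem formallyUnramified_of_residue_ring {A B : Type u} [CommRing A] [IsLocalRing A]
    [IsArtinianRing A] [CommRing B] [Algebra A B]
    (h : (Algebra.TensorProduct.includeRight :
      IsLocalRing.ResidueField A →ₐ[A] B ⊗[A] IsLocalRing.ResidueField A).toRingHom.FormallyUnramified) :
    (algebraMap A B).FormallyUnramified := by
  set k := IsLocalRing.ResidueField A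
  have hfu : Algebra.FormallyUnramified k (B ⊗[A] k) := h
  rw [RingHom.formallyUnramified_algebraMap]
  constructor
  have h1 : Subsingleton (k ⊗[A] Ω[B⁄A]) :=
    (KaehlerDifferential.tensorKaehlerEquivBase A k B (B ⊗[A] k)).subsingleton
  have h1' : Subsingleton ((A ⧸ IsLocalRing.maximalIdeal A) ⊗[A] Ω[B⁄A]) := h1
  have h2 : Subsingleton (Ω[B⁄A] ⧸ (IsLocalRing.maximalIdeal A) • (⊤ : Submodule A Ω[B⁄A])) :=
    (TensorProduct.quotTensorEquivQuotSMul Ω[B⁄A] (IsLocalRing.maximalIdeal A)).symm.subsingleton
  have h3 : (IsLocalRing.maximalIdeal A) • (⊤ : Submodule A Ω[B⁄A]) = ⊤ :=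
    Submodule.Quotient.subsingleton_iff.mp h2
  exact subsingleton_of_smul_top_eq_top _ (isNilpotent_maximalIdeal A) h3

set_option backward.isDefEq.respectTransparency.types false in
/-- **M3.** Over an Artinian local base, formal unramifiedness can be tested on the closed
fibre. -/
theorem formallyUnramified_of_residue (A : Type u) [CommRing A] [IsArtinianRing A] [IsLocalRing A]
    {X : Scheme.{u}} (f : X ⟶ Spec (CommRingCat.of A))
    [FormallyUnramified (pullback.snd f (Spec.map (CommRingCat.ofHom
      (algebraMap A (IsLocalRing.ResidueField A)))))] : FormallyUnramified f := by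
  rw [IsZariskiLocalAtSource.iff_of_openCover (P := @FormallyUnramified)
    X.affineOpenCover.openCover]
  intro i
  set g : Spec (X.affineOpenCover.X i) ⟶ X := X.affineOpenCover.f i with hg
  show FormallyUnramified (g ≫ f)
  have h1 : FormallyUnramified (pullback.snd (g ≫ f) (Spec.map (CommRingCat.ofHom
      (algebraMap A (IsLocalRing.ResidueField A))))) := by
    rw [← pullbackRightPullbackFstIso_inv_snd_snd f _ g]
    refine MorphismProperty.comp_mem _ _ _ (inferInstanceAs (FormallyUnramified _)) ?_
    refine MorphismProperty.comp_mem _ _ _ ?_ ‹_›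
    exact MorphismProperty.pullback_snd _ _ (inferInstanceAs (FormallyUnramified g))
  set φ : CommRingCat.of A ⟶ X.affineOpenCover.X i := Spec.preimage (g ≫ f) with hφdef
  have hφ : Spec.map φ = g ≫ f := Spec.map_preimage _
  let _ : Algebra A (X.affineOpenCover.X i) := φ.hom.toAlgebra
  have hφ' : Spec.map (CommRingCat.ofHom (algebraMap A (X.affineOpenCover.X i))) = g ≫ f := hφ
  rw [← hφ'] at h1 ⊢
  have h2 : FormallyUnramified ((pullbackSpecIso A (X.affineOpenCover.X i)
      (IsLocalRing.ResidueField A)).inv ≫ pullback.snd _ _) :=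
    MorphismProperty.comp_mem _ _ _ (inferInstanceAs (FormallyUnramified _)) h1
  rw [pullbackSpecIso_inv_snd, HasRingHomProperty.Spec_iff (P := @FormallyUnramified)] at h2
  rw [HasRingHomProperty.Spec_iff (P := @FormallyUnramified)]
  exact formallyUnramified_of_residue_ring h2

end Groth.Agent.Lib.Helper89.QfM3
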