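import Groth.Agent.Lib.Helper89.RFTri
import Groth.Agent.S6624

/-!
# Cohomological amplitude of a total right derived functor on bounded objects

For a Grothendieck abelian category `𝒜`, an additive functor `F : 𝒜 ⥤ ℬ`, a right derived
functor `(RG, α)` of `K(F) ⋙ Qh` and a class `P` of objects with `RᵖF(M) = 0` for `p ≥ N`, `M ∈ P`:
if `E ∈ D(𝒜)` has cohomology in `[a, b]` with `Hⁱ(E) ∈ P`, then `Hⁱ(RG E) = 0` for
`i ∉ [a, b + N - 1]`.
-/

set_option autoImplicit false
set_option linter.unusedSectionVars false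
set_option linter.style.haveILetI false

universe w w' v v' u u'

open CategoryTheory Category Limits Pretriangulated HomologicalComplex

namespace Groth.Agent.Lib.Helper89.RFAmp

section single

variable {𝒜 : Type u} [Category.{v} 𝒜] [Abelian 𝒜]
  {M : 𝒜} (I : InjectiveResolution M) (n : ℤ)

/-- an injective resolution placed in degrees `≥ n` -/
noncomputable abbrev res : CochainComplex 𝒜 ℤ :=
  I.cocomplex.extend (ComplexShape.embeddingUpIntGE n)

instance : (res I n).IsStrictlyGE n := by
  dsimp [res, CochainComplex.IsStrictlyGE]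
  infer_instance

lemma injective_res_X (j : ℤ) : Injective ((res I n).X j) := by
  by_cases h : ∃ k : ℕ, (ComplexShape.embeddingUpIntGE n).f k = j
  · obtain ⟨k, hk⟩ := h
    exact Injective.of_iso (I.cocomplex.extendXIso _ hk).symm inferInstance
  · have hz : IsZero ((res I n).X j) :=
      I.cocomplex.isZero_extend_X _ j (fun k hk => h ⟨k, hk⟩)
    exact hz.injective

/-- the quasi-isomorphism from `M` placed in degree `n` -/
noncomputable def ιRes : (HomologicalComplex.single 𝒜 (ComplexShape.up ℤ) n).obj M ⟶ res I n :=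
  (extendSingleIso (ComplexShape.embeddingUpIntGE n) M 0 n (by simp)).inv ≫
    extendMap I.ι (ComplexShape.embeddingUpIntGE n)

instance : QuasiIso (ιRes I n) := by
  have h1 : QuasiIso (extendMap I.ι (ComplexShape.embeddingUpIntGE n)) := by
    rw [quasiIso_extendMap_iff]
    infer_instance
  dsimp only [ιRes]
  have h2 : QuasiIso (extendSingleIso (ComplexShape.embeddingUpIntGE n) M 0 n (by simp)).inv :=
    quasiIso_of_isIso _
  exact (quasiIso_iff_comp_left _ _).2 h1

end single

section homology

variable {𝒜 : Type u} [Category.{v} 𝒜] [Abelian 𝒜] [HasInjectiveResolutions 𝒜]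
  {ℬ : Type u'} [Category.{v'} ℬ] [Abelian ℬ] (F : 𝒜 ⥤ ℬ) [F.Additive]
  {M : 𝒜} (I : InjectiveResolution M) (n : ℤ)

/-- `F` commutes with `res` -/
noncomputable def mapResIso :
    (F.mapHomologicalComplex (ComplexShape.up ℤ)).obj (res I n) ≅
      ((F.mapHomologicalComplex (ComplexShape.up ℕ)).obj I.cocomplex).extend
        (ComplexShape.embeddingUpIntGE n) :=
  asIso (Groth.Agent.S6624.gam F (ComplexShape.embeddingUpIntGE n) I.cocomplex)

/-- the cohomology of `F (res I n)` computes the right derived functors of `F` -/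
noncomputable def homologyMapResIso (p : ℕ) (j : ℤ) (h : n + p = j) :
    ((F.mapHomologicalComplex (ComplexShape.up ℤ)).obj (res I n)).homology j ≅
      (F.rightDerived p).obj M :=
  (HomologicalComplex.homologyFunctor ℬ (ComplexShape.up ℤ) j).mapIso (mapResIso F I n) ≪≫
    ((F.mapHomologicalComplex (ComplexShape.up ℕ)).obj I.cocomplex).extendHomologyIso
      (ComplexShape.embeddingUpIntGE n) (j := p) (j' := j) h ≪≫
    (I.isoRightDerivedObj F p).symm

lemma isZero_homologyMapRes (j : ℤ) (hj : j < n) :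
    IsZero (((F.mapHomologicalComplex (ComplexShape.up ℤ)).obj (res I n)).homology j) := by
  have : CochainComplex.IsStrictlyGE
      ((F.mapHomologicalComplex (ComplexShape.up ℤ)).obj (res I n)) n := inferInstance
  exact (CochainComplex.exactAt_of_isGE
    ((F.mapHomologicalComplex (ComplexShape.up ℤ)).obj (res I n)) n j hj).isZero_homology

end homology

section derived

variable {𝒜 : Type u} [Category.{v} 𝒜] [Abelian 𝒜] [IsGrothendieckAbelian.{v} 𝒜]
  [HasInjectiveResolutions 𝒜]
  {ℬ : Type u'} [Category.{v'} ℬ] [Abelian ℬ] (F : 𝒜 ⥤ ℬ) [F.Additive]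
  [HasDerivedCategory.{w} 𝒜] [HasDerivedCategory.{w'} ℬ]
  (RG : DerivedCategory 𝒜 ⥤ DerivedCategory ℬ)
  (α : (F.mapHomotopyCategory (ComplexShape.up ℤ) ⋙ DerivedCategory.Qh) ⟶
    DerivedCategory.Qh ⋙ RG)
  [RG.IsRightDerivedFunctor α (HomotopyCategory.quasiIso 𝒜 (ComplexShape.up ℤ))]

instance isKInjective_res {M : 𝒜} (I : InjectiveResolution M) (n : ℤ) :
    (res I n).IsKInjective := by
  haveI : ∀ j : ℤ, Injective ((res I n).X j) := injective_res_X I n
  exact CochainComplex.isKInjective_of_injective (res I n) n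

/-- `M` placed in degree `n` is isomorphic in `D(𝒜)` to its resolution -/
noncomputable def singleIso {M : 𝒜} (I : InjectiveResolution M) (n : ℤ) :
    (DerivedCategory.singleFunctor 𝒜 n).obj M ≅ DerivedCategory.Q.obj (res I n) :=
  let e2 : DerivedCategory.Q.obj ((HomologicalComplex.single 𝒜 (ComplexShape.up ℤ) n).obj M) ≅
      DerivedCategory.Q.obj (res I n) := asIso (DerivedCategory.Q.map (ιRes I n))
  (DerivedCategory.singleFunctorIsoCompQ 𝒜 n).app M ≪≫ e2

include α in
lemma isIso_unit_res {M : 𝒜} (I : InjectiveResolution M) (n : ℤ) :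
    IsIso (α.app ((HomotopyCategory.quotient 𝒜 (ComplexShape.up ℤ)).obj (res I n))) :=
  Groth.Agent.Lib.Helper25.KInjDerived.isIso_unit_homotopyCategory
    (F.mapHomotopyCategory (ComplexShape.up ℤ) ⋙ DerivedCategory.Qh) DerivedCategory.Qh RG α
    (res I n)

/-- `RG` of a single object is computed by an injective resolution -/
noncomputable def rgSingleIso {M : 𝒜} (I : InjectiveResolution M) (n : ℤ) :
    RG.obj ((DerivedCategory.singleFunctor 𝒜 n).obj M) ≅
      DerivedCategory.Q.obj ((F.mapHomologicalComplex (ComplexShape.up ℤ)).obj (res I n)) :=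
  RG.mapIso (singleIso I n) ≪≫
    (@asIso _ _ _ _ (α.app ((HomotopyCategory.quotient 𝒜 (ComplexShape.up ℤ)).obj (res I n)))
      (isIso_unit_res F RG α I n)).symm

include α in
/-- the cohomology of `RG` of a single object -/
lemma isZero_homology_rg_single (M : 𝒜) (n i : ℤ)
    (h : i < n ∨ ∃ p : ℕ, n + p = i ∧ IsZero ((F.rightDerived p).obj M)) :
    IsZero ((DerivedCategory.homologyFunctor ℬ i).obj
      (RG.obj ((DerivedCategory.singleFunctor 𝒜 n).obj M))) := by
  let I : InjectiveResolution M := injectiveResolution M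
  refine IsZero.of_iso ?_ ((DerivedCategory.homologyFunctor ℬ i).mapIso (rgSingleIso F RG α I n) ≪≫
    (DerivedCategory.homologyFunctorFactors ℬ i).app _)
  rcases h with h | ⟨p, hp, hz⟩
  · exact isZero_homologyMapRes F I n i h
  · exact hz.of_iso (homologyMapResIso F I n p i hp)

include α in
/-- two out of three for the vanishing of `Hⁱ(RG -)` along distinguished triangles -/
lemma isZero_homology_of_distTriang (T : Triangle (DerivedCategory 𝒜)) (hT : T ∈ distTriang _)
    (i : ℤ) (h₁ : IsZero ((DerivedCategory.homologyFunctor ℬ i).obj (RG.obj T.obj₁)))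
    (h₃ : IsZero ((DerivedCategory.homologyFunctor ℬ i).obj (RG.obj T.obj₃))) :
    IsZero ((DerivedCategory.homologyFunctor ℬ i).obj (RG.obj T.obj₂)) := by
  obtain ⟨δ, hδ⟩ := RFTri.exists_distTriang_map'
    (F.mapHomotopyCategory (ComplexShape.up ℤ) ⋙ DerivedCategory.Qh) RG α T hT
  have hex := DerivedCategory.HomologySequence.exact₂ _ hδ i
  exact hex.isZero_of_both_zeros (h₁.eq_of_src _ _) (h₃.eq_of_tgt _ _)

/-- the cohomology of a single object -/
noncomputable def homologySingleIso (M : 𝒜) (b : ℤ) :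
    (DerivedCategory.homologyFunctor 𝒜 b).obj ((DerivedCategory.singleFunctor 𝒜 b).obj M) ≅ M :=
  (DerivedCategory.homologyFunctor 𝒜 b).mapIso ((DerivedCategory.singleFunctorIsoCompQ 𝒜 b).app M) ≪≫
    (DerivedCategory.homologyFunctorFactors 𝒜 b).app
      ((HomologicalComplex.single 𝒜 (ComplexShape.up ℤ) b).obj M) ≪≫
    HomologicalComplex.singleObjHomologySelfIso (ComplexShape.up ℤ) b M

variable (P : ObjectProperty 𝒜) [P.IsClosedUnderIsomorphisms] (N : ℕ)

include α in
theorem isZero_homology_rg_aux
    (hF : ∀ M : 𝒜, P M → ∀ p : ℕ, N ≤ p → IsZero ((F.rightDerived p).obj M)) (n : ℕ) :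
    ∀ (a b : ℤ) (_ : b - a + 1 ≤ n) (E : DerivedCategory 𝒜)
      (_ : ∀ i, a ≤ i → i ≤ b → P ((DerivedCategory.homologyFunctor 𝒜 i).obj E))
      (_ : ∀ i, i < a ∨ b < i → IsZero ((DerivedCategory.homologyFunctor 𝒜 i).obj E))
      (i : ℤ) (_ : i < a ∨ b + N - 1 < i),
      IsZero ((DerivedCategory.homologyFunctor ℬ i).obj (RG.obj E)) := by
  haveI : RG.Additive := RFTri.additive
    (F.mapHomotopyCategory (ComplexShape.up ℤ) ⋙ DerivedCategory.Qh) RG α
  -- the degenerate case
  have hdeg : ∀ (a b : ℤ) (_ : b < a) (E : DerivedCategory 𝒜)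
      (_ : ∀ i, i < a ∨ b < i → IsZero ((DerivedCategory.homologyFunctor 𝒜 i).obj E)) (i : ℤ),
      IsZero ((DerivedCategory.homologyFunctor ℬ i).obj (RG.obj E)) := by
    intro a b hba E hab i
    haveI : E.IsGE a := (DerivedCategory.isGE_iff E a).2 (fun j hj => hab j (Or.inl hj))
    haveI : E.IsLE (a - 1) := (DerivedCategory.isLE_iff E (a - 1)).2
      (fun j hj => hab j (Or.inr (by omega)))
    have hz : IsZero E := DerivedCategory.TStructure.t.isZero E (a - 1) a (by omega)
    exact (DerivedCategory.homologyFunctor ℬ i).map_isZero (RG.map_isZero hz)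
  induction n with
  | zero =>
    intro a b hn E _ hab i _
    exact hdeg a b (by omega) E hab i
  | succ n ih =>
    intro a b hn E hP hab i hi
    by_cases hba : b < a
    · exact hdeg a b hba E hab i
    have hab' : a ≤ b := by omega
    obtain ⟨X, Y, hX, hY, f, g, h, hT⟩ :=
      DerivedCategory.TStructure.t.exists_triangle E (b - 1) b (by omega)
    haveI : X.IsLE (b - 1) := ⟨hX⟩
    haveI : Y.IsGE b := ⟨hY⟩
    have hXz : ∀ j, b - 1 < j → IsZero ((DerivedCategory.homologyFunctor 𝒜 j).obj X) :=
      fun j hj => DerivedCategory.isZero_of_isLE X (b - 1) j hj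
    have hYz : ∀ j, j < b → IsZero ((DerivedCategory.homologyFunctor 𝒜 j).obj Y) :=
      fun j hj => DerivedCategory.isZero_of_isGE Y b j hj
    -- `Hʲ(X) ≅ Hʲ(E)` for `j ≤ b - 1`
    have hfiso : ∀ j, j ≤ b - 1 → IsIso ((DerivedCategory.homologyFunctor 𝒜 j).map f) := by
      intro j hj
      have hmono : Mono ((DerivedCategory.homologyFunctor 𝒜 j).map f) :=
        (DerivedCategory.HomologySequence.mono_homologyMap_mor₁_iff _ hT (j - 1) j (by omega)).2
          ((hYz (j - 1) (by omega)).eq_of_src _ _)
      have hepi : Epi ((DerivedCategory.homologyFunctor 𝒜 j).map f) :=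
        (DerivedCategory.HomologySequence.epi_homologyMap_mor₁_iff _ hT j).2
          ((hYz j (by omega)).eq_of_tgt _ _)
      exact isIso_of_mono_of_epi _
    -- `Hʲ(E) ≅ Hʲ(Y)` for `b ≤ j`
    have hgiso : ∀ j, b ≤ j → IsIso ((DerivedCategory.homologyFunctor 𝒜 j).map g) := by
      intro j hj
      have hmono : Mono ((DerivedCategory.homologyFunctor 𝒜 j).map g) :=
        (DerivedCategory.HomologySequence.mono_homologyMap_mor₂_iff _ hT j).2
          ((hXz j (by omega)).eq_of_src _ _)
      have hepi : Epi ((DerivedCategory.homologyFunctor 𝒜 j).map g) :=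
        (DerivedCategory.HomologySequence.epi_homologyMap_mor₂_iff _ hT j (j + 1) rfl).2
          ((hXz (j + 1) (by omega)).eq_of_tgt _ _)
      exact isIso_of_mono_of_epi _
    -- the induction hypothesis for `X`
    have hRX : IsZero ((DerivedCategory.homologyFunctor ℬ i).obj (RG.obj X)) := by
      refine ih a (b - 1) (by omega) X ?_ ?_ i (by omega)
      · intro j hj1 hj2
        haveI := hfiso j hj2
        exact P.prop_of_iso (asIso ((DerivedCategory.homologyFunctor 𝒜 j).map f)).symm
          (hP j hj1 (by omega))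
      · rintro j (hj | hj)
        · haveI := hfiso j (by omega)
          exact (hab j (Or.inl hj)).of_iso (asIso ((DerivedCategory.homologyFunctor 𝒜 j).map f))
        · exact hXz j hj
    -- `Y` is a single object
    haveI : Y.IsLE b := by
      rw [DerivedCategory.isLE_iff]
      intro j hj
      haveI := hgiso j (by omega)
      exact (hab j (Or.inr hj)).of_iso (asIso ((DerivedCategory.homologyFunctor 𝒜 j).map g)).symm
    obtain ⟨M, ⟨e⟩⟩ := DerivedCategory.exists_iso_singleFunctor_obj_of_isGE_of_isLE Y b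
    have hPM : P M := by
      haveI := hgiso b le_rfl
      exact P.prop_of_iso (asIso ((DerivedCategory.homologyFunctor 𝒜 b).map g) ≪≫
        (DerivedCategory.homologyFunctor 𝒜 b).mapIso e ≪≫ homologySingleIso M b) (hP b hab' le_rfl)
    have hRY : IsZero ((DerivedCategory.homologyFunctor ℬ i).obj (RG.obj Y)) := by
      refine IsZero.of_iso ?_ ((DerivedCategory.homologyFunctor ℬ i).mapIso (RG.mapIso e))
      apply isZero_homology_rg_single F RG α M b i
      rcases hi with hi | hi
      · exact Or.inl (by omega)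
      · refine Or.inr ⟨(i - b).toNat, ?_, hF M hPM _ ?_⟩
        · have := Int.toNat_of_nonneg (show 0 ≤ i - b by omega)
          omega
        · have := Int.toNat_of_nonneg (show 0 ≤ i - b by omega)
          omega
    exact isZero_homology_of_distTriang F RG α _ hT i hRX hRY

include α in
/-- **Cohomological amplitude of `RG` on bounded objects.** -/
theorem isZero_homology_rg
    (hF : ∀ M : 𝒜, P M → ∀ p : ℕ, N ≤ p → IsZero ((F.rightDerived p).obj M))
    (E : DerivedCategory 𝒜) (a b : ℤ)
    (hP : ∀ i, P ((DerivedCategory.homologyFunctor 𝒜 i).obj E))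
    (hab : ∀ i, i < a ∨ b < i → IsZero ((DerivedCategory.homologyFunctor 𝒜 i).obj E))
    (i : ℤ) (hi : i < a ∨ b + N - 1 < i) :
    IsZero ((DerivedCategory.homologyFunctor ℬ i).obj (RG.obj E)) :=
  isZero_homology_rg_aux F RG α P N hF (b - a + 1).toNat a b (Int.self_le_toNat _) E
    (fun i _ _ => hP i) hab i hi

end derived

end Groth.Agent.Lib.Helper89.RFAmp
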