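import Mathlib
import Groth.Agent.Lib.Helper89.TriRes
import Groth.Agent.Lib.Helper89.KanOp

/-!
# Left derived functors from left resolutions in triangulated categories
(dual of `TriRes`, obtained by passing to opposite categories)
-/

set_option autoImplicit false
set_option linter.style.haveILetI false
set_option linter.unusedSectionVars false

open CategoryTheory Category Limits Pretriangulated ZeroObject Opposite
open CategoryTheory.Pretriangulated.Opposite

namespace Groth.Agent.Lib.Helper89.TriLRes

open Groth.Agent.Lib.Helper89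

section derivedOp

variable {C D H : Type*} [Category C] [Category D] [Category H]

/-- `F` has a left derived functor if `F.op` has a right derived functor -/
lemma hasLeftDerivedFunctor_of_op (F : C ⥤ H) (W : MorphismProperty C)
    [F.op.HasRightDerivedFunctor W.op] : F.HasLeftDerivedFunctor W := by
  have h1 : Functor.HasLeftKanExtension W.Q.op F.op :=
    (Functor.hasRightDerivedFunctor_iff F.op W.Q.op W.op).1 inferInstance
  let E' := Functor.leftKanExtension W.Q.op F.op
  let β := Functor.leftKanExtensionUnit W.Q.op F.op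
  haveI := KanOp.isRightKanExtension_unop (L := W.Q) (F := F) E' β
  have h2 : Functor.HasRightKanExtension W.Q F :=
    Functor.HasRightKanExtension.mk E'.unop (KanOp.unopNat E' β)
  exact (Functor.hasLeftDerivedFunctor_iff F W.Q W).2 h2

/-- the opposite of a left derived functor is a right derived functor -/
lemma isRightDerivedFunctor_op (L : C ⥤ D) (W : MorphismProperty C) [L.IsLocalization W]
    (F : C ⥤ H) (LF : D ⥤ H) (α : L ⋙ LF ⟶ F) [LF.IsLeftDerivedFunctor α W] :
    LF.op.IsRightDerivedFunctor (F := F.op) (L := L.op) (KanOp.opNat LF α) W.op := by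
  haveI : LF.IsRightKanExtension α := Functor.IsLeftDerivedFunctor.isRightKanExtension LF α W
  haveI := KanOp.isLeftKanExtension_op LF α
  exact ⟨inferInstance⟩

end derivedOp

variable {C : Type*} [Category C] [HasZeroObject C] [HasShift C ℤ] [Preadditive C]
  [∀ (n : ℤ), (shiftFunctor C n).Additive] [Pretriangulated C] [IsTriangulated C]
  (A B : ObjectProperty C) [A.IsTriangulated] [B.IsTriangulated] [B.IsClosedUnderIsomorphisms]

/-- the left resolution hypothesis -/
def HasLRes : Prop := ∀ X : C, ∃ (Y : C) (s : Y ⟶ X), A Y ∧ B.trW s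

variable {A B}

lemma hasRes_op (h : HasLRes A B) : TriRes.HasRes A.op B.op := by
  intro X
  obtain ⟨Y, s, hY, hs⟩ := h X.unop
  refine ⟨op Y, s.op, hY, ?_⟩
  rw [ObjectProperty.trW_op]
  exact hs

section derives

variable {D : Type*} [Category D] [HasZeroObject D] [HasShift D ℤ] [Preadditive D]
  [∀ (n : ℤ), (shiftFunctor D n).Additive] [Pretriangulated D]
  (G : C ⥤ D) [G.CommShift ℤ] [G.IsTriangulated]

lemma isZero_op (hG : ∀ X : C, A X → B X → IsZero (G.obj X)) :
    ∀ X : Cᵒᵖ, A.op X → B.op X → IsZero (G.op.obj X) :=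
  fun X hA hB => (hG X.unop hA hB).op

theorem hasLeftDerivedFunctor (W : MorphismProperty C) (hW : W = B.trW) (h : HasLRes A B)
    (hG : ∀ X : C, A X → B X → IsZero (G.obj X)) :
    G.HasLeftDerivedFunctor W := by
  subst hW
  haveI : G.op.HasPointwiseRightDerivedFunctor B.trW.op :=
    TriRes.hasPointwiseRightDerivedFunctor' G.op B.trW.op (ObjectProperty.trW_op B).symm
      (hasRes_op h) (isZero_op G hG)
  exact hasLeftDerivedFunctor_of_op G B.trW

theorem isIso_counit (W : MorphismProperty C) (hW : W = B.trW) (h : HasLRes A B)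
    (hG : ∀ X : C, A X → B X → IsZero (G.obj X))
    {D₂ : Type*} [Category D₂] (L : C ⥤ D₂) [L.IsLocalization W]
    (LG : D₂ ⥤ D) (α : L ⋙ LG ⟶ G) [LG.IsLeftDerivedFunctor α W]
    (X : C) (hX : A X) : IsIso (α.app X) := by
  subst hW
  haveI := isRightDerivedFunctor_op L B.trW G LG α
  have := TriRes.isIso_unit' G.op B.trW.op (ObjectProperty.trW_op B).symm
    (hasRes_op h) (isZero_op G hG) L.op LG.op (KanOp.opNat LG α) (op X) hX
  have h2 : IsIso (α.app X).op := this
  exact isIso_of_op (α.app X)

end derives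

section lift

lemma isVerdierLeftLocalizing (h : HasLRes A B) : A.IsVerdierLeftLocalizing B := by
  rw [ObjectProperty.isVerdierLeftLocalizing_iff]
  intro X Y s hY hs
  obtain ⟨Z, a, hZ, ha⟩ := h X
  have hs' : B.trW (a ≫ s) := MorphismProperty.comp_mem _ _ _ ha hs
  refine ⟨Z, a ≫ s, a, hZ, ?_, rfl⟩
  obtain ⟨W, hW, e, f, hT⟩ := A.distinguished_cocone_triangle (a ≫ s) hZ hY
  have hBW : B W := (B.trW_iff_of_distinguished _ hT).1 hs'
  exact ⟨W, e, f, hT, hW, hBW⟩

lemma essSurj (h : HasLRes A B) {D : Type*} [Category D] (L : C ⥤ D) [L.IsLocalization B.trW] :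
    (A.ι ⋙ L).EssSurj where
  mem_essImage X := by
    haveI := Localization.essSurj L B.trW
    obtain ⟨Y, s, hY, hs⟩ := h (L.objPreimage X)
    haveI := Localization.inverts L B.trW s hs
    exact ⟨⟨Y, hY⟩, ⟨asIso (L.map s) ≪≫ L.objObjPreimageIso X⟩⟩

lemma isLocalization (h : HasLRes A B) {D : Type*} [Category D] (L : C ⥤ D)
    [L.IsLocalization B.trW] :
    (A.ι ⋙ L).IsLocalization (B.inverseImage A.ι).trW := by
  haveI := isVerdierLeftLocalizing h
  haveI := essSurj h L
  exact (A.triangulatedLocalizerMorphism B).isLocalization_of_isLocalizedFullyFaithful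
    (L₂ := L) (L₁ := A.ι ⋙ L) (F := 𝟭 _) (Functor.rightUnitor _).symm

/-- two functors on the localization agreeing on `A` are isomorphic -/
theorem nonempty_iso_of_iso_on (W : MorphismProperty C) (hW : W = B.trW) (h : HasLRes A B)
    {D₂ E : Type*} [Category D₂] [Category E] (L : C ⥤ D₂) [L.IsLocalization W]
    (U V : D₂ ⥤ E) (e : (A.ι ⋙ L) ⋙ U ≅ (A.ι ⋙ L) ⋙ V) : Nonempty (U ≅ V) := by
  subst hW
  haveI := isLocalization h L
  exact ⟨Localization.liftNatIso (A.ι ⋙ L) (B.inverseImage A.ι).trW
    ((A.ι ⋙ L) ⋙ U) ((A.ι ⋙ L) ⋙ V) U V e⟩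

end lift

end Groth.Agent.Lib.Helper89.TriLRes
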