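import Mathlib
import Groth.Agent.Lib.Helper89.AcycRes
import Groth.Agent.Lib.Helper89.TriLRes
import Groth.Agent.Lib.Helper89.LRes

/-!
# `RF ≅ L(RⁿF)⟦-n⟧` (Hartshorne RD I.7.4), part 1: the left derived functor of `RⁿF` exists
-/

set_option autoImplicit false
set_option linter.style.haveILetI false
set_option linter.unusedSectionVars false

universe w w' v v' u u'

open CategoryTheory Category Limits Pretriangulated HomologicalComplex ZeroObject

namespace Groth.Agent.Lib.Helper89.RFLG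

open Groth.Agent.Lib.Helper89 Groth.Agent.Lib.Helper89.AcycRes
open Groth.Agent.Lib.Helper68.RightDerivedLES

variable {𝒜 : Type u} [Category.{v} 𝒜] [Abelian 𝒜] [HasInjectiveResolutions 𝒜]
  {ℬ : Type u'} [Category.{v'} ℬ] [Abelian ℬ] (F : 𝒜 ⥤ ℬ) [F.Additive]
  [PreservesFiniteLimits F]

/-- objects whose only nonzero derived functor is `RᵏF` -/
def Pk (k : ℕ) : ObjectProperty 𝒜 := fun X => ∀ i : ℕ, i ≠ k → IsZero ((F.rightDerived i).obj X)

lemma isZero_rightDerived_of_isZero (i : ℕ) (Z : 𝒜) (hZ : IsZero Z) :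
    IsZero ((F.rightDerived i).obj Z) := by
  cases i with
  | zero =>
    exact IsZero.of_iso (F.map_isZero hZ) ((Functor.rightDerivedZeroIsoSelf F).app Z)
  | succ j =>
    haveI : Injective Z := ⟨fun {X Y} g f _ => ⟨0, hZ.eq_of_tgt _ _⟩⟩
    exact F.isZero_rightDerived_obj_injective_succ j Z

instance addClass_Pk (k : ℕ) : AddClass (Pk F k) where
  iso e hX i hi := IsZero.of_iso (hX i hi) ((F.rightDerived i).mapIso e.symm)
  zero Z hZ i _ := isZero_rightDerived_of_isZero F i Z hZ
  biprod X Y hX hY i hi :=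
    isZero_mid F (ShortComplex.Splitting.ofHasBinaryBiproduct X Y).shortExact i (hX i hi) (hY i hi)

lemma Pk_zero_iff (X : 𝒜) : Pk F 0 X ↔ FAcyclic F X := by
  constructor
  · intro h i hi
    exact h i (by omega)
  · intro h i hi
    exact h i (by omega)

section lres

variable (n : ℕ) (hdim : ∀ (X : 𝒜) (i : ℕ), n < i → IsZero ((F.rightDerived i).obj X))
  (hP : ∀ X : 𝒜, ∃ (Y : 𝒜) (p : Y ⟶ X), Epi p ∧ ∀ i : ℕ, i ≠ n → IsZero ((F.rightDerived i).obj Y))

include hP in
lemma coResClass_Pk : LRes.CoResClass (Pk F n) where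
  iso := AddClass.iso
  zero := ⟨0, isZero_zero _, AddClass.zero _ (isZero_zero _)⟩
  biprod := AddClass.biprod
  enough X := by
    obtain ⟨Y, p, hp, hY⟩ := hP X
    exact ⟨Y, p, hY, hp⟩

/-- the levels -/
def Lev (j : ℕ) : ObjectProperty 𝒜 := fun M => ∀ i : ℕ, i + j < n → IsZero ((F.rightDerived i).obj M)

include hdim in
lemma lev_zero (M : 𝒜) (h : Lev F n 0 M) : Pk F n M := by
  intro i hi
  rcases Nat.lt_or_gt_of_ne hi with h1 | h1
  · exact h i (by omega)
  · exact hdim M i h1

lemma lev_step (j : ℕ) (S : ShortComplex 𝒜) (hS : S.ShortExact) (h₂ : Pk F n S.X₂)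
    (h₃ : Lev F n (j + 1) S.X₃) : Lev F n j S.X₁ := by
  intro i hi
  cases i with
  | zero =>
    haveI := mono_map_f_zero F hS
    exact IsZero.of_mono ((F.rightDerived 0).map S.f) (h₂ 0 (by omega))
  | succ i' =>
    exact isZero_left F hS i' (h₃ i' (by omega)) (h₂ (i' + 1) (by omega))

include hdim hP in
theorem exists_lres (K : CochainComplex 𝒜 ℤ) :
    ∃ (L : CochainComplex 𝒜 ℤ) (g : L ⟶ K), QuasiIso g ∧ ∀ k : ℤ, Pk F n (L.X k) := by
  haveI := coResClass_Pk F n hP
  exact LRes.exists_lres (Pk F n) (Lev F n) (lev_zero F n hdim) (lev_step F n) n K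
    (fun k i hi => by omega)

include hdim hP in
lemma hasLRes :
    TriLRes.HasLRes (termwise (Pk F n)) (HomotopyCategory.subcategoryAcyclic 𝒜) := by
  intro X
  obtain ⟨K, rfl⟩ := HomotopyCategory.quotient_obj_surjective X
  obtain ⟨L, g, hg, hL⟩ := exists_lres F n hdim hP K
  refine ⟨_, (HomotopyCategory.quotient 𝒜 (ComplexShape.up ℤ)).map g,
    termwise_quotient_obj _ L hL, ?_⟩
  rw [← HomotopyCategory.quasiIso_eq_trW_subcategoryAcyclic,
    HomotopyCategory.quotient_map_mem_quasiIso_iff]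
  exact hg

end lres

section acyclic

/-- a complex is sent to an acyclic complex by a functor sending the cycle sequences to short
exact sequences -/
theorem acyclic_of_cyclesSC (T : 𝒜 ⥤ ℬ) [T.PreservesZeroMorphisms] (K : CochainComplex 𝒜 ℤ)
    (h : ∀ m : ℤ, ((cyclesSC K m (m + 1)).map T).ShortExact) :
    ((T.mapHomologicalComplex (ComplexShape.up ℤ)).obj K).Acyclic := by
  intro m
  rw [HomologicalComplex.exactAt_iff' _ (m - 1) m (m + 1) (by simp) (by simp)]
  have hmid : ((cyclesSC K m (m + 1)).map T).Exact := (h m).exact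
  let S' : ShortComplex ℬ := ShortComplex.mk (T.map (K.d (m - 1) m))
    (T.map (K.toCycles m (m + 1))) (by
      rw [← T.map_comp, K.d_toCycles, T.map_zero])
  have hS'ex : S'.Exact := by
    let φ₁ : S' ⟶ (cyclesSC K m (m + 1)).map T :=
      { τ₁ := T.map (K.toCycles (m - 1) m)
        τ₂ := 𝟙 _
        τ₃ := 𝟙 _
        comm₁₂ := by
          show T.map (K.toCycles (m - 1) m) ≫ T.map (K.iCycles m) = T.map (K.d (m - 1) m) ≫ 𝟙 _
          rw [← T.map_comp, toCycles_i, Category.comp_id]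
        comm₂₃ := by
          show 𝟙 _ ≫ T.map (K.toCycles m (m + 1)) = T.map (K.toCycles m (m + 1)) ≫ 𝟙 _
          rw [Category.id_comp, Category.comp_id] }
    haveI : Epi φ₁.τ₁ := by
      have hepi : ∀ m : ℤ, Epi (T.map (K.toCycles m (m + 1))) := fun m => (h m).epi_g
      have := hepi (m - 1)
      show Epi (T.map (K.toCycles (m - 1) m))
      convert this using 3 <;> omega
    haveI : IsIso φ₁.τ₂ := inferInstanceAs (IsIso (𝟙 _))
    haveI : Mono φ₁.τ₃ := inferInstanceAs (Mono (𝟙 _))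
    exact (ShortComplex.exact_iff_of_epi_of_isIso_of_mono φ₁).2 hmid
  let φ₂ : S' ⟶ ((T.mapHomologicalComplex (ComplexShape.up ℤ)).obj K).sc' (m - 1) m (m + 1) :=
    { τ₁ := 𝟙 _
      τ₂ := 𝟙 _
      τ₃ := T.map (K.iCycles (m + 1))
      comm₁₂ := by
        show 𝟙 _ ≫ T.map (K.d (m - 1) m) = T.map (K.d (m - 1) m) ≫ 𝟙 _
        rw [Category.id_comp, Category.comp_id]
      comm₂₃ := by
        show 𝟙 _ ≫ T.map (K.d m (m + 1)) = T.map (K.toCycles m (m + 1)) ≫ T.map (K.iCycles (m + 1))
        rw [Category.id_comp, ← T.map_comp, toCycles_i] }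
  haveI : Epi φ₂.τ₁ := inferInstanceAs (Epi (𝟙 _))
  haveI : IsIso φ₂.τ₂ := inferInstanceAs (IsIso (𝟙 _))
  haveI : Mono φ₂.τ₃ := (h (m + 1)).mono_f
  exact (ShortComplex.exact_iff_of_epi_of_isIso_of_mono φ₂).1 hS'ex

variable (n : ℕ) (hdim : ∀ (X : 𝒜) (i : ℕ), n < i → IsZero ((F.rightDerived i).obj X))

include hdim in
/-- a short exact sequence of objects of `Pk n` is sent to a short exact sequence by `RⁿF` -/
lemma shortExact_map_rightDerived (S : ShortComplex 𝒜) (hS : S.ShortExact)
    (h₁ : Pk F n S.X₁) (h₃ : Pk F n S.X₃) [(F.rightDerived n).PreservesZeroMorphisms] :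
    (S.map (F.rightDerived n)).ShortExact := by
  have hmono : Mono ((F.rightDerived n).map S.f) := by
    cases n with
    | zero => exact mono_map_f_zero F hS
    | succ j =>
      exact (exact₁ F hS j).mono_g ((h₃ j (by omega)).eq_of_src _ _)
  have hepi : Epi ((F.rightDerived n).map S.g) :=
    (exact₃ F hS n).epi_f ((hdim S.X₁ (n + 1) (by omega)).eq_of_tgt _ _)
  exact
    { exact := exact₂ F hS n
      mono_f := hmono
      epi_g := hepi }

include hdim in
/-- an acyclic complex with terms in `Pk n` is sent to an acyclic complex by `RⁿF` -/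
theorem acyclic_map_rightDerived [(F.rightDerived n).PreservesZeroMorphisms]
    (K : CochainComplex 𝒜 ℤ) (hK : K.Acyclic) (hP : ∀ m, Pk F n (K.X m)) :
    (((F.rightDerived n).mapHomologicalComplex (ComplexShape.up ℤ)).obj K).Acyclic := by
  have hS : ∀ m : ℤ, (cyclesSC K m (m + 1)).ShortExact := fun m =>
    cyclesSC_shortExact K m (m + 1) (by simp) (hK (m + 1))
  have hZ : ∀ (i : ℕ), i < n → ∀ m : ℤ, IsZero ((F.rightDerived i).obj (K.cycles m)) := by
    intro i
    induction i with
    | zero =>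
      intro h0 m
      haveI := mono_map_f_zero F (hS m)
      exact IsZero.of_mono ((F.rightDerived 0).map (cyclesSC K m (m + 1)).f) (hP m 0 (by omega))
    | succ i ih =>
      intro hi m
      exact isZero_left F (hS m) i (ih (by omega) (m + 1)) (hP m (i + 1) (by omega))
  have hZ' : ∀ m : ℤ, Pk F n (K.cycles m) := by
    intro m i hi
    rcases Nat.lt_or_gt_of_ne hi with h1 | h1
    · exact hZ i h1 m
    · exact hdim _ i h1
  exact acyclic_of_cyclesSC (F.rightDerived n) K
    (fun m => shortExact_map_rightDerived F n hdim _ (hS m) (hZ' m) (hZ' (m + 1)))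

end acyclic

end Groth.Agent.Lib.Helper89.RFLG
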