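import Mathlib
import Groth.Agent.Lib.Helper89.RFLG1

/-!
# `RF ≅ L(RⁿF)⟦-n⟧` (Hartshorne RD I.7.4), part 2: dimension shifting on complexes
-/

set_option autoImplicit false
set_option linter.style.haveILetI false
set_option linter.unusedSectionVars false

universe w w' v v' u u'

open CategoryTheory Category Limits Pretriangulated HomologicalComplex ZeroObject

namespace Groth.Agent.Lib.Helper89.RFLG

open Groth.Agent.Lib.Helper89 Groth.Agent.Lib.Helper89.AcycRes
open Groth.Agent.Lib.Helper68.RightDerivedLES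

section four

variable {ℬ : Type u'} [Category.{v'} ℬ] [Abelian ℬ]

lemma quasiIso_of_both_acyclic {X Y : CochainComplex ℬ ℤ} (f : X ⟶ Y) (hX : X.Acyclic)
    (hY : Y.Acyclic) : QuasiIso f := by
  rw [quasiIso_iff]
  intro i
  rw [quasiIsoAt_iff_exactAt f i (hX i)]
  exact hY i

/-- in a short exact sequence of complexes with acyclic kernel, the epimorphism is a
quasi-isomorphism -/
lemma quasiIso_g_of_acyclic_X₁ {S : ShortComplex (CochainComplex ℬ ℤ)} (hS : S.ShortExact)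
    (h₁ : S.X₁.Acyclic) : QuasiIso S.g := by
  rw [quasiIso_iff]
  intro i
  rw [quasiIsoAt_iff_isIso_homologyMap]
  have hz : ∀ k, IsZero (S.X₁.homology k) := fun k =>
    (exactAt_iff_isZero_homology _ _).1 (h₁ k)
  haveI : Mono (homologyMap S.g i) :=
    (hS.homology_exact₂ i).mono_g ((hz i).eq_of_src _ _)
  haveI : Epi (homologyMap S.g i) :=
    (hS.homology_exact₃ i (i + 1) (by simp)).epi_f ((hz (i + 1)).eq_of_tgt _ _)
  exact isIso_of_mono_of_epi _

/-- a four term exact sequence `0 ⟶ X₁ ⟶ X₂ ⟶ X₃ ⟶ X₄ ⟶ 0` of complexes with `X₁` and `X₂`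
acyclic: the last map is a quasi-isomorphism -/
theorem quasiIso_of_four {X₁ X₂ X₃ X₄ : CochainComplex ℬ ℤ} (f : X₁ ⟶ X₂) (g : X₂ ⟶ X₃)
    (h : X₃ ⟶ X₄) (w₁ : f ≫ g = 0) (w₂ : g ≫ h = 0)
    (ex₁ : (ShortComplex.mk f g w₁).Exact) (ex₂ : (ShortComplex.mk g h w₂).Exact)
    [Mono f] [Epi h] (a₁ : X₁.Acyclic) (a₂ : X₂.Acyclic) : QuasiIso h := by
  let e := Abelian.factorThruImage g
  let m := Abelian.image.ι g
  have hem : e ≫ m = g := Abelian.image.fac g
  have w₁' : f ≫ e = 0 := by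
    rw [← cancel_mono m, Category.assoc, hem, w₁, Limits.zero_comp]
  have w₂' : m ≫ h = 0 := by
    rw [← cancel_epi e, ← Category.assoc, hem, w₂, Limits.comp_zero]
  have hS₁ : (ShortComplex.mk f e w₁').ShortExact :=
    { exact := by
        let φ : ShortComplex.mk f e w₁' ⟶ ShortComplex.mk f g w₁ :=
          { τ₁ := 𝟙 _
            τ₂ := 𝟙 _
            τ₃ := m
            comm₁₂ := by simp
            comm₂₃ := by
              show 𝟙 _ ≫ g = e ≫ m
              rw [hem, Category.id_comp] }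
        haveI : Epi φ.τ₁ := inferInstanceAs (Epi (𝟙 _))
        haveI : IsIso φ.τ₂ := inferInstanceAs (IsIso (𝟙 _))
        haveI : Mono φ.τ₃ := inferInstanceAs (Mono m)
        exact (ShortComplex.exact_iff_of_epi_of_isIso_of_mono φ).2 ex₁
      mono_f := inferInstanceAs (Mono f)
      epi_g := inferInstanceAs (Epi e) }
  have hS₂ : (ShortComplex.mk m h w₂').ShortExact :=
    { exact := by
        let φ : ShortComplex.mk g h w₂ ⟶ ShortComplex.mk m h w₂' :=
          { τ₁ := e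
            τ₂ := 𝟙 _
            τ₃ := 𝟙 _
            comm₁₂ := by
              show e ≫ m = g ≫ 𝟙 _
              rw [hem, Category.comp_id]
            comm₂₃ := by simp }
        haveI : Epi φ.τ₁ := inferInstanceAs (Epi e)
        haveI : IsIso φ.τ₂ := inferInstanceAs (IsIso (𝟙 _))
        haveI : Mono φ.τ₃ := inferInstanceAs (Mono (𝟙 _))
        exact (ShortComplex.exact_iff_of_epi_of_isIso_of_mono φ).1 ex₂
      mono_f := inferInstanceAs (Mono m)
      epi_g := inferInstanceAs (Epi h) }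
  have hI : (Abelian.image g).Acyclic :=
    hS₁.acyclic_X₃ (quasiIso_of_both_acyclic f a₁ a₂)
  exact quasiIso_g_of_acyclic_X₁ hS₂ hI

end four

variable {𝒜 : Type u} [Category.{v} 𝒜] [Abelian 𝒜] [HasInjectiveResolutions 𝒜]
  {ℬ : Type u'} [Category.{v'} ℬ] [Abelian ℬ] (F : 𝒜 ⥤ ℬ) [F.Additive]
  [PreservesFiniteLimits F]

lemma pzm (j : ℕ) : (F.rightDerived j).PreservesZeroMorphisms :=
  Functor.preservesZeroMorphisms_of_map_zero_object
    (IsZero.isoZero (isZero_rightDerived_of_isZero F j 0 (isZero_zero _)))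

attribute [local instance] pzm

/-- `RʲF` applied termwise to complexes -/
noncomputable abbrev T (j : ℕ) : CochainComplex 𝒜 ℤ ⥤ CochainComplex ℬ ℤ :=
  (F.rightDerived j).mapHomologicalComplex (ComplexShape.up ℤ)

section Delta

variable {S S' : ShortComplex (CochainComplex 𝒜 ℤ)} (hS : S.ShortExact) (hS' : S'.ShortExact)

include hS in
lemma hSm (m : ℤ) :
    (S.map (HomologicalComplex.eval 𝒜 (ComplexShape.up ℤ) m)).ShortExact :=
  hS.map_of_exact _

/-- the differentials as a morphism of short complexes -/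
def dSC (S : ShortComplex (CochainComplex 𝒜 ℤ)) (m m' : ℤ) :
    S.map (HomologicalComplex.eval 𝒜 (ComplexShape.up ℤ) m) ⟶
      S.map (HomologicalComplex.eval 𝒜 (ComplexShape.up ℤ) m') where
  τ₁ := S.X₁.d m m'
  τ₂ := S.X₂.d m m'
  τ₃ := S.X₃.d m m'
  comm₁₂ := (S.f.comm m m').symm
  comm₂₃ := (S.g.comm m m').symm

/-- the connecting morphisms `RʲF(X₃) ⟶ Rʲ⁺¹F(X₁)` as a morphism of complexes -/
noncomputable def Δ (j : ℕ) : (T F j).obj S.X₃ ⟶ (T F (j + 1)).obj S.X₁ where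
  f m := δ F (hSm hS m) j
  comm' m m' _ := (δ_natural F (hSm hS m) (hSm hS m') (dSC S m m') j).symm

lemma Δ_natural (φ : S ⟶ S') (j : ℕ) :
    (T F j).map φ.τ₃ ≫ Δ F hS' j = Δ F hS j ≫ (T F (j + 1)).map φ.τ₁ := by
  ext m
  exact δ_natural F (hSm hS m) (hSm hS' m)
    ((HomologicalComplex.eval 𝒜 (ComplexShape.up ℤ) m).mapShortComplex.map φ) j

end Delta

section qis

lemma acyclic_of_isZero_X (K : CochainComplex ℬ ℤ) (h : ∀ m, IsZero (K.X m)) : K.Acyclic := by
  intro m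
  exact ShortComplex.exact_of_isZero_X₂ _ (h m)

lemma acyclic_of_contractible (K : CochainComplex ℬ ℤ) (h : Homotopy (𝟙 K) 0) : K.Acyclic := by
  have h0 : IsZero ((HomotopyCategory.quotient ℬ (ComplexShape.up ℤ)).obj K) :=
    (HomotopyCategory.isZero_quotient_obj_iff K).2 ⟨h⟩
  rw [← HomotopyCategory.quotient_obj_mem_subcategoryAcyclic_iff_acyclic]
  exact ObjectProperty.prop_of_isZero _ h0

lemma additive_rightDerived_zero : (F.rightDerived 0).Additive :=
  Functor.additive_of_iso (Functor.rightDerivedZeroIsoSelf F).symm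

attribute [local instance] additive_rightDerived_zero

/-- the invariant of the induction -/
def Inv (j : ℕ) (K : CochainComplex 𝒜 ℤ) : Prop :=
  (∀ (m : ℤ) (i : ℕ), i ≠ 0 → i ≠ j → IsZero ((F.rightDerived i).obj (K.X m))) ∧
    (j ≠ 0 → ((T F 0).obj K).Acyclic)

/-- the data used for dimension shifting -/
structure IsDatum (S : ShortComplex (CochainComplex 𝒜 ℤ)) : Prop where
  shortExact : S.ShortExact
  contractible : Nonempty (Homotopy (𝟙 S.X₂) 0)
  acyclic : ∀ m, FAcyclic F (S.X₂.X m)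

variable {F}
variable {S : ShortComplex (CochainComplex 𝒜 ℤ)} (hS : IsDatum F S)

include hS in
lemma acyclic_T_X₂ (j : ℕ) : ((T F j).obj S.X₂).Acyclic := by
  cases j with
  | zero =>
    obtain ⟨h⟩ := hS.contractible
    apply acyclic_of_contractible
    have h' := (F.rightDerived 0).mapHomotopy h
    rw [CategoryTheory.Functor.map_id, CategoryTheory.Functor.map_zero] at h'
    exact h'
  | succ j =>
    exact acyclic_of_isZero_X _ (fun m => hS.acyclic m (j + 1) (by omega))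

lemma acyclic_T_of_inv (j : ℕ) (K : CochainComplex 𝒜 ℤ) (hK : Inv F (j + 1) K) :
    ((T F j).obj K).Acyclic := by
  cases j with
  | zero => exact hK.2 (by omega)
  | succ j => exact acyclic_of_isZero_X _ (fun m => hK.1 m (j + 1) (by omega) (by omega))

include hS in
lemma mono_T_f (j : ℕ) (hK : Inv F (j + 1) S.X₁) : Mono ((T F j).map S.f) := by
  apply HomologicalComplex.mono_of_mono_f
  intro m
  cases j with
  | zero => exact mono_map_f_zero F (hSm hS.shortExact m)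
  | succ j =>
    have h0 : IsZero (((T F (j + 1)).obj S.X₁).X m) := hK.1 m (j + 1) (by omega) (by omega)
    exact ⟨fun _ _ _ => h0.eq_of_tgt _ _⟩

include hS in
lemma epi_Δ (j : ℕ) : Epi (Δ F hS.shortExact j) := by
  apply HomologicalComplex.epi_of_epi_f
  intro m
  exact epi_δ F (hSm hS.shortExact m) j (hS.acyclic m (j + 1) (by omega))

include hS in
theorem quasiIso_Δ (j : ℕ) (hK : Inv F (j + 1) S.X₁) : QuasiIso (Δ F hS.shortExact j) := by
  have w₁ : (T F j).map S.f ≫ (T F j).map S.g = 0 := by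
    rw [← Functor.map_comp, S.zero, Functor.map_zero]
  have w₂ : (T F j).map S.g ≫ Δ F hS.shortExact j = 0 := by
    ext m
    exact map_g_δ F (hSm hS.shortExact m) j
  haveI := mono_T_f hS j hK
  haveI := epi_Δ hS j
  refine quasiIso_of_four ((T F j).map S.f) ((T F j).map S.g) (Δ F hS.shortExact j) w₁ w₂ ?_ ?_
    (acyclic_T_of_inv j _ hK) (acyclic_T_X₂ hS j)
  · apply HomologicalComplex.exact_of_degreewise_exact
    intro m
    exact exact₂ F (hSm hS.shortExact m) j
  · apply HomologicalComplex.exact_of_degreewise_exact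
    intro m
    exact exact₃ F (hSm hS.shortExact m) j

include hS in
/-- the invariant passes to the cokernel -/
lemma inv_X₃ (j : ℕ) (hK : Inv F (j + 1) S.X₁) : Inv F j S.X₃ := by
  constructor
  · intro m i hi hij
    exact isZero_right F (hSm hS.shortExact m) i (hS.acyclic m i (by omega))
      (hK.1 m (i + 1) (by omega) (by omega))
  · intro hj
    -- `0 ⟶ T₀ X₁ ⟶ T₀ X₂ ⟶ T₀ X₃ ⟶ 0` is short exact
    have w : (T F 0).map S.f ≫ (T F 0).map S.g = 0 := by
      rw [← Functor.map_comp, S.zero, Functor.map_zero]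
    have hse : (ShortComplex.mk ((T F 0).map S.f) ((T F 0).map S.g) w).ShortExact := by
      apply HomologicalComplex.shortExact_of_degreewise_shortExact
      intro m
      have h1 : IsZero ((F.rightDerived 1).obj (S.X₁.X m)) := hK.1 m 1 (by omega) (by omega)
      exact
        { exact := exact₂ F (hSm hS.shortExact m) 0
          mono_f := mono_map_f_zero F (hSm hS.shortExact m)
          epi_g := (exact₃ F (hSm hS.shortExact m) 0).epi_f (h1.eq_of_tgt _ _) }
    exact hse.acyclic_X₃ (quasiIso_of_both_acyclic _ (hK.2 (by omega)) (acyclic_T_X₂ hS 0))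

end qis

section datum

open Groth.Agent.Lib.Helper86.ClassFactor CochainComplex

/-- the chosen embedding of `K` into a contractible complex with `F`-acyclic terms -/
noncomputable def i₀ (K : CochainComplex 𝒜 ℤ) :
    K ⟶ mappingCone (𝟙 (cm5b.I (FAcyclic F) K)) :=
  cm5b.i (FAcyclic F) (0 : K ⟶ 0) ≫ biprod.fst

lemma mono_i₀_f (K : CochainComplex 𝒜 ℤ) (n : ℤ) : Mono ((i₀ F K).f n) := by
  have := cm5b.i_f_comp (FAcyclic F) (0 : K ⟶ 0) n
  have e : (i₀ F K).f n ≫ (mappingCone.snd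
      (𝟙 (cm5b.I (FAcyclic F) K))).v n n (add_zero n) = underι (FAcyclic F) (K.X n) := by
    rw [← this]
    simp only [i₀, HomologicalComplex.comp_f, Category.assoc]
  have hm : Mono (underι (FAcyclic F) (K.X n)) := underι_mono (FAcyclic F) (K.X n)
  exact @mono_of_mono_fac _ _ _ _ _ _ _ _ hm e

instance mono_i₀ (K : CochainComplex 𝒜 ℤ) : Mono (i₀ F K) :=
  HomologicalComplex.mono_of_mono_f _ (mono_i₀_f F K)

lemma contractible_cone (L : CochainComplex 𝒜 ℤ) :
    Nonempty (Homotopy (𝟙 (mappingCone (𝟙 L))) 0) :=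
  ⟨mappingCone.liftHomotopy _ _ _ (mappingCone.snd _) 0 (by simp) (by simp)⟩

/-- the chosen datum -/
noncomputable abbrev datum (K : CochainComplex 𝒜 ℤ) : ShortComplex (CochainComplex 𝒜 ℤ) :=
  ShortComplex.mk (i₀ F K) (cokernel.π (i₀ F K)) (cokernel.condition _)

lemma isDatum_datum (K : CochainComplex 𝒜 ℤ) : IsDatum F (datum F K) where
  shortExact :=
    { exact := ShortComplex.exact_cokernel (i₀ F K)
      mono_f := mono_i₀ F K
      epi_g := by
        show Epi (cokernel.π (i₀ F K))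
        infer_instance }
  contractible := contractible_cone _
  acyclic m := cm5b.prop_mappingCone_X (FAcyclic F) m

variable {F}

/-- the sum of two data over a morphism -/
noncomputable abbrev sumSC (S S' : ShortComplex (CochainComplex 𝒜 ℤ)) (f : S.X₁ ⟶ S'.X₁) :
    ShortComplex (CochainComplex 𝒜 ℤ) :=
  ShortComplex.mk (biprod.lift S.f (f ≫ S'.f)) (cokernel.π _) (cokernel.condition _)

/-- the first projection -/
noncomputable def sumFst (S S' : ShortComplex (CochainComplex 𝒜 ℤ)) (f : S.X₁ ⟶ S'.X₁) :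
    sumSC S S' f ⟶ S where
  τ₁ := 𝟙 _
  τ₂ := biprod.fst
  τ₃ := cokernel.desc _ (biprod.fst ≫ S.g) (by simp)
  comm₁₂ := by simp [sumSC]
  comm₂₃ := by simp [sumSC]

/-- the second projection -/
noncomputable def sumSnd (S S' : ShortComplex (CochainComplex 𝒜 ℤ)) (f : S.X₁ ⟶ S'.X₁) :
    sumSC S S' f ⟶ S' where
  τ₁ := f
  τ₂ := biprod.snd
  τ₃ := cokernel.desc _ (biprod.snd ≫ S'.g) (by simp)
  comm₁₂ := by simp [sumSC]
  comm₂₃ := by simp [sumSC]

/-- a biproduct of contractible complexes is contractible -/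
noncomputable def homotopyBiprod {C C' : CochainComplex 𝒜 ℤ} (h : Homotopy (𝟙 C) 0)
    (h' : Homotopy (𝟙 C') 0) : Homotopy (𝟙 (C ⊞ C')) 0 := by
  have h1 : Homotopy ((biprod.fst : C ⊞ C' ⟶ C) ≫ 𝟙 C ≫ biprod.inl)
      ((biprod.fst : C ⊞ C' ⟶ C) ≫ 0 ≫ (biprod.inl : C ⟶ C ⊞ C')) :=
    (h.compRight biprod.inl).compLeft biprod.fst
  have h2 : Homotopy ((biprod.snd : C ⊞ C' ⟶ C') ≫ 𝟙 C' ≫ biprod.inr)
      ((biprod.snd : C ⊞ C' ⟶ C') ≫ 0 ≫ (biprod.inr : C' ⟶ C ⊞ C')) :=
    (h'.compRight biprod.inr).compLeft biprod.snd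
  refine (Homotopy.ofEq ?_).trans ((h1.add h2).trans (Homotopy.ofEq ?_))
  · simp [biprod.total]
  · simp

lemma isDatum_sum {S S' : ShortComplex (CochainComplex 𝒜 ℤ)} (hS : IsDatum F S)
    (hS' : IsDatum F S') (f : S.X₁ ⟶ S'.X₁) : IsDatum F (sumSC S S' f) where
  shortExact :=
    { exact := ShortComplex.exact_cokernel _
      mono_f := by
        have h1 : Mono S.f := hS.shortExact.mono_f
        exact @mono_of_mono_fac _ _ _ _ _ _ _ _ h1 (biprod.lift_fst S.f (f ≫ S'.f))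
      epi_g := by
        show Epi (cokernel.π (biprod.lift S.f (f ≫ S'.f)))
        exact coequalizer.π_epi }
  contractible := by
    obtain ⟨h⟩ := hS.contractible
    obtain ⟨h'⟩ := hS'.contractible
    exact ⟨homotopyBiprod h h'⟩
  acyclic m := by
    have e : (S.X₂ ⊞ S'.X₂).X m ≅ S.X₂.X m ⊞ S'.X₂.X m :=
      (HomologicalComplex.eval 𝒜 (ComplexShape.up ℤ) m).mapBiprod S.X₂ S'.X₂
    exact ResClass.iso e.symm (fAcyclic_biprod F _ _ (hS.acyclic m) (hS'.acyclic m))

end datum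

section core

variable [HasDerivedCategory.{w} 𝒜] [HasDerivedCategory.{w'} ℬ]

open DerivedCategory

variable {F}

lemma isZero_Q_obj (C : CochainComplex 𝒜 ℤ) (h : Nonempty (Homotopy (𝟙 C) 0)) :
    IsZero ((Q : _ ⥤ DerivedCategory 𝒜).obj C) := by
  have h0 : IsZero ((HomotopyCategory.quotient 𝒜 (ComplexShape.up ℤ)).obj C) :=
    (HomotopyCategory.isZero_quotient_obj_iff C).2 h
  exact (Qh : _ ⥤ DerivedCategory 𝒜).map_isZero h0

variable {S S' : ShortComplex (CochainComplex 𝒜 ℤ)} (hS : IsDatum F S) (hS' : IsDatum F S')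

include hS in
lemma isIso_triangleOfSESδ : IsIso (triangleOfSESδ hS.shortExact) :=
  (Triangle.isZero₂_iff_isIso₃ _ (triangleOfSES_distinguished hS.shortExact)).1
    (isZero_Q_obj _ hS.contractible)

/-- the isomorphism `(Q K)⟦j+1⟧ ≅ (Q N)⟦j⟧` -/
noncomputable def aIso (j : ℕ) :
    ((Q : _ ⥤ DerivedCategory 𝒜).obj S.X₁)⟦((j + 1 : ℕ) : ℤ)⟧ ≅ (Q.obj S.X₃)⟦(j : ℤ)⟧ :=
  (shiftFunctorAdd' (DerivedCategory 𝒜) (1 : ℤ) (j : ℤ) ((j + 1 : ℕ) : ℤ)
      (by push_cast; ring)).app (Q.obj S.X₁) ≪≫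
    (shiftFunctor (DerivedCategory 𝒜) (j : ℤ)).mapIso
      (@asIso _ _ _ _ _ (isIso_triangleOfSESδ hS)).symm

lemma aIso_natural (φ : S ⟶ S') (j : ℕ) :
    (Q.map φ.τ₁)⟦((j + 1 : ℕ) : ℤ)⟧' ≫ (aIso hS' j).hom =
      (aIso hS j).hom ≫ (Q.map φ.τ₃)⟦(j : ℤ)⟧' := by
  haveI := isIso_triangleOfSESδ hS
  haveI := isIso_triangleOfSESδ hS'
  have h1 : (Q.map φ.τ₁)⟦(1 : ℤ)⟧' ≫ inv (triangleOfSESδ hS'.shortExact) =
      inv (triangleOfSESδ hS.shortExact) ≫ Q.map φ.τ₃ := by
    rw [IsIso.comp_inv_eq, Category.assoc, IsIso.eq_inv_comp]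
    exact triangleOfSESδ_naturality hS.shortExact hS'.shortExact φ
  dsimp only [aIso, Iso.trans_hom, Iso.app_hom, Functor.mapIso_hom, Iso.symm_hom, asIso_inv]
  rw [Category.assoc, ← Functor.map_comp, ← h1, Functor.map_comp, ← Category.assoc,
    ← Category.assoc]
  congr 1
  exact (shiftFunctorAdd' (DerivedCategory 𝒜) (1 : ℤ) (j : ℤ) ((j + 1 : ℕ) : ℤ)
      (by push_cast; ring)).hom.naturality (Q.map φ.τ₁)

variable (R : DerivedCategory 𝒜 ⥤ DerivedCategory ℬ)

section step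

variable {j : ℕ} (θ : ∀ (K : CochainComplex 𝒜 ℤ), Inv F j K →
      (R.obj ((Q.obj K)⟦(j : ℤ)⟧) ≅ Q.obj ((T F j).obj K)))
  (hθ : ∀ (K K' : CochainComplex 𝒜 ℤ) (hK : Inv F j K) (hK' : Inv F j K') (f : K ⟶ K'),
      R.map ((Q.map f)⟦(j : ℤ)⟧') ≫ (θ K' hK').hom = (θ K hK).hom ≫ Q.map ((T F j).map f))

include hS in
lemma isIso_Q_map_Δ (hK : Inv F (j + 1) S.X₁) :
    IsIso ((Q : _ ⥤ DerivedCategory ℬ).map (Δ F hS.shortExact j)) := by
  haveI := quasiIso_Δ hS j hK
  infer_instance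

/-- the isomorphism in the induction step, for a given datum -/
noncomputable def Θ (hK : Inv F (j + 1) S.X₁) :
    R.obj ((Q.obj S.X₁)⟦((j + 1 : ℕ) : ℤ)⟧) ≅ Q.obj ((T F (j + 1)).obj S.X₁) :=
  R.mapIso (aIso hS j) ≪≫ θ S.X₃ (inv_X₃ hS j hK) ≪≫
    @asIso _ _ _ _ (Q.map (Δ F hS.shortExact j)) (isIso_Q_map_Δ hS hK)

include hθ in
lemma Θ_natural (φ : S ⟶ S') (hK : Inv F (j + 1) S.X₁) (hK' : Inv F (j + 1) S'.X₁) :
    R.map ((Q.map φ.τ₁)⟦((j + 1 : ℕ) : ℤ)⟧') ≫ (Θ hS' R θ hK').hom =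
      (Θ hS R θ hK).hom ≫ Q.map ((T F (j + 1)).map φ.τ₁) := by
  dsimp only [Θ, Iso.trans_hom, Functor.mapIso_hom, asIso_hom]
  rw [← R.map_comp_assoc, aIso_natural hS hS' φ j, R.map_comp_assoc,
    reassoc_of% (hθ _ _ (inv_X₃ hS j hK) (inv_X₃ hS' j hK') φ.τ₃), ← Q.map_comp,
    Δ_natural F hS.shortExact hS'.shortExact φ j, Q.map_comp]
  simp only [Category.assoc]

end step

variable (F)

/-- the induction statement -/
def Stmt (j : ℕ) : Prop :=
  ∃ θ : ∀ (K : CochainComplex 𝒜 ℤ), Inv F j K →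
      (R.obj ((Q.obj K)⟦(j : ℤ)⟧) ≅ Q.obj ((T F j).obj K)),
    ∀ (K K' : CochainComplex 𝒜 ℤ) (hK : Inv F j K) (hK' : Inv F j K') (f : K ⟶ K'),
      R.map ((Q.map f)⟦(j : ℤ)⟧') ≫ (θ K' hK').hom = (θ K hK).hom ≫ Q.map ((T F j).map f)

variable (η : F.mapHomologicalComplex (ComplexShape.up ℤ) ⋙ Q ⟶ Q ⋙ R)
  (hη : ∀ K : CochainComplex 𝒜 ℤ, (∀ m, FAcyclic F (K.X m)) → IsIso (η.app K))

include hη in
lemma stmt_zero : Stmt F R 0 := by
  have hac : ∀ (K : CochainComplex 𝒜 ℤ), Inv F 0 K → ∀ m, FAcyclic F (K.X m) :=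
    fun K hK m i hi => hK.1 m i (by omega) (by omega)
  let e₀ := NatIso.mapHomologicalComplex (Functor.rightDerivedZeroIsoSelf F) (ComplexShape.up ℤ)
  let z := shiftFunctorZero' (DerivedCategory 𝒜) ((0 : ℕ) : ℤ) (by simp)
  refine ⟨fun K hK => R.mapIso (z.app (Q.obj K)) ≪≫
    (@asIso _ _ _ _ (η.app K) (hη K (hac K hK))).symm ≪≫ Q.mapIso (e₀.app K).symm, ?_⟩
  intro K K' hK hK' f
  haveI := hη K (hac K hK)
  haveI := hη K' (hac K' hK')
  dsimp only [Iso.trans_hom, Functor.mapIso_hom, Iso.symm_hom, asIso_inv, Iso.app_hom,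
    Iso.app_inv]
  have h1 : (Q.map f)⟦((0 : ℕ) : ℤ)⟧' ≫ z.hom.app (Q.obj K') = z.hom.app (Q.obj K) ≫ Q.map f :=
    z.hom.naturality (Q.map f)
  have h2 : R.map (Q.map f) ≫ inv (η.app K') =
      inv (η.app K) ≫ Q.map ((F.mapHomologicalComplex (ComplexShape.up ℤ)).map f) := by
    rw [IsIso.comp_inv_eq, Category.assoc, IsIso.eq_inv_comp]
    exact (η.naturality f).symm
  have h3 : (F.mapHomologicalComplex (ComplexShape.up ℤ)).map f ≫ e₀.inv.app K' =
      e₀.inv.app K ≫ (T F 0).map f := e₀.inv.naturality f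
  rw [← Category.assoc, ← R.map_comp, h1, R.map_comp, Category.assoc, ← Category.assoc (R.map (Q.map f)),
    h2, Category.assoc, Category.assoc, ← Q.map_comp, h3, Q.map_comp]
  simp only [Category.assoc]

lemma stmt_succ (j : ℕ) (ih : Stmt F R j) : Stmt F R (j + 1) := by
  obtain ⟨θ, hθ⟩ := ih
  refine ⟨fun K hK => Θ (isDatum_datum F K) R θ hK, ?_⟩
  intro K K' hK hK' f
  have d := isDatum_datum F K
  have d' := isDatum_datum F K'
  have d'' := isDatum_sum d d' f
  have h1 := Θ_natural d'' d R θ hθ (sumFst (datum F K) (datum F K') f) hK hK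
  have h2 := Θ_natural d'' d' R θ hθ (sumSnd (datum F K) (datum F K') f) hK hK'
  have e1 : (sumFst (datum F K) (datum F K') f).τ₁ = 𝟙 K := rfl
  have e2 : (sumSnd (datum F K) (datum F K') f).τ₁ = f := rfl
  rw [e1] at h1
  rw [e2] at h2
  simp only [CategoryTheory.Functor.map_id, Category.id_comp, Category.comp_id] at h1
  erw [h1]
  exact h2

include hη in
theorem stmt (j : ℕ) : Stmt F R j := by
  induction j with
  | zero => exact stmt_zero F R η hη
  | succ j ih => exact stmt_succ F R j ih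

end core

end Groth.Agent.Lib.Helper89.RFLG
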