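import Mathlib
import Groth.Agent.Lib.Helper89.RFLG2
import Groth.Agent.Lib.Helper89.KanTransfer

/-!
# `RF ≅ L(RⁿF)⟦-n⟧` (Hartshorne RD I.7.4), part 3: assembly
-/

set_option autoImplicit false
set_option linter.style.haveILetI false
set_option linter.unusedSectionVars false

universe w w' v v' u u'

open CategoryTheory Category Limits Pretriangulated HomologicalComplex ZeroObject

namespace Groth.Agent.Lib.Helper89.RFLG

open Groth.Agent.Lib.Helper89 Groth.Agent.Lib.Helper89.AcycRes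
open Groth.Agent.Lib.Helper68.RightDerivedLES
open DerivedCategory

attribute [local instance] pzm

variable {𝒜 : Type u} [Category.{v} 𝒜] [Abelian 𝒜] [HasDerivedCategory.{w} 𝒜]
  {ℬ : Type u'} [Category.{v'} ℬ] [Abelian ℬ] [HasDerivedCategory.{w'} ℬ]

section general

variable (G₀ : 𝒜 ⥤ ℬ) [G₀.Additive]

/-- the functor on the homotopy category induced by an additive functor -/
noncomputable abbrev Gh : HomotopyCategory 𝒜 (ComplexShape.up ℤ) ⥤ DerivedCategory ℬ :=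
  G₀.mapHomotopyCategory (ComplexShape.up ℤ) ⋙ Qh

/-- `q ⋙ (G₀.mapHomotopyCategory ⋙ Qh) ≅ G₀.mapHomologicalComplex ⋙ Q` -/
noncomputable def φIso :
    HomotopyCategory.quotient 𝒜 (ComplexShape.up ℤ) ⋙ Gh G₀ ≅
      G₀.mapHomologicalComplex (ComplexShape.up ℤ) ⋙ Q :=
  (Functor.associator _ _ _).symm ≪≫
    Functor.isoWhiskerRight (G₀.mapHomotopyCategoryFactors (ComplexShape.up ℤ)) Qh ≪≫
    Functor.associator _ _ _ ≪≫ Functor.isoWhiskerLeft _ (quotientCompQhIso ℬ)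

end general

variable [HasInjectiveResolutions 𝒜] (F : 𝒜 ⥤ ℬ) [F.Additive] [PreservesFiniteLimits F]

section RFside

/-- the unit of any total right derived functor of `F` (on complexes) is invertible on complexes
with `F`-acyclic terms -/
theorem isIso_unit_cx (n : ℕ) (hn : ∀ X : 𝒜, IsZero ((F.rightDerived n).obj X))
    (RF : DerivedCategory 𝒜 ⥤ DerivedCategory ℬ)
    (η : F.mapHomologicalComplex (ComplexShape.up ℤ) ⋙ Q ⟶ Q ⋙ RF) [RF.IsLeftKanExtension η]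
    (K : CochainComplex 𝒜 ℤ) (hK : ∀ m, FAcyclic F (K.X m)) : IsIso (η.app K) := by
  haveI := AcycRes.hasRightDerivedFunctor F n hn
  let RFh := (AcycRes.G F).totalRightDerived Qh (HomotopyCategory.quasiIso 𝒜 (ComplexShape.up ℤ))
  let ηh := (AcycRes.G F).totalRightDerivedUnit Qh
    (HomotopyCategory.quasiIso 𝒜 (ComplexShape.up ℤ))
  haveI : RFh.IsLeftKanExtension ηh :=
    Functor.IsRightDerivedFunctor.isLeftKanExtension _ _
      (HomotopyCategory.quasiIso 𝒜 (ComplexShape.up ℤ))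
  exact KanTransfer.isIso_unit (HomotopyCategory.quotient 𝒜 (ComplexShape.up ℤ))
    (HomologicalComplex.homotopyEquivalences 𝒜 (ComplexShape.up ℤ))
    (quotientCompQhIso 𝒜) (φIso F) RFh ηh RF η K (AcycRes.isIso_unit F n hn K hK)

end RFside

section LGside

variable (n : ℕ) [(F.rightDerived n).Additive]
  (hdim : ∀ (X : 𝒜) (i : ℕ), n < i → IsZero ((F.rightDerived i).obj X))
  (hP : ∀ X : 𝒜, ∃ (Y : 𝒜) (p : Y ⟶ X), Epi p ∧ ∀ i : ℕ, i ≠ n → IsZero ((F.rightDerived i).obj Y))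

include hdim in
lemma isZero_Gh_obj (X : HomotopyCategory 𝒜 (ComplexShape.up ℤ)) (hX : termwise (Pk F n) X)
    (hX' : HomotopyCategory.subcategoryAcyclic 𝒜 X) :
    IsZero ((Gh (F.rightDerived n)).obj X) := by
  obtain ⟨K, hK, ⟨e⟩⟩ := hX
  have hK' : K.Acyclic := by
    rw [← HomotopyCategory.quotient_obj_mem_subcategoryAcyclic_iff_acyclic]
    exact (HomotopyCategory.subcategoryAcyclic 𝒜).prop_of_iso e hX'
  have hFK := acyclic_map_rightDerived F n hdim K hK' hK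
  rw [← HomotopyCategory.quotient_obj_mem_subcategoryAcyclic_iff_acyclic] at hFK
  have hz : IsZero (DerivedCategory.Qh.obj ((HomotopyCategory.quotient ℬ (ComplexShape.up ℤ)).obj
      (((F.rightDerived n).mapHomologicalComplex (ComplexShape.up ℤ)).obj K))) :=
    TriRes.isZero_obj_of_isLocalization (HomotopyCategory.quasiIso ℬ (ComplexShape.up ℤ))
      (HomotopyCategory.quasiIso_eq_trW_subcategoryAcyclic ℬ) DerivedCategory.Qh _ hFK
  exact IsZero.of_iso hz ((Gh (F.rightDerived n)).mapIso e)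

include hdim hP in
lemma hasLeftDerivedFunctor_h :
    (Gh (F.rightDerived n)).HasLeftDerivedFunctor
      (HomotopyCategory.quasiIso 𝒜 (ComplexShape.up ℤ)) :=
  TriLRes.hasLeftDerivedFunctor (Gh (F.rightDerived n)) _
    (HomotopyCategory.quasiIso_eq_trW_subcategoryAcyclic 𝒜) (hasLRes F n hdim hP)
    (isZero_Gh_obj F n hdim)

include hdim hP in
/-- first part of S11162 -/
theorem hasLeftDerivedFunctor_cx :
    ((F.rightDerived n).mapHomologicalComplex (ComplexShape.up ℤ) ⋙ Q).HasLeftDerivedFunctor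
      (HomologicalComplex.quasiIso 𝒜 (ComplexShape.up ℤ)) := by
  haveI := hasLeftDerivedFunctor_h F n hdim hP
  let LGh := (Gh (F.rightDerived n)).totalLeftDerived Qh
    (HomotopyCategory.quasiIso 𝒜 (ComplexShape.up ℤ))
  let αh := (Gh (F.rightDerived n)).totalLeftDerivedCounit Qh
    (HomotopyCategory.quasiIso 𝒜 (ComplexShape.up ℤ))
  haveI : LGh.IsRightKanExtension αh :=
    Functor.IsLeftDerivedFunctor.isRightKanExtension _ _
      (HomotopyCategory.quasiIso 𝒜 (ComplexShape.up ℤ))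
  have h := KanTransfer.isRightKanExtension (HomotopyCategory.quotient 𝒜 (ComplexShape.up ℤ))
    (HomologicalComplex.homotopyEquivalences 𝒜 (ComplexShape.up ℤ))
    (quotientCompQhIso 𝒜) (φIso (F.rightDerived n)) LGh αh
  rw [Functor.hasLeftDerivedFunctor_iff _ Q (HomologicalComplex.quasiIso 𝒜 (ComplexShape.up ℤ))]
  exact @Functor.HasRightKanExtension.mk _ _ _ _ _ _ LGh _ _ _ h

include hdim hP in
/-- the counit of any total left derived functor of `RⁿF` (on complexes) is invertible on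
complexes with terms in `Pk n` -/
theorem isIso_counit_cx (LG : DerivedCategory 𝒜 ⥤ DerivedCategory ℬ)
    (α : Q ⋙ LG ⟶ (F.rightDerived n).mapHomologicalComplex (ComplexShape.up ℤ) ⋙ Q)
    [LG.IsRightKanExtension α]
    (K : CochainComplex 𝒜 ℤ) (hK : ∀ m, Pk F n (K.X m)) : IsIso (α.app K) := by
  haveI := hasLeftDerivedFunctor_h F n hdim hP
  let LGh := (Gh (F.rightDerived n)).totalLeftDerived Qh
    (HomotopyCategory.quasiIso 𝒜 (ComplexShape.up ℤ))
  let αh := (Gh (F.rightDerived n)).totalLeftDerivedCounit Qh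
    (HomotopyCategory.quasiIso 𝒜 (ComplexShape.up ℤ))
  haveI : LGh.IsRightKanExtension αh :=
    Functor.IsLeftDerivedFunctor.isRightKanExtension _ _
      (HomotopyCategory.quasiIso 𝒜 (ComplexShape.up ℤ))
  exact KanTransfer.isIso_counit (HomotopyCategory.quotient 𝒜 (ComplexShape.up ℤ))
    (HomologicalComplex.homotopyEquivalences 𝒜 (ComplexShape.up ℤ))
    (quotientCompQhIso 𝒜) (φIso (F.rightDerived n)) LGh αh LG α K
    (TriLRes.isIso_counit (Gh (F.rightDerived n))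
      (HomotopyCategory.quasiIso 𝒜 (ComplexShape.up ℤ))
      (HomotopyCategory.quasiIso_eq_trW_subcategoryAcyclic 𝒜) (hasLRes F n hdim hP)
      (isZero_Gh_obj F n hdim) Qh LGh αh _ (termwise_quotient_obj _ K hK))

end LGside

section final

variable (n : ℕ) [(F.rightDerived n).Additive]
  (hdim : ∀ (X : 𝒜) (i : ℕ), n < i → IsZero ((F.rightDerived i).obj X))
  (hP : ∀ X : 𝒜, ∃ (Y : 𝒜) (p : Y ⟶ X), Epi p ∧ ∀ i : ℕ, i ≠ n → IsZero ((F.rightDerived i).obj Y))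
  (RF LG : DerivedCategory 𝒜 ⥤ DerivedCategory ℬ)
  (η : F.mapHomologicalComplex (ComplexShape.up ℤ) ⋙ Q ⟶ Q ⋙ RF) [RF.IsLeftKanExtension η]
  (α : Q ⋙ LG ⟶ (F.rightDerived n).mapHomologicalComplex (ComplexShape.up ℤ) ⋙ Q)
  [LG.IsRightKanExtension α]

lemma inv_of_Pk (K : CochainComplex 𝒜 ℤ) (hK : ∀ m, Pk F n (K.X m)) : Inv F n K :=
  ⟨fun m i _ hi => hK m i hi,
    fun hn => acyclic_of_isZero_X _ (fun m => hK m 0 (Ne.symm hn))⟩

/-- `Q ≅ shift (-a) ⋙ Q ⋙ shift a` -/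
noncomputable def cIso (a : ℤ) :
    (Q : CochainComplex 𝒜 ℤ ⥤ _) ≅
      shiftFunctor (CochainComplex 𝒜 ℤ) (-a) ⋙ Q ⋙ shiftFunctor (DerivedCategory 𝒜) a :=
  (Functor.leftUnitor Q).symm ≪≫
    Functor.isoWhiskerRight
      (shiftFunctorCompIsoId (CochainComplex 𝒜 ℤ) (-a) a (by simp)).symm Q ≪≫
    Functor.associator _ _ _ ≪≫ Functor.isoWhiskerLeft _ (Q.commShiftIso a)

lemma pk_shift (K : CochainComplex 𝒜 ℤ) (hK : ∀ m, Pk F n (K.X m)) (a : ℤ) :
    ∀ m, Pk F n ((K⟦a⟧).X m) := fun _ => hK _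

section family

variable (θ : ∀ (K : CochainComplex 𝒜 ℤ), Inv F n K →
      (RF.obj ((Q.obj K)⟦(n : ℤ)⟧) ≅ Q.obj ((T F n).obj K)))
  (hθ : ∀ (K K' : CochainComplex 𝒜 ℤ) (hK : Inv F n K) (hK' : Inv F n K') (f : K ⟶ K'),
      RF.map ((Q.map f)⟦(n : ℤ)⟧') ≫ (θ K' hK').hom = (θ K hK).hom ≫ Q.map ((T F n).map f))
  (hα : ∀ (K : CochainComplex 𝒜 ℤ), (∀ m, Pk F n (K.X m)) → IsIso (α.app K))

/-- the isomorphism `RF (Q K) ≅ (LG (Q K))⟦-n⟧` for `K` with terms in `Pk n` -/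
noncomputable def eIso (K : CochainComplex 𝒜 ℤ) (hK : ∀ m, Pk F n (K.X m)) :
    RF.obj (Q.obj K) ≅ (LG.obj (Q.obj K))⟦-(n : ℤ)⟧ :=
  RF.mapIso ((cIso (𝒜 := 𝒜) (n : ℤ)).app K) ≪≫
    θ _ (inv_of_Pk F n _ (pk_shift F n K hK (-(n : ℤ)))) ≪≫
    Q.mapIso ((((F.rightDerived n).mapHomologicalComplex (ComplexShape.up ℤ)).commShiftIso
      (-(n : ℤ))).app K) ≪≫
    (Q.commShiftIso (-(n : ℤ))).app _ ≪≫
    (shiftFunctor (DerivedCategory ℬ) (-(n : ℤ))).mapIso
      (@asIso _ _ _ _ (α.app K) (hα K hK)).symm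

include hθ in
lemma eIso_natural (K K' : CochainComplex 𝒜 ℤ) (hK : ∀ m, Pk F n (K.X m))
    (hK' : ∀ m, Pk F n (K'.X m)) (g : K ⟶ K') :
    RF.map (Q.map g) ≫ (eIso F n RF LG α θ hα K' hK').hom =
      (eIso F n RF LG α θ hα K hK).hom ≫ (LG.map (Q.map g))⟦-(n : ℤ)⟧' := by
  haveI := hα K hK
  haveI := hα K' hK'
  let σ := ((F.rightDerived n).mapHomologicalComplex (ComplexShape.up ℤ)).commShiftIso (-(n : ℤ))
  let c := cIso (𝒜 := 𝒜) (n : ℤ)
  have h1 : Q.map g ≫ c.hom.app K' = c.hom.app K ≫ (Q.map (g⟦-(n : ℤ)⟧'))⟦(n : ℤ)⟧' :=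
    c.hom.naturality g
  have h2 := hθ _ _ (inv_of_Pk F n _ (pk_shift F n K hK (-(n : ℤ))))
    (inv_of_Pk F n _ (pk_shift F n K' hK' (-(n : ℤ)))) (g⟦-(n : ℤ)⟧')
  have h3 : (T F n).map (g⟦-(n : ℤ)⟧') ≫ σ.hom.app K' =
      σ.hom.app K ≫ ((T F n).map g)⟦-(n : ℤ)⟧' := σ.hom.naturality g
  have h4 : Q.map (((T F n).map g)⟦-(n : ℤ)⟧') ≫
      (Q.commShiftIso (-(n : ℤ))).hom.app ((T F n).obj K') =
      (Q.commShiftIso (-(n : ℤ))).hom.app ((T F n).obj K) ≫
        (Q.map ((T F n).map g))⟦-(n : ℤ)⟧' :=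
    (Q.commShiftIso (-(n : ℤ))).hom.naturality ((T F n).map g)
  have h5 : Q.map ((T F n).map g) ≫ inv (α.app K') = inv (α.app K) ≫ LG.map (Q.map g) := by
    rw [IsIso.comp_inv_eq, Category.assoc, IsIso.eq_inv_comp]
    exact (α.naturality g).symm
  dsimp only [eIso, Iso.trans_hom, Functor.mapIso_hom, Iso.app_hom, Iso.symm_hom, asIso_inv]
  rw [← RF.map_comp_assoc, h1, RF.map_comp_assoc, reassoc_of% h2, ← Q.map_comp_assoc, h3,
    Q.map_comp_assoc, reassoc_of% h4, ← Functor.map_comp, h5, Functor.map_comp]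
  simp only [Category.assoc]
  rfl

end family

include hdim hP η α in
theorem main : Nonempty (RF ≅ LG ⋙ shiftFunctor (DerivedCategory ℬ) (-(n : ℤ))) := by
  have hη : ∀ K : CochainComplex 𝒜 ℤ, (∀ m, FAcyclic F (K.X m)) → IsIso (η.app K) :=
    fun K hK => isIso_unit_cx F (n + 1) (fun X => hdim X (n + 1) (by omega)) RF η K hK
  obtain ⟨θ, hθ⟩ := stmt F RF η hη n
  have hα : ∀ (K : CochainComplex 𝒜 ℤ), (∀ m, Pk F n (K.X m)) → IsIso (α.app K) :=
    fun K hK => isIso_counit_cx F n hdim hP LG α K hK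
  obtain ⟨e⟩ := KanTransfer.nonempty_iso_of_family
    (HomotopyCategory.quotient 𝒜 (ComplexShape.up ℤ)) Qh RF
    (LG ⋙ shiftFunctor (DerivedCategory ℬ) (-(n : ℤ)))
    (fun K => ∀ m, Pk F n (K.X m)) (termwise (Pk F n)) (fun X hX => hX)
    (fun K hK => eIso F n RF LG α θ hα K hK)
    (fun K K' hK hK' g => eIso_natural F n RF LG α θ hθ hα K K' hK hK' g)
  exact TriLRes.nonempty_iso_of_iso_on (HomotopyCategory.quasiIso 𝒜 (ComplexShape.up ℤ))
    (HomotopyCategory.quasiIso_eq_trW_subcategoryAcyclic 𝒜) (hasLRes F n hdim hP) Qh RF _ e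

end final

end Groth.Agent.Lib.Helper89.RFLG
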