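import Mathlib
import Groth.Prelude.Def_DRing3

/-!
# `Γ_I` of injective modules over Noetherian rings (helper89)
-/

set_option autoImplicit false
universe u

namespace Helper89.RGI

open DRing

variable {A : Type u} [CommRing A] (I : Ideal A)

section Basic

variable (M : Type u) [AddCommGroup M] [Module A M]

lemma mem_torsionSub_iff (m : M) : m ∈ torsionSub I M ↔ ∃ n : ℕ, ∀ a ∈ I ^ n, a • m = 0 := Iff.rfl

/-- a finitely generated submodule consisting of `I`-power torsion elements is killed by a power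
of `I` -/
lemma exists_pow_kills_of_fg (N : Submodule A M) (hN : N.FG) (h : N ≤ torsionSub I M) :
    ∃ n : ℕ, ∀ a ∈ I ^ n, ∀ x ∈ N, a • x = 0 := by
  obtain ⟨S, rfl⟩ := hN
  have hS : ∀ s ∈ S, ∃ n : ℕ, ∀ a ∈ I ^ n, a • s = 0 := fun s hs => h (Submodule.subset_span hs)
  choose! n hn using hS
  refine ⟨S.sup n, fun a ha x hx => ?_⟩
  induction hx using Submodule.span_induction with
  | mem s hs => exact hn s hs a (Ideal.pow_le_pow_right (Finset.le_sup hs) ha)
  | zero => exact smul_zero a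
  | add x y _ _ hx hy => rw [smul_add, hx, hy, add_zero]
  | smul c x _ hx => rw [smul_comm, hx, smul_zero]

end Basic

section Injective

variable [IsNoetherianRing A] (E : Type u) [AddCommGroup E] [Module A E] [Module.Injective A E]

/-- over a Noetherian ring, the `I`-power torsion of an injective module is injective -/
instance injective_torsionSub : Module.Injective A (torsionSub I E) := by
  apply Module.Baer.injective
  intro 𝔞 g
  -- the composite to `E`
  let g₀ : 𝔞 →ₗ[A] E := (torsionSub I E).subtype ∘ₗ g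
  have hfg : (LinearMap.range g₀).FG := by
    rw [LinearMap.range_eq_map]
    exact Submodule.FG.map _ ((Submodule.fg_top _).mpr (IsNoetherian.noetherian 𝔞))
  have hle : LinearMap.range g₀ ≤ torsionSub I E := by
    rintro _ ⟨x, rfl⟩
    exact (g x).2
  obtain ⟨n, hn⟩ := exists_pow_kills_of_fg I E _ hfg hle
  obtain ⟨k, hk⟩ := Ideal.exists_pow_inf_eq_pow_smul I (𝔞 : Submodule A A)
  -- `g₀` vanishes on `𝔞 ∩ I^(n+k)`
  have hvan : ∀ (x : A) (hx : x ∈ 𝔞), x ∈ I ^ (n + k) → g₀ ⟨x, hx⟩ = 0 := by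
    intro x hx hxI
    have h1 : x ∈ I ^ (n + k) • (⊤ : Submodule A A) ⊓ 𝔞 := by
      refine ⟨?_, hx⟩
      rw [Ideal.smul_top_eq_map]
      simpa using hxI
    rw [hk (n + k) (Nat.le_add_left k n), Nat.add_sub_cancel] at h1
    have h2 : I ^ n • (I ^ k • (⊤ : Submodule A A) ⊓ 𝔞) ≤ I ^ n • (𝔞 : Submodule A A) :=
      Submodule.smul_mono le_rfl inf_le_right
    have h3 := h2 h1
    -- elements of `I^n • 𝔞` are killed
    have key : ∀ y ∈ I ^ n • (𝔞 : Submodule A A), ∃ hy : y ∈ 𝔞, g₀ ⟨y, hy⟩ = 0 := by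
      intro y hy
      refine Submodule.smul_induction_on hy ?_ ?_
      · intro a ha z hz
        refine ⟨𝔞.smul_mem a hz, ?_⟩
        have : (⟨a • z, 𝔞.smul_mem a hz⟩ : 𝔞) = a • ⟨z, hz⟩ := rfl
        rw [this, map_smul]
        exact hn a ha _ ⟨⟨z, hz⟩, rfl⟩
      · rintro y z ⟨hy', ihy⟩ ⟨hz', ihz⟩
        refine ⟨𝔞.add_mem hy' hz', ?_⟩
        have : (⟨y + z, 𝔞.add_mem hy' hz'⟩ : 𝔞) = ⟨y, hy'⟩ + ⟨z, hz'⟩ := rfl
        rw [this, map_add, ihy, ihz, add_zero]
    obtain ⟨_, h4⟩ := key x h3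
    exact h4
  -- the quotient maps
  let m := n + k
  let X := 𝔞 ⧸ (Submodule.comap 𝔞.subtype (I ^ m : Ideal A) : Submodule A 𝔞)
  let Y := A ⧸ (I ^ m : Ideal A)
  let i : X →ₗ[A] Y := Submodule.mapQ _ (I ^ m : Ideal A) 𝔞.subtype (le_refl _)
  have hi : Function.Injective i := by
    rw [← LinearMap.ker_eq_bot, Submodule.ker_mapQ]
    simp
  let f : X →ₗ[A] E := Submodule.liftQ _ g₀ (by
    rintro ⟨x, hx⟩ hxm
    exact hvan x hx hxm)
  obtain ⟨h, hh⟩ := Module.Injective.out i hi f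
  let g' : A →ₗ[A] E := h ∘ₗ (Submodule.mkQ (I ^ m : Ideal A))
  have hg' : ∀ r : A, g' r ∈ torsionSub I E := by
    intro r
    refine ⟨m, fun a ha => ?_⟩
    rw [← map_smul]
    have : Submodule.mkQ (I ^ m : Ideal A) (a • r) = 0 := by
      rw [Submodule.mkQ_apply, Submodule.Quotient.mk_eq_zero]
      exact Ideal.mul_mem_right _ _ ha
    change h (Submodule.mkQ (I ^ m : Ideal A) (a • r)) = 0
    rw [this, map_zero]
  refine ⟨LinearMap.codRestrict (torsionSub I E) g' hg', fun x hx => ?_⟩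
  apply Subtype.ext
  change h (Submodule.mkQ (I ^ m : Ideal A) x) = g₀ ⟨x, hx⟩
  have : Submodule.mkQ (I ^ m : Ideal A) x = i (Submodule.mkQ _ ⟨x, hx⟩) := rfl
  rw [this, hh]
  rfl

end Injective

end Helper89.RGI
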