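import Groth.Agent.Lib.Helper89.RGI1

/-!
# `Γ_I C ⟶ C` is a quasi-isomorphism for complexes of injectives with torsion cohomology (helper89)
-/

set_option autoImplicit false
universe u

open CategoryTheory CategoryTheory.Limits

namespace Helper89.RGI

open DRing

variable {A : Type u} [CommRing A] (I : Ideal A)

/-- the functor `M ↦ M / Γ_I M` -/
def quotI : ModuleCat.{u} A ⥤ ModuleCat.{u} A where
  obj M := ModuleCat.of A (M ⧸ torsionSub I M)
  map {M N} f := ModuleCat.ofHom (Submodule.mapQ _ _ f.hom
    (fun _ hm => map_mem_torsionSub I f.hom hm))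
  map_id M := by
    ext x
    rfl
  map_comp f g := by
    ext x
    rfl

instance additive_quotI : (quotI I).Additive where
  map_add := by
    intros M N f g
    ext x
    obtain ⟨x, rfl⟩ := Submodule.mkQ_surjective _ x
    rfl

/-- the projection `M ⟶ M / Γ_I M` -/
def quotIπ : 𝟭 (ModuleCat.{u} A) ⟶ quotI I where
  app M := ModuleCat.ofHom (Submodule.mkQ (torsionSub I M))
  naturality _ _ _ := rfl

lemma gammaIι_quotIπ (M : ModuleCat.{u} A) : (gammaIι I).app M ≫ (quotIπ I).app M = 0 := by
  ext ⟨x, hx⟩
  exact (Submodule.Quotient.mk_eq_zero _).2 hx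

/-- the short exact sequence `0 ⟶ Γ_I M ⟶ M ⟶ M / Γ_I M ⟶ 0` -/
lemma shortExact_app (M : ModuleCat.{u} A) :
    (ShortComplex.mk ((gammaIι I).app M) ((quotIπ I).app M) (gammaIι_quotIπ I M)).ShortExact := by
  apply ModuleCat.shortComplex_shortExact
  · intro x
    constructor
    · intro hx
      exact ⟨⟨x, (Submodule.Quotient.mk_eq_zero _).1 hx⟩, rfl⟩
    · rintro ⟨y, rfl⟩
      exact (Submodule.Quotient.mk_eq_zero _).2 y.2
  · intro x y h
    exact Subtype.ext h
  · exact Submodule.mkQ_surjective _

section Complex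

variable {ι : Type*} (c : ComplexShape ι) (C : HomologicalComplex (ModuleCat.{u} A) c)

/-- `Γ_I` of a complex -/
noncomputable abbrev gammaCx : HomologicalComplex (ModuleCat.{u} A) c :=
  ((gammaI I).mapHomologicalComplex c).obj C

/-- the quotient of a complex by `Γ_I` -/
noncomputable abbrev quotCx : HomologicalComplex (ModuleCat.{u} A) c :=
  ((quotI I).mapHomologicalComplex c).obj C

/-- the inclusion `Γ_I C ⟶ C` -/
noncomputable abbrev gammaCxι : gammaCx I c C ⟶ C :=
  (NatTrans.mapHomologicalComplex (gammaIι I) c).app C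

/-- the projection `C ⟶ C / Γ_I C` -/
noncomputable abbrev quotCxπ : C ⟶ quotCx I c C :=
  (NatTrans.mapHomologicalComplex (quotIπ I) c).app C

lemma gammaCxι_quotCxπ : gammaCxι I c C ≫ quotCxπ I c C = 0 := by
  ext n : 1
  exact gammaIι_quotIπ I (C.X n)

/-- the short complex `Γ_I C ⟶ C ⟶ C / Γ_I C` -/
noncomputable abbrev gammaSC : ShortComplex (HomologicalComplex (ModuleCat.{u} A) c) :=
  ShortComplex.mk (gammaCxι I c C) (quotCxπ I c C) (gammaCxι_quotCxπ I c C)

lemma gammaSC_shortExact : (gammaSC I c C).ShortExact := by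
  apply HomologicalComplex.shortExact_of_degreewise_shortExact
  intro n
  exact shortExact_app I (C.X n)

end Complex

end Helper89.RGI
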