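import Groth.Agent.Lib.Helper89.RGI2

/-!
# The principal case: `Γ_f C ⟶ C` is a quasi-isomorphism (helper89)
-/

set_option autoImplicit false
universe u

open CategoryTheory CategoryTheory.Limits

namespace Helper89.RGI

open DRing

variable {A : Type u} [CommRing A]

section Modules

variable (I : Ideal A) (f : A) (M : Type u) [AddCommGroup M] [Module A M]

lemma mem_torsionSub_span_singleton (m : M) :
    m ∈ torsionSub (Ideal.span {f}) M ↔ ∃ n : ℕ, f ^ n • m = 0 := by
  constructor
  · rintro ⟨n, hn⟩
    refine ⟨n, hn _ ?_⟩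
    rw [Ideal.span_singleton_pow]
    exact Ideal.mem_span_singleton_self _
  · rintro ⟨n, hn⟩
    refine ⟨n, fun a ha => ?_⟩
    rw [Ideal.span_singleton_pow, Ideal.mem_span_singleton'] at ha
    obtain ⟨b, rfl⟩ := ha
    rw [mul_smul, hn, smul_zero]

/-- `f` acts injectively on `M / Γ_f M` -/
lemma smul_injective_quot :
    Function.Injective (fun x : M ⧸ torsionSub (Ideal.span {f}) M => f • x) := by
  intro x y hxy
  obtain ⟨x, rfl⟩ := Submodule.mkQ_surjective _ x
  obtain ⟨y, rfl⟩ := Submodule.mkQ_surjective _ y
  have h1 : f • (x - y) ∈ torsionSub (Ideal.span {f}) M := by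
    rw [← Submodule.Quotient.mk_eq_zero, Submodule.Quotient.mk_smul, Submodule.Quotient.mk_sub,
      smul_sub, sub_eq_zero]
    exact hxy
  rw [mem_torsionSub_span_singleton] at h1
  obtain ⟨n, hn⟩ := h1
  have h2 : x - y ∈ torsionSub (Ideal.span {f}) M := by
    rw [mem_torsionSub_span_singleton]
    refine ⟨n + 1, ?_⟩
    rw [pow_succ, mul_smul]
    exact hn
  rw [Submodule.mkQ_apply, Submodule.mkQ_apply, ← sub_eq_zero, ← Submodule.Quotient.mk_sub,
    Submodule.Quotient.mk_eq_zero]
  exact h2

/-- an injective module on which `f` acts injectively is `f`-divisible -/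
lemma smul_surjective_of_injective [Module.Injective A M]
    (h : Function.Injective (fun x : M => f • x)) : Function.Surjective (fun x : M => f • x) := by
  let φ : M →ₗ[A] M := LinearMap.lsmul A M f
  obtain ⟨r, hr⟩ := Module.Injective.out φ h LinearMap.id
  have hker : ∀ z : M, r z = 0 → z = 0 := by
    intro z hz
    have h1 : r (f • z) = z := hr z
    rw [map_smul, hz, smul_zero] at h1
    exact h1.symm
  intro y
  refine ⟨r y, ?_⟩
  have h2 : r (f • r y - y) = 0 := by
    rw [map_sub]
    have : r (f • r y) = r y := hr (r y)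
    rw [this, sub_self]
  exact sub_eq_zero.1 (hker _ h2)

variable [IsNoetherianRing A]

/-- the quotient of an injective module by its `I`-power torsion is injective -/
instance injective_quot [Module.Injective A M] : Module.Injective A (M ⧸ torsionSub I M) := by
  obtain ⟨r, hr⟩ := Module.Injective.out (torsionSub I M).subtype Subtype.val_injective
    (LinearMap.id : torsionSub I M →ₗ[A] torsionSub I M)
  -- the section of the projection
  let s : (M ⧸ torsionSub I M) →ₗ[A] M :=
    Submodule.liftQ _ (LinearMap.id - (torsionSub I M).subtype ∘ₗ r) (by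
      intro x hx
      rw [LinearMap.mem_ker, LinearMap.sub_apply, LinearMap.id_apply, LinearMap.comp_apply]
      have := hr ⟨x, hx⟩
      simp only [Submodule.subtype_apply, LinearMap.id_apply] at this
      rw [this]
      exact sub_self x)
  have hs : ∀ x, Submodule.mkQ (torsionSub I M) (s x) = x := by
    intro x
    obtain ⟨x, rfl⟩ := Submodule.mkQ_surjective _ x
    change Submodule.mkQ (torsionSub I M) (x - (r x : M)) = _
    rw [map_sub, sub_eq_self, Submodule.mkQ_apply, Submodule.Quotient.mk_eq_zero]
    exact (r x).2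
  constructor
  intro X Y _ _ _ _ i hi g
  obtain ⟨h, hh⟩ := Module.Injective.out i hi (s ∘ₗ g)
  refine ⟨Submodule.mkQ (torsionSub I M) ∘ₗ h, fun x => ?_⟩
  rw [LinearMap.comp_apply, hh, LinearMap.comp_apply, hs]

end Modules

section Complex

variable (I : Ideal A) (C : CochainComplex (ModuleCat.{u} A) ℤ)

/-- the homology of `Γ_I C` is `I`-power torsion -/
lemma homology_gammaCx_torsion (n : ℤ) (m : (gammaCx I _ C).homology n) :
    m ∈ torsionSub I ((gammaCx I _ C).homology n) := by
  obtain ⟨z, rfl⟩ := (ModuleCat.epi_iff_surjective ((gammaCx I _ C).homologyπ n)).1 inferInstance m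
  obtain ⟨k, hk⟩ := ((gammaCx I _ C).iCycles n z).2
  refine ⟨k, fun a ha => ?_⟩
  rw [← map_smul]
  have h1 : (gammaCx I _ C).iCycles n (a • z) = 0 := by
    rw [map_smul]
    apply Subtype.ext
    exact hk a ha
  have h2 : a • z = 0 :=
    (ModuleCat.mono_iff_injective ((gammaCx I _ C).iCycles n)).1 inferInstance
      (h1.trans (map_zero _).symm)
  rw [h2, map_zero]

omit [CommRing A] in
lemma homologyMap_smul_id {R : Type*} [CommRing R] {ι : Type*} {c : ComplexShape ι}
    (K : HomologicalComplex (ModuleCat.{u} R) c) (a : R) (n : ι) :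
    HomologicalComplex.homologyMap (a • 𝟙 K) n = a • 𝟙 (K.homology n) := by
  have h1 : HomologicalComplex.cyclesMap (a • 𝟙 K) n = a • 𝟙 (K.cycles n) := by
    rw [← cancel_mono (K.iCycles n), HomologicalComplex.cyclesMap_i, Linear.smul_comp,
      Category.id_comp, HomologicalComplex.smul_f_apply, HomologicalComplex.id_f,
      Linear.comp_smul, Category.comp_id]
  rw [← cancel_epi (K.homologyπ n), HomologicalComplex.homologyπ_naturality, h1,
    Linear.smul_comp, Category.id_comp, Linear.comp_smul, Category.comp_id]

/-- a short exact sequence of complexes whose third term is acyclic has a quasi-isomorphism as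
first map -/
lemma quasiIso_f_of_isZero_homology {S : ShortComplex (CochainComplex (ModuleCat.{u} A) ℤ)}
    (hS : S.ShortExact) (h : ∀ n : ℤ, IsZero (S.X₃.homology n)) : QuasiIso S.f := by
  constructor
  intro n
  rw [quasiIsoAt_iff_isIso_homologyMap]
  have hmono : Mono (HomologicalComplex.homologyMap S.f n) :=
    (hS.homology_exact₁ (n - 1) n (by simp)).mono_g ((h (n - 1)).eq_of_src _ _)
  have hepi : Epi (HomologicalComplex.homologyMap S.f n) :=
    (hS.homology_exact₂ n).epi_f ((h n).eq_of_tgt _ _)
  exact isIso_of_mono_of_epi _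

variable [IsNoetherianRing A] (f : A)

/-- The principal case of the key theorem. -/
theorem quasiIso_gammaCxι_principal (hinj : ∀ n, Injective (C.X n))
    (htors : ∀ (n : ℤ) (m : C.homology n), m ∈ torsionSub (Ideal.span {f}) (C.homology n)) :
    QuasiIso (gammaCxι (Ideal.span {f}) _ C) := by
  set J := Ideal.span {f} with hJ
  have hS := gammaSC_shortExact J (ComplexShape.up ℤ) C
  refine quasiIso_f_of_isZero_homology (S := gammaSC J (ComplexShape.up ℤ) C) hS ?_
  intro n
  let Qc := quotCx J (ComplexShape.up ℤ) C
  change IsZero (Qc.homology n)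
  -- `f` acts bijectively on the terms of `Qc`
  have hbij : ∀ k, Function.Bijective (fun x : Qc.X k => f • x) := by
    intro k
    haveI : Module.Injective A (C.X k) := Module.injective_module_of_injective_object A (C.X k)
    have h1 : Function.Injective (fun x : (C.X k) ⧸ torsionSub J (C.X k) => f • x) :=
      smul_injective_quot f (C.X k)
    haveI : Module.Injective A ((C.X k) ⧸ torsionSub J (C.X k)) := injective_quot J (C.X k)
    exact ⟨h1, smul_surjective_of_injective f ((C.X k) ⧸ torsionSub J (C.X k)) h1⟩
  have hiso : IsIso (f • 𝟙 Qc) := by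
    haveI : ∀ k, IsIso ((f • 𝟙 Qc).f k) := by
      intro k
      rw [HomologicalComplex.smul_f_apply, HomologicalComplex.id_f]
      exact (ConcreteCategory.isIso_iff_bijective _).2 (hbij k)
    exact HomologicalComplex.Hom.isIso_of_components _
  have hiso' : IsIso (f • 𝟙 (Qc.homology n)) := by
    rw [← homologyMap_smul_id]
    infer_instance
  have hinj' : Function.Injective (fun y : Qc.homology n => f • y) :=
    ((ConcreteCategory.isIso_iff_bijective (f • 𝟙 (Qc.homology n))).1 hiso').1
  -- the homology of `Qc` is `f`-power torsion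
  have htorsQ : ∀ y : Qc.homology n, ∃ k : ℕ, f ^ k • y = 0 := by
    intro y
    let δ := hS.δ n (n + 1) rfl
    obtain ⟨k, hk⟩ := (mem_torsionSub_span_singleton f _ (δ y)).1
      (homology_gammaCx_torsion J C (n + 1) (δ y))
    have h1 : δ (f ^ k • y) = 0 := by rw [map_smul, hk]
    obtain ⟨x, hx⟩ := (ShortComplex.moduleCat_exact_iff _).1 (hS.homology_exact₃ n (n + 1) rfl)
      (f ^ k • y) h1
    obtain ⟨l, hl⟩ := (mem_torsionSub_span_singleton f _ x).1 (htors n x)
    refine ⟨l + k, ?_⟩
    rw [pow_add, mul_smul, ← hx]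
    change f ^ l • (HomologicalComplex.homologyMap (quotCxπ J _ C) n) x = 0
    rw [← map_smul, hl, map_zero]
  -- conclude
  have hzero : ∀ y : Qc.homology n, y = 0 := by
    intro y
    obtain ⟨k, hk⟩ := htorsQ y
    induction k with
    | zero => simpa using hk
    | succ k ih =>
      apply ih
      apply hinj'
      change f • f ^ k • y = f • 0
      rw [smul_zero, ← mul_smul, ← pow_succ']
      exact hk
  rw [IsZero.iff_id_eq_zero]
  ext y
  exact hzero y

end Complex

end Helper89.RGI
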