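import Groth.Agent.Lib.Helper89.RGI3

/-!
# The key theorem for `Γ_I` over Noetherian rings (helper89)

`Γ_I C ⟶ C` is a quasi-isomorphism for every complex `C` of injective modules whose cohomology
is `I`-power torsion.
-/

set_option autoImplicit false
universe u

open CategoryTheory CategoryTheory.Limits

namespace Helper89.RGI

open DRing

variable {A : Type u} [CommRing A]

section Comp

variable (I J : Ideal A) (M : Type u) [AddCommGroup M] [Module A M]

lemma torsionSub_mono {I J : Ideal A} (h : I ≤ J) : torsionSub J M ≤ torsionSub I M := by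
  rintro m ⟨n, hn⟩
  exact ⟨n, fun a ha => hn a (Ideal.pow_right_mono h n ha)⟩

lemma mem_torsionSub_sup (m : M) (hI : m ∈ torsionSub I M) (hJ : m ∈ torsionSub J M) :
    m ∈ torsionSub (I ⊔ J) M := by
  obtain ⟨n, hn⟩ := hI
  obtain ⟨k, hk⟩ := hJ
  refine ⟨n + k, fun a ha => ?_⟩
  have h1 := Ideal.sup_pow_add_le_pow_sup_pow ha
  obtain ⟨b, hb, c, hc, rfl⟩ := Submodule.mem_sup.1 h1
  rw [add_smul, hn b hb, hk c hc, add_zero]

/-- `Γ_I (Γ_J M) ≃ Γ_{I ⊔ J} M` -/
def compEquiv : torsionSub I (torsionSub J M) ≃ₗ[A] torsionSub (I ⊔ J) M where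
  toFun x := ⟨x.1.1, mem_torsionSub_sup I J M x.1.1
    (by
      obtain ⟨n, hn⟩ := x.2
      exact ⟨n, fun a ha => congrArg Subtype.val (hn a ha)⟩) x.1.2⟩
  map_add' _ _ := rfl
  map_smul' _ _ := rfl
  invFun y := ⟨⟨y.1, torsionSub_mono M le_sup_right y.2⟩, by
    obtain ⟨n, hn⟩ := torsionSub_mono M (le_sup_left : I ≤ I ⊔ J) y.2
    exact ⟨n, fun a ha => Subtype.ext (hn a ha)⟩⟩
  left_inv _ := rfl
  right_inv _ := rfl

end Comp

/-- `Γ_I ∘ Γ_J ≅ Γ_{I ⊔ J}` -/
def gammaComp (I J : Ideal A) : gammaI J ⋙ gammaI I ≅ gammaI (I ⊔ J) :=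
  NatIso.ofComponents (fun M => (compEquiv I J M).toModuleIso) (fun _ => rfl)

lemma gammaComp_hom_ι (I J : Ideal A) (M : ModuleCat.{u} A) :
    (gammaComp I J).hom.app M ≫ (gammaIι (I ⊔ J)).app M =
      (gammaIι I).app ((gammaI J).obj M) ≫ (gammaIι J).app M := rfl

section Complex

variable (I J : Ideal A) (C : CochainComplex (ModuleCat.{u} A) ℤ)

/-- `Γ_I (Γ_J C) ≅ Γ_{I ⊔ J} C` -/
noncomputable def gammaCxComp :
    gammaCx I _ (gammaCx J (ComplexShape.up ℤ) C) ≅ gammaCx (I ⊔ J) (ComplexShape.up ℤ) C :=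
  HomologicalComplex.Hom.isoOfComponents (fun n => (gammaComp I J).app (C.X n))
    (fun n m _ => ((gammaComp I J).hom.naturality (C.d n m)).symm)

lemma gammaCxComp_hom_ι : (gammaCxComp I J C).hom ≫ gammaCxι (I ⊔ J) _ C =
    gammaCxι I _ (gammaCx J _ C) ≫ gammaCxι J _ C := by
  ext n : 1
  exact gammaComp_hom_ι I J (C.X n)

variable [IsNoetherianRing A]

lemma injective_gammaCx_X (hinj : ∀ n, Injective (C.X n)) (n : ℤ) :
    Injective ((gammaCx I (ComplexShape.up ℤ) C).X n) := by
  haveI : Module.Injective A (C.X n) := Module.injective_module_of_injective_object A (C.X n)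
  exact Module.injective_object_of_injective_module A (torsionSub I (C.X n))

/-- **Key theorem**: over a Noetherian ring, `Γ_I C ⟶ C` is a quasi-isomorphism for every complex
`C` of injective modules with `I`-power torsion cohomology. -/
theorem quasiIso_gammaCxι (hinj : ∀ n, Injective (C.X n))
    (htors : ∀ (n : ℤ) (m : C.homology n), m ∈ torsionSub I (C.homology n)) :
    QuasiIso (gammaCxι I _ C) := by
  have hI : (I : Submodule A A).FG := IsNoetherian.noetherian I
  revert C
  refine Submodule.fg_induction (R := A) (M := A)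
    (motive := fun I _ => ∀ C : CochainComplex (ModuleCat.{u} A) ℤ, (∀ n, Injective (C.X n)) →
      (∀ (n : ℤ) (m : C.homology n), m ∈ torsionSub I (C.homology n)) →
      QuasiIso (gammaCxι I _ C)) ?_ ?_ I hI
  · intro f C hinj htors
    exact quasiIso_gammaCxι_principal C f hinj htors
  · intro I J _ _ hPI hPJ C hinj htors
    have h1 : QuasiIso (gammaCxι J _ C) :=
      hPJ C hinj (fun n m => torsionSub_mono _ le_sup_right (htors n m))
    have h2 : QuasiIso (gammaCxι I _ (gammaCx J _ C)) := by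
      refine hPI _ (injective_gammaCx_X J C hinj) (fun n m => ?_)
      have hiso : IsIso (HomologicalComplex.homologyMap (gammaCxι J _ C) n) := inferInstance
      have hinj' : Function.Injective (HomologicalComplex.homologyMap (gammaCxι J _ C) n) :=
        ((ConcreteCategory.isIso_iff_bijective _).1 hiso).1
      obtain ⟨k, hk⟩ := torsionSub_mono _ (le_sup_left : I ≤ I ⊔ J)
        (htors n (HomologicalComplex.homologyMap (gammaCxι J _ C) n m))
      refine ⟨k, fun a ha => hinj' ?_⟩
      rw [map_smul, hk a ha, map_zero]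
    have h3 : gammaCxι (I ⊔ J) _ C =
        (gammaCxComp I J C).inv ≫ gammaCxι I _ (gammaCx J _ C) ≫ gammaCxι J _ C := by
      rw [← gammaCxComp_hom_ι, Iso.inv_hom_id_assoc]
    rw [h3]
    infer_instance

end Complex

end Helper89.RGI
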