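import Groth.Agent.Lib.Helper89.RGI4
import Groth.Agent.Lib.Helper25.KInjDerived
import Groth.Agent.Lib.Helper13.KInjMain

/-!
# `RΓ_I` over Noetherian rings via K-injective resolutions (helper89)
-/

set_option autoImplicit false
universe u

open CategoryTheory CategoryTheory.Limits

attribute [local instance] HasDerivedCategory.standard

namespace Helper89.RGI

open DRing DerivedCategory

variable {A : Type u} [CommRing A] (I : Ideal A)

/-- the unit of the total right derived functor -/
noncomputable abbrev rgUnit [HasRgammaI I] : gammaIKh I ⟶ Qh ⋙ RgammaI I :=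
  (gammaIKh I).totalRightDerivedUnit Qh
    (HomotopyCategory.quasiIso (ModuleCat.{u} A) (ComplexShape.up ℤ))

lemma rgUnit_comp_ε [HasRgammaI I]
    (X : HomotopyCategory (ModuleCat.{u} A) (ComplexShape.up ℤ)) :
    (rgUnit I).app X ≫ (RgammaIε I).app (Qh.obj X) = (gammaIτ I).app X := by
  dsimp only [RgammaIε, rgUnit]
  rw [Functor.rightDerived_fac_app]
  simp

lemma gammaIτ_app_quotient (J : CochainComplex (ModuleCat.{u} A) ℤ) :
    (gammaIτ I).app ((HomotopyCategory.quotient _ _).obj J) =
      Qh.map (((gammaI I).mapHomotopyCategoryFactors (ComplexShape.up ℤ)).hom.app J) ≫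
        Qh.map ((HomotopyCategory.quotient _ _).map (gammaCxι I _ J)) := by
  have h1 : (gammaIτ I).app ((HomotopyCategory.quotient _ _).obj J) = (gammaIτ0 I).app J :=
    Quotient.natTransLift_app _ _ _ (gammaIτ0 I) J
  rw [h1]
  simp only [gammaIτ0, NatTrans.comp_app, Functor.associator_inv_app, Functor.associator_hom_app,
    Functor.whiskerRight_app, Functor.leftUnitor_hom_app, Category.id_comp,
    Functor.comp_map]
  congr 1
  erw [Category.comp_id]
  rw [← Functor.map_comp, ← Functor.map_comp]
  congr 2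

/-- for a K-injective complex `J`, `RΓ_I (J) ⟶ J` is an isomorphism iff `Γ_I J ⟶ J` is a
quasi-isomorphism -/
lemma isIso_ε_iff [HasRgammaI I] (J : CochainComplex (ModuleCat.{u} A) ℤ) [J.IsKInjective] :
    IsIso ((RgammaIε I).app (Q.obj J)) ↔ QuasiIso (gammaCxι I _ J) := by
  have h1 := rgUnit_comp_ε I ((HomotopyCategory.quotient _ _).obj J)
  rw [gammaIτ_app_quotient] at h1
  haveI : IsIso ((rgUnit I).app ((HomotopyCategory.quotient _ _).obj J)) :=
    Groth.Agent.Lib.Helper25.KInjDerived.isIso_unit_homotopyCategory (gammaIKh I) Qh (RgammaI I)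
      (rgUnit I) J
  rw [← isIso_Q_map_iff_quasiIso]
  change IsIso ((RgammaIε I).app (Qh.obj ((HomotopyCategory.quotient _ _).obj J))) ↔
    IsIso (Qh.map ((HomotopyCategory.quotient _ _).map (gammaCxι I _ J)))
  constructor
  · intro h
    have h2 : IsIso (Qh.map (((gammaI I).mapHomotopyCategoryFactors (ComplexShape.up ℤ)).hom.app J) ≫
        Qh.map ((HomotopyCategory.quotient _ _).map (gammaCxι I _ J))) := by
      rw [← h1]
      infer_instance
    exact (isIso_comp_left_iff _ _).1 h2
  · intro h
    have h2 : IsIso ((rgUnit I).app ((HomotopyCategory.quotient _ _).obj J) ≫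
        (RgammaIε I).app (Qh.obj ((HomotopyCategory.quotient _ _).obj J))) := by
      rw [h1]
      infer_instance
    exact (isIso_comp_left_iff _ _).1 h2

/-- transport of torsion along an isomorphism of modules -/
lemma torsion_of_iso {M N : ModuleCat.{u} A} (e : M ≅ N)
    (hN : ∀ n : N, n ∈ torsionSub I N) (m : M) : m ∈ torsionSub I M := by
  obtain ⟨k, hk⟩ := hN (e.hom m)
  refine ⟨k, fun a ha => ?_⟩
  have h1 : e.hom (a • m) = 0 := by rw [map_smul, hk a ha]
  have h2 : Function.Injective e.hom := (ConcreteCategory.isIso_iff_bijective e.hom).1 inferInstance |>.1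
  exact h2 (h1.trans (map_zero _).symm)

/-- K-injective resolutions with injective terms -/
lemma exists_kInj (K : Dual.D A) : ∃ (J : CochainComplex (ModuleCat.{u} A) ℤ) (_ : J.IsKInjective),
    (∀ n, Injective (J.X n)) ∧ Nonempty (Q.obj J ≅ K) := by
  obtain ⟨J, f, hJ, hf, -, hext⟩ :=
    Groth.Agent.Lib.Helper13.KInjMain.exists_kInjective_resolution (Q.objPreimage K)
  have : IsIso (Q.map f) := (isIso_Q_map_iff_quasiIso _ f).2 hf
  exact ⟨J, hJ, fun n => Groth.Agent.Lib.Helper13.KInjBasic.injective_of_extProp hext n,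
    ⟨(asIso (Q.map f)).symm ≪≫ Q.objObjPreimageIso K⟩⟩

/-- the homology of a complex and of its image in the derived category -/
noncomputable def homologyQIso (J : CochainComplex (ModuleCat.{u} A) ℤ) (n : ℤ) :
    (homologyFunctor (ModuleCat.{u} A) n).obj (Q.obj J) ≅ J.homology n :=
  (homologyFunctorFactors (ModuleCat.{u} A) n).app J

variable [IsNoetherianRing A] [HasRgammaI I]

/-- **S1813**: `RΓ_I K ⟶ K` is an isomorphism when `K` has `I`-power torsion cohomology. -/
theorem isIso_ε_of_torsion (K : Dual.D A)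
    (hK : ∀ (i : ℤ) (m : (homologyFunctor (ModuleCat.{u} A) i).obj K),
      m ∈ torsionSub I ((homologyFunctor (ModuleCat.{u} A) i).obj K)) :
    IsIso ((RgammaIε I).app K) := by
  obtain ⟨J, hJ, hinj, ⟨e⟩⟩ := exists_kInj K
  have htors : ∀ (n : ℤ) (m : J.homology n), m ∈ torsionSub I (J.homology n) := by
    intro n
    exact torsion_of_iso I ((homologyQIso J n).symm ≪≫
      (homologyFunctor (ModuleCat.{u} A) n).mapIso e) (hK n)
  have h1 : IsIso ((RgammaIε I).app (Q.obj J)) :=
    (isIso_ε_iff I J).2 (quasiIso_gammaCxι I J hinj htors)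
  have h2 := (RgammaIε I).naturality e.hom
  have h3 : (RgammaIε I).app K = (RgammaI I).map e.inv ≫ (RgammaIε I).app (Q.obj J) ≫ e.hom := by
    rw [← cancel_epi ((RgammaI I).map e.hom), ← Functor.map_comp_assoc, e.hom_inv_id,
      CategoryTheory.Functor.map_id, Category.id_comp]
    exact h2
  rw [h3]
  infer_instance

end Helper89.RGI
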