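import Groth.Agent.Lib.Helper89.RGI5
import Groth.Agent.Lib.Helper84.KInj

/-!
# `Γ_I` preserves quasi-isomorphisms between complexes of injectives; consequences (helper89)
-/

set_option autoImplicit false
universe u

open CategoryTheory CategoryTheory.Limits

attribute [local instance] HasDerivedCategory.standard

namespace Helper89.RGI

open DRing DerivedCategory CochainComplex

section General

variable {C : Type*} [Category C] [Abelian C]

theorem quasiIso_iff_acyclic_mappingCone {K L : CochainComplex C ℤ} (φ : K ⟶ L) :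
    QuasiIso φ ↔ (mappingCone φ).Acyclic := by
  rw [← HomologicalComplex.mem_quasiIso_iff, ← HomotopyCategory.quotient_map_mem_quasiIso_iff,
    HomotopyCategory.quasiIso_eq_trW_subcategoryAcyclic,
    ← HomotopyCategory.quotient_obj_mem_subcategoryAcyclic_iff_acyclic]
  exact (HomotopyCategory.subcategoryAcyclic C).trW_iff_of_distinguished _
    (HomotopyCategory.mappingCone_triangleh_distinguished φ)

lemma acyclic_of_iso {K L : CochainComplex C ℤ} (e : K ≅ L) (h : K.Acyclic) : L.Acyclic := by
  intro n
  have h1 := h n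
  rw [HomologicalComplex.exactAt_iff_isZero_homology] at h1 ⊢
  exact h1.of_iso ((HomologicalComplex.homologyFunctor C _ n).mapIso e.symm)

lemma injective_mappingCone_X {K L : CochainComplex C ℤ} (φ : K ⟶ L)
    (hK : ∀ n, Injective (K.X n)) (hL : ∀ n, Injective (L.X n)) (n : ℤ) :
    Injective ((mappingCone φ).X n) := by
  haveI := hK (n + 1)
  haveI := hL n
  exact Injective.of_iso
    (HomologicalComplex.homotopyCofiber.XIsoBiprod φ n (n + 1) rfl).symm inferInstance

end General

variable {A : Type u} [CommRing A] (I : Ideal A)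

section QI

variable [IsNoetherianRing A]

/-- `Γ_I` of an acyclic complex of injectives is acyclic -/
lemma acyclic_gammaCx (C : CochainComplex (ModuleCat.{u} A) ℤ) (hinj : ∀ n, Injective (C.X n))
    (hC : C.Acyclic) : (gammaCx I _ C).Acyclic := by
  have hz : ∀ n, IsZero (C.homology n) := fun n =>
    (HomologicalComplex.exactAt_iff_isZero_homology _ _).1 (hC n)
  have h1 : QuasiIso (gammaCxι I _ C) := by
    apply quasiIso_gammaCxι I C hinj
    intro n m
    have : m = 0 := (ModuleCat.isZero_iff_subsingleton.1 (hz n)).elim _ _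
    rw [this]
    exact Submodule.zero_mem _
  intro n
  rw [HomologicalComplex.exactAt_iff_isZero_homology]
  exact (hz n).of_iso (asIso (HomologicalComplex.homologyMap (gammaCxι I _ C) n))

/-- **Lemma QI**: `Γ_I` preserves quasi-isomorphisms between complexes of injectives. -/
theorem quasiIso_gammaCx_map {C C' : CochainComplex (ModuleCat.{u} A) ℤ} (q : C ⟶ C')
    (hC : ∀ n, Injective (C.X n)) (hC' : ∀ n, Injective (C'.X n)) (hq : QuasiIso q) :
    QuasiIso (((gammaI I).mapHomologicalComplex (ComplexShape.up ℤ)).map q) := by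
  rw [quasiIso_iff_acyclic_mappingCone] at hq ⊢
  have h1 := acyclic_gammaCx I (mappingCone q) (injective_mappingCone_X q hC hC') hq
  exact acyclic_of_iso (mappingCone.mapHomologicalComplexIso q (gammaI I)) h1

end QI

section RgIso

variable [HasRgammaI I]

/-- the unit is an isomorphism at K-injective complexes -/
instance isIso_rgUnit (J : CochainComplex (ModuleCat.{u} A) ℤ) [J.IsKInjective] :
    IsIso ((rgUnit I).app ((HomotopyCategory.quotient _ _).obj J)) :=
  Groth.Agent.Lib.Helper25.KInjDerived.isIso_unit_homotopyCategory (gammaIKh I) Qh (RgammaI I)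
    (rgUnit I) J

/-- the unit at `J` with clean types: `Γ_I J ⟶ RΓ_I J` in the derived category -/
noncomputable def uJ (J : CochainComplex (ModuleCat.{u} A) ℤ) :
    Q.obj (gammaCx I _ J) ⟶ (RgammaI I).obj (Q.obj J) :=
  Qh.map (((gammaI I).mapHomotopyCategoryFactors (ComplexShape.up ℤ)).inv.app J) ≫
    (rgUnit I).app ((HomotopyCategory.quotient _ _).obj J)

instance isIso_uJ (J : CochainComplex (ModuleCat.{u} A) ℤ) [J.IsKInjective] : IsIso (uJ I J) := by
  unfold uJ
  have h1 : IsIso (Qh.map (((gammaI I).mapHomotopyCategoryFactors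
      (ComplexShape.up ℤ)).inv.app J)) :=
    ⟨Qh.map (((gammaI I).mapHomotopyCategoryFactors (ComplexShape.up ℤ)).hom.app J), by
      rw [← Functor.map_comp, Iso.inv_hom_id_app, CategoryTheory.Functor.map_id], by
      rw [← Functor.map_comp, Iso.hom_inv_id_app, CategoryTheory.Functor.map_id]⟩
  exact IsIso.comp_isIso' h1 (isIso_rgUnit I J)

lemma uJ_ε (J : CochainComplex (ModuleCat.{u} A) ℤ) :
    uJ I J ≫ (RgammaIε I).app (Q.obj J) = Q.map (gammaCxι I _ J) := by
  have h1 := rgUnit_comp_ε I ((HomotopyCategory.quotient _ _).obj J)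
  rw [gammaIτ_app_quotient] at h1
  change (Qh.map (((gammaI I).mapHomotopyCategoryFactors (ComplexShape.up ℤ)).inv.app J) ≫
    (rgUnit I).app ((HomotopyCategory.quotient _ _).obj J)) ≫
    (RgammaIε I).app (Qh.obj ((HomotopyCategory.quotient _ _).obj J)) =
      Qh.map ((HomotopyCategory.quotient _ _).map (gammaCxι I _ J))
  rw [Category.assoc, h1, ← Functor.map_comp_assoc, Iso.inv_hom_id_app,
    CategoryTheory.Functor.map_id, Category.id_comp]

lemma uJ_naturality {J' J : CochainComplex (ModuleCat.{u} A) ℤ} (φ : J' ⟶ J) :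
    Q.map (((gammaI I).mapHomologicalComplex (ComplexShape.up ℤ)).map φ) ≫ uJ I J =
      uJ I J' ≫ (RgammaI I).map (Q.map φ) := by
  have h1 := (rgUnit I).naturality ((HomotopyCategory.quotient _ _).map φ)
  have h2 := ((gammaI I).mapHomotopyCategoryFactors (ComplexShape.up ℤ)).inv.naturality φ
  change Qh.map ((HomotopyCategory.quotient _ _).map
      (((gammaI I).mapHomologicalComplex (ComplexShape.up ℤ)).map φ)) ≫
    (Qh.map (((gammaI I).mapHomotopyCategoryFactors (ComplexShape.up ℤ)).inv.app J) ≫
      (rgUnit I).app ((HomotopyCategory.quotient _ _).obj J)) =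
    (Qh.map (((gammaI I).mapHomotopyCategoryFactors (ComplexShape.up ℤ)).inv.app J') ≫
      (rgUnit I).app ((HomotopyCategory.quotient _ _).obj J')) ≫
      (Qh ⋙ RgammaI I).map ((HomotopyCategory.quotient _ _).map φ)
  rw [Category.assoc, ← h1, ← Category.assoc, ← Category.assoc]
  congr 1
  have h3 : (HomotopyCategory.quotient _ _).map
      (((gammaI I).mapHomologicalComplex (ComplexShape.up ℤ)).map φ) ≫
      ((gammaI I).mapHomotopyCategoryFactors (ComplexShape.up ℤ)).inv.app J =
    ((gammaI I).mapHomotopyCategoryFactors (ComplexShape.up ℤ)).inv.app J' ≫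
      ((gammaI I).mapHomotopyCategory (ComplexShape.up ℤ)).map
        ((HomotopyCategory.quotient _ _).map φ) := h2
  have h4 := congrArg (fun ψ => (Qh (C := ModuleCat.{u} A)).map ψ) h3
  simp only [Functor.map_comp] at h4
  exact h4

end RgIso

end Helper89.RGI
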