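import Groth.Agent.Lib.Helper89.RGI8

/-!
# `RΓ_J ∘ RΓ_I ≅ RΓ_{I ⊔ J}` over Noetherian rings (helper89)
-/

set_option autoImplicit false
universe u

open CategoryTheory CategoryTheory.Limits

attribute [local instance] HasDerivedCategory.standard

namespace Helper89.RGI

open DRing DerivedCategory CochainComplex

variable {A : Type u} [CommRing A] [IsNoetherianRing A] (I J : Ideal A)
  [HasRgammaI I] [HasRgammaI J] [HasRgammaI (I ⊔ J)]

theorem nonempty_rg_comp_iso (K : Dual.D A) :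
    Nonempty ((RgammaI J).obj ((RgammaI I).obj K) ≅ (RgammaI (I ⊔ J)).obj K) := by
  obtain ⟨J₀, hJ₀, hinj, ⟨e⟩⟩ := exists_kInj K
  let G := gammaCx I (ComplexShape.up ℤ) J₀
  have hG : ∀ n, Injective (G.X n) := injective_gammaCx_X I J₀ hinj
  obtain ⟨J', q, hJ', hq, -, hext⟩ :=
    Groth.Agent.Lib.Helper13.KInjMain.exists_kInjective_resolution G
  have hinj' : ∀ n, Injective (J'.X n) := fun n =>
    Groth.Agent.Lib.Helper13.KInjBasic.injective_of_extProp hext n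
  haveI : IsIso (Q.map q) := (isIso_Q_map_iff_quasiIso _ q).2 hq
  have h3 : QuasiIso (((gammaI J).mapHomologicalComplex (ComplexShape.up ℤ)).map q) :=
    quasiIso_gammaCx_map J q hG hinj' hq
  haveI : IsIso (Q.map (((gammaI J).mapHomologicalComplex (ComplexShape.up ℤ)).map q)) :=
    (isIso_Q_map_iff_quasiIso _ _).2 h3
  have hsup : J ⊔ I = I ⊔ J := sup_comm J I
  let e1 : (RgammaI J).obj ((RgammaI I).obj K) ≅ (RgammaI J).obj (Q.obj G) :=
    (RgammaI J).mapIso ((RgammaI I).mapIso e.symm ≪≫ (asIso (uJ I J₀)).symm)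
  let e2 : (RgammaI J).obj (Q.obj G) ≅ (RgammaI J).obj (Q.obj J') :=
    (RgammaI J).mapIso (asIso (Q.map q))
  let e3 : (RgammaI J).obj (Q.obj J') ≅ Q.obj (gammaCx J _ J') := (asIso (uJ J J')).symm
  let e4 : Q.obj (gammaCx J _ J') ≅ Q.obj (gammaCx J _ G) :=
    (asIso (Q.map (((gammaI J).mapHomologicalComplex (ComplexShape.up ℤ)).map q))).symm
  let e5 : Q.obj (gammaCx J _ G) ≅ Q.obj (gammaCx (J ⊔ I) _ J₀) :=
    Q.mapIso (gammaCxComp J I J₀)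
  let e6 : Q.obj (gammaCx (J ⊔ I) (ComplexShape.up ℤ) J₀) ≅
      Q.obj (gammaCx (I ⊔ J) (ComplexShape.up ℤ) J₀) := eqToIso (by rw [hsup])
  let e7 : Q.obj (gammaCx (I ⊔ J) (ComplexShape.up ℤ) J₀) ≅ (RgammaI (I ⊔ J)).obj K :=
    asIso (uJ (I ⊔ J) J₀) ≪≫ (RgammaI (I ⊔ J)).mapIso e
  exact ⟨e1 ≪≫ e2 ≪≫ e3 ≪≫ e4 ≪≫ e5 ≪≫ e6 ≪≫ e7⟩

end Helper89.RGI
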