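import Mathlib

/-!
# Helper89: a retract of an object with a right dual has a right dual (idempotent complete monoidal category)
-/

set_option autoImplicit false
universe v u
open CategoryTheory CategoryTheory.Limits MonoidalCategory

namespace Helper89.RigidRetract

set_option warn.classDefReducibility false in
open ExactPairing in
/-- a retract of an exact pairing, along compatible idempotents, is an exact pairing -/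
noncomputable def exactPairingOfRetract {A : Type u} [Category.{v} A] [MonoidalCategory A]
    {X Y X₁ Y₁ : A} [ExactPairing X Y]
    (i : X₁ ⟶ X) (p : X ⟶ X₁) (hip : i ≫ p = 𝟙 X₁)
    (j : Y₁ ⟶ Y) (q : Y ⟶ Y₁) (hjq : j ≫ q = 𝟙 Y₁)
    (C1 : η_ X Y ≫ X ◁ (q ≫ j) = η_ X Y ≫ (p ≫ i) ▷ Y)
    (C2 : (q ≫ j) ▷ X ≫ ε_ X Y = Y ◁ (p ≫ i) ≫ ε_ X Y) : ExactPairing X₁ Y₁ where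
  coevaluation' := η_ X Y ≫ X ◁ q ≫ p ▷ Y₁
  evaluation' := Y₁ ◁ i ≫ j ▷ X ≫ ε_ X Y
  evaluation_coevaluation' :=
    calc (η_ X Y ≫ X ◁ q ≫ p ▷ Y₁) ▷ X₁ ≫ (α_ X₁ Y₁ X₁).hom ≫ X₁ ◁ (Y₁ ◁ i ≫ j ▷ X ≫ ε_ X Y)
      _ = (η_ X Y ≫ X ◁ q) ▷ X₁ ⊗≫ (p ▷ (Y₁ ⊗ X₁) ≫ X₁ ◁ (Y₁ ◁ i ≫ j ▷ X ≫ ε_ X Y)) := by
          monoidal
      _ = (η_ X Y ≫ X ◁ q) ▷ X₁ ⊗≫ (X ◁ (Y₁ ◁ i ≫ j ▷ X ≫ ε_ X Y) ≫ p ▷ 𝟙_ A) := by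
          rw [← whisker_exchange]
      _ = ((η_ X Y ≫ X ◁ q) ▷ X₁ ≫ (X ⊗ Y₁) ◁ i) ⊗≫ X ◁ (j ▷ X ≫ ε_ X Y) ⊗≫ p ▷ 𝟙_ A := by
          monoidal
      _ = (𝟙_ A ◁ i ≫ (η_ X Y ≫ X ◁ q) ▷ X) ⊗≫ X ◁ (j ▷ X ≫ ε_ X Y) ⊗≫ p ▷ 𝟙_ A := by
          rw [← whisker_exchange]
      _ = 𝟙_ A ◁ i ⊗≫ (η_ X Y ▷ X ⊗≫ X ◁ ((q ≫ j) ▷ X ≫ ε_ X Y)) ⊗≫ p ▷ 𝟙_ A := by
          monoidal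
      _ = 𝟙_ A ◁ i ⊗≫ (η_ X Y ▷ X ⊗≫ X ◁ (Y ◁ (p ≫ i) ≫ ε_ X Y)) ⊗≫ p ▷ 𝟙_ A := by
          rw [C2]
      _ = 𝟙_ A ◁ i ⊗≫ ((η_ X Y ▷ X ≫ (X ⊗ Y) ◁ (p ≫ i)) ⊗≫ X ◁ ε_ X Y) ⊗≫ p ▷ 𝟙_ A := by
          monoidal
      _ = 𝟙_ A ◁ i ⊗≫ ((𝟙_ A ◁ (p ≫ i) ≫ η_ X Y ▷ X) ⊗≫ X ◁ ε_ X Y) ⊗≫ p ▷ 𝟙_ A := by
          rw [← whisker_exchange]
      _ = 𝟙_ A ◁ (i ≫ p ≫ i) ⊗≫ (η_ X Y ▷ X ⊗≫ X ◁ ε_ X Y) ⊗≫ p ▷ 𝟙_ A := by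
          monoidal
      _ = 𝟙_ A ◁ (i ≫ p ≫ i) ⊗≫ p ▷ 𝟙_ A := by
          rw [evaluation_coevaluation'']; monoidal
      _ = (λ_ X₁).hom ≫ ((i ≫ p) ≫ (i ≫ p)) ≫ (ρ_ X₁).inv := by
          monoidal
      _ = (λ_ X₁).hom ≫ (ρ_ X₁).inv := by
          rw [hip, Category.id_comp, Category.id_comp]
  coevaluation_evaluation' :=
    calc Y₁ ◁ (η_ X Y ≫ X ◁ q ≫ p ▷ Y₁) ≫ (α_ Y₁ X₁ Y₁).inv ≫ (Y₁ ◁ i ≫ j ▷ X ≫ ε_ X Y) ▷ Y₁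
      _ = (Y₁ ◁ (η_ X Y ≫ X ◁ q ≫ (p ≫ i) ▷ Y₁) ≫ j ▷ (X ⊗ Y₁)) ⊗≫ ε_ X Y ▷ Y₁ := by
          monoidal
      _ = (j ▷ 𝟙_ A ≫ Y ◁ (η_ X Y ≫ X ◁ q ≫ (p ≫ i) ▷ Y₁)) ⊗≫ ε_ X Y ▷ Y₁ := by
          rw [whisker_exchange]
      _ = (j ▷ 𝟙_ A ≫ Y ◁ (η_ X Y ≫ (p ≫ i) ▷ Y ≫ X ◁ q)) ⊗≫ ε_ X Y ▷ Y₁ := by
          rw [whisker_exchange]
      _ = (j ▷ 𝟙_ A ≫ Y ◁ ((η_ X Y ≫ (p ≫ i) ▷ Y) ≫ X ◁ q)) ⊗≫ ε_ X Y ▷ Y₁ := by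
          rw [Category.assoc]
      _ = (j ▷ 𝟙_ A ≫ Y ◁ ((η_ X Y ≫ X ◁ (q ≫ j)) ≫ X ◁ q)) ⊗≫ ε_ X Y ▷ Y₁ := by
          rw [C1]
      _ = j ▷ 𝟙_ A ⊗≫ Y ◁ η_ X Y ⊗≫ ((Y ⊗ X) ◁ ((q ≫ j) ≫ q) ≫ ε_ X Y ▷ Y₁) := by
          monoidal
      _ = j ▷ 𝟙_ A ⊗≫ Y ◁ η_ X Y ⊗≫ (ε_ X Y ▷ Y ≫ 𝟙_ A ◁ ((q ≫ j) ≫ q)) := by
          rw [whisker_exchange]
      _ = j ▷ 𝟙_ A ⊗≫ (Y ◁ η_ X Y ⊗≫ ε_ X Y ▷ Y) ⊗≫ 𝟙_ A ◁ ((q ≫ j) ≫ q) := by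
          monoidal
      _ = j ▷ 𝟙_ A ⊗≫ 𝟙_ A ◁ ((q ≫ j) ≫ q) := by
          rw [coevaluation_evaluation'']; monoidal
      _ = (ρ_ Y₁).hom ≫ ((j ≫ q) ≫ (j ≫ q)) ≫ (λ_ Y₁).inv := by
          monoidal
      _ = (ρ_ Y₁).hom ≫ (λ_ Y₁).inv := by
          rw [hjq, Category.id_comp, Category.id_comp]

theorem hasRightDual_of_retract {A : Type u} [Category.{v} A] [MonoidalCategory A] [IsIdempotentComplete A]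
    {X X₁ : A} (i : X₁ ⟶ X) (p : X ⟶ X₁) (hip : i ≫ p = 𝟙 X₁) [HasRightDual X] :
    Nonempty (HasRightDual X₁) := by
  have he : (p ≫ i) ≫ (p ≫ i) = p ≫ i := by
    rw [Category.assoc, ← Category.assoc i, hip, Category.id_comp]
  have he' : (p ≫ i)ᘁ ≫ (p ≫ i)ᘁ = (p ≫ i)ᘁ := by rw [← comp_rightAdjointMate, he]
  obtain ⟨Y₁, j, q, hjq, hqj⟩ := IsIdempotentComplete.idempotents_split (Xᘁ) _ he'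
  refine ⟨@HasRightDual.mk _ _ _ X₁ Y₁ (exactPairingOfRetract i p hip j q hjq ?_ ?_)⟩
  · rw [hqj]
    exact coevaluation_comp_rightAdjointMate (p ≫ i)
  · rw [hqj]
    exact rightAdjointMate_comp_evaluation (p ≫ i)

end Helper89.RigidRetract
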