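import Groth.Prelude.Def_DCoh2
import Groth.Agent.Lib.Helper89.PiExact
import Groth.Agent.Lib.Helper89.RFTri
import Groth.Agent.Lib.Helper89.AcycRes
import Groth.Agent.Lib.Helper13.CochainLimit
import Groth.Agent.Lib.Helper13.KInjMain

/-!
# Derived limits and right derived functors

* `map_isRlim`: a functor preserving distinguished triangles and the relevant product preserves
  derived limits.
* `preservesLimit_RG`: for `𝒜` Grothendieck abelian, `F : 𝒜 ⥤ ℬ` additive commuting with
  `J`-indexed products, where `J`-indexed products are exact in `ℬ`, any right derived functor of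
  `K(F) ⋙ Qh` commutes with `J`-indexed products.
-/

set_option autoImplicit false
set_option linter.style.haveILetI false
set_option linter.unusedSectionVars false

universe w w' w'' v v' u u'

open CategoryTheory Category Limits Pretriangulated

namespace Groth.Agent.Lib.Helper89.RlimTools

section rlim

variable {D : Type*} [Category D] [Preadditive D] [HasZeroObject D] [HasShift D ℤ]
  [∀ n : ℤ, (shiftFunctor D n).Additive] [Pretriangulated D]
  {E : Type*} [Category E] [Preadditive E] [HasZeroObject E] [HasShift E ℤ]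
  [∀ n : ℤ, (shiftFunctor E n).Additive] [Pretriangulated E]

/-- a functor sending distinguished triangles to distinguished triangles and preserving the
relevant product preserves derived limits -/
lemma map_isRlim (R : D ⥤ E) [R.Additive]
    (hR : ∀ T ∈ distTriang D, ∃ δ : R.obj T.obj₃ ⟶ (R.obj T.obj₁)⟦(1 : ℤ)⟧,
      Triangle.mk (R.map T.mor₁) (R.map T.mor₂) δ ∈ distTriang E)
    (K : ℕ → D) (t : ∀ n, K (n + 1) ⟶ K n) [HasProduct K]
    [HasProduct (fun n => R.obj (K n))] [PreservesLimit (Discrete.functor K) R]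
    {L : D} (h : DCoh.IsRlim K t L) :
    DCoh.IsRlim (fun n => R.obj (K n)) (fun n => R.map (t n)) (R.obj L) := by
  obtain ⟨a, c, hc⟩ := h
  obtain ⟨δ, hδ⟩ : ∃ δ : R.obj (∏ᶜ K) ⟶ (R.obj L)⟦(1 : ℤ)⟧,
      Triangle.mk (R.map a) (R.map (Pi.lift fun n => Pi.π K n - Pi.π K (n + 1) ≫ t n)) δ ∈
        distTriang E := hR _ hc
  let cmp : R.obj (∏ᶜ K) ⟶ ∏ᶜ fun n => R.obj (K n) := piComparison R K
  haveI hcmp : IsIso cmp := by
    show IsIso (piComparison R K)
    infer_instance
  let e : R.obj (∏ᶜ K) ≅ ∏ᶜ fun n => R.obj (K n) := asIso cmp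
  have c1 : R.map (Pi.lift fun n => Pi.π K n - Pi.π K (n + 1) ≫ t n) ≫ cmp =
      cmp ≫ Pi.lift fun n => Pi.π (fun n => R.obj (K n)) n -
        Pi.π (fun n => R.obj (K n)) (n + 1) ≫ R.map (t n) := by
    apply Pi.hom_ext
    intro n
    rw [Category.assoc, Category.assoc, Pi.lift_π, piComparison_comp_π, ← R.map_comp, Pi.lift_π,
      Preadditive.comp_sub, piComparison_comp_π, ← Category.assoc, piComparison_comp_π,
      R.map_sub, R.map_comp]
  have c2 : (Pi.lift fun n => Pi.π (fun n => R.obj (K n)) n -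
        Pi.π (fun n => R.obj (K n)) (n + 1) ≫ R.map (t n)) ≫ e.inv =
      e.inv ≫ R.map (Pi.lift fun n => Pi.π K n - Pi.π K (n + 1) ≫ t n) := by
    rw [Iso.comp_inv_eq, Category.assoc, Iso.eq_inv_comp]
    exact c1.symm
  refine ⟨R.map a ≫ cmp, e.inv ≫ δ, ?_⟩
  refine isomorphic_distinguished _ hδ _ (Triangle.isoMk _ _ (Iso.refl _) e.symm e.symm ?_ ?_ ?_)
  · show (R.map a ≫ cmp) ≫ e.inv = 𝟙 _ ≫ R.map a
    rw [Category.assoc, Category.id_comp]
    exact (congrArg (fun x => R.map a ≫ x) e.hom_inv_id).trans (Category.comp_id _)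
  · exact c2
  · show (e.inv ≫ δ) ≫ (shiftFunctor E (1 : ℤ)).map (𝟙 _) = e.inv ≫ δ
    rw [CategoryTheory.Functor.map_id, Category.comp_id]

end rlim

section fan

variable {C : Type*} [Category C] {J : Type*}

/-- transport of a limit fan along isomorphisms of the family and of the point -/
def isLimitFanOfIso {X Y : J → C} (c : Fan X) (hc : IsLimit c) (θ : ∀ j, X j ≅ Y j) {P' : C}
    (e : c.pt ≅ P') (p : ∀ j, P' ⟶ Y j) (hp : ∀ j, e.hom ≫ p j = c.proj j ≫ (θ j).hom) :
    IsLimit (Fan.mk P' p) :=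
  Fan.IsLimit.mk _ (fun s => Fan.IsLimit.lift hc (fun j => s.proj j ≫ (θ j).inv) ≫ e.hom)
    (fun s j => by
      show (Fan.IsLimit.lift hc (fun j => s.proj j ≫ (θ j).inv) ≫ e.hom) ≫ p j = s.proj j
      rw [Category.assoc, hp j, Fan.IsLimit.fac_assoc, Category.assoc, Iso.inv_hom_id,
        Category.comp_id])
    (fun s m hm => by
      rw [← Iso.comp_inv_eq]
      apply Fan.IsLimit.hom_ext hc
      intro j
      rw [Fan.IsLimit.fac, Category.assoc]
      have h1 : e.inv ≫ c.proj j = p j ≫ (θ j).inv := by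
        rw [Iso.inv_comp_eq, ← Category.assoc, hp j, Category.assoc, Iso.hom_inv_id,
          Category.comp_id]
      rw [h1, ← Category.assoc]
      exact congrArg (fun x => x ≫ (θ j).inv) (hm j))

end fan

section main

open Groth.Agent.Lib.Helper89.AcycRes

variable {𝒜 : Type u} [Category.{v} 𝒜] [Abelian 𝒜] [IsGrothendieckAbelian.{v} 𝒜]
  {ℬ : Type u'} [Category.{v'} ℬ] [Abelian ℬ] {J : Type w''}
  [HasProductsOfShape J 𝒜] [HasProductsOfShape J ℬ]
  [(lim : (Discrete J ⥤ ℬ) ⥤ ℬ).PreservesEpimorphisms]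
  (F : 𝒜 ⥤ ℬ) [F.Additive] [PreservesLimitsOfShape (Discrete J) F]
  [HasDerivedCategory.{w} 𝒜] [HasDerivedCategory.{w'} ℬ]
  (RG : DerivedCategory 𝒜 ⥤ DerivedCategory ℬ) (α : G F ⟶ DerivedCategory.Qh ⋙ RG)
  [RG.IsRightDerivedFunctor α (HomotopyCategory.quasiIso 𝒜 (ComplexShape.up ℤ))]

open PiExact

/-- the comparison `F(∏ I_j) ⟶ ∏ F(I_j)` for complexes -/
noncomputable def cmpCx (I : J → CochainComplex 𝒜 ℤ) :
    (F.mapHomologicalComplex (ComplexShape.up ℤ)).obj (piCx I) ⟶
      piCx (fun j => (F.mapHomologicalComplex (ComplexShape.up ℤ)).obj (I j)) :=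
  piCxLift _ (fun j => (F.mapHomologicalComplex (ComplexShape.up ℤ)).map (piCxπ I j))

instance isIso_cmpCx (I : J → CochainComplex 𝒜 ℤ) : IsIso (cmpCx F I) := by
  haveI : ∀ n, IsIso ((cmpCx F I).f n) := by
    intro n
    show IsIso (piComparison F (fun j => (I j).X n))
    infer_instance
  exact HomologicalComplex.Hom.isIso_of_components _

include α in
/-- any right derived functor of `K(F) ⋙ Qh` preserves products of K-injective complexes -/
lemma isLimit_fan_RG (I : J → CochainComplex 𝒜 ℤ) (hI : ∀ j, (I j).IsKInjective) :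
    Nonempty (IsLimit (Fan.mk (RG.obj (DerivedCategory.Q.obj (piCx I)))
      (fun j => RG.map (DerivedCategory.Q.map (piCxπ I j))))) := by
  let q := HomotopyCategory.quotient 𝒜 (ComplexShape.up ℤ)
  let Fc := F.mapHomologicalComplex (ComplexShape.up ℤ)
  haveI : CochainComplex.IsKInjective (piCx I) :=
    Groth.Agent.Lib.Helper13.CochainLimit.isKInjective_of_isLimit_fan (fanCx I) (isLimitFanCx I) hI
  haveI hP : IsIso (α.app (q.obj (piCx I))) :=
    Groth.Agent.Lib.Helper25.KInjDerived.isIso_unit_homotopyCategory (G F) DerivedCategory.Qh RG α _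
  have hIj : ∀ j, IsIso (α.app (q.obj (I j))) := fun j =>
    haveI := hI j
    Groth.Agent.Lib.Helper25.KInjDerived.isIso_unit_homotopyCategory (G F) DerivedCategory.Qh RG α _
  -- the product in `D(ℬ)`
  have h1 : IsLimit (Fan.mk (DerivedCategory.Q.obj (Fc.obj (piCx I)))
      (fun j => DerivedCategory.Q.map (Fc.map (piCxπ I j)))) := by
    refine isLimitFanOfIso (fanQ (fun j => Fc.obj (I j))) (isLimitFanQ _) (fun j => Iso.refl _)
      (DerivedCategory.Q.mapIso (asIso (cmpCx F I))).symm _ ?_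
    intro j
    show DerivedCategory.Q.map (inv (cmpCx F I)) ≫ DerivedCategory.Q.map (Fc.map (piCxπ I j)) =
      DerivedCategory.Q.map (piCxπ _ j) ≫ 𝟙 _
    rw [Category.comp_id, ← Functor.map_comp]
    congr 1
    rw [IsIso.inv_comp_eq]
    exact (piCxLift_π (fun j => Fc.obj (I j)) (fun j => Fc.map (piCxπ I j)) j).symm
  refine ⟨isLimitFanOfIso _ h1
    (fun j => @asIso _ _ _ _ (α.app (q.obj (I j))) (hIj j))
    (@asIso _ _ _ _ (α.app (q.obj (piCx I))) hP) _ ?_⟩
  intro j
  exact (α.naturality (q.map (piCxπ I j))).symm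

include α in
/-- any right derived functor of `K(F) ⋙ Qh` preserves `J`-indexed products -/
theorem preservesLimit_RG (K : J → DerivedCategory 𝒜) :
    PreservesLimit (Discrete.functor K) RG := by
  have hres : ∀ j, ∃ (I : CochainComplex 𝒜 ℤ), I.IsKInjective ∧
      Nonempty (DerivedCategory.Q.obj I ≅ K j) := by
    intro j
    obtain ⟨I, f, hI, hf, -, -⟩ :=
      Groth.Agent.Lib.Helper13.KInjMain.exists_kInjective_resolution
        (DerivedCategory.Q.objPreimage (K j))
    haveI : IsIso (DerivedCategory.Q.map f) := (DerivedCategory.isIso_Q_map_iff_quasiIso 𝒜 f).2 hf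
    exact ⟨I, hI, ⟨(asIso (DerivedCategory.Q.map f)).symm ≪≫
      DerivedCategory.Q.objObjPreimageIso (K j)⟩⟩
  choose I hI e using hres
  let e' : Discrete.functor (fun j => DerivedCategory.Q.obj (I j)) ≅ Discrete.functor K :=
    Discrete.natIso (fun ⟨j⟩ => (e j).some)
  suffices h : PreservesLimit (Discrete.functor (fun j => DerivedCategory.Q.obj (I j))) RG from
    preservesLimit_of_iso_diagram RG e'
  obtain ⟨h1⟩ := Groth.Agent.Lib.Helper13.CochainLimit.nonempty_isLimit_Q_fan (fanCx I)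
    (isLimitFanCx I) hI
  obtain ⟨h2⟩ := isLimit_fan_RG F RG α I hI
  apply preservesLimit_of_preserves_limit_cone h1
  exact (isLimitMapConeFanMkEquiv RG _ _).symm h2

end main

end Groth.Agent.Lib.Helper89.RlimTools
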