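import Mathlib

/-!
# A Serre functor on a Hom-finite triangulated category is exact (Bondal–Kapranov)

Trace calculus: `tr X : (X ⟶ S X) →ₗ k`, symmetry `tr X (f ≫ h) = tr Y (h ≫ S f)`,
nondegeneracy and representability of functionals; the comparison
`τ X : (S X)⟦1⟧ ⟶ S (X⟦1⟧)`; exactness of `Hom(Z, S -)` on distinguished triangles; and the
construction of the comparison morphism from a cone of `S u` to `S C`.
-/

set_option autoImplicit false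
universe w v u
open CategoryTheory CategoryTheory.Limits CategoryTheory.Pretriangulated

namespace Groth.Agent.Lib.Helper89.SerreExact

/-- Serre duality data for a functor `S`. -/
structure SerreData (k : Type w) [Field k] {T : Type u} [Category.{v} T] [Preadditive T]
    [Linear k T] (S : T ⥤ T) where
  c : ∀ X Y : T, (X ⟶ Y) ≃ₗ[k] Module.Dual k (Y ⟶ S.obj X)
  hc₁ : ∀ (X Y Y' : T) (f : X ⟶ Y) (g : Y ⟶ Y'),
      c X Y' (f ≫ g) = (c X Y f) ∘ₗ Linear.leftComp k (S.obj X) g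
  hc₂ : ∀ (X' X Y : T) (a : X' ⟶ X) (f : X ⟶ Y),
      c X' Y (a ≫ f) = (c X Y f) ∘ₗ Linear.rightComp k Y (S.map a)

namespace SerreData

section basic

variable {k : Type w} [Field k] {T : Type u} [Category.{v} T] [Preadditive T] [Linear k T]
  {S : T ⥤ T} (d : SerreData k S)

/-- the trace `Hom(X, S X) → k` -/
noncomputable def tr (X : T) : (X ⟶ S.obj X) →ₗ[k] k := d.c X X (𝟙 X)

lemma c_apply {X Y : T} (f : X ⟶ Y) (h : Y ⟶ S.obj X) : d.c X Y f h = d.tr X (f ≫ h) := by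
  have := d.hc₁ X X Y (𝟙 X) f
  rw [Category.id_comp] at this
  rw [this]
  rfl

lemma tr_symm {X Y : T} (f : X ⟶ Y) (h : Y ⟶ S.obj X) :
    d.tr X (f ≫ h) = d.tr Y (h ≫ S.map f) := by
  rw [← c_apply]
  have := d.hc₂ X Y Y f (𝟙 Y)
  rw [Category.comp_id] at this
  rw [this]
  rfl

lemma nondeg {X Y : T} (h : Y ⟶ S.obj X) (H : ∀ f : X ⟶ Y, d.tr X (f ≫ h) = 0) : h = 0 := by
  refine (Module.forall_dual_apply_eq_zero_iff k h).mp (fun φ => ?_)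
  have := H ((d.c X Y).symm φ)
  rw [← c_apply, LinearEquiv.apply_symm_apply] at this
  exact this

lemma nondeg' {X Y : T} (h h' : Y ⟶ S.obj X)
    (H : ∀ f : X ⟶ Y, d.tr X (f ≫ h) = d.tr X (f ≫ h')) : h = h' := by
  rw [← sub_eq_zero]
  apply d.nondeg
  intro f
  rw [Preadditive.comp_sub, map_sub, H f, sub_self]

lemma exists_repr [∀ X Y : T, Module.Finite k (X ⟶ Y)] {X Y : T}
    (φ : Module.Dual k (X ⟶ Y)) : ∃ h : Y ⟶ S.obj X, ∀ f, φ f = d.tr X (f ≫ h) := by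
  refine ⟨(Module.evalEquiv k (Y ⟶ S.obj X)).symm (φ ∘ₗ (d.c X Y).symm.toLinearMap), fun f => ?_⟩
  rw [← c_apply, Module.apply_evalEquiv_symm_apply]
  simp

/-- a functional vanishing on the kernel of a linear map factors through it -/
lemma exists_factor {V W : Type*} [AddCommGroup V] [Module k V] [AddCommGroup W] [Module k W]
    (L : V →ₗ[k] W) (φ : Module.Dual k V) (h : ∀ x, L x = 0 → φ x = 0) :
    ∃ ψ : Module.Dual k W, ∀ x, ψ (L x) = φ x := by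
  have : φ ∈ LinearMap.range L.dualMap := by
    rw [LinearMap.range_dualMap_eq_dualAnnihilator_ker, Submodule.mem_dualAnnihilator]
    intro x hx
    exact h x hx
  obtain ⟨ψ, hψ⟩ := this
  exact ⟨ψ, fun x => by rw [← hψ]; rfl⟩

end basic

section shift

variable {k : Type w} [Field k] {T : Type u} [Category.{v} T] [Preadditive T] [Linear k T]
  [HasZeroObject T] [HasShift T ℤ]
  [∀ n : ℤ, (shiftFunctor T n).Additive] [∀ n : ℤ, (shiftFunctor T n).Linear k]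
  [∀ X Y : T, Module.Finite k (X ⟶ Y)]
  {S : T ⥤ T} (d : SerreData k S)

/-- the shift as a linear equivalence on Hom spaces -/
noncomputable def shE (X Y : T) : (X ⟶ Y) ≃ₗ[k] (X⟦(1 : ℤ)⟧ ⟶ Y⟦(1 : ℤ)⟧) :=
  LinearEquiv.ofBijective ((shiftFunctor T (1 : ℤ)).mapLinearMap k)
    ⟨(shiftFunctor T (1 : ℤ)).map_injective, (shiftFunctor T (1 : ℤ)).map_surjective⟩

omit [HasZeroObject T] [∀ X Y : T, Module.Finite k (X ⟶ Y)] in
@[simp] lemma shE_apply {X Y : T} (f : X ⟶ Y) : shE (k := k) X Y f = f⟦(1 : ℤ)⟧' := rfl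

omit [HasZeroObject T] [∀ X Y : T, Module.Finite k (X ⟶ Y)] in
lemma shE_symm_map {X Y : T} (f : X ⟶ Y) : (shE (k := k) X Y).symm (f⟦(1 : ℤ)⟧') = f := by
  rw [← shE_apply (k := k), LinearEquiv.symm_apply_apply]

omit [HasZeroObject T] [∀ X Y : T, Module.Finite k (X ⟶ Y)] in
lemma map_shE_symm {X Y : T} (g : X⟦(1 : ℤ)⟧ ⟶ Y⟦(1 : ℤ)⟧) :
    ((shE (k := k) X Y).symm g)⟦(1 : ℤ)⟧' = g := by
  rw [← shE_apply (k := k), LinearEquiv.apply_symm_apply]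

omit [HasZeroObject T] [∀ X Y : T, Module.Finite k (X ⟶ Y)] in
lemma shE_symm_comp {X Y Z : T} (g : X⟦(1 : ℤ)⟧ ⟶ Y⟦(1 : ℤ)⟧) (h : Y⟦(1 : ℤ)⟧ ⟶ Z⟦(1 : ℤ)⟧) :
    (shE (k := k) X Z).symm (g ≫ h) = (shE (k := k) X Y).symm g ≫ (shE (k := k) Y Z).symm h := by
  apply (shE (k := k) X Z).injective
  rw [LinearEquiv.apply_symm_apply, shE_apply, Functor.map_comp, map_shE_symm, map_shE_symm]

lemma exists_τ (X : T) : ∃ t : (S.obj X)⟦(1 : ℤ)⟧ ⟶ S.obj (X⟦(1 : ℤ)⟧),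
    ∀ f : X⟦(1 : ℤ)⟧ ⟶ (S.obj X)⟦(1 : ℤ)⟧,
      d.tr (X⟦(1 : ℤ)⟧) (f ≫ t) = - d.tr X ((shE (k := k) X (S.obj X)).symm f) := by
  obtain ⟨t, ht⟩ := d.exists_repr
    (- (d.tr X ∘ₗ (shE (k := k) X (S.obj X)).symm.toLinearMap))
  exact ⟨t, fun f => by rw [← ht]; rfl⟩

/-- the comparison `(S X)⟦1⟧ ⟶ S (X⟦1⟧)` -/
noncomputable def τ (X : T) : (S.obj X)⟦(1 : ℤ)⟧ ⟶ S.obj (X⟦(1 : ℤ)⟧) := (d.exists_τ X).choose

lemma τ_spec {X : T} (f : X⟦(1 : ℤ)⟧ ⟶ (S.obj X)⟦(1 : ℤ)⟧) :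
    d.tr (X⟦(1 : ℤ)⟧) (f ≫ d.τ X) = - d.tr X ((shE (k := k) X (S.obj X)).symm f) :=
  (d.exists_τ X).choose_spec f

lemma τ_spec' {X : T} (g : X ⟶ S.obj X) :
    d.tr (X⟦(1 : ℤ)⟧) (g⟦(1 : ℤ)⟧' ≫ d.τ X) = - d.tr X g := by
  rw [τ_spec, shE_symm_map]

lemma τ_naturality {X X' : T} (a : X ⟶ X') :
    (S.map a)⟦(1 : ℤ)⟧' ≫ d.τ X' = d.τ X ≫ S.map (a⟦(1 : ℤ)⟧') := by
  apply d.nondeg'
  intro f
  obtain ⟨f', rfl⟩ : ∃ f' : X' ⟶ S.obj X, f = f'⟦(1 : ℤ)⟧' :=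
    ⟨(shE (k := k) _ _).symm f, (map_shE_symm f).symm⟩
  have e1 : f'⟦(1 : ℤ)⟧' ≫ (S.map a)⟦(1 : ℤ)⟧' ≫ d.τ X' = (f' ≫ S.map a)⟦(1 : ℤ)⟧' ≫ d.τ X' := by
    rw [Functor.map_comp, Category.assoc]
  have e2 : d.tr (X'⟦(1 : ℤ)⟧) (f'⟦(1 : ℤ)⟧' ≫ d.τ X ≫ S.map (a⟦(1 : ℤ)⟧')) =
      d.tr (X⟦(1 : ℤ)⟧) ((a ≫ f')⟦(1 : ℤ)⟧' ≫ d.τ X) := by
    rw [← Category.assoc, ← d.tr_symm, Functor.map_comp, Category.assoc]
  rw [e1, e2, τ_spec', τ_spec', ← d.tr_symm]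

lemma isIso_τ (X : T) : IsIso (d.τ X) := by
  apply isIso_of_yoneda_map_bijective
  intro Z
  let ε : (Z⟦(-1 : ℤ)⟧)⟦(1 : ℤ)⟧ ≅ Z := (shiftFunctorCompIsoId T (-1 : ℤ) 1 (by simp)).app Z
  constructor
  · intro h h' (hh : h ≫ d.τ X = h' ≫ d.τ X)
    rw [← sub_eq_zero]
    have h0 : (h - h') ≫ d.τ X = 0 := by rw [Preadditive.sub_comp, hh, sub_self]
    generalize h - h' = δ at h0
    have : (shE (k := k) _ _).symm (ε.hom ≫ δ) = 0 := by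
      apply d.nondeg
      intro f'
      have := d.τ_spec (f'⟦(1 : ℤ)⟧' ≫ ε.hom ≫ δ)
      rw [Category.assoc, Category.assoc, h0, comp_zero, comp_zero, map_zero, shE_symm_comp,
        shE_symm_map] at this
      simpa using this.symm
    have h1 : ε.hom ≫ δ = 0 := by
      have := congrArg (shE (k := k) _ _) this
      rwa [LinearEquiv.apply_symm_apply, map_zero] at this
    rw [← cancel_epi ε.hom, h1, comp_zero]
  · intro y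
    dsimp only
    obtain ⟨h', hh'⟩ := d.exists_repr (X := X) (Y := Z⟦(-1 : ℤ)⟧)
      (- (d.tr (X⟦(1 : ℤ)⟧) ∘ₗ Linear.rightComp k (X⟦(1 : ℤ)⟧) (ε.hom ≫ y) ∘ₗ
        (shE (k := k) X (Z⟦(-1 : ℤ)⟧)).toLinearMap))
    refine ⟨ε.inv ≫ h'⟦(1 : ℤ)⟧', ?_⟩
    apply d.nondeg'
    intro f
    have e1 : f ≫ (ε.inv ≫ h'⟦(1 : ℤ)⟧') ≫ d.τ X =
        ((shE (k := k) _ _).symm (f ≫ ε.inv) ≫ h')⟦(1 : ℤ)⟧' ≫ d.τ X := by
      rw [Functor.map_comp, map_shE_symm]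
      simp
    rw [e1, τ_spec', ← hh']
    simp only [LinearMap.neg_apply, LinearMap.coe_comp, LinearEquiv.coe_coe, Function.comp_apply,
      neg_neg, Linear.rightComp_apply, shE_apply, map_shE_symm]
    simp

end shift

section exact

variable {k : Type w} [Field k] {T : Type u} [Category.{v} T] [Preadditive T] [Linear k T]
  [HasZeroObject T] [HasShift T ℤ]
  [∀ n : ℤ, (shiftFunctor T n).Additive] [∀ n : ℤ, (shiftFunctor T n).Linear k]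
  [Pretriangulated T]
  [∀ X Y : T, Module.Finite k (X ⟶ Y)]
  {S : T ⥤ T} (d : SerreData k S)

include d in
/-- `Hom(Z, S -)` is exact in the middle on distinguished triangles -/
lemma exact_middle (Tr : Triangle T) (hT : Tr ∈ distTriang T) {Z : T}
    (h : Z ⟶ S.obj Tr.obj₂) (hh : h ≫ S.map Tr.mor₂ = 0) :
    ∃ h₂ : Z ⟶ S.obj Tr.obj₁, h = h₂ ≫ S.map Tr.mor₁ := by
  obtain ⟨μ, hμ⟩ := exists_factor (Linear.leftComp k Z Tr.mor₁)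
    (d.tr Tr.obj₂ ∘ₗ Linear.rightComp k Tr.obj₂ h) (by
      intro φ hφ
      obtain ⟨φ', rfl⟩ := Triangle.yoneda_exact₂ Tr hT φ hφ
      change d.tr Tr.obj₂ ((Tr.mor₂ ≫ φ') ≫ h) = 0
      rw [Category.assoc, d.tr_symm, Category.assoc, hh, comp_zero, map_zero])
  obtain ⟨h₂, hh₂⟩ := d.exists_repr μ
  refine ⟨h₂, d.nondeg' _ _ (fun φ => ?_)⟩
  rw [← Category.assoc, ← d.tr_symm, ← Category.assoc, ← hh₂]
  exact (hμ φ).symm

end exact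


section main

variable {k : Type w} [Field k] {T : Type u} [Category.{v} T] [Preadditive T] [Linear k T]
  [HasZeroObject T] [HasShift T ℤ]
  [∀ n : ℤ, (shiftFunctor T n).Additive] [∀ n : ℤ, (shiftFunctor T n).Linear k]
  [Pretriangulated T]
  [∀ X Y : T, Module.Finite k (X ⟶ Y)]
  {S : T ⥤ T} [S.Additive] (d : SerreData k S)

/-- the comparison morphism from a cone of `S u` to `S C` -/
lemma exists_comparison (Tr : Triangle T) (hT : Tr ∈ distTriang T)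
    {C' : T} (v' : S.obj Tr.obj₂ ⟶ C') (w' : C' ⟶ (S.obj Tr.obj₁)⟦(1 : ℤ)⟧)
    (hT' : Triangle.mk (S.map Tr.mor₁) v' w' ∈ distTriang T) :
    ∃ ψ : C' ⟶ S.obj Tr.obj₃,
      v' ≫ ψ = S.map Tr.mor₂ ∧ ψ ≫ S.map Tr.mor₃ = w' ≫ d.τ Tr.obj₁ := by
  let L : ((Tr.obj₃ ⟶ S.obj Tr.obj₂) × (Tr.obj₁⟦(1 : ℤ)⟧ ⟶ C')) →ₗ[k] (Tr.obj₃ ⟶ C') :=
    (Linear.rightComp k Tr.obj₃ v').coprod (Linear.leftComp k C' Tr.mor₃)
  let φ : Module.Dual k ((Tr.obj₃ ⟶ S.obj Tr.obj₂) × (Tr.obj₁⟦(1 : ℤ)⟧ ⟶ C')) :=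
    (d.tr Tr.obj₃ ∘ₗ Linear.rightComp k Tr.obj₃ (S.map Tr.mor₂)).coprod
      (d.tr (Tr.obj₁⟦(1 : ℤ)⟧) ∘ₗ Linear.rightComp k _ (w' ≫ d.τ Tr.obj₁))
  have hL : ∀ x z, L (x, z) = x ≫ v' + Tr.mor₃ ≫ z := fun x z => rfl
  have hφ : ∀ x z, φ (x, z) = d.tr Tr.obj₃ (x ≫ S.map Tr.mor₂) +
      d.tr (Tr.obj₁⟦(1 : ℤ)⟧) (z ≫ w' ≫ d.τ Tr.obj₁) := fun x z => rfl
  have key : ∀ p, L p = 0 → φ p = 0 := by
    rintro ⟨x, z⟩ hxz
    rw [hL] at hxz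
    rw [hφ]
    obtain ⟨t, ht₁, ht₂⟩ : ∃ t : Tr.obj₂ ⟶ S.obj Tr.obj₁, Tr.mor₂ ≫ x = t ≫ S.map Tr.mor₁ ∧
        (-Tr.mor₁⟦(1 : ℤ)⟧') ≫ t⟦(1 : ℤ)⟧' = (-z) ≫ w' :=
      complete_distinguished_triangle_morphism₁ Tr.rotate _
        (rot_of_distTriang _ hT) hT' x (-z) (by
          show Tr.mor₃ ≫ (-z) = x ≫ v'
          rw [Preadditive.comp_neg, eq_comm, ← add_eq_zero_iff_eq_neg]
          exact hxz)
    have e1 : d.tr Tr.obj₃ (x ≫ S.map Tr.mor₂) = d.tr Tr.obj₁ (Tr.mor₁ ≫ t) := by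
      rw [← d.tr_symm, ht₁, ← d.tr_symm]
    have e2 : z ≫ w' = (Tr.mor₁ ≫ t)⟦(1 : ℤ)⟧' := by
      rw [Functor.map_comp]
      simpa using ht₂.symm
    rw [e1, ← Category.assoc, e2, τ_spec', add_neg_cancel]
  obtain ⟨Λ, hΛ⟩ := exists_factor L φ key
  obtain ⟨ψ, hψ⟩ := d.exists_repr Λ
  refine ⟨ψ, ?_, ?_⟩
  · apply d.nondeg'
    intro x
    rw [← Category.assoc, ← hψ]
    have := hΛ (x, 0)
    rw [hL, hφ] at this
    simpa using this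
  · apply d.nondeg'
    intro z
    rw [← Category.assoc, ← d.tr_symm, ← Category.assoc, ← hψ]
    have := hΛ (0, z)
    rw [hL, hφ] at this
    simpa using this

lemma isIso_comparison (Tr : Triangle T) (hT : Tr ∈ distTriang T)
    {C' : T} (v' : S.obj Tr.obj₂ ⟶ C') (w' : C' ⟶ (S.obj Tr.obj₁)⟦(1 : ℤ)⟧)
    (hT' : Triangle.mk (S.map Tr.mor₁) v' w' ∈ distTriang T)
    (ψ : C' ⟶ S.obj Tr.obj₃) (h₁ : v' ≫ ψ = S.map Tr.mor₂)
    (h₂ : ψ ≫ S.map Tr.mor₃ = w' ≫ d.τ Tr.obj₁) : IsIso ψ := by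
  have := d.isIso_τ
  apply isIso_of_yoneda_map_bijective
  intro Z
  constructor
  · intro h h' (hh : h ≫ ψ = h' ≫ ψ)
    rw [← sub_eq_zero]
    have h0 : (h - h') ≫ ψ = 0 := by rw [Preadditive.sub_comp, hh, sub_self]
    generalize h - h' = δ at h0
    have e1 : δ ≫ w' = 0 := by
      rw [← cancel_mono (d.τ Tr.obj₁), Category.assoc, ← h₂, reassoc_of% h0, zero_comp, zero_comp]
    obtain ⟨δ₁, rfl⟩ : ∃ δ₁ : Z ⟶ S.obj Tr.obj₂, δ = δ₁ ≫ v' :=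
      Triangle.coyoneda_exact₃ _ hT' δ e1
    have e2 : δ₁ ≫ S.map Tr.mor₂ = 0 := by
      rw [← h₁, ← Category.assoc]
      exact h0
    obtain ⟨δ₂, rfl⟩ := d.exact_middle Tr hT δ₁ e2
    have : S.map Tr.mor₁ ≫ v' = 0 := comp_distTriang_mor_zero₁₂ _ hT'
    rw [Category.assoc, this, comp_zero]
  · intro y
    dsimp only
    have e1 : (y ≫ S.map Tr.mor₃ ≫ inv (d.τ Tr.obj₁)) ≫ (S.map Tr.mor₁)⟦(1 : ℤ)⟧' = 0 := by
      have nat := d.τ_naturality Tr.mor₁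
      have : inv (d.τ Tr.obj₁) ≫ (S.map Tr.mor₁)⟦(1 : ℤ)⟧' =
          S.map (Tr.mor₁⟦(1 : ℤ)⟧') ≫ inv (d.τ Tr.obj₂) := by
        rw [IsIso.inv_comp_eq, ← Category.assoc, ← nat, Category.assoc, IsIso.hom_inv_id,
          Category.comp_id]
      rw [Category.assoc, Category.assoc, this, ← Category.assoc (S.map _), ← S.map_comp,
        comp_distTriang_mor_zero₃₁ _ hT, S.map_zero, zero_comp, comp_zero]
    obtain ⟨h, hh⟩ : ∃ h : Z ⟶ C', y ≫ S.map Tr.mor₃ ≫ inv (d.τ Tr.obj₁) = h ≫ w' :=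
      Triangle.coyoneda_exact₁ _ hT' _ e1
    have e2 : (y - h ≫ ψ) ≫ S.map Tr.mor₃ = 0 := by
      rw [Preadditive.sub_comp, Category.assoc, h₂, ← Category.assoc, ← hh]
      simp
    obtain ⟨h₁', hh₁⟩ : ∃ h₁' : Z ⟶ S.obj Tr.obj₂, y - h ≫ ψ = h₁' ≫ S.map Tr.mor₂ :=
      d.exact_middle Tr.rotate (rot_of_distTriang _ hT) (y - h ≫ ψ) e2
    refine ⟨h + h₁' ≫ v', ?_⟩
    rw [Preadditive.add_comp, Category.assoc, h₁, ← hh₁]
    abel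

include d in
/-- **Bondal–Kapranov**: a Serre functor is exact. -/
theorem serre_exact :
    ∃ e : shiftFunctor T (1 : ℤ) ⋙ S ≅ S ⋙ shiftFunctor T (1 : ℤ),
      ∀ T' ∈ distTriang T,
        Triangle.mk (S.map T'.mor₁) (S.map T'.mor₂)
          (S.map T'.mor₃ ≫ e.hom.app T'.obj₁) ∈ distTriang T := by
  have := d.isIso_τ
  refine ⟨NatIso.ofComponents (fun X => (asIso (d.τ X)).symm) ?_, ?_⟩
  · intro X Y f
    dsimp
    rw [IsIso.comp_inv_eq, Category.assoc, IsIso.eq_inv_comp]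
    exact (d.τ_naturality f).symm
  · intro T' hT'
    obtain ⟨C', v', w', hdist⟩ := distinguished_cocone_triangle (S.map T'.mor₁)
    obtain ⟨ψ, h₁, h₂⟩ := d.exists_comparison T' hT' v' w' hdist
    have := d.isIso_comparison T' hT' v' w' hdist ψ h₁ h₂
    refine isomorphic_distinguished _ hdist _
      (Triangle.isoMk _ _ (Iso.refl _) (Iso.refl _) (asIso ψ).symm ?_ ?_ ?_)
    · show S.map T'.mor₁ ≫ 𝟙 _ = 𝟙 _ ≫ S.map T'.mor₁
      simp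
    · show S.map T'.mor₂ ≫ inv ψ = 𝟙 _ ≫ v'
      rw [Category.id_comp, IsIso.comp_inv_eq]
      exact h₁.symm
    · show (S.map T'.mor₃ ≫ inv (d.τ T'.obj₁)) ≫ (𝟙 (S.obj T'.obj₁))⟦(1 : ℤ)⟧' = inv ψ ≫ w'
      rw [CategoryTheory.Functor.map_id, Category.comp_id, IsIso.eq_inv_comp, ← Category.assoc, h₂,
        Category.assoc, IsIso.hom_inv_id, Category.comp_id]

end main

end SerreData

end Groth.Agent.Lib.Helper89.SerreExact
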