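import Groth.Agent.Lib.Helper25.Coext.Quot

/-!
# The triangle `res (R N) → N →h N` for a surjection `φ : A → B` with kernel `(h)`, `h` a
nonzerodivisor (generalizing `Helper25.Coext.main` from `A → A/(f)` to any such surjection)
-/

set_option autoImplicit false
universe u

namespace Groth.Agent.Lib.Helper89.Shriek1

open CategoryTheory CategoryTheory.Limits DerivedCategory Groth.Agent.Lib.Helper25.Coext

attribute [local instance] HasDerivedCategory.standard

variable {A B : Type u} [CommRing A] [CommRing B] (φ : A →+* B)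

section Module

variable (N : ModuleCat.{u} A)

/-- the carrier of `Hom_A(B, N)` as an `A`-module -/
noncomputable abbrev HomB : ModuleCat.{u} A :=
  (ModuleCat.restrictScalars.{u} φ).obj ((ModuleCat.coextendScalars.{u, u, u} φ).obj N)

/-- evaluation at `1` -/
noncomputable abbrev ev1 : HomB φ N ⟶ N := (adjM φ).counit.app N

/-- the underlying linear map of an element of `Hom_A(B, N)` -/
noncomputable def toLin (t : HomB φ N) :
    ((ModuleCat.restrictScalars.{u} φ).obj (ModuleCat.of _ B)) →ₗ[A] N :=
  ModuleCat.CoextendScalars.equiv φ N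
    (show ((ModuleCat.coextendScalars.{u, u, u} φ).obj N) from t)

theorem toLin_injective : Function.Injective (toLin φ N) := fun _ _ hh =>
  (ModuleCat.CoextendScalars.equiv φ N).injective hh

theorem ev1_apply (t : HomB φ N) :
    (ev1 φ N).hom t = toLin φ N t (1 : B) := rfl

theorem toLin_apply_map (t : HomB φ N) (a : A) :
    toLin φ N t (φ a) = a • (ev1 φ N).hom t := by
  have h1 := (toLin φ N t).map_smul a
    (show ((ModuleCat.restrictScalars.{u} φ).obj (ModuleCat.of _ B)) from (1 : B))
  have h2 : (a • (show ((ModuleCat.restrictScalars.{u} φ).obj (ModuleCat.of _ B)) from (1 : B))) =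
      (show ((ModuleCat.restrictScalars.{u} φ).obj (ModuleCat.of _ B)) from φ a) := by
    change φ a * 1 = φ a
    rw [mul_one]
  rw [h2] at h1
  exact h1

variable {φ}

theorem ev1_injective (hφ : Function.Surjective φ) : Function.Injective (ev1 φ N).hom := by
  intro t t' hh
  apply toLin_injective
  apply LinearMap.ext
  intro b
  obtain ⟨a, rfl⟩ := hφ b
  exact (toLin_apply_map φ N t a).trans ((congrArg (fun s => a • s) hh).trans
    (toLin_apply_map φ N t' a).symm)

theorem smul_ev1 {h : A} (hh : φ h = 0) (t : HomB φ N) : h • (ev1 φ N).hom t = 0 := by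
  rw [← toLin_apply_map, hh]
  exact (toLin φ N t).map_zero

theorem exists_ev1_eq (hφ : Function.Surjective φ) {h : A}
    (hker : RingHom.ker φ = Ideal.span {h}) (x : N) (hx : h • x = 0) :
    ∃ t : HomB φ N, (ev1 φ N).hom t = x := by
  have wd : ∀ a a' : A, φ a = φ a' → a • x = a' • x := by
    intro a a' haa
    have h1 : a - a' ∈ RingHom.ker φ := by
      rw [RingHom.mem_ker, map_sub, haa, sub_self]
    rw [hker] at h1
    obtain ⟨c, hc⟩ := Ideal.mem_span_singleton'.1 h1
    have h2 : (a - a') • x = 0 := by
      rw [← hc, mul_smul, hx, smul_zero]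
    rw [sub_smul, sub_eq_zero] at h2
    exact h2
  let l : ((ModuleCat.restrictScalars.{u} φ).obj (ModuleCat.of _ B)) →ₗ[A] N :=
    { toFun := fun b => (hφ b).choose • x
      map_add' := fun b b' => by
        rw [← add_smul]
        apply wd
        rw [map_add, (hφ b).choose_spec, (hφ b').choose_spec]
        exact (hφ _).choose_spec
      map_smul' := fun a b => by
        rw [RingHom.id_apply, ← mul_smul]
        apply wd
        rw [map_mul, (hφ b).choose_spec]
        exact (hφ _).choose_spec }
  refine ⟨(ModuleCat.CoextendScalars.equiv φ N).symm l, ?_⟩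
  change (hφ (1 : B)).choose • x = x
  have := wd (hφ (1 : B)).choose 1 (by rw [(hφ (1 : B)).choose_spec, map_one])
  rw [this, one_smul]

end Module

section Complex

variable (J : Cx A) {φ}

/-- the short complex `Hom_A(B, J)|_A ⟶ J ⟶ J` -/
noncomputable def sesh {h : A} (hh : φ h = 0) : ShortComplex (Cx A) :=
  ShortComplex.mk (counitCx φ J) (h • 𝟙 J) (by
    ext n : 1
    apply ModuleCat.hom_ext
    apply LinearMap.ext
    intro t
    exact smul_ev1 (J.X n) hh t)

theorem sesh_shortExact (hφ : Function.Surjective φ) {h : A}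
    (hker : RingHom.ker φ = Ideal.span {h}) (hh : φ h = 0)
    (hnzd : h ∈ nonZeroDivisors A) (hJ : ∀ n, Injective (J.X n)) :
    (sesh J hh).ShortExact := by
  apply HomologicalComplex.shortExact_of_degreewise_shortExact
  intro n
  apply ModuleCat.shortComplex_shortExact
  · intro x
    constructor
    · intro hx
      exact exists_ev1_eq (J.X n) hφ hker x hx
    · rintro ⟨t, rfl⟩
      exact smul_ev1 (J.X n) hh t
  · exact ev1_injective (J.X n) hφ
  · intro x
    haveI := hJ n
    exact smul_surjective_of_injective (J.X n) hnzd x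

end Complex

section Main

open Pretriangulated

variable {φ}

/-- the general triangle `res (R N) → N →h N → ` -/
theorem main (hφ : Function.Surjective φ) {h : A} (hker : RingHom.ker φ = Ideal.span {h})
    (hnzd : h ∈ nonZeroDivisors A) (N : Dual.D A)
    (R : Dual.D A ⥤ Dual.D B) (adj : DRing.restrictD φ ⊣ R) :
    ∃ (u : (DRing.restrictD φ).obj (R.obj N) ⟶ N)
      (w : N ⟶ ((DRing.restrictD φ).obj (R.obj N))⟦(1 : ℤ)⟧),
      Triangle.mk u (h • 𝟙 N) w ∈ distTriang (Dual.D A) := by
  have hh : φ h = 0 := by
    rw [← RingHom.mem_ker, hker]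
    exact Ideal.mem_span_singleton_self h
  obtain ⟨J, f₀, hJ, hqis, -, hext⟩ :=
    Groth.Agent.Lib.Helper13.KInjMain.exists_kInjective_resolution (Q.objPreimage N)
  haveI := hJ
  haveI := hqis
  have hinj : ∀ n, Injective (J.X n) := fun n =>
    Groth.Agent.Lib.Helper13.KInjBasic.injective_of_extProp hext n
  let e : Q.obj J ≅ N := (asIso (Q.map f₀)).symm ≪≫ Q.objObjPreimageIso N
  have hS := sesh_shortExact J hφ hker hh hnzd hinj
  let a : (DRing.restrictD φ).obj (R.obj N) ≅
      Q.obj ((resCx φ).obj ((coextCx φ).obj J)) :=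
    (DRing.restrictD φ).mapIso (R.mapIso e.symm) ≪≫ resIso φ J adj
  refine exists_triangle_of_iso (Q.map (sesh J hh).f) (Q.map (sesh J hh).g) (triangleOfSESδ hS)
    (triangleOfSES_distinguished hS) a e e (h • 𝟙 N) ?_
  have h1 : Q.map (sesh J hh).g = h • 𝟙 (Q.obj J) := by
    change Q.map (h • 𝟙 J) = _
    rw [Functor.map_smul, CategoryTheory.Functor.map_id]
  have h2 : ∀ {X Y : Dual.D A} (e : X ⟶ Y), e ≫ (h • 𝟙 Y) = (h • 𝟙 X) ≫ e := by
    intro X Y e
    rw [Linear.smul_comp, Linear.comp_smul, Category.id_comp, Category.comp_id]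
  rw [h1]
  exact h2 e.hom

end Main

end Groth.Agent.Lib.Helper89.Shriek1
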