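import Groth.Agent.Lib.Helper89.Shriek2
import Groth.Agent.Lib.Helper15.LBCKoszul

/-!
# The one-variable step: for `χ : S[y] → S`, `y ↦ g`, `Rχ (M ⊗_S S[y]) ≅ M[-1]`
-/

set_option autoImplicit false
universe u

namespace Groth.Agent.Lib.Helper89.Shriek3

open CategoryTheory CategoryTheory.Limits DerivedCategory CategoryTheory.Pretriangulated
open Groth.Agent.Lib.Helper15.PseudoCohRes Groth.Agent.Lib.Helper15.LBCFlat
  Groth.Agent.Lib.Helper15 Groth.Agent.Lib.Helper89.Shriek2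

attribute [local instance] HasDerivedCategory.standard

variable {S : Type u} [CommRing S]

/-- uniqueness of cones: two distinguished triangles on the same morphism -/
theorem cone_unique {C : Type*} [Category C] [HasZeroObject C] [HasShift C ℤ]
    [Preadditive C] [∀ n : ℤ, (shiftFunctor C n).Additive] [Pretriangulated C]
    {X Y Z Z' : C} (f : X ⟶ Y) (g : Y ⟶ Z) (h : Z ⟶ X⟦(1 : ℤ)⟧)
    (g' : Y ⟶ Z') (h' : Z' ⟶ X⟦(1 : ℤ)⟧)
    (hT : Triangle.mk f g h ∈ distTriang C) (hT' : Triangle.mk f g' h' ∈ distTriang C) :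
    Nonempty (Z ≅ Z') := by
  have e := isoTriangleOfIso₁₂ _ _ hT hT' (Iso.refl X) (Iso.refl Y)
    (by change f ≫ 𝟙 Y = 𝟙 X ≫ f; rw [Category.comp_id, Category.id_comp])
  exact ⟨Triangle.π₃.mapIso e⟩

/-- `X⟦1⟧ ≅ M` implies `X ≅ M⟦-1⟧` -/
noncomputable def isoShiftNeg {C : Type*} [Category C] [HasShift C ℤ] {X M : C}
    (e : X⟦(1 : ℤ)⟧ ≅ M) : X ≅ M⟦(-1 : ℤ)⟧ :=
  ((shiftFunctorCompIsoId C (1 : ℤ) (-1 : ℤ) (by norm_num)).app X).symm ≪≫
    (shiftFunctor C (-1 : ℤ)).mapIso e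

theorem key (g : S) {Rχ : Dual.D (Polynomial S) ⥤ Dual.D S}
    (adj : DRing.restrictD (Polynomial.evalRingHom g) ⊣ Rχ) (M : Dual.D S) :
    Nonempty (Rχ.obj ((DRing.LBaseChange (Polynomial.C : S →+* Polynomial S)).obj M) ≅
      M⟦(-1 : ℤ)⟧) := by
  set χ : Polynomial S →+* S := Polynomial.evalRingHom g with hχdef
  set N : Dual.D (Polynomial S) :=
    (DRing.LBaseChange (Polynomial.C : S →+* Polynomial S)).obj M with hN
  have hsec : χ.comp (Polynomial.C : S →+* Polynomial S) = RingHom.id S := by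
    ext x
    simp [χ]
  have hχ : Function.Surjective χ := fun s => ⟨Polynomial.C s, by simp [χ]⟩
  have hker : RingHom.ker χ = Ideal.span {Polynomial.X - Polynomial.C g} :=
    Polynomial.ker_evalRingHom g
  have hnzd : (Polynomial.X - Polynomial.C g : Polynomial S) ∈ nonZeroDivisors (Polynomial S) :=
    (Polynomial.monic_X_sub_C g).mem_nonZeroDivisors
  obtain ⟨u, w, hT1⟩ := Shriek1.main hχ hker hnzd N Rχ adj
  obtain ⟨g', δ, hT2⟩ := LBCKoszul.koszul_triangle χ hχ _ hnzd hker N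
  have hT1' := rot_of_distTriang _ hT1
  obtain ⟨e⟩ := cone_unique _ _ _ _ _ hT1' hT2
  -- e : (res_χ (Rχ N))⟦1⟧ ≅ res_χ (LBC_χ N)
  have e' : ((DRing.restrictD χ).obj (Rχ.obj N))⟦(1 : ℤ)⟧ ≅
      (DRing.restrictD χ).obj ((DRing.LBaseChange χ).obj N) := e
  have sec : DRing.restrictD χ ⋙ DRing.restrictD (Polynomial.C : S →+* Polynomial S) ≅
      𝟭 (Dual.D S) := restrictDSection _ _ hsec
  -- apply res_C
  have e1 : (DRing.restrictD (Polynomial.C : S →+* Polynomial S)).obj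
      (((DRing.restrictD χ).obj (Rχ.obj N))⟦(1 : ℤ)⟧) ≅ (Rχ.obj N)⟦(1 : ℤ)⟧ :=
    ((DRing.restrictD (Polynomial.C : S →+* Polynomial S)).commShiftIso (1 : ℤ)).app _ ≪≫
      (shiftFunctor (Dual.D S) (1 : ℤ)).mapIso (sec.app _)
  have e2 : (DRing.restrictD (Polynomial.C : S →+* Polynomial S)).obj
      ((DRing.restrictD χ).obj ((DRing.LBaseChange χ).obj N)) ≅ M :=
    sec.app _ ≪≫ (lbcComp (Polynomial.C : S →+* Polynomial S) χ ≪≫ lbcOfEq hsec ≪≫ lbcId).app M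
  exact ⟨isoShiftNeg (e1.symm ≪≫
    (DRing.restrictD (Polynomial.C : S →+* Polynomial S)).mapIso e' ≪≫ e2)⟩

end Groth.Agent.Lib.Helper89.Shriek3
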