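import Groth.Agent.Lib.Helper89.Shriek4

/-!
# Adding variables to a presentation, and swapping two blocks of variables
-/

set_option autoImplicit false
universe u

namespace Groth.Agent.Lib.Helper89.Shriek5

open CategoryTheory CategoryTheory.Limits DerivedCategory CategoryTheory.Pretriangulated
open Groth.Agent.Lib.Helper15.PseudoCohRes Groth.Agent.Lib.Helper15.LBCFlat
  Groth.Agent.Lib.Helper15 Groth.Agent.Lib.Helper89.Shriek2

attribute [local instance] HasDerivedCategory.standard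

/-- adding variables `κ` to a surjection `ψ : P → A` shifts `Rψ (LBC_f K)` by `-|κ|` -/
theorem add_variables {R₀ P A : Type u} [CommRing R₀] [CommRing P] [CommRing A]
    (f : R₀ →+* P) (ψ : P →+* A) (hψ : Function.Surjective ψ) (κ : Type) [Finite κ] (b : κ → A)
    {Rψ : Dual.D P ⥤ Dual.D A} (adj : DRing.restrictD ψ ⊣ Rψ)
    {R₂ : Dual.D (MvPolynomial κ P) ⥤ Dual.D A}
    (adj₂ : DRing.restrictD (MvPolynomial.eval₂Hom ψ b) ⊣ R₂) (K : Dual.D R₀) :
    Nonempty (R₂.obj ((DRing.LBaseChange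
      ((MvPolynomial.C : P →+* MvPolynomial κ P).comp f)).obj K) ≅
      (Rψ.obj ((DRing.LBaseChange f).obj K))⟦-(Nat.card κ : ℤ)⟧) := by
  choose g hg using fun j => hψ (b j)
  have h1 : MvPolynomial.eval₂Hom ψ b =
      ψ.comp (MvPolynomial.eval₂Hom (RingHom.id P) g) := by
    apply MvPolynomial.ringHom_ext
    · intro p
      simp
    · intro j
      simp [hg]
  obtain ⟨Rg, ⟨adjg⟩⟩ := exists_rightAdjoint (MvPolynomial.eval₂Hom (RingHom.id P) g)
  have e1 : R₂ ≅ Rg ⋙ Rψ := rightAdjComp _ _ _ h1 adjg adj adj₂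
  have e2 : (DRing.LBaseChange ((MvPolynomial.C : P →+* MvPolynomial κ P).comp f)).obj K ≅
      (DRing.LBaseChange (MvPolynomial.C : P →+* MvPolynomial κ P)).obj
        ((DRing.LBaseChange f).obj K) :=
    ((lbcComp f (MvPolynomial.C : P →+* MvPolynomial κ P)).app K).symm
  obtain ⟨e3⟩ := Shriek4.multi κ P g Rg adjg ((DRing.LBaseChange f).obj K)
  exact ⟨e1.app _ ≪≫ Rψ.mapIso (Rg.mapIso e2 ≪≫ e3) ≪≫ rightAdjShift ψ adj _ _⟩

section Swap

variable (R A : Type u) [CommRing R] [CommRing A] [Algebra R A] (ι κ : Type)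
  (ψ : MvPolynomial ι R →ₐ[R] A) (ψ' : MvPolynomial κ R →ₐ[R] A)

theorem swap_C :
    (MvPolynomial.C : MvPolynomial κ R →+* MvPolynomial ι (MvPolynomial κ R)).comp
      (algebraMap R (MvPolynomial κ R)) =
    (((MvPolynomial.commAlgEquiv R κ ι).toRingEquiv :
      MvPolynomial κ (MvPolynomial ι R) ≃+* MvPolynomial ι (MvPolynomial κ R)) :
      MvPolynomial κ (MvPolynomial ι R) →+* MvPolynomial ι (MvPolynomial κ R)).comp
      ((MvPolynomial.C : MvPolynomial ι R →+* MvPolynomial κ (MvPolynomial ι R)).comp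
        (algebraMap R (MvPolynomial ι R))) := by
  ext r : 1
  simp [MvPolynomial.algebraMap_eq]

theorem swap_eval :
    MvPolynomial.eval₂Hom ψ.toRingHom (fun j => ψ' (MvPolynomial.X j)) =
      (MvPolynomial.eval₂Hom ψ'.toRingHom (fun i => ψ (MvPolynomial.X i))).comp
    (((MvPolynomial.commAlgEquiv R κ ι).toRingEquiv :
      MvPolynomial κ (MvPolynomial ι R) ≃+* MvPolynomial ι (MvPolynomial κ R)) :
      MvPolynomial κ (MvPolynomial ι R) →+* MvPolynomial ι (MvPolynomial κ R)) := by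
  apply MvPolynomial.ringHom_ext'
  · apply MvPolynomial.ringHom_ext
    · intro r
      simp [MvPolynomial.algebraMap_eq]
    · intro i
      simp
  · intro j
    simp

end Swap

end Groth.Agent.Lib.Helper89.Shriek5
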