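import Groth.Agent.Lib.Helper89.Shriek5

/-!
# Independence of the presentation for arbitrary finite sets of variables; `LBC` and shifts
-/

set_option autoImplicit false
universe u

namespace Groth.Agent.Lib.Helper89.Shriek6

open CategoryTheory CategoryTheory.Limits DerivedCategory CategoryTheory.Pretriangulated
open Groth.Agent.Lib.Helper15.PseudoCohRes Groth.Agent.Lib.Helper15.LBCFlat
  Groth.Agent.Lib.Helper15 Groth.Agent.Lib.Helper89.Shriek2

attribute [local instance] HasDerivedCategory.standard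

/-- independence of the presentation, for arbitrary finite sets of variables -/
theorem indep (R A : Type u) [CommRing R] [CommRing A] [Algebra R A] (ι κ : Type) [Finite ι]
    [Finite κ] (ψ : MvPolynomial ι R →ₐ[R] A) (hψ : Function.Surjective ψ)
    {Rψ : Dual.D (MvPolynomial ι R) ⥤ Dual.D A} (adj : DRing.restrictD ψ.toRingHom ⊣ Rψ)
    (ψ' : MvPolynomial κ R →ₐ[R] A) (hψ' : Function.Surjective ψ')
    {Rψ' : Dual.D (MvPolynomial κ R) ⥤ Dual.D A} (adj' : DRing.restrictD ψ'.toRingHom ⊣ Rψ')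
    (K : Dual.D R) :
    Nonempty ((Rψ.obj ((DRing.LBaseChange
        (algebraMap R (MvPolynomial ι R))).obj K))⟦(Nat.card ι : ℤ)⟧ ≅
      (Rψ'.obj ((DRing.LBaseChange
        (algebraMap R (MvPolynomial κ R))).obj K))⟦(Nat.card κ : ℤ)⟧) := by
  obtain ⟨R₁, ⟨adj₁⟩⟩ := Shriek2.exists_rightAdjoint
    (MvPolynomial.eval₂Hom ψ.toRingHom (fun j : κ => ψ' (MvPolynomial.X j)))
  obtain ⟨R₂, ⟨adj₂⟩⟩ := Shriek2.exists_rightAdjoint
    (MvPolynomial.eval₂Hom ψ'.toRingHom (fun i : ι => ψ (MvPolynomial.X i)))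
  obtain ⟨e1⟩ := Shriek5.add_variables (algebraMap R (MvPolynomial ι R)) ψ.toRingHom hψ
    κ (fun j : κ => ψ' (MvPolynomial.X j)) adj adj₁ K
  obtain ⟨e2⟩ := Shriek5.add_variables (algebraMap R (MvPolynomial κ R)) ψ'.toRingHom hψ'
    ι (fun i : ι => ψ (MvPolynomial.X i)) adj' adj₂ K
  obtain ⟨e3⟩ := Shriek2.iso_invariance
    ((MvPolynomial.C : MvPolynomial ι R →+* MvPolynomial κ (MvPolynomial ι R)).comp
        (algebraMap R (MvPolynomial ι R)))
    (MvPolynomial.commAlgEquiv R κ ι).toRingEquiv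
    ((MvPolynomial.C : MvPolynomial κ R →+* MvPolynomial ι (MvPolynomial κ R)).comp
      (algebraMap R (MvPolynomial κ R)))
    (Shriek5.swap_C R ι κ) _ _ (Shriek5.swap_eval R A ι κ ψ ψ') adj₁ adj₂ K
  have e4 := e1.symm ≪≫ e3 ≪≫ e2
  have h1 : (-(Nat.card κ : ℤ)) + ((Nat.card ι : ℤ) + (Nat.card κ : ℤ)) = (Nat.card ι : ℤ) := by
    ring
  have h2 : (-(Nat.card ι : ℤ)) + ((Nat.card ι : ℤ) + (Nat.card κ : ℤ)) = (Nat.card κ : ℤ) := by
    ring
  exact ⟨((shiftFunctorAdd' (Dual.D A) _ _ _ h1).app _) ≪≫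
    (shiftFunctor (Dual.D A) ((Nat.card ι : ℤ) + (Nat.card κ : ℤ))).mapIso e4 ≪≫
    ((shiftFunctorAdd' (Dual.D A) _ _ _ h2).app _).symm⟩

/-- derived base change commutes with shifts -/
noncomputable def lbcShift {A B : Type u} [CommRing A] [CommRing B] (φ : A →+* B) (k : ℤ)
    (X : Dual.D A) :
    (DRing.LBaseChange φ).obj (X⟦k⟧) ≅ ((DRing.LBaseChange φ).obj X)⟦k⟧ :=
  letI := (LBCAdj.adj φ).leftAdjointCommShift ℤ
  ((DRing.LBaseChange φ).commShiftIso k).app X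

end Groth.Agent.Lib.Helper89.Shriek6
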