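import Groth.Agent.Lib.Helper89.Shriek6
import Groth.Agent.Lib.Helper89.BCc
import Mathlib.RingTheory.Polynomial.Basic

/-!
# Composition of upper shrieks: `(A → C)^! K ≅ (B → C)^! ((A → B)^! K)` for `K` bounded below
-/

set_option autoImplicit false
universe u

namespace Groth.Agent.Lib.Helper89.ShriekComp

open CategoryTheory CategoryTheory.Limits DerivedCategory CategoryTheory.Pretriangulated
open Groth.Agent.Lib.Helper15.PseudoCohRes Groth.Agent.Lib.Helper15.LBCFlat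
  Groth.Agent.Lib.Helper15 Groth.Agent.Lib.Helper89.Shriek2 Groth.Agent.Lib.Helper89.Shriek6
  Groth.Agent.Lib.Helper89.BCa Groth.Agent.Lib.Helper89.BCb Groth.Agent.Lib.Helper84

attribute [local instance] HasDerivedCategory.standard

/-- flat base change along `R → R[σ]` preserves `D^{≥ c}` -/
theorem isGE_lbc_poly (R : Type u) [CommRing R] (σ : Type) (K : Dual.D R) (c : ℤ) [K.IsGE c] :
    ((DRing.LBaseChange (algebraMap R (MvPolynomial σ R))).obj K).IsGE c := by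
  have hfl : (algebraMap R (MvPolynomial σ R)).Flat := RingHom.flat_algebraMap_iff.2 inferInstance
  haveI : PreservesFiniteLimits (FlatBC.ext (algebraMap R (MvPolynomial σ R))) :=
    FlatBC.preservesFiniteLimits_ext _ hfl
  haveI := FlatBC.isGE_bc (algebraMap R (MvPolynomial σ R)) K c
  exact TStructure.t.isGE_of_iso
    ((lbcFlatIso (algebraMap R (MvPolynomial σ R))).app K).symm c

section Main

variable (A B C : Type u) [CommRing A] [CommRing B] [CommRing C] [IsNoetherianRing A]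
  [Algebra A B] [Algebra B C] [Algebra A C] [IsScalarTower A B C]
  (n : ℕ) (ψ : MvPolynomial (Fin n) A →ₐ[A] B) (m : ℕ) (χ : MvPolynomial (Fin m) B →ₐ[B] C)

/-- the composite presentation `A[n][m] → B[m] → C` -/
noncomputable abbrev Theta : MvPolynomial (Fin m) (MvPolynomial (Fin n) A) →+* C :=
  χ.toRingHom.comp (psi' ψ.toRingHom (Fin m))

/-- the composite presentation as an `A`-algebra map from `A[m ⊕ n]` -/
noncomputable def theta₂ : MvPolynomial (Fin m ⊕ Fin n) A →ₐ[A] C :=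
  { (Theta A B C n ψ m χ).comp
      ((MvPolynomial.sumAlgEquiv A (Fin m) (Fin n)) : MvPolynomial (Fin m ⊕ Fin n) A →+*
        MvPolynomial (Fin m) (MvPolynomial (Fin n) A)) with
    commutes' := fun a => by
      change χ (MvPolynomial.map ψ.toRingHom
        (MvPolynomial.sumAlgEquiv A (Fin m) (Fin n) (algebraMap A _ a))) = _
      rw [AlgEquiv.commutes, MvPolynomial.algebraMap_apply, MvPolynomial.algebraMap_eq]
      rw [MvPolynomial.map_C]
      have h1 : ψ.toRingHom (MvPolynomial.C a) = algebraMap A B a := by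
        rw [← MvPolynomial.algebraMap_eq]
        exact ψ.commutes a
      rw [h1, ← MvPolynomial.algebraMap_eq, χ.commutes, ← IsScalarTower.algebraMap_apply] }

theorem theta₂_toRingHom :
    (theta₂ A B C n ψ m χ).toRingHom = (Theta A B C n ψ m χ).comp
      (((MvPolynomial.sumAlgEquiv A (Fin m) (Fin n)).toRingEquiv :
        MvPolynomial (Fin m ⊕ Fin n) A ≃+* MvPolynomial (Fin m) (MvPolynomial (Fin n) A)) :
        MvPolynomial (Fin m ⊕ Fin n) A →+* MvPolynomial (Fin m) (MvPolynomial (Fin n) A)) := rfl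

theorem hf_sum :
    (cP (P := MvPolynomial (Fin n) A) (Fin m)).comp (algebraMap A (MvPolynomial (Fin n) A)) =
      (((MvPolynomial.sumAlgEquiv A (Fin m) (Fin n)).toRingEquiv :
        MvPolynomial (Fin m ⊕ Fin n) A ≃+* MvPolynomial (Fin m) (MvPolynomial (Fin n) A)) :
        MvPolynomial (Fin m ⊕ Fin n) A →+* MvPolynomial (Fin m) (MvPolynomial (Fin n) A)).comp
        (algebraMap A (MvPolynomial (Fin m ⊕ Fin n) A)) := by
  refine RingHom.ext (fun a => ?_)
  change MvPolynomial.C (algebraMap A (MvPolynomial (Fin n) A) a) =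
    MvPolynomial.sumAlgEquiv A (Fin m) (Fin n) (algebraMap A _ a)
  rw [AlgEquiv.commutes, MvPolynomial.algebraMap_apply (R := A) (S₁ := MvPolynomial (Fin n) A)]

end Main

section Comp

variable (A B C : Type u) [CommRing A] [CommRing B] [CommRing C] [IsNoetherianRing A]
  [Algebra A B] [Algebra B C] [Algebra A C] [IsScalarTower A B C]
  (n : ℕ) (ψ : MvPolynomial (Fin n) A →ₐ[A] B) (hψ : Function.Surjective ψ)
  {Rψ : Dual.D (MvPolynomial (Fin n) A) ⥤ Dual.D B} (adj : DRing.restrictD ψ.toRingHom ⊣ Rψ)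
  (m : ℕ) (χ : MvPolynomial (Fin m) B →ₐ[B] C) (hχ : Function.Surjective χ)
  {Rχ : Dual.D (MvPolynomial (Fin m) B) ⥤ Dual.D C} (adjχ : DRing.restrictD χ.toRingHom ⊣ Rχ)
  (k : ℕ) (θ : MvPolynomial (Fin k) A →ₐ[A] C) (hθ : Function.Surjective θ)
  {Rθ : Dual.D (MvPolynomial (Fin k) A) ⥤ Dual.D C} (adjθ : DRing.restrictD θ.toRingHom ⊣ Rθ)

include hψ hχ hθ adj adjχ adjθ in
/-- **composition of upper shrieks** -/
theorem main (K : Dual.D A) (c : ℤ) [K.IsGE c] :
    Nonempty ((Rθ.obj ((DRing.LBaseChange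
        (algebraMap A (MvPolynomial (Fin k) A))).obj K))⟦(k : ℤ)⟧ ≅
      (Rχ.obj ((DRing.LBaseChange (algebraMap B (MvPolynomial (Fin m) B))).obj
        ((Rψ.obj ((DRing.LBaseChange
          (algebraMap A (MvPolynomial (Fin n) A))).obj K))⟦(n : ℤ)⟧)))⟦(m : ℤ)⟧) := by
  let L : Dual.D (MvPolynomial (Fin n) A) :=
    (DRing.LBaseChange (algebraMap A (MvPolynomial (Fin n) A))).obj K
  haveI : L.IsGE c := isGE_lbc_poly A (Fin n) K c
  have hψ₀ : Function.Surjective ψ.toRingHom := hψ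
  obtain ⟨Rψ', ⟨adj'⟩⟩ := exists_rightAdjoint (psi' ψ.toRingHom (Fin m))
  obtain ⟨RΘ, ⟨adjΘ⟩⟩ := exists_rightAdjoint (Theta A B C n ψ m χ)
  have eΘ : RΘ ≅ Rψ' ⋙ Rχ :=
    rightAdjComp (psi' ψ.toRingHom (Fin m)) χ.toRingHom (Theta A B C n ψ m χ) rfl adj' adjχ adjΘ
  obtain ⟨e1⟩ := BCc.main ψ.toRingHom hψ₀ (Fin m) adj adj' L c
  -- the flattened presentation
  have hθ₂ : Function.Surjective (theta₂ A B C n ψ m χ) := by
    change Function.Surjective (fun x => χ (MvPolynomial.map ψ.toRingHom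
      (MvPolynomial.sumAlgEquiv A (Fin m) (Fin n) x)))
    exact hχ.comp ((hpsi' ψ.toRingHom hψ₀ (Fin m)).comp
      (MvPolynomial.sumAlgEquiv A (Fin m) (Fin n)).surjective)
  obtain ⟨Rθ₂, ⟨adjθ₂⟩⟩ := exists_rightAdjoint (theta₂ A B C n ψ m χ).toRingHom
  obtain ⟨e2⟩ := indep A C (Fin k) (Fin m ⊕ Fin n) θ hθ adjθ (theta₂ A B C n ψ m χ) hθ₂ adjθ₂ K
  obtain ⟨e3⟩ := iso_invariance (algebraMap A (MvPolynomial (Fin m ⊕ Fin n) A))
    (MvPolynomial.sumAlgEquiv A (Fin m) (Fin n)).toRingEquiv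
    ((cP (P := MvPolynomial (Fin n) A) (Fin m)).comp (algebraMap A (MvPolynomial (Fin n) A)))
    (hf_sum A n m) (Theta A B C n ψ m χ) (theta₂ A B C n ψ m χ).toRingHom
    (theta₂_toRingHom A B C n ψ m χ) adjθ₂ adjΘ K
  have e4 : (DRing.LBaseChange ((cP (P := MvPolynomial (Fin n) A) (Fin m)).comp
      (algebraMap A (MvPolynomial (Fin n) A)))).obj K ≅
      (DRing.LBaseChange (cP (P := MvPolynomial (Fin n) A) (Fin m))).obj L :=
    ((lbcComp (algebraMap A (MvPolynomial (Fin n) A))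
      (cP (P := MvPolynomial (Fin n) A) (Fin m))).app K).symm
  let W : Dual.D C := Rχ.obj ((DRing.LBaseChange (cB (B := B) (Fin m))).obj (Rψ.obj L))
  have e5 : Rθ₂.obj ((DRing.LBaseChange
      (algebraMap A (MvPolynomial (Fin m ⊕ Fin n) A))).obj K) ≅ W :=
    e3 ≪≫ RΘ.mapIso e4 ≪≫ eΘ.app _ ≪≫ Rχ.mapIso e1.symm
  rw [Nat.card_fin, Nat.card_sum, Nat.card_fin, Nat.card_fin] at e2
  -- the right hand side
  have e6 : (DRing.LBaseChange (algebraMap B (MvPolynomial (Fin m) B))).obj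
      ((Rψ.obj L)⟦(n : ℤ)⟧) ≅
      ((DRing.LBaseChange (cB (B := B) (Fin m))).obj (Rψ.obj L))⟦(n : ℤ)⟧ :=
    (lbcOfEq (MvPolynomial.algebraMap_eq B (Fin m))).app _ ≪≫ lbcShift _ _ _
  have e7 : Rχ.obj ((DRing.LBaseChange (algebraMap B (MvPolynomial (Fin m) B))).obj
      ((Rψ.obj L)⟦(n : ℤ)⟧)) ≅ W⟦(n : ℤ)⟧ :=
    Rχ.mapIso e6 ≪≫ rightAdjShift χ.toRingHom adjχ _ _
  have h1 : (n : ℤ) + (m : ℤ) = ((m + n : ℕ) : ℤ) := by
    push_cast
    ring
  exact ⟨e2 ≪≫ (shiftFunctor (Dual.D C) (((m + n : ℕ) : ℤ))).mapIso e5 ≪≫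
    (shiftFunctorAdd' (Dual.D C) _ _ _ h1).app W ≪≫
    ((shiftFunctor (Dual.D C) (m : ℤ)).mapIso e7).symm⟩

end Comp

end Groth.Agent.Lib.Helper89.ShriekComp
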