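import Groth.Agent.Lib.Helper89.CplDimG

/-!
# Localized `Ext(A/p, ω)` versus `Ext_{A_p}(κ(p), ω_p)` (helper89, for S11186)
-/

set_option autoImplicit false
set_option linter.style.haveILetI false
universe u

namespace Groth.Agent.Lib.Helper89.SmDeg

open CategoryTheory CategoryTheory.Limits CategoryTheory.Pretriangulated DerivedCategory
  TensorProduct
open Groth.Agent.Lib.Helper84 Groth.Agent.Lib.Helper25.LocDual Groth.Agent.Lib.Helper89.BCHom
  Groth.Agent.Lib.Helper89.CplDim

attribute [local instance] HasDerivedCategory.standard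

variable {R : Type u} [CommRing R] [IsNoetherianRing R]

/-- over a local ring, localizing at the maximal ideal does nothing -/
theorem locZero_maximalIdeal_iff {S : Type u} [CommRing S] [IsLocalRing S] (H : Type*)
    [AddCommGroup H] [Module S H] :
    LocZero (IsLocalRing.maximalIdeal S).primeCompl H ↔ Subsingleton H := by
  constructor
  · intro h
    refine ⟨fun x y => ?_⟩
    obtain ⟨r, hr, hrx⟩ := h (x - y)
    have hu : IsUnit r := by
      by_contra hnu
      exact hr ((IsLocalRing.mem_maximalIdeal r).2 hnu)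
    obtain ⟨u, rfl⟩ := hu
    have : x - y = 0 := by
      have := congrArg (fun z => (↑u⁻¹ : S) • z) hrx
      simpa [smul_smul] using this
    exact sub_eq_zero.mp this
  · intro h m
    exact ⟨1, Submonoid.one_mem _, by rw [one_smul]; exact Subsingleton.elim _ _⟩

/-- `A_p ⊗ A/p ≅ κ(p)` -/
noncomputable def extQuotEquiv (P : Ideal R) [P.IsPrime] :
    ((FlatBC.ext (algebraMap R (Localization.AtPrime P))).obj (ModuleCat.of R (R ⧸ P)))
      ≃ₗ[Localization.AtPrime P] P.ResidueField :=
  (nonempty_ext_equiv_tensor (A := R) (B := Localization.AtPrime P) (R ⧸ P)).some ≪≫ₗ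
    (Algebra.TensorProduct.quotIdealMapEquivTensorQuotAux (Localization.AtPrime P) P).symm ≪≫ₗ
    Submodule.quotEquivOfEq _ _ (Localization.AtPrime.map_eq_maximalIdeal)

/-- **translation**: `Ext^i_{A_p}(κ(p), ω_p) = 0` iff `Ext^i_A(A/p, ω)_p = 0` -/
theorem subsingleton_iff_locZero (P : Ideal R) [P.IsPrime]
    [PreservesFiniteLimits (FlatBC.ext (algebraMap R (Localization.AtPrime P)))]
    (K : Dual.D R) (a : ℤ) (hGE : K.IsGE a) (i : ℤ) :
    Subsingleton (Dual.inD (Localization.AtPrime P) P.ResidueField ⟶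
        ((FlatBC.bc (algebraMap R (Localization.AtPrime P))).obj K)⟦i⟧) ↔
      LocZero P.primeCompl (Dual.inD R (R ⧸ P) ⟶ K⟦i⟧) := by
  have hf : (algebraMap R (Localization.AtPrime P)).Flat :=
    RingHom.flat_algebraMap_iff.2 inferInstance
  have h1 := locZero_transfer (algebraMap R (Localization.AtPrime P)) hf K a hGE (R ⧸ P)
    P.ResidueField (extQuotEquiv P) i (IsLocalRing.maximalIdeal (Localization.AtPrime P))
  rw [locZero_maximalIdeal_iff] at h1
  rw [h1]
  have h2 : (IsLocalRing.maximalIdeal (Localization.AtPrime P)).comap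
      (algebraMap R (Localization.AtPrime P)) = P := Localization.AtPrime.comap_maximalIdeal
  constructor
  · intro h m
    obtain ⟨r, hr, hrm⟩ := h m
    refine ⟨r, ?_, hrm⟩
    rw [Ideal.mem_primeCompl_iff] at hr ⊢
    rwa [h2] at hr
  · intro h m
    obtain ⟨r, hr, hrm⟩ := h m
    refine ⟨r, ?_, hrm⟩
    rw [Ideal.mem_primeCompl_iff] at hr ⊢
    rwa [h2]

end Groth.Agent.Lib.Helper89.SmDeg
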