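import Groth.Agent.Lib.Helper89.SmDegA
import Groth.Agent.Lib.Helper84.SmoothGor
import Groth.Agent.Lib.Helper80.TensorLoc
import Groth.Agent.Lib.Helper15.LDerived
import Groth.Prelude.Def_FlatCA

/-!
# The codimension function of `ω ⊗ B` for a smooth map `A → B` (helper89, S11186)
-/

set_option autoImplicit false
set_option linter.style.haveILetI false
universe u

namespace Groth.Agent.Lib.Helper89.SmDeg

open CategoryTheory CategoryTheory.Limits CategoryTheory.Pretriangulated DerivedCategory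
  TensorProduct
open Groth.Agent.Lib.Helper84 Groth.Agent.Lib.Helper25.LocDual Groth.Agent.Lib.Helper89.BCHom
  Groth.Agent.Lib.Helper89.CplDim Groth.Agent.Lib.Helper15.LBCFlat

attribute [local instance] HasDerivedCategory.standard

/-- the fibre depth statement (to be supplied) -/
def FDStatement : Prop :=
  ∀ (A B : Type u) [CommRing A] [CommRing B] [Algebra A B] [IsNoetherianRing A] (n : ℕ)
    (_ : FlatCA.SmoothRelDim n A B) (p : Ideal A) [p.IsPrime] (q : Ideal B) [q.IsPrime]
    [hq : q.LiesOver p] (t : ℕ)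
    (_ : @Algebra.trdeg p.ResidueField q.ResidueField _ _
      (Ideal.ResidueField.mapₐ p q (Algebra.ofId A B) hq.over).toRingHom.toAlgebra =
        (t : Cardinal.{u})),
    t ≤ n ∧ LocCoh.depth (Localization.AtPrime q) (EGA4.FibLocMod A B q B) = ((n - t : ℕ) : ℕ∞)

theorem smooth_of_smoothRelDim (A B : Type u) [CommRing A] [CommRing B] [Algebra A B] (n : ℕ)
    (hs : FlatCA.SmoothRelDim n A B) : Algebra.Smooth A B := by
  haveI : AlgebraicGeometry.SmoothOfRelativeDimension n
      (AlgebraicGeometry.Spec.map (CommRingCat.ofHom (algebraMap A B))) := hs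
  have h1 : AlgebraicGeometry.Smooth
      (AlgebraicGeometry.Spec.map (CommRingCat.ofHom (algebraMap A B))) :=
    AlgebraicGeometry.SmoothOfRelativeDimension.smooth n _
  exact RingHom.smooth_algebraMap.1
    ((AlgebraicGeometry.HasRingHomProperty.Spec_iff (P := @AlgebraicGeometry.Smooth)).1 h1)

/-- transport nontriviality of a Hom group along an isomorphism of the target -/
theorem nontrivial_hom_of_iso {C : Type*} [Category C] {X Y Y' : C} (e : Y ≅ Y')
    (h : Nontrivial (X ⟶ Y)) : Nontrivial (X ⟶ Y') :=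
  ((Iso.refl X).homCongr e).symm.nontrivial

theorem main (hFD : FDStatement.{u}) (A B : Type u) [CommRing A] [CommRing B] [Algebra A B]
    [IsNoetherianRing A] (n : ℕ) (hs : FlatCA.SmoothRelDim n A B) (ω : Dual.D A)
    (hω : Dual.IsDualizing A ω) (p : Ideal A) [p.IsPrime] (q : Ideal B) [q.IsPrime]
    [hq : q.LiesOver p] [DRing.HasLBaseChange (algebraMap A (Localization.AtPrime p))]
    [DRing.HasLBaseChange (algebraMap A (Localization.AtPrime q))] (d : ℤ)
    (hd : Nontrivial (Dual.inD (Localization.AtPrime p) p.ResidueField ⟶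
      ((DRing.LBaseChange (algebraMap A (Localization.AtPrime p))).obj ω)⟦d⟧)) (t : ℕ)
    (ht : @Algebra.trdeg p.ResidueField q.ResidueField _ _
      (Ideal.ResidueField.mapₐ p q (Algebra.ofId A B) hq.over).toRingHom.toAlgebra =
        (t : Cardinal.{u})) :
    Nontrivial (Dual.inD (Localization.AtPrime q) q.ResidueField ⟶
      ((DRing.LBaseChange (algebraMap A (Localization.AtPrime q))).obj ω)⟦(d - (t : ℤ) + (n : ℤ))⟧) := by
  obtain ⟨htn, hFDq⟩ := hFD A B n hs p q t ht
  obtain rfl : p = q.comap (algebraMap A B) := hq.over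
  haveI : Algebra.Smooth A B := smooth_of_smoothRelDim A B n hs
  haveI : Algebra.FinitePresentation A B := Algebra.Smooth.finitePresentation
  haveI : Algebra.FiniteType A B := inferInstance
  haveI hNB : IsNoetherianRing B := Algebra.FiniteType.isNoetherianRing A B
  haveI : Module.Flat A B := inferInstance
  let f : A →+* B := algebraMap A B
  have hf : f.Flat := RingHom.flat_algebraMap_iff.2 inferInstance
  haveI : PreservesFiniteLimits (FlatBC.ext f) := FlatBC.preservesFiniteLimits_ext _ hf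
  have hω' : Dual.IsDualizing B ((FlatBC.bc f).obj ω) :=
    Groth.Agent.Lib.Helper89.GorBC.isDualizing_bc_of_gorenstein_fibres
      (fun P => Groth.Agent.Lib.Helper84.SmoothGor.gorRing_fibre_of_smooth A B P) ω hω
  obtain ⟨a₀, b₀, hab₀⟩ := hω.finite_injective_dimension
  have hGE₀ : ω.IsGE a₀ := Bass.isGE_of_fid ω a₀ b₀ hab₀
  haveI := hGE₀
  have hGEB : ((FlatBC.bc f).obj ω).IsGE a₀ := FlatBC.isGE_bc _ ω a₀
  obtain ⟨δ, hδ1, -⟩ := dimFun_main ω hω
  obtain ⟨δ', hδ1', -⟩ := dimFun_main ((FlatBC.bc f).obj ω) hω'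
  have hdd : ∀ (P : PrimeSpectrum A) (i : ℤ), LocZero P.asIdeal.primeCompl
      (Dual.inD A (A ⧸ P.asIdeal) ⟶ ω⟦i⟧) ↔ i ≠ -δ P := by
    intro P i
    rw [locZero_iff_subsingleton, ← not_nontrivial_iff_subsingleton, hδ1 P i]
  have hdd' : ∀ (P : PrimeSpectrum B) (i : ℤ), LocZero P.asIdeal.primeCompl
      (Dual.inD B (B ⧸ P.asIdeal) ⟶ ((FlatBC.bc f).obj ω)⟦i⟧) ↔ i ≠ -δ' P := by
    intro P i
    rw [locZero_iff_subsingleton, ← not_nontrivial_iff_subsingleton, hδ1' P i]
  let P : PrimeSpectrum A := ⟨q.comap (algebraMap A B), inferInstance⟩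
  let Q : PrimeSpectrum B := ⟨q, inferInstance⟩
  have hPQ : P.asIdeal = Q.asIdeal.comap f := rfl
  -- the degree at `p`
  have hfp : (algebraMap A (Localization.AtPrime (q.comap (algebraMap A B)))).Flat :=
    RingHom.flat_algebraMap_iff.2 inferInstance
  haveI : PreservesFiniteLimits (FlatBC.ext (algebraMap A (Localization.AtPrime (q.comap (algebraMap A B))))) :=
    FlatBC.preservesFiniteLimits_ext _ hfp
  have hdP : d = -δ P := by
    by_contra hne
    have h1 : LocZero (q.comap (algebraMap A B)).primeCompl (Dual.inD A (A ⧸ q.comap (algebraMap A B)) ⟶ ω⟦d⟧) := (hdd P d).2 hne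
    have h2 := (subsingleton_iff_locZero (q.comap (algebraMap A B)) ω a₀ hGE₀ d).2 h1
    have h3 := nontrivial_hom_of_iso ((shiftFunctor _ d).mapIso ((lbcFlatIso _).app ω)) hd
    exact not_subsingleton _ h2
  -- depths
  haveI hNAp : IsNoetherianRing (Localization.AtPrime (q.comap (algebraMap A B))) :=
    IsLocalization.isNoetherianRing (q.comap (algebraMap A B)).primeCompl _ inferInstance
  haveI hNBq : IsNoetherianRing (Localization.AtPrime q) :=
    IsLocalization.isNoetherianRing q.primeCompl _ inferInstance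
  haveI hnt : Nontrivial (LocalizedModule (q.comap (algebraMap A B)).primeCompl A) := by
    rw [← not_subsingleton_iff_nontrivial, ← locZero_iff_subsingleton]
    intro h
    obtain ⟨r, hr, hr1⟩ := h (1 : A)
    rw [smul_eq_mul, mul_one] at hr1
    rw [hr1] at hr
    exact hr (Ideal.zero_mem _)
  have hk_ne : LocCoh.depth (Localization.AtPrime (q.comap (algebraMap A B)))
      (LocalizedModule (q.comap (algebraMap A B)).primeCompl A) ≠ ⊤ :=
    Groth.Agent.Lib.Helper67.depth_ne_top _
  obtain ⟨k, hk⟩ := ENat.ne_top_iff_exists.1 hk_ne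
  obtain ⟨h1, -⟩ := Groth.Agent.Lib.Helper80.TensorLoc.formulas (A := A) (B := B) A B q
  have hk' : LocCoh.depth (Localization.AtPrime q)
      (LocalizedModule q.primeCompl (B ⊗[A] A)) = ((k + (n - t) : ℕ) : ℕ∞) := by
    rw [h1, ← hk, hFDq]
    push_cast
    rfl
  obtain ⟨e0⟩ := nonempty_ext_equiv_tensor (A := A) (B := B) A
  have key := degree_sub_depth_eq f hf ω hω hω' Q P hPQ (-δ P) (-δ' Q) (hdd P) (hdd' Q)
    A (B ⊗[A] A) e0 k (k + (n - t)) hk.symm hk'
  have hdeg : d - (t : ℤ) + (n : ℤ) = -δ' Q := by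
    push_cast [Nat.cast_sub htn] at key
    omega
  rw [hdeg]
  -- translate back
  let ψ : B →+* Localization.AtPrime q := algebraMap B (Localization.AtPrime q)
  have hfq : ψ.Flat := RingHom.flat_algebraMap_iff.2 inferInstance
  haveI : PreservesFiniteLimits (FlatBC.ext ψ) := FlatBC.preservesFiniteLimits_ext _ hfq
  have hfin : ¬ LocZero q.primeCompl
      (Dual.inD B (B ⧸ q) ⟶ ((FlatBC.bc f).obj ω)⟦-δ' Q⟧) := fun h => (hdd' Q _).1 h rfl
  have h5 : ¬ Subsingleton (Dual.inD (Localization.AtPrime q) q.ResidueField ⟶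
      ((FlatBC.bc ψ).obj ((FlatBC.bc f).obj ω))⟦-δ' Q⟧) :=
    fun h => hfin ((subsingleton_iff_locZero q _ a₀ hGEB _).1 h)
  have h6 := not_subsingleton_iff_nontrivial.1 h5
  have hcomp : ψ.comp f = algebraMap A (Localization.AtPrime q) :=
    (IsScalarTower.algebraMap_eq A B (Localization.AtPrime q)).symm
  have iso : (FlatBC.bc ψ).obj ((FlatBC.bc f).obj ω) ≅
      (DRing.LBaseChange (algebraMap A (Localization.AtPrime q))).obj ω :=
    ((lbcFlatIso ψ).app _).symm ≪≫
      (DRing.LBaseChange ψ).mapIso ((lbcFlatIso f).app ω).symm ≪≫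
      (lbcComp f ψ).app ω ≪≫ (lbcOfEq hcomp).app ω
  exact nontrivial_hom_of_iso ((shiftFunctor _ (-δ' Q)).mapIso iso) h6

end Groth.Agent.Lib.Helper89.SmDeg
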