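import Groth.Agent.Lib.Helper89.SmDegB
import Groth.Agent.Lib.Helper71.SmFibA
import Groth.Agent.Lib.Helper85.SmFibBF
import Groth.Agent.Lib.Helper51.SmFibB
import Groth.Agent.Lib.Helper64.DepthQuot

/-!
# The fibre depth of a smooth ring map (assembly of the pieces of helper51/helper71/helper85)
(helper89, S11186)
-/

set_option autoImplicit false
set_option linter.style.haveILetI false
universe u

namespace Groth.Agent.Lib.Helper89.SmDeg

theorem trdeg_congr_alg {k K : Type u} [CommRing k] [CommRing K] (a1 a2 : Algebra k K)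
    (h : ∀ x, @algebraMap k K _ _ a1 x = @algebraMap k K _ _ a2 x) :
    @Algebra.trdeg k K _ _ a1 = @Algebra.trdeg k K _ _ a2 := by
  have : a1 = a2 := Algebra.algebra_ext _ _ h
  subst this
  rfl

/-- **FD** -/
theorem depth_fibLoc_of_smooth (A B : Type u) [CommRing A] [CommRing B] [Algebra A B]
    [IsNoetherianRing A] (n : ℕ) (hs : FlatCA.SmoothRelDim n A B) (p : Ideal A) [p.IsPrime]
    (q : Ideal B) [q.IsPrime] [hq : q.LiesOver p] (t : ℕ)
    (ht : @Algebra.trdeg p.ResidueField q.ResidueField _ _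
      (Ideal.ResidueField.mapₐ p q (Algebra.ofId A B) hq.over).toRingHom.toAlgebra =
        (t : Cardinal.{u})) :
    t ≤ n ∧ LocCoh.depth (Localization.AtPrime q) (EGA4.FibLocMod A B q B) =
      ((n - t : ℕ) : ℕ∞) := by
  haveI : Algebra.Smooth A B := smooth_of_smoothRelDim A B n hs
  haveI : Algebra.FinitePresentation A B := Algebra.Smooth.finitePresentation
  haveI : Algebra.FiniteType A B := inferInstance
  haveI hNB : IsNoetherianRing B := Algebra.FiniteType.isNoetherianRing A B
  obtain ⟨Q, hQ, ⟨e⟩, htr⟩ := Groth.Agent.Lib.Helper85.SmFibBF.exists_fiber_prime_data A B p q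
  haveI := hQ
  have hsC := Groth.Agent.Lib.Helper51.SmFibB.smoothRelDim_fiber A B n hs p
  obtain ⟨h1, h2⟩ := Groth.Agent.Lib.Helper51.SmFibB.depth_eq_of_smooth_field
    p.ResidueField (p.Fiber B) n hsC Q t (by
      rw [← ht, htr]
      refine trdeg_congr_alg _ _ (fun x => ?_)
      refine RingHom.congr_fun (Ideal.ResidueField.ringHom_ext (I := p) ?_) x
      rw [← IsScalarTower.algebraMap_eq A p.ResidueField Q.ResidueField]
      exact (IsScalarTower.algebraMap_eq A p.ResidueField Q.ResidueField))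
  haveI : IsLocalRing (EGA4.FibLocRing A B q) := e.isLocalRing
  refine ⟨h1, ?_⟩
  have h3 : LocCoh.depth (Localization.AtPrime Q) (Localization.AtPrime Q) =
      LocCoh.depth (EGA4.FibLocRing A B q) (EGA4.FibLocRing A B q) := by
    refine Groth.Agent.Lib.Helper64.DepthQuot.depth_self_of_ringEquiv ?_
    exact e
  rw [Groth.Agent.Lib.Helper71.SmFibA.depth_fibLocMod_eq A B q, ← h3, h2]

theorem fdStatement : FDStatement.{u} :=
  fun A B _ _ _ _ n hs p _ q _ _ t ht => depth_fibLoc_of_smooth A B n hs p q t ht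

end Groth.Agent.Lib.Helper89.SmDeg
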