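import Mathlib

set_option autoImplicit false
universe v u
open CategoryTheory CategoryTheory.Limits

namespace Helper89.TermwiseSplit

lemma iso_of_split {V : Type u} [Category.{v} V] [Preadditive V] [HasBinaryBiproducts V]
    {A B C' : V} (i : A ⟶ B) (r : B ⟶ A) (c : C' ⟶ B) (q : B ⟶ C')
    (h1 : i ≫ r = 𝟙 _) (h2 : c ≫ q = 𝟙 _) (h3 : i ≫ q = 0) (h4 : c ≫ r = 0)
    (h5 : r ≫ i + q ≫ c = 𝟙 _) : ∃ e : B ≅ A ⊞ C', i ≫ e.hom = biprod.inl :=
  ⟨⟨biprod.lift r q, biprod.desc i c, by simp [h5], by ext <;> simp [h1, h2, h3, h4]⟩,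
    by ext <;> simp [h1, h3]⟩

open CochainComplex HomComplex in
theorem factor_inj {V : Type u} [Category.{v} V] [Preadditive V] [HasBinaryBiproducts V] [HasZeroObject V]
    (K L : CochainComplex V ℤ) (α : K ⟶ L) :
    ∃ (L' : CochainComplex V ℤ) (α' : K ⟶ L') (π : L' ⟶ L) (s : L ⟶ L'),
      α' ≫ π = α ∧ s ≫ π = 𝟙 L ∧ Nonempty (Homotopy (π ≫ s) (𝟙 L')) ∧
      (∀ n : ℤ, ∃ (C : V) (e : L'.X n ≅ K.X n ⊞ C), α'.f n ≫ e.hom = biprod.inl) ∧
      (∀ a : ℤ, K.IsStrictlyGE a → L.IsStrictlyGE a → ∃ a' : ℤ, L'.IsStrictlyGE a') ∧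
      (∀ a : ℤ, K.IsStrictlyLE a → L.IsStrictlyLE a → ∃ a' : ℤ, L'.IsStrictlyLE a') := by
  let P := mappingCone (𝟙 K)
  refine ⟨L ⊞ P, biprod.lift α (mappingCone.inr (𝟙 K)), biprod.fst, biprod.inl,
    biprod.lift_fst _ _, biprod.inl_fst, ⟨?_⟩, ?_, ?_, ?_⟩
  · -- homotopy
    have H0 : Homotopy (0 : L ⊞ P ⟶ L ⊞ P) (biprod.snd ≫ biprod.inr) := by
      have h := ((mappingCone.homotopyToZeroOfId K).symm.compLeft (biprod.snd : L ⊞ P ⟶ P)).compRight
        (biprod.inr : P ⟶ L ⊞ P)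
      refine (Homotopy.ofEq ?_).trans (h.trans (Homotopy.ofEq ?_))
      · simp
      · simp
    refine (Homotopy.ofEq ?_).trans (((Homotopy.refl (biprod.fst ≫ biprod.inl : L ⊞ P ⟶ L ⊞ P)).add H0).trans (Homotopy.ofEq ?_))
    · simp
    · exact biprod.total
  · intro n
    -- degreewise data
    have iLpL : (biprod.inl : L ⟶ L ⊞ P).f n ≫ (biprod.fst : L ⊞ P ⟶ L).f n = 𝟙 _ := by
      rw [← HomologicalComplex.comp_f, biprod.inl_fst, HomologicalComplex.id_f]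
    have iLpC : (biprod.inl : L ⟶ L ⊞ P).f n ≫ (biprod.snd : L ⊞ P ⟶ P).f n = 0 := by
      rw [← HomologicalComplex.comp_f, biprod.inl_snd, HomologicalComplex.zero_f]
    have iCpL : (biprod.inr : P ⟶ L ⊞ P).f n ≫ (biprod.fst : L ⊞ P ⟶ L).f n = 0 := by
      rw [← HomologicalComplex.comp_f, biprod.inr_fst, HomologicalComplex.zero_f]
    have iCpC : (biprod.inr : P ⟶ L ⊞ P).f n ≫ (biprod.snd : L ⊞ P ⟶ P).f n = 𝟙 _ := by
      rw [← HomologicalComplex.comp_f, biprod.inr_snd, HomologicalComplex.id_f]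
    have tot : (biprod.fst : L ⊞ P ⟶ L).f n ≫ (biprod.inl : L ⟶ L ⊞ P).f n +
        (biprod.snd : L ⊞ P ⟶ P).f n ≫ (biprod.inr : P ⟶ L ⊞ P).f n = 𝟙 _ := by
      rw [← HomologicalComplex.comp_f, ← HomologicalComplex.comp_f, ← HomologicalComplex.add_f_apply,
        biprod.total, HomologicalComplex.id_f]
    have a'pL : (biprod.lift α (mappingCone.inr (𝟙 K)) : K ⟶ L ⊞ P).f n ≫
        (biprod.fst : L ⊞ P ⟶ L).f n = α.f n := by
      rw [← HomologicalComplex.comp_f, biprod.lift_fst]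
    have a'pC : (biprod.lift α (mappingCone.inr (𝟙 K)) : K ⟶ L ⊞ P).f n ≫
        (biprod.snd : L ⊞ P ⟶ P).f n = (mappingCone.inr (𝟙 K)).f n := by
      rw [← HomologicalComplex.comp_f, biprod.lift_snd]
    have a'eq : (biprod.lift α (mappingCone.inr (𝟙 K)) : K ⟶ L ⊞ P).f n =
        α.f n ≫ (biprod.inl : L ⟶ L ⊞ P).f n +
          (mappingCone.inr (𝟙 K)).f n ≫ (biprod.inr : P ⟶ L ⊞ P).f n := by
      have : (biprod.lift α (mappingCone.inr (𝟙 K)) : K ⟶ L ⊞ P).f n =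
          (biprod.lift α (mappingCone.inr (𝟙 K)) : K ⟶ L ⊞ P).f n ≫ 𝟙 _ := (Category.comp_id _).symm
      rw [this, ← tot, Preadditive.comp_add, ← Category.assoc, a'pL, ← Category.assoc, a'pC]
    have h1 : ((biprod.lift α (mappingCone.inr (𝟙 K)) : K ⟶ L ⊞ P).f n) ≫
        ((biprod.snd : L ⊞ P ⟶ P).f n ≫ (mappingCone.snd (𝟙 K)).v n n (add_zero n)) = 𝟙 _ := by
      rw [← Category.assoc, a'pC, mappingCone.inr_f_snd_v]
    have h2 : (biprod.desc ((biprod.inl : L ⟶ L ⊞ P).f n)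
        ((mappingCone.inl (𝟙 K)).v (n + 1) n (by omega) ≫ (biprod.inr : P ⟶ L ⊞ P).f n)) ≫
      (biprod.lift ((biprod.fst : L ⊞ P ⟶ L).f n -
          (biprod.snd : L ⊞ P ⟶ P).f n ≫ (mappingCone.snd (𝟙 K)).v n n (add_zero n) ≫ α.f n)
        ((biprod.snd : L ⊞ P ⟶ P).f n ≫ (mappingCone.fst (𝟙 K)).1.v n (n + 1) rfl)) = 𝟙 _ := by
      ext
      · simp [iLpL, reassoc_of% iLpC]
      · simp [reassoc_of% iLpC]
      · simp [iCpL, reassoc_of% iCpC]
      · simp [reassoc_of% iCpC]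
    have h3 : ((biprod.lift α (mappingCone.inr (𝟙 K)) : K ⟶ L ⊞ P).f n) ≫
      (biprod.lift ((biprod.fst : L ⊞ P ⟶ L).f n -
          (biprod.snd : L ⊞ P ⟶ P).f n ≫ (mappingCone.snd (𝟙 K)).v n n (add_zero n) ≫ α.f n)
        ((biprod.snd : L ⊞ P ⟶ P).f n ≫ (mappingCone.fst (𝟙 K)).1.v n (n + 1) rfl)) = 0 := by
      ext
      · simp [a'pL, reassoc_of% a'pC]
      · simp [reassoc_of% a'pC]
    have h4 : (biprod.desc ((biprod.inl : L ⟶ L ⊞ P).f n)
        ((mappingCone.inl (𝟙 K)).v (n + 1) n (by omega) ≫ (biprod.inr : P ⟶ L ⊞ P).f n)) ≫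
        ((biprod.snd : L ⊞ P ⟶ P).f n ≫ (mappingCone.snd (𝟙 K)).v n n (add_zero n)) = 0 := by
      ext
      · simp [reassoc_of% iLpC]
      · simp [reassoc_of% iCpC]
    have h5 : ((biprod.snd : L ⊞ P ⟶ P).f n ≫ (mappingCone.snd (𝟙 K)).v n n (add_zero n)) ≫
        ((biprod.lift α (mappingCone.inr (𝟙 K)) : K ⟶ L ⊞ P).f n) +
      (biprod.lift ((biprod.fst : L ⊞ P ⟶ L).f n -
          (biprod.snd : L ⊞ P ⟶ P).f n ≫ (mappingCone.snd (𝟙 K)).v n n (add_zero n) ≫ α.f n)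
        ((biprod.snd : L ⊞ P ⟶ P).f n ≫ (mappingCone.fst (𝟙 K)).1.v n (n + 1) rfl)) ≫
      (biprod.desc ((biprod.inl : L ⟶ L ⊞ P).f n)
        ((mappingCone.inl (𝟙 K)).v (n + 1) n (by omega) ≫ (biprod.inr : P ⟶ L ⊞ P).f n)) = 𝟙 _ := by
      rw [a'eq]
      simp only [Preadditive.comp_add, Preadditive.sub_comp, Category.assoc, biprod.lift_desc]
      have := mappingCone.id_X (𝟙 K) n (n + 1) rfl
      rw [← tot]
      have e2 : (biprod.snd : L ⊞ P ⟶ P).f n ≫ (biprod.inr : P ⟶ L ⊞ P).f n =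
          (biprod.snd : L ⊞ P ⟶ P).f n ≫ 𝟙 _ ≫ (biprod.inr : P ⟶ L ⊞ P).f n := by simp
      rw [e2, ← this]
      simp only [Preadditive.comp_add, Preadditive.add_comp, Category.assoc]
      abel
    obtain ⟨e, he⟩ := iso_of_split _ _ _ _ h1 h2 h3 h4 h5
    exact ⟨_, e, he⟩
  · intro a hK hL
    refine ⟨a - 1, ?_⟩
    rw [CochainComplex.isStrictlyGE_iff]
    intro i hi
    refine ((HomologicalComplex.biprodXIso L P i).isZero_iff).2 ?_
    rw [biprod_isZero_iff]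
    refine ⟨L.isZero_of_isStrictlyGE a i (by omega), ?_⟩
    rw [mappingCone.isZero_X_iff]
    exact ⟨K.isZero_of_isStrictlyGE a _ (by omega), K.isZero_of_isStrictlyGE a _ (by omega)⟩
  · intro a hK hL
    refine ⟨a, ?_⟩
    rw [CochainComplex.isStrictlyLE_iff]
    intro i hi
    refine ((HomologicalComplex.biprodXIso L P i).isZero_iff).2 ?_
    rw [biprod_isZero_iff]
    refine ⟨L.isZero_of_isStrictlyLE a i (by omega), ?_⟩
    rw [mappingCone.isZero_X_iff]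
    exact ⟨K.isZero_of_isStrictlyLE a _ (by omega), K.isZero_of_isStrictlyLE a _ (by omega)⟩

lemma iso_of_split' {V : Type u} [Category.{v} V] [Preadditive V] [HasBinaryBiproducts V]
    {A B C' : V} (p : B ⟶ A) (σ : A ⟶ B) (c : C' ⟶ B) (q : B ⟶ C')
    (h1 : σ ≫ p = 𝟙 _) (h2 : c ≫ q = 𝟙 _) (h3 : c ≫ p = 0) (h4 : σ ≫ q = 0)
    (h5 : q ≫ c + p ≫ σ = 𝟙 _) : ∃ e : B ≅ C' ⊞ A, e.inv ≫ p = biprod.snd :=
  ⟨⟨biprod.lift q p, biprod.desc c σ, by simp [h5], by ext <;> simp [h1, h2, h3, h4]⟩,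
    by ext <;> simp [h1, h3]⟩

open CochainComplex HomComplex in
theorem factor_surj {V : Type u} [Category.{v} V] [Preadditive V] [HasBinaryBiproducts V]
    [HasZeroObject V] (K L : CochainComplex V ℤ) (α : K ⟶ L) :
    ∃ (K' : CochainComplex V ℤ) (i : K ⟶ K') (α' : K' ⟶ L) (s : K' ⟶ K),
      i ≫ α' = α ∧ i ≫ s = 𝟙 K ∧ Nonempty (Homotopy (s ≫ i) (𝟙 K')) ∧
      (∀ n : ℤ, ∃ (C : V) (e : K'.X n ≅ C ⊞ L.X n), e.inv ≫ α'.f n = biprod.snd) ∧
      (∀ a : ℤ, K.IsStrictlyGE a → L.IsStrictlyGE a → ∃ a' : ℤ, K'.IsStrictlyGE a') ∧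
      (∀ a : ℤ, K.IsStrictlyLE a → L.IsStrictlyLE a → ∃ a' : ℤ, K'.IsStrictlyLE a') := by
  let P := mappingCocone (𝟙 L)
  have hP : Homotopy (𝟙 P) 0 := by
    have h := (mappingCone.homotopyToZeroOfId L).shift (-1)
    refine (Homotopy.ofEq ?_).trans (h.trans (Homotopy.ofEq ?_))
    · exact (CategoryTheory.Functor.map_id _ _).symm
    · exact Functor.map_zero _ _ _
  have hPX : ∀ n : ℤ, IsZero (L.X n) → IsZero (L.X (n + -1)) → IsZero (P.X n) := by
    intro n h1 h2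
    change IsZero ((mappingCone (𝟙 L)).X (n + -1))
    rw [mappingCone.isZero_X_iff]
    refine ⟨?_, h2⟩
    have : n + -1 + 1 = n := by omega
    rw [this]
    exact h1
  refine ⟨K ⊞ P, biprod.inl, biprod.desc α (mappingCocone.fst (𝟙 L)), biprod.fst,
    biprod.inl_desc _ _, biprod.inl_fst, ⟨?_⟩, ?_, ?_, ?_⟩
  · -- homotopy
    have H0 : Homotopy (0 : K ⊞ P ⟶ K ⊞ P) (biprod.snd ≫ biprod.inr) := by
      have h := (hP.symm.compLeft (biprod.snd : K ⊞ P ⟶ P)).compRight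
        (biprod.inr : P ⟶ K ⊞ P)
      refine (Homotopy.ofEq ?_).trans (h.trans (Homotopy.ofEq ?_))
      · simp
      · simp
    refine (Homotopy.ofEq ?_).trans (((Homotopy.refl (biprod.fst ≫ biprod.inl : K ⊞ P ⟶ K ⊞ P)).add H0).trans (Homotopy.ofEq ?_))
    · simp
    · exact biprod.total
  · intro n
    have iKpK : (biprod.inl : K ⟶ K ⊞ P).f n ≫ (biprod.fst : K ⊞ P ⟶ K).f n = 𝟙 _ := by
      rw [← HomologicalComplex.comp_f, biprod.inl_fst, HomologicalComplex.id_f]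
    have iKpP : (biprod.inl : K ⟶ K ⊞ P).f n ≫ (biprod.snd : K ⊞ P ⟶ P).f n = 0 := by
      rw [← HomologicalComplex.comp_f, biprod.inl_snd, HomologicalComplex.zero_f]
    have iPpK : (biprod.inr : P ⟶ K ⊞ P).f n ≫ (biprod.fst : K ⊞ P ⟶ K).f n = 0 := by
      rw [← HomologicalComplex.comp_f, biprod.inr_fst, HomologicalComplex.zero_f]
    have iPpP : (biprod.inr : P ⟶ K ⊞ P).f n ≫ (biprod.snd : K ⊞ P ⟶ P).f n = 𝟙 _ := by
      rw [← HomologicalComplex.comp_f, biprod.inr_snd, HomologicalComplex.id_f]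
    have tot : (biprod.fst : K ⊞ P ⟶ K).f n ≫ (biprod.inl : K ⟶ K ⊞ P).f n +
        (biprod.snd : K ⊞ P ⟶ P).f n ≫ (biprod.inr : P ⟶ K ⊞ P).f n = 𝟙 _ := by
      rw [← HomologicalComplex.comp_f, ← HomologicalComplex.comp_f, ← HomologicalComplex.add_f_apply,
        biprod.total, HomologicalComplex.id_f]
    have iKa' : (biprod.inl : K ⟶ K ⊞ P).f n ≫
        (biprod.desc α (mappingCocone.fst (𝟙 L)) : K ⊞ P ⟶ L).f n = α.f n := by
      rw [← HomologicalComplex.comp_f, biprod.inl_desc]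
    have iPa' : (biprod.inr : P ⟶ K ⊞ P).f n ≫
        (biprod.desc α (mappingCocone.fst (𝟙 L)) : K ⊞ P ⟶ L).f n =
          (mappingCocone.fst (𝟙 L)).f n := by
      rw [← HomologicalComplex.comp_f, biprod.inr_desc]
    have a'eq : (biprod.desc α (mappingCocone.fst (𝟙 L)) : K ⊞ P ⟶ L).f n =
        (biprod.fst : K ⊞ P ⟶ K).f n ≫ α.f n +
          (biprod.snd : K ⊞ P ⟶ P).f n ≫ (mappingCocone.fst (𝟙 L)).f n := by
      have : (biprod.desc α (mappingCocone.fst (𝟙 L)) : K ⊞ P ⟶ L).f n =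
          𝟙 _ ≫ (biprod.desc α (mappingCocone.fst (𝟙 L)) : K ⊞ P ⟶ L).f n :=
        (Category.id_comp _).symm
      rw [this, ← tot, Preadditive.add_comp, Category.assoc, iKa', Category.assoc, iPa']
    have h1 : ((mappingCocone.inl (𝟙 L)).v n n (add_zero n) ≫ (biprod.inr : P ⟶ K ⊞ P).f n) ≫
        (biprod.desc α (mappingCocone.fst (𝟙 L)) : K ⊞ P ⟶ L).f n = 𝟙 _ := by
      rw [Category.assoc, iPa', mappingCocone.inl_v_fst_f]
    have h2 : (biprod.desc ((biprod.inl : K ⟶ K ⊞ P).f n -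
          α.f n ≫ (mappingCocone.inl (𝟙 L)).v n n (add_zero n) ≫ (biprod.inr : P ⟶ K ⊞ P).f n)
        ((mappingCocone.inr (𝟙 L)).1.v (n + -1) n (by omega) ≫ (biprod.inr : P ⟶ K ⊞ P).f n)) ≫
      (biprod.lift ((biprod.fst : K ⊞ P ⟶ K).f n)
        ((biprod.snd : K ⊞ P ⟶ P).f n ≫ (mappingCocone.snd (𝟙 L)).v n (n + -1) rfl)) = 𝟙 _ := by
      ext
      · simp [iKpK, iPpK]
      · simp [reassoc_of% iKpP, reassoc_of% iPpP]
      · simp [iPpK]
      · simp [reassoc_of% iPpP]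
    have h3 : (biprod.desc ((biprod.inl : K ⟶ K ⊞ P).f n -
          α.f n ≫ (mappingCocone.inl (𝟙 L)).v n n (add_zero n) ≫ (biprod.inr : P ⟶ K ⊞ P).f n)
        ((mappingCocone.inr (𝟙 L)).1.v (n + -1) n (by omega) ≫ (biprod.inr : P ⟶ K ⊞ P).f n)) ≫
        (biprod.desc α (mappingCocone.fst (𝟙 L)) : K ⊞ P ⟶ L).f n = 0 := by
      ext
      · simp [iKa', iPa']
      · simp [iPa']
    have h4 : ((mappingCocone.inl (𝟙 L)).v n n (add_zero n) ≫ (biprod.inr : P ⟶ K ⊞ P).f n) ≫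
      (biprod.lift ((biprod.fst : K ⊞ P ⟶ K).f n)
        ((biprod.snd : K ⊞ P ⟶ P).f n ≫ (mappingCocone.snd (𝟙 L)).v n (n + -1) rfl)) = 0 := by
      ext
      · simp [iPpK]
      · simp [reassoc_of% iPpP]
    have h5 : (biprod.lift ((biprod.fst : K ⊞ P ⟶ K).f n)
        ((biprod.snd : K ⊞ P ⟶ P).f n ≫ (mappingCocone.snd (𝟙 L)).v n (n + -1) rfl)) ≫
      (biprod.desc ((biprod.inl : K ⟶ K ⊞ P).f n -
          α.f n ≫ (mappingCocone.inl (𝟙 L)).v n n (add_zero n) ≫ (biprod.inr : P ⟶ K ⊞ P).f n)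
        ((mappingCocone.inr (𝟙 L)).1.v (n + -1) n (by omega) ≫ (biprod.inr : P ⟶ K ⊞ P).f n)) +
      (biprod.desc α (mappingCocone.fst (𝟙 L)) : K ⊞ P ⟶ L).f n ≫
        ((mappingCocone.inl (𝟙 L)).v n n (add_zero n) ≫ (biprod.inr : P ⟶ K ⊞ P).f n) = 𝟙 _ := by
      rw [a'eq]
      simp only [Preadditive.comp_sub, Preadditive.add_comp, Category.assoc, biprod.lift_desc]
      have := mappingCocone.id_X (𝟙 L) n (n + -1) rfl
      rw [← tot]
      have e2 : (biprod.snd : K ⊞ P ⟶ P).f n ≫ (biprod.inr : P ⟶ K ⊞ P).f n =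
          (biprod.snd : K ⊞ P ⟶ P).f n ≫ 𝟙 _ ≫ (biprod.inr : P ⟶ K ⊞ P).f n := by simp
      rw [e2, ← this]
      simp only [Preadditive.comp_add, Preadditive.add_comp, Category.assoc]
      abel
    obtain ⟨e, he⟩ := iso_of_split' _ _ _ _ h1 h2 h3 h4 h5
    exact ⟨_, e, he⟩
  · intro a hK hL
    refine ⟨a, ?_⟩
    rw [CochainComplex.isStrictlyGE_iff]
    intro i hi
    refine ((HomologicalComplex.biprodXIso K P i).isZero_iff).2 ?_
    rw [biprod_isZero_iff]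
    exact ⟨K.isZero_of_isStrictlyGE a i (by omega),
      hPX i (L.isZero_of_isStrictlyGE a _ (by omega)) (L.isZero_of_isStrictlyGE a _ (by omega))⟩
  · intro a hK hL
    refine ⟨a + 1, ?_⟩
    rw [CochainComplex.isStrictlyLE_iff]
    intro i hi
    refine ((HomologicalComplex.biprodXIso K P i).isZero_iff).2 ?_
    rw [biprod_isZero_iff]
    exact ⟨K.isZero_of_isStrictlyLE a i (by omega),
      hPX i (L.isZero_of_isStrictlyLE a _ (by omega)) (L.isZero_of_isStrictlyLE a _ (by omega))⟩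

section Ladder

variable {V : Type u} [Category.{v} V] [Preadditive V] [HasBinaryBiproducts V] [HasZeroObject V]
  (X : ℕ → CochainComplex V ℤ) (a : ∀ i, X i ⟶ X (i + 1))

/-- one step of the ladder construction -/
lemma ladder_step (i : ℕ) (B : CochainComplex V ℤ) (e : HomotopyEquiv B (X i)) :
    ∃ (B' : CochainComplex V ℤ) (b : B ⟶ B') (e' : HomotopyEquiv B' (X (i + 1))),
      b ≫ e'.hom = e.hom ≫ a i ∧
      (∀ n : ℤ, ∃ (C : V) (ε : B'.X n ≅ B.X n ⊞ C), b.f n ≫ ε.hom = biprod.inl) ∧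
      (∀ m : ℤ, B.IsStrictlyGE m → (X (i + 1)).IsStrictlyGE m → ∃ m' : ℤ, B'.IsStrictlyGE m') ∧
      (∀ m : ℤ, B.IsStrictlyLE m → (X (i + 1)).IsStrictlyLE m → ∃ m' : ℤ, B'.IsStrictlyLE m') := by
  obtain ⟨L', α', π, s, h1, h2, ⟨h3⟩, h4, h5, h6⟩ := factor_inj B (X (i + 1)) (e.hom ≫ a i)
  exact ⟨L', α', ⟨π, s, h3, Homotopy.ofEq h2⟩, h1, h4, h5, h6⟩

/-- the stages of the ladder -/
noncomputable def ladderStage : ∀ i, Σ B : CochainComplex V ℤ, HomotopyEquiv B (X i)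
  | 0 => ⟨X 0, HomotopyEquiv.refl _⟩
  | i + 1 =>
    ⟨(ladder_step X a i (ladderStage i).1 (ladderStage i).2).choose,
      (ladder_step X a i (ladderStage i).1 (ladderStage i).2).choose_spec.choose_spec.choose⟩

theorem ladder :
    ∃ (B : ℕ → CochainComplex V ℤ) (b : ∀ i, B i ⟶ B (i + 1)) (e : ∀ i, HomotopyEquiv (B i) (X i)),
      (∀ i, b i ≫ (e (i + 1)).hom = (e i).hom ≫ a i) ∧
      (∀ (i : ℕ) (n : ℤ), ∃ (C : V) (ε : (B (i + 1)).X n ≅ (B i).X n ⊞ C), (b i).f n ≫ ε.hom = biprod.inl) ∧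
      ((∀ i, ∃ m : ℤ, (X i).IsStrictlyGE m) → ∀ i, ∃ m : ℤ, (B i).IsStrictlyGE m) ∧
      ((∀ i, ∃ m : ℤ, (X i).IsStrictlyLE m) → ∀ i, ∃ m : ℤ, (B i).IsStrictlyLE m) := by
  refine ⟨fun i => (ladderStage X a i).1,
    fun i => (ladder_step X a i (ladderStage X a i).1 (ladderStage X a i).2).choose_spec.choose,
    fun i => (ladderStage X a i).2, ?_, ?_, ?_, ?_⟩
  · intro i
    exact (ladder_step X a i (ladderStage X a i).1
      (ladderStage X a i).2).choose_spec.choose_spec.choose_spec.1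
  · intro i n
    exact (ladder_step X a i (ladderStage X a i).1
      (ladderStage X a i).2).choose_spec.choose_spec.choose_spec.2.1 n
  · intro hX i
    induction i with
    | zero => exact hX 0
    | succ i ih =>
      obtain ⟨m₁, hm₁⟩ := ih
      obtain ⟨m₂, hm₂⟩ := hX (i + 1)
      have h1 := CochainComplex.isStrictlyGE_of_ge (K := (ladderStage X a i).1)
        (min m₁ m₂) m₁ (min_le_left _ _)
      have h2 := CochainComplex.isStrictlyGE_of_ge (K := X (i + 1))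
        (min m₁ m₂) m₂ (min_le_right _ _)
      exact (ladder_step X a i (ladderStage X a i).1
        (ladderStage X a i).2).choose_spec.choose_spec.choose_spec.2.2.1 _ h1 h2
  · intro hX i
    induction i with
    | zero => exact hX 0
    | succ i ih =>
      obtain ⟨m₁, hm₁⟩ := ih
      obtain ⟨m₂, hm₂⟩ := hX (i + 1)
      have h1 := CochainComplex.isStrictlyLE_of_le (K := (ladderStage X a i).1)
        m₁ (max m₁ m₂) (le_max_left _ _)
      have h2 := CochainComplex.isStrictlyLE_of_le (K := X (i + 1))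
        m₂ (max m₁ m₂) (le_max_right _ _)
      exact (ladder_step X a i (ladderStage X a i).1
        (ladderStage X a i).2).choose_spec.choose_spec.choose_spec.2.2.2 _ h1 h2

end Ladder

end Helper89.TermwiseSplit
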